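import Mathlib

/-!
Numbers of subspaces and of symmetric pairs of subspaces of a finite vector space.
-/

set_option autoImplicit false
set_option linter.style.haveILetI false

namespace Cfsg.Agent.Elusive

open Finset

/-- The product `(Q - 1) * (Q ^ 2 - 1) * ... * (Q ^ a - 1)`. -/
def gprod (Q a : ℕ) : ℕ := ∏ k ∈ range a, (Q ^ (k + 1) - 1)

lemma gprod_pos {Q : ℕ} (hQ : 2 ≤ Q) (a : ℕ) : 0 < gprod Q a :=
  Finset.prod_pos fun k _ => Nat.sub_pos_of_lt (Nat.one_lt_pow k.succ_ne_zero hQ)

lemma gprod_top (Q : ℕ) {n : ℕ} : ∀ {t : ℕ}, t ≤ n →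
    gprod Q (n - t) * ∏ k ∈ range t, (Q ^ (n - k) - 1) = gprod Q n := by
  intro t
  induction t with
  | zero => intro _; simp
  | succ t ih =>
    intro ht
    rw [← ih (by omega), Finset.prod_range_succ, show n - t = n - (t + 1) + 1 by omega, gprod, gprod,
      Finset.prod_range_succ]
    ring

lemma prod_pow_sub (Q : ℕ) {m n : ℕ} (h : m ≤ n) :
    ∏ k : Fin m, (Q ^ n - Q ^ (k : ℕ)) =
      (∏ k ∈ range m, Q ^ k) * ∏ k ∈ range m, (Q ^ (n - k) - 1) := by
  rw [Fin.prod_univ_eq_prod_range (fun k => Q ^ n - Q ^ k), ← Finset.prod_mul_distrib]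
  refine Finset.prod_congr rfl fun k hk => ?_
  have := Finset.mem_range.1 hk
  rw [Nat.mul_sub, mul_one, ← pow_add, show k + (n - k) = n by omega]

section
variable {F : Type*} [Field F] [Fintype F] {V : Type*} [AddCommGroup V] [Module F V]
  [FiniteDimensional F V]

lemma card_grass_mul {m : ℕ} (hm : m ≤ Module.finrank F V) :
    Nat.card {W : Submodule F V // Module.finrank F W = m} *
      (gprod (Fintype.card F) m * gprod (Fintype.card F) (Module.finrank F V - m)) =
        gprod (Fintype.card F) (Module.finrank F V) := by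
  classical
  haveI : Finite V := Module.finite_of_finite F
  haveI : Finite (Submodule F V) := Finite.of_injective _ SetLike.coe_injective
  haveI := Fintype.ofFinite {W : Submodule F V // Module.finrank F W = m}
  let T : {s : Fin m → V // LinearIndependent F s} → {W : Submodule F V // Module.finrank F W = m} :=
    fun s => ⟨Submodule.span F (Set.range s.1), by rw [finrank_span_eq_card s.2, Fintype.card_fin]⟩
  have hfib : ∀ W : {W : Submodule F V // Module.finrank F W = m},
      Nat.card {s // T s = W} = ∏ k : Fin m, (Fintype.card F ^ m - Fintype.card F ^ (k : ℕ)) := by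
    intro W
    have h := card_linearIndependent (K := F) (V := W.1) (k := m) W.2.ge
    simp only [W.2] at h
    rw [← h]
    exact Nat.card_congr
      { toFun := fun s => ⟨fun k => ⟨s.1.1 k, by
            have := congrArg Subtype.val s.2
            rw [← this]; exact Submodule.subset_span ⟨k, rfl⟩⟩,
          LinearIndependent.of_comp W.1.subtype s.1.2⟩
        invFun := fun r => ⟨⟨fun k => (r.1 k).1, r.2.map' W.1.subtype W.1.ker_subtype⟩,
          Subtype.ext (Submodule.eq_of_le_of_finrank_eq
            (Submodule.span_le.2 (by rintro _ ⟨k, rfl⟩; exact (r.1 k).2))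
            (by
              have e := finrank_span_eq_card (r.2.map' W.1.subtype W.1.ker_subtype)
              rw [Fintype.card_fin] at e
              exact e.trans W.2.symm))⟩
        left_inv := fun s => rfl
        right_inv := fun r => rfl }
  haveI : Finite {s : Fin m → V // LinearIndependent F s} := Subtype.finite
  have h := card_linearIndependent (K := F) (V := V) (k := m) hm
  rw [← Nat.card_congr (Equiv.sigmaFiberEquiv T), Nat.card_sigma, Finset.sum_congr rfl fun W _ => hfib W,
    Finset.sum_const, Finset.card_univ, ← Nat.card_eq_fintype_card, smul_eq_mul, prod_pow_sub _ le_rfl,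
    prod_pow_sub _ hm, mul_left_comm] at h
  have hQ : 2 ≤ Fintype.card F := Fintype.one_lt_card
  have h' := Nat.eq_of_mul_eq_mul_left (Finset.prod_pos fun k _ => Nat.pow_pos (n := k) (by omega)) h
  have h0 := gprod_top (Fintype.card F) (le_refl m)
  rw [Nat.sub_self, show gprod (Fintype.card F) 0 = 1 from Finset.prod_range_zero _, one_mul] at h0
  rw [← gprod_top (Fintype.card F) hm, ← h0, ← h']
  ring

lemma flags_mul {m : ℕ} (hm : 2 * m ≤ Module.finrank F V) :
    Nat.card {P : Submodule F V × Submodule F V //
        P.1 ≤ P.2 ∧ Module.finrank F P.1 = m ∧ Module.finrank F P.2 = Module.finrank F V - m} *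
      (gprod (Fintype.card F) m * gprod (Fintype.card F) m) =
        ∏ k ∈ range (2 * m), (Fintype.card F ^ (Module.finrank F V - k) - 1) := by
  classical
  haveI : Finite V := Module.finite_of_finite F
  haveI : Finite (Submodule F V) := Finite.of_injective _ SetLike.coe_injective
  set n := Module.finrank F V
  haveI := Fintype.ofFinite {W : Submodule F V // Module.finrank F W = n - m}
  have e : Nat.card {P : Submodule F V × Submodule F V //
        P.1 ≤ P.2 ∧ Module.finrank F P.1 = m ∧ Module.finrank F P.2 = n - m} =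
      ∑ W : {W : Submodule F V // Module.finrank F W = n - m},
        Nat.card {U : Submodule F W.1 // Module.finrank F U = m} := by
    rw [← Nat.card_sigma]
    exact Nat.card_congr
      { toFun := fun P => ⟨⟨P.1.2, P.2.2.2⟩, ⟨P.1.1.comap P.1.2.subtype, by
            rw [(Submodule.comapSubtypeEquivOfLe P.2.1).finrank_eq, P.2.2.1]⟩⟩
        invFun := fun S => ⟨(S.2.1.map S.1.1.subtype, S.1.1), Submodule.map_subtype_le _ _,
          by
            show Module.finrank F (S.2.1.map S.1.1.subtype : Submodule F V) = m
            rw [Submodule.finrank_map_subtype_eq, S.2.2],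
          S.1.2⟩
        left_inv := fun P => by
          refine Subtype.ext (congrArg₂ Prod.mk ?_ rfl)
          show (P.1.1.comap P.1.2.subtype).map P.1.2.subtype = P.1.1
          rw [Submodule.map_comap_subtype, inf_eq_right.2 P.2.1]
        right_inv := fun S => by
          obtain ⟨⟨W, hW⟩, ⟨U, hU⟩⟩ := S
          refine Sigma.ext rfl (heq_of_eq (Subtype.ext ?_))
          exact Submodule.comap_map_eq_of_injective W.injective_subtype U }
  have hW : ∀ W : {W : Submodule F V // Module.finrank F W = n - m},
      Nat.card {U : Submodule F W.1 // Module.finrank F U = m} *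
        (gprod (Fintype.card F) m * gprod (Fintype.card F) (n - 2 * m)) =
          gprod (Fintype.card F) (n - m) := fun W => by
    have h := card_grass_mul (F := F) (V := W.1) (m := m) (by rw [W.2]; omega)
    rwa [W.2, show n - m - m = n - 2 * m by omega] at h
  have h1 := card_grass_mul (F := F) (V := V) (m := n - m) (Nat.sub_le _ _)
  rw [show n - (n - m) = m by omega] at h1
  refine Nat.eq_of_mul_eq_mul_left (gprod_pos (Q := Fintype.card F) Fintype.one_lt_card (n - 2 * m)) ?_
  rw [gprod_top _ hm, ← h1, e, Nat.card_eq_fintype_card, ← Finset.card_univ]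
  calc gprod (Fintype.card F) (n - 2 * m) *
        ((∑ W : {W : Submodule F V // Module.finrank F W = n - m},
          Nat.card {U : Submodule F W.1 // Module.finrank F U = m}) *
          (gprod (Fintype.card F) m * gprod (Fintype.card F) m))
      = ∑ W : {W : Submodule F V // Module.finrank F W = n - m},
          (Nat.card {U : Submodule F W.1 // Module.finrank F U = m} *
            (gprod (Fintype.card F) m * gprod (Fintype.card F) (n - 2 * m))) *
              gprod (Fintype.card F) m := by
        rw [Finset.sum_mul, Finset.mul_sum]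
        exact Finset.sum_congr rfl fun W _ => by ring
    _ = _ := by
        simp only [hW, Finset.sum_const, smul_eq_mul]
        rfl

end

/-- A prime dividing such a product. -/
lemma exists_dvd_of_dvd_prod {Q n t r : ℕ} [hr : Fact r.Prime] (htn : t ≤ n) (hQ : 2 ≤ Q)
    (h : r ∣ ∏ k ∈ range t, (Q ^ (n - k) - 1)) :
    ¬ r ∣ Q ∧ ∃ k < t, orderOf (Q : ZMod r) ∣ n - k := by
  obtain ⟨k, hk, hd⟩ := (hr.out.prime.dvd_finsetProd_iff _).1 h
  have hkt := Finset.mem_range.1 hk
  have h1 : 1 ≤ Q ^ (n - k) := Nat.one_le_pow _ _ (by omega)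
  constructor
  · intro hQd
    have h2 : r ∣ Q ^ (n - k) := hQd.trans (dvd_pow_self Q (by omega))
    have h3 := Nat.dvd_sub h2 hd
    rw [Nat.sub_sub_self h1] at h3
    exact hr.out.one_lt.ne' (Nat.dvd_one.1 h3)
  · refine ⟨k, hkt, orderOf_dvd_of_pow_eq_one ?_⟩
    rw [← ZMod.natCast_eq_zero_iff, Nat.cast_sub h1, Nat.cast_pow, Nat.cast_one, sub_eq_zero] at hd
    exact hd

/-- The divisors of the number of subspaces. -/
lemma dvd_card_grass {F : Type*} [Field F] [Fintype F] {n m r : ℕ} [Fact r.Prime] (hm : m ≤ n)
    (h : r ∣ Nat.card {W : Submodule F (Fin n → F) // Module.finrank F W = m}) :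
    ¬ r ∣ Fintype.card F ∧ ∃ k < m, orderOf (Fintype.card F : ZMod r) ∣ n - k := by
  have hQ : 2 ≤ Fintype.card F := Fintype.one_lt_card
  have e := card_grass_mul (F := F) (V := Fin n → F) (m := m) (by simpa using hm)
  rw [Module.finrank_fin_fun, ← gprod_top (Fintype.card F) hm, ← mul_assoc,
    mul_comm (gprod _ (n - m))] at e
  exact exists_dvd_of_dvd_prod hm hQ
    (Nat.eq_of_mul_eq_mul_right (gprod_pos hQ _) e ▸ h.trans (dvd_mul_right _ _))

/-- The divisors of the number of symmetric pairs. -/
lemma dvd_card_flags {F : Type*} [Field F] [Fintype F] {n m r : ℕ} [Fact r.Prime] (hm : 2 * m ≤ n)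
    (h : r ∣ Nat.card {P : Submodule F (Fin n → F) × Submodule F (Fin n → F) //
        P.1 ≤ P.2 ∧ Module.finrank F ↥P.1 = m ∧ Module.finrank F ↥P.2 = n - m}) :
    ¬ r ∣ Fintype.card F ∧ ∃ k < 2 * m, orderOf (Fintype.card F : ZMod r) ∣ n - k := by
  have e := flags_mul (F := F) (V := Fin n → F) (m := m) (by simpa using hm)
  rw [Module.finrank_fin_fun] at e
  exact exists_dvd_of_dvd_prod hm Fintype.one_lt_card (e ▸ h.trans (dvd_mul_right _ _))

end Cfsg.Agent.Elusive
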