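import Cfsg.Agent.Lib.Elusive.Semisimple
import Cfsg.Agent.Lib.Elusive.Count

/-!
When does every element of prime order of the projective special linear group fix a subspace
(or a pair of subspaces) of given dimension: the ingredients.
-/

set_option autoImplicit false
set_option linter.style.haveILetI false

namespace Cfsg.Agent.Elusive

open scoped MatrixGroups

section arith
variable {F : Type*} [Field F] [Fintype F] {r : ℕ} [Fact r.Prime]

lemma cast_ne_zero_of_not_dvd_card (h : ¬ r ∣ Fintype.card F) : (r : F) ≠ 0 := by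
  obtain ⟨p, _⟩ := CharP.exists F
  obtain ⟨e, hp, hqe⟩ := FiniteField.card F p
  intro h0
  rw [CharP.cast_eq_zero_iff F p, Nat.prime_dvd_prime_iff_eq hp Fact.out] at h0
  subst h0
  exact h (hqe ▸ dvd_pow_self p e.ne_zero)

lemma ne_char_of_not_dvd_card {p : ℕ} [CharP F p] (h : ¬ r ∣ Fintype.card F) : r ≠ p := by
  obtain ⟨e, -, hqe⟩ := FiniteField.card F p
  rintro rfl
  exact h (hqe ▸ dvd_pow_self r e.ne_zero)

lemma orderOf_card_eq_one_iff :
    orderOf (Fintype.card F : ZMod r) = 1 ↔ r ∣ Fintype.card F - 1 := by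
  rw [orderOf_eq_one_iff, ← ZMod.natCast_eq_zero_iff, Nat.cast_sub Fintype.card_pos, Nat.cast_one,
    sub_eq_zero]

lemma exists_root (h : ¬ r ∣ Fintype.card F - 1) {c : F} (hc : c ≠ 0) : ∃ s : F, s ^ r = c := by
  classical
  have hcop : (Nat.card Fˣ).Coprime r := by
    rw [Nat.card_eq_fintype_card, Fintype.card_units, Nat.coprime_comm]
    exact (Fact.out : r.Prime).coprime_iff_not_dvd.2 h
  obtain ⟨s, hs⟩ := (powCoprime hcop).surjective (Units.mk0 c hc)
  exact ⟨s, by simpa using congrArg Units.val hs⟩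

lemma eq_one_of_pow_eq_one (h : ¬ r ∣ Fintype.card F - 1) {c : F} (hc : c ^ r = 1) : c = 1 := by
  classical
  have hc0 : c ≠ 0 := fun h0 => by
    rw [h0, zero_pow (Fact.out : r.Prime).ne_zero] at hc; exact zero_ne_one hc
  have hcop : (Nat.card Fˣ).Coprime r := by
    rw [Nat.card_eq_fintype_card, Fintype.card_units, Nat.coprime_comm]
    exact (Fact.out : r.Prime).coprime_iff_not_dvd.2 h
  have := (powCoprime hcop).injective (a₁ := Units.mk0 c hc0) (a₂ := 1)
    (Units.ext (by simpa using hc))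
  simpa using congrArg Units.val this

/-- Roots of unity among the non-powers. -/
lemma nonpower_pow_ne_one_iff (hd : r ∣ Fintype.card F - 1) {N : ℕ} (hN : N ≠ 0) :
    (∀ c : F, c ≠ 0 → (∀ s : F, s ^ r ≠ c) → c ^ N ≠ 1) ↔
      padicValNat r N < padicValNat r (Fintype.card F - 1) := by
  classical
  have hq : Fintype.card F - 1 ≠ 0 := by have := Fintype.one_lt_card (α := F); omega
  obtain ⟨g, hg⟩ := IsCyclic.exists_monoid_generator (α := Fˣ)
  have hord : orderOf g = Fintype.card F - 1 := by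
    rw [← Fintype.card_units, orderOf_eq_card_of_forall_mem_powers hg, Nat.card_eq_fintype_card]
  rw [← not_le, ← padicValNat_dvd_iff_le hN]
  set L := padicValNat r (Fintype.card F - 1) with hL
  have hL1 : r ^ L ∣ Fintype.card F - 1 := pow_padicValNat_dvd
  constructor
  · intro h hdvd
    obtain ⟨w, hw⟩ := hL1
    refine h ((g ^ w : Fˣ) : F) (Units.ne_zero _) (fun s hs => ?_) ?_
    · have hs0 : s ≠ 0 := fun h0 => by
        rw [h0, zero_pow (Fact.out : r.Prime).ne_zero] at hs
        exact Units.ne_zero _ hs.symm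
      obtain ⟨j, hj⟩ := Submonoid.mem_powers_iff _ _ |>.1 (hg (Units.mk0 s hs0))
      have e : g ^ (j * r) = g ^ w := Units.ext (by
        rw [pow_mul, Units.val_pow_eq_pow_val, hj]; exact hs)
      rw [pow_eq_pow_iff_modEq, hord] at e
      have hrw : r ∣ w := by
        rw [← Nat.modEq_zero_iff_dvd]
        exact (e.of_dvd hd).symm.trans (Nat.modEq_zero_iff_dvd.2 (dvd_mul_left r j))
      obtain ⟨w', rfl⟩ := hrw
      refine pow_succ_padicValNat_not_dvd (p := r) hq ⟨w', ?_⟩
      rw [← hL, pow_succ, mul_assoc]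
      exact hw
    · obtain ⟨t, rfl⟩ := hdvd
      rw [← Units.val_pow_eq_pow_val, ← pow_mul, ← mul_assoc, mul_comm w, ← hw, ← hord, pow_mul,
        pow_orderOf_eq_one, one_pow, Units.val_one]
  · intro h c hc hnp hpow
    obtain ⟨k, hk⟩ := Submonoid.mem_powers_iff _ _ |>.1 (hg (Units.mk0 c hc))
    have hrk : ¬ r ∣ k := by
      rintro ⟨j, rfl⟩
      exact hnp ((g ^ j : Fˣ) : F) (by
        rw [← Units.val_pow_eq_pow_val, ← pow_mul, mul_comm, hk, Units.val_mk0])
    refine h ((Nat.Coprime.pow_left L ((Fact.out : r.Prime).coprime_iff_not_dvd.2 hrk)).dvd_of_dvd_mul_left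
      (hL1.trans ?_))
    rw [← hord]
    refine orderOf_dvd_of_pow_eq_one (Units.ext ?_)
    rw [pow_mul, hk, Units.val_pow_eq_pow_val, Units.val_mk0, hpow, Units.val_one]

/-- When is there no element of order `r` without fixed vectors with a non-power. -/
lemma nonpower_criterion (hd : r ∣ Fintype.card F - 1) {n : ℕ} (hn : n ≠ 0) :
    (∀ c : F, c ≠ 0 → (∀ s : F, s ^ r ≠ c) → r ∣ n → ((-1) ^ (r - 1) * c) ^ (n / r) ≠ 1) ↔
      (padicValNat r n ≤ padicValNat r (Fintype.card F - 1) ∧
        (r = 2 → Even n → Fintype.card F % 4 = 1)) := by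
  have hr := (Fact.out : r.Prime)
  by_cases hrn : r ∣ n
  swap
  · refine iff_of_true (fun c _ _ h => absurd h hrn) ⟨?_, fun h2 he => absurd (h2 ▸ he.two_dvd) hrn⟩
    rw [padicValNat.eq_zero_of_not_dvd hrn]
    exact Nat.zero_le _
  simp only [hrn, forall_true_left]
  obtain ⟨N, rfl⟩ := hrn
  have hN : N ≠ 0 := right_ne_zero_of_mul hn
  rw [Nat.mul_div_cancel_left _ hr.pos, padicValNat.mul hr.ne_zero hN, padicValNat_self, Nat.add_comm,
    Nat.add_one_le_iff]
  have hodd : r = 2 → Fintype.card F % 2 = 1 := fun h => by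
    subst h
    have := Fintype.one_lt_card (α := F)
    omega
  by_cases h4 : r = 2 → Fintype.card F % 4 = 1
  · obtain ⟨t, ht⟩ : ∃ t : F, t ^ r = (-1) ^ (r - 1) := by
      rcases hr.eq_two_or_odd' with rfl | ho
      · obtain ⟨t, ht⟩ := FiniteField.isSquare_neg_one_iff.2
          (show Fintype.card F % 4 ≠ 3 by have := h4 rfl; omega)
        exact ⟨t, by rw [pow_two, ← ht, show 2 - 1 = 1 from rfl, pow_one]⟩
      · exact ⟨1, by rw [one_pow, (Nat.Odd.sub_odd ho odd_one).neg_one_pow]⟩
    have hss : ((-1 : F) ^ (r - 1)) * (-1) ^ (r - 1) = 1 := by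
      rw [← mul_pow, neg_one_mul, neg_neg, one_pow]
    have key : ∀ c : F, c ≠ 0 → (∀ s : F, s ^ r ≠ c) →
        (-1) ^ (r - 1) * c ≠ 0 ∧ ∀ s : F, s ^ r ≠ (-1) ^ (r - 1) * c := fun c hc hnp => by
      refine ⟨mul_ne_zero (pow_ne_zero _ (neg_ne_zero.2 one_ne_zero)) hc, fun s hs => hnp (t * s) ?_⟩
      rw [mul_pow, ht, hs, ← mul_assoc, hss, one_mul]
    rw [and_iff_left (fun h2 _ => h4 h2), ← nonpower_pow_ne_one_iff hd hN]
    constructor
    · intro h c hc hnp
      have := h _ (key c hc hnp).1 (key c hc hnp).2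
      rwa [← mul_assoc, hss, one_mul] at this
    · intro h c hc hnp
      exact h _ (key c hc hnp).1 (key c hc hnp).2
  · push Not at h4
    obtain ⟨rfl, h4⟩ := h4
    refine iff_of_false (fun h => ?_) (fun h => h4 (h.2 rfl ⟨N, two_mul N⟩))
    refine h (-1) (neg_ne_zero.2 one_ne_zero) (fun s hs => ?_) (by norm_num)
    have := FiniteField.isSquare_neg_one_iff.1 ⟨s, by rw [← hs, pow_two]⟩
    have := hodd rfl
    omega

end arith

section ops
variable {F : Type*} [Field F] [Fintype F] {n r : ℕ} [Fact r.Prime]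

/-- Matrices and operators. -/
lemma forall_sl_iff (P : Module.End F (Fin n → F) → Prop) :
    (∀ x : Matrix.SpecialLinearGroup (Fin n) F,
      (∃ c : F, ((x ^ r : Matrix.SpecialLinearGroup (Fin n) F) : Matrix (Fin n) (Fin n) F) =
        c • (1 : Matrix (Fin n) (Fin n) F)) →
      (∀ c : F, (x : Matrix (Fin n) (Fin n) F) ≠ c • (1 : Matrix (Fin n) (Fin n) F)) →
      P (Matrix.toLin' (x : Matrix (Fin n) (Fin n) F))) ↔
    ∀ (T : Module.End F (Fin n → F)) (c : F), T ^ r = c • 1 → LinearMap.det T = 1 →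
      (∀ s : F, T ≠ s • 1) → P T := by
  constructor
  · intro h T c hT hdet hns
    let e := LinearMap.toMatrixAlgEquiv' (R := F) (n := Fin n)
    have hd : Matrix.det (LinearMap.toMatrix' T) = 1 := by rw [LinearMap.det_toMatrix', hdet]
    have := h ⟨LinearMap.toMatrix' T, hd⟩ ⟨c, ?_⟩ ?_
    · rwa [show ((⟨LinearMap.toMatrix' T, hd⟩ : Matrix.SpecialLinearGroup (Fin n) F) :
        Matrix (Fin n) (Fin n) F) = LinearMap.toMatrix' T from rfl, Matrix.toLin'_toMatrix'] at this
    · refine (Matrix.SpecialLinearGroup.coe_pow _ _).trans ?_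
      show (e T) ^ r = _
      rw [← map_pow, hT, map_smul, map_one]
    · intro s hs
      refine hns s (e.injective ?_)
      rw [map_smul, map_one]
      exact hs
  · intro h x ⟨c, hc⟩ hns
    refine h _ c ?_ (by rw [LinearMap.det_toLin', x.2]) fun s hs => hns s ?_
    · rw [← Matrix.toLin'_pow, ← Matrix.SpecialLinearGroup.coe_pow, hc, map_smul, Matrix.toLin'_one]
      rfl
    · apply Matrix.toLin'.injective
      rw [map_smul, Matrix.toLin'_one]
      exact hs

/-- The power is a nonzero scalar. -/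
lemma scalar_ne_zero (hn : n ≠ 0) {T : Module.End F (Fin n → F)} {c : F} (hT : T ^ r = c • 1)
    (hdet : LinearMap.det T = 1) : c ≠ 0 := fun h => by
  have h1 := congrArg LinearMap.det hT
  rw [map_pow, hdet, one_pow, h, LinearMap.det_smul, Module.finrank_fin_fun, zero_pow hn, zero_mul] at h1
  exact one_ne_zero h1

lemma inv_of_scaled {V : Type*} [AddCommGroup V] [Module F V] {T T' : Module.End F V} {s : F}
    (h : T = s • T') {W : Submodule F V} (hW : Inv T' W) : Inv T W := fun w hw => by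
  rw [h, LinearMap.smul_apply]
  exact W.smul_mem s (hW w hw)

lemma scaled {V : Type*} [AddCommGroup V] [Module F V] {T : Module.End F V} {s c : F}
    (hT : T ^ r = c • 1) (hs : s ^ r = c) (hs0 : s ≠ 0) :
    T = s • (s⁻¹ • T) ∧ (s⁻¹ • T) ^ r = 1 := by
  refine ⟨(smul_inv_smul₀ hs0 T).symm, ?_⟩
  rw [smul_pow, hT, smul_smul, inv_pow, hs, inv_mul_cancel₀ (hs ▸ pow_ne_zero r hs0), one_smul]

/-- An operator with a small fixed space. -/
lemma exists_small_fixed (hr : ¬ r ∣ Fintype.card F) (hr1 : ¬ r ∣ Fintype.card F - 1) (J e : ℕ)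
    (hJ : 0 < J) (hne : J * orderOf (Fintype.card F : ZMod r) + e = n) :
    ∃ T : Module.End F (Fin n → F), T ^ r = 1 ∧ LinearMap.det T = 1 ∧ (∀ s : F, T ≠ s • 1) ∧
      Module.finrank F (fixedSpace T) ≤ e := by
  classical
  obtain ⟨p, _⟩ := CharP.exists F
  obtain ⟨f, hp, hqe⟩ := FiniteField.card F p
  haveI : Fact p.Prime := ⟨hp⟩
  have hipos := orderOf_card_pos (F := F) (r := r) (cast_ne_zero_of_not_dvd_card hr)
  set i := orderOf (Fintype.card F : ZMod r) with hi
  haveI : NeZero i := ⟨hipos.ne'⟩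
  let K := FiniteField.Extension F p i
  haveI : Fintype K := Fintype.ofFinite K
  obtain ⟨ζ, hζ⟩ : ∃ ζ : Kˣ, orderOf ζ = r := by
    refine exists_prime_orderOf_dvd_card r ?_
    rw [Fintype.card_units, ← Nat.card_eq_fintype_card, FiniteField.natCard_extension,
      Nat.card_eq_fintype_card, ← ZMod.natCast_eq_zero_iff, Nat.cast_sub (Nat.one_le_pow _ _ Fintype.card_pos),
      Nat.cast_pow, hi, pow_orderOf_eq_one, Nat.cast_one, sub_self]
  have hζr : (ζ : K) ^ r = 1 := by
    rw [← hζ, ← Units.val_pow_eq_pow_val, pow_orderOf_eq_one, Units.val_one]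
  have hζ1 : (ζ : K) ≠ 1 := fun h => by
    rw [Units.val_eq_one.1 h, orderOf_one] at hζ
    exact (Fact.out : r.Prime).one_lt.ne hζ
  let S : Module.End F ((Fin J → K) × (Fin e → F)) :=
    (DistribSMul.toLinearMap F (Fin J → K) (ζ : K)).prodMap 1
  have hS : ∀ (k : ℕ) z, (S ^ k) z = ((ζ : K) ^ k • z.1, z.2) := fun k => by
    induction k with
    | zero => intro z; simp
    | succ k ih => intro z; rw [pow_succ, Module.End.mul_apply, ih, pow_succ, mul_smul]; rfl
  have hfr : Module.finrank F ((Fin J → K) × (Fin e → F)) = Module.finrank F (Fin n → F) := by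
    rw [Module.finrank_prod, Module.finrank_pi_fintype, Finset.sum_const, Finset.card_univ,
      Fintype.card_fin, Module.finrank_fin_fun, Module.finrank_fin_fun, FiniteField.finrank_extension,
      smul_eq_mul, hne]
  let φ := LinearEquiv.ofFinrankEq _ _ hfr
  have hSr : S ^ r = 1 := LinearMap.ext fun z => by rw [hS, hζr, one_smul]; rfl
  have hTr : (φ.conjAlgEquiv F S) ^ r = 1 := by rw [← map_pow, hSr, map_one]
  have hfix : Module.finrank F (fixedSpace (φ.conjAlgEquiv F S)) ≤ e := by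
    have hle : fixedSpace (φ.conjAlgEquiv F S) ≤
        (LinearMap.range (LinearMap.inr F (Fin J → K) (Fin e → F))).map φ.toLinearMap := by
      intro v hv
      rw [mem_fixedSpace] at hv
      refine ⟨φ.symm v, ⟨(φ.symm v).2, ?_⟩, φ.apply_symm_apply v⟩
      have h1 : ((ζ : K) • (φ.symm v).1, (φ.symm v).2) = φ.symm v := by
        apply φ.injective
        rw [φ.apply_symm_apply]
        exact hv
      have h2 : (ζ : K) • (φ.symm v).1 = (φ.symm v).1 := congrArg Prod.fst h1
      have h3 : (φ.symm v).1 = 0 := by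
        funext k
        have := congrFun h2 k
        rw [Pi.smul_apply, smul_eq_mul, mul_left_eq_self₀] at this
        exact this.resolve_left hζ1
      exact Prod.ext h3.symm rfl
    refine (Submodule.finrank_mono hle).trans ?_
    rw [LinearEquiv.finrank_map_eq]
    refine (LinearMap.finrank_range_le _).trans ?_
    rw [Module.finrank_fin_fun]
  refine ⟨φ.conjAlgEquiv F S, hTr, eq_one_of_pow_eq_one hr1 (by rw [← map_pow, hTr, map_one]), ?_, hfix⟩
  intro s hs
  have hn : n ≠ 0 := by
    have : 0 < J * i := Nat.mul_pos hJ hipos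
    omega
  haveI : Nonempty (Fin n) := ⟨⟨0, Nat.pos_of_ne_zero hn⟩⟩
  have h1 : s ^ r = 1 := by
    rw [hs, smul_pow, one_pow, Algebra.smul_def, mul_one] at hTr
    exact (algebraMap F (Module.End F (Fin n → F))).injective (hTr.trans (map_one _).symm)
  have htop : fixedSpace (φ.conjAlgEquiv F S) = ⊤ := eq_top_iff.2 fun v _ => by
    rw [mem_fixedSpace, hs, eq_one_of_pow_eq_one hr1 h1, one_smul, Module.End.one_apply]
  rw [htop, finrank_top, Module.finrank_fin_fun] at hfix
  have : 0 < J * i := Nat.mul_pos hJ hipos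
  omega

/-- An operator with a non-power as its power. -/
lemma exists_nonpower_op (hn : n ≠ 0) {c : F} (hc0 : c ≠ 0) (hc : ∀ s : F, s ^ r ≠ c) (hrn : r ∣ n)
    (hdet : ((-1) ^ (r - 1) * c) ^ (n / r) = 1) :
    ∃ T : Module.End F (Fin n → F), T ^ r = c • 1 ∧ LinearMap.det T = 1 ∧ ∀ s : F, T ≠ s • 1 := by
  obtain ⟨N, rfl⟩ := hrn
  have hN : 0 < N := Nat.pos_of_ne_zero (right_ne_zero_of_mul hn)
  let p : Polynomial F := Polynomial.X ^ r - Polynomial.C c
  have hp : p.Monic := Polynomial.monic_X_pow_sub_C c (Fact.out : r.Prime).ne_zero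
  haveI := (AdjoinRoot.powerBasis hp.ne_zero).finite
  have hroot : (AdjoinRoot.root p) ^ r = algebraMap F (AdjoinRoot p) c := by
    rw [AdjoinRoot.algebraMap_eq]
    have := AdjoinRoot.mk_self (f := p)
    rwa [map_sub, map_pow, AdjoinRoot.mk_X, AdjoinRoot.mk_C, sub_eq_zero] at this
  let S : Module.End F (Fin N → AdjoinRoot p) :=
    Algebra.lsmul F F (Fin N → AdjoinRoot p) (AdjoinRoot.root p)
  have hfr : Module.finrank F (Fin N → AdjoinRoot p) = Module.finrank F (Fin (r * N) → F) := by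
    rw [Module.finrank_pi_fintype, Finset.sum_const, Finset.card_univ, Fintype.card_fin,
      (AdjoinRoot.powerBasis hp.ne_zero).finrank, AdjoinRoot.powerBasis_dim,
      Polynomial.natDegree_X_pow_sub_C, Module.finrank_fin_fun, smul_eq_mul, Nat.mul_comm]
  let φ := LinearEquiv.ofFinrankEq _ _ hfr
  have hT : (φ.conjAlgEquiv F S) ^ r = c • 1 := by
    rw [← map_pow, ← map_pow, hroot, AlgHom.commutes, AlgEquiv.commutes, Algebra.algebraMap_eq_smul_one]
  refine ⟨φ.conjAlgEquiv F S, hT, ?_, ?_⟩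
  · rw [det_nonpower hT hc0 hc, Module.finrank_fin_fun]
    exact hdet
  · intro s hs
    haveI : Nonempty (Fin (r * N)) := ⟨⟨0, Nat.mul_pos (Fact.out : r.Prime).pos hN⟩⟩
    rw [hs, smul_pow, one_pow, Algebra.smul_def, mul_one, Algebra.smul_def, mul_one] at hT
    exact hc s ((algebraMap F (Module.End F (Fin (r * N) → F))).injective hT)

end ops

end Cfsg.Agent.Elusive
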