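import Cfsg.Agent.Lib.Elusive.Main
import Cfsg.Agent.Lib.Classical.NilpotentJordan

/-!
Invariant complements and invariant decompositions.
-/

set_option autoImplicit false
set_option linter.style.haveILetI false

namespace Cfsg.Agent.Elusive

section maschke
variable {F : Type*} [Field F] {V : Type*} [AddCommGroup V] [Module F V]

lemma exists_inv_compl {T : Module.End F V} {r : ℕ} {c : F} (hT : T ^ r = c • 1) (hc : c ≠ 0)
    (hr : (r : F) ≠ 0) {W : Submodule F V} (hW : Inv T W) : ∃ W', IsCompl W W' ∧ Inv T W' := by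
  obtain ⟨π₀, hπ₀⟩ := LinearMap.exists_extend (LinearMap.id : W →ₗ[F] W)
  set π : Module.End F V := W.subtype ∘ₗ π₀ with hπ
  have hπid : ∀ w ∈ W, π w = w := fun w hw =>
    congrArg Subtype.val (LinearMap.congr_fun hπ₀ ⟨w, hw⟩)
  have hπmem : ∀ v, π v ∈ W := fun v => (π₀ v).2
  set P : Module.End F V := ((r : F) * c)⁻¹ • ∑ k ∈ Finset.range r, T ^ k * π * T ^ (r - k) with hP
  have hrc : (r : F) * c ≠ 0 := mul_ne_zero hr hc
  have hcomm : T * P = P * T := by
    rw [hP, mul_smul_comm, smul_mul_assoc, Finset.mul_sum, Finset.sum_mul]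
    congr 1
    have h1 : ∀ k ∈ Finset.range r, T * (T ^ k * π * T ^ (r - k)) = T ^ (k + 1) * π * T ^ (r + 1 - (k + 1)) :=
      fun k _ => by rw [pow_succ', show r + 1 - (k + 1) = r - k by omega, mul_assoc, mul_assoc, mul_assoc]
    have h2 : ∀ k ∈ Finset.range r, T ^ k * π * T ^ (r - k) * T = T ^ k * π * T ^ (r + 1 - k) :=
      fun k hk => by
        have := Finset.mem_range.1 hk
        rw [show r + 1 - k = r - k + 1 by omega, pow_succ, mul_assoc (T ^ k * π)]
    rw [Finset.sum_congr rfl h1, Finset.sum_congr rfl h2]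
    have e0 : T ^ (0 : ℕ) * π * T ^ (r + 1 - 0) = c • (π * T) := by
      rw [pow_zero, one_mul, Nat.sub_zero, pow_succ, hT, smul_one_mul, mul_smul_comm]
    have er : T ^ r * π * T ^ (r + 1 - r) = c • (π * T) := by
      rw [show r + 1 - r = 1 by omega, pow_one, hT, smul_one_mul, smul_mul_assoc]
    have ha := Finset.sum_range_succ' (fun k => T ^ k * π * T ^ (r + 1 - k)) r
    have hb := Finset.sum_range_succ (fun k => T ^ k * π * T ^ (r + 1 - k)) r
    rw [hb, e0, er] at ha
    exact (add_right_cancel ha).symm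
  have hmem : ∀ v, P v ∈ W := fun v => by
    rw [hP, LinearMap.smul_apply, LinearMap.sum_apply]
    exact W.smul_mem _ (sum_mem fun k _ => hW.pow k _ (hπmem _))
  have hid : ∀ w ∈ W, P w = w := fun w hw => by
    rw [hP, LinearMap.smul_apply, LinearMap.sum_apply]
    have h1 : ∀ k ∈ Finset.range r, (T ^ k * π * T ^ (r - k)) w = c • w := fun k hk => by
      have := Finset.mem_range.1 hk
      rw [Module.End.mul_apply, Module.End.mul_apply, hπid _ (hW.pow _ _ hw), ← Module.End.mul_apply,
        ← pow_add, show k + (r - k) = r by omega, hT, LinearMap.smul_apply, Module.End.one_apply]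
    rw [Finset.sum_congr rfl h1, Finset.sum_const, Finset.card_range, ← Nat.cast_smul_eq_nsmul F,
      smul_smul, smul_smul, mul_assoc, inv_mul_cancel₀ hrc, one_smul]
  refine ⟨LinearMap.ker (P.codRestrict W hmem),
    LinearMap.isCompl_of_proj (fun w => Subtype.ext (hid w.1 w.2)), fun v hv => ?_⟩
  rw [LinearMap.ker_codRestrict, LinearMap.mem_ker] at hv ⊢
  rw [← Module.End.mul_apply, ← hcomm, Module.End.mul_apply, hv, map_zero]

end maschke

section count
variable {F : Type*} [Field F] [Fintype F] {V : Type*} [AddCommGroup V] [Module F V]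
  [FiniteDimensional F V]

lemma card_compl (U : Submodule F V) :
    Nat.card {W : Submodule F V // IsCompl U W} = Fintype.card F ^
      (Module.finrank F V * Module.finrank F U - Module.finrank F U * Module.finrank F U) := by
  obtain ⟨f₀, hf₀⟩ := LinearMap.exists_extend (LinearMap.id : U →ₗ[F] U)
  have hf₀' : ∀ x : U, f₀ x = x := fun x => LinearMap.congr_fun hf₀ x
  let S : Submodule F (V →ₗ[F] U) := LinearMap.ker (LinearMap.lcomp F U U.subtype)
  have e : {f : V →ₗ[F] U // ∀ x : U, f x = x} ≃ S :=
    { toFun := fun f => ⟨f.1 - f₀, LinearMap.mem_ker.2 (LinearMap.ext fun x => by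
        show f.1 x - f₀ x = 0
        rw [f.2, hf₀', sub_self])⟩
      invFun := fun g => ⟨g.1 + f₀, fun x => by
        have h := LinearMap.congr_fun (LinearMap.mem_ker.1 g.2) x
        show g.1 x + f₀ x = x
        rw [show g.1 x = 0 from h, zero_add, hf₀']⟩
      left_inv := fun f => Subtype.ext (sub_add_cancel _ _)
      right_inv := fun g => Subtype.ext (add_sub_cancel_right _ _) }
  have hsurj : Function.Surjective (LinearMap.lcomp F U U.subtype) := fun g => LinearMap.exists_extend g
  have hd := LinearMap.finrank_range_add_finrank_ker (LinearMap.lcomp F U U.subtype)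
  rw [LinearMap.range_eq_top.2 hsurj, finrank_top, Module.finrank_linearMap, Module.finrank_linearMap] at hd
  rw [Nat.card_congr ((Submodule.isComplEquivProj U).trans e),
    Module.natCard_eq_pow_finrank (K := F), Nat.card_eq_fintype_card]
  congr 1
  show Module.finrank F (LinearMap.ker (LinearMap.lcomp F U U.subtype)) = _
  omega

lemma dvd_card_pairs {r m : ℕ} [Fact r.Prime] (hr : ¬ r ∣ Fintype.card F)
    (h : r ∣ Nat.card {P : Submodule F V × Submodule F V // IsCompl P.1 P.2 ∧ Module.finrank F ↥P.1 = m}) :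
    r ∣ Nat.card {W : Submodule F V // Module.finrank F W = m} := by
  classical
  haveI : Finite V := Module.finite_of_finite F
  haveI : Finite (Submodule F V) := Finite.of_injective _ SetLike.coe_injective
  haveI := Fintype.ofFinite {W : Submodule F V // Module.finrank F W = m}
  have e : {P : Submodule F V × Submodule F V // IsCompl P.1 P.2 ∧ Module.finrank F ↥P.1 = m} ≃
      Σ U : {W : Submodule F V // Module.finrank F W = m}, {W : Submodule F V // IsCompl U.1 W} :=
    { toFun := fun P => ⟨⟨P.1.1, P.2.2⟩, ⟨P.1.2, P.2.1⟩⟩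
      invFun := fun S => ⟨(S.1.1, S.2.1), S.2.2, S.1.2⟩
      left_inv := fun P => rfl
      right_inv := fun S => rfl }
  have hC : ∀ U : {W : Submodule F V // Module.finrank F W = m},
      Nat.card {W : Submodule F V // IsCompl U.1 W} =
        Fintype.card F ^ (Module.finrank F V * m - m * m) := fun U => by rw [card_compl, U.2]
  rw [Nat.card_congr e, Nat.card_sigma, Finset.sum_congr rfl fun U _ => hC U, Finset.sum_const,
    Finset.card_univ, ← Nat.card_eq_fintype_card, smul_eq_mul] at h
  exact ((Fact.out : r.Prime).dvd_mul.1 h).resolve_right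
    fun h' => hr ((Fact.out : r.Prime).dvd_of_dvd_pow h')

end count

section unipotent
open Cfsg.Agent.NilJordan (Sim)

variable {F : Type*} [Field F] {V : Type*} [AddCommGroup V] [Module F V] [FiniteDimensional F V]
variable {n : ℕ}

lemma finrank_ker_prodMap {V₁ V₂ : Type*} [AddCommGroup V₁] [Module F V₁] [AddCommGroup V₂]
    [Module F V₂] [FiniteDimensional F V₁] [FiniteDimensional F V₂] (f : Module.End F V₁)
    (g : Module.End F V₂) (j : ℕ) :
    Module.finrank F (LinearMap.ker ((f.prodMap g : Module.End F (V₁ × V₂)) ^ j)) =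
      Module.finrank F (LinearMap.ker (f ^ j)) + Module.finrank F (LinearMap.ker (g ^ j)) := by
  have h : ∀ z, ((f.prodMap g : Module.End F (V₁ × V₂)) ^ j) z = ((f ^ j) z.1, (g ^ j) z.2) := by
    induction j with
    | zero => intro z; simp
    | succ j ih => intro z; rw [pow_succ, pow_succ, pow_succ, Module.End.mul_apply, ih]; rfl
  have e : LinearMap.ker ((f.prodMap g : Module.End F (V₁ × V₂)) ^ j) ≃ₗ[F]
      LinearMap.ker (f ^ j) × LinearMap.ker (g ^ j) :=
    { toFun := fun z => (⟨z.1.1, LinearMap.mem_ker.2 (congrArg Prod.fst ((h z.1).symm.trans (LinearMap.mem_ker.1 z.2)))⟩,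
        ⟨z.1.2, LinearMap.mem_ker.2 (congrArg Prod.snd ((h z.1).symm.trans (LinearMap.mem_ker.1 z.2)))⟩)
      map_add' := fun _ _ => rfl
      map_smul' := fun _ _ => rfl
      invFun := fun z => ⟨(z.1.1, z.2.1), LinearMap.mem_ker.2 (by
        rw [h, LinearMap.mem_ker.1 z.1.2, LinearMap.mem_ker.1 z.2.2]; rfl)⟩
      left_inv := fun _ => rfl
      right_inv := fun _ => rfl }
  rw [e.finrank_eq, Module.finrank_prod]

/-- The union of two partitions. -/
def addPart {a b : ℕ} (s : Nat.Partition a) (t : Nat.Partition b) (h : a + b = n) : Nat.Partition n where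
  parts := s.parts + t.parts
  parts_pos := fun hi => (Multiset.mem_add.1 hi).elim (fun h => s.parts_pos h) (fun h => t.parts_pos h)
  parts_sum := by rw [Multiset.sum_add, s.parts_sum, t.parts_sum, h]

lemma inv_prodMap {V₁ V₂ : Type*} [AddCommGroup V₁] [Module F V₁] [AddCommGroup V₂]
    [Module F V₂] [FiniteDimensional F V₁] [FiniteDimensional F V₂] {f : Module.End F V₁}
    {g : Module.End F V₂} {a b : ℕ} {s : Nat.Partition a} {t : Nat.Partition b}
    (hs : NilJordan.Inv f s) (ht : NilJordan.Inv g t) (h : a + b = n) :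
    NilJordan.Inv (f.prodMap g : Module.End F (V₁ × V₂)) (addPart s t h) := fun j => by
  rw [finrank_ker_prodMap, hs j, ht j]
  simp [addPart, Multiset.map_add, Multiset.sum_add]

/-- From an invariant decomposition to a sub-partition. -/
lemma exists_sub_of_compl (hV : Module.finrank F V = n) {f : Module.End F V} (hf : IsNilpotent f)
    {s : Nat.Partition n} (hs : NilJordan.Inv f s) {U W : Submodule F V} (hUW : IsCompl U W)
    (hU : Inv f U) (hW : Inv f W) : ∃ ν ≤ s.parts, ν.sum = Module.finrank F U := by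
  have key : ∀ {X : Submodule F V} (hX : Inv f X), IsNilpotent (f.restrict hX) := by
    intro X hX
    obtain ⟨k, hk⟩ := hf
    have h : ∀ (j : ℕ) (x : X), (((f.restrict hX ^ j) x : X) : V) = (f ^ j) x := fun j => by
      induction j with
      | zero => simp
      | succ j ih => intro x; rw [pow_succ, pow_succ, Module.End.mul_apply, Module.End.mul_apply, ih]; rfl
    exact ⟨k, LinearMap.ext fun x => Subtype.ext (by rw [h, hk]; rfl)⟩
  obtain ⟨a, ha⟩ := NilJordan.exists_inv rfl (f.restrict hU) (key hU)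
  obtain ⟨b, hb⟩ := NilJordan.exists_inv rfl (f.restrict hW) (key hW)
  have hsum : Module.finrank F U + Module.finrank F W = n := by
    rw [← hV, Submodule.finrank_add_eq_of_isCompl hUW]
  have hsim : Sim ((f.restrict hU).prodMap (f.restrict hW) : Module.End F (U × W)) f := by
    refine ⟨Submodule.prodEquivOfIsCompl U W hUW, fun z => ?_⟩
    show f z.1 + f z.2 = f (z.1 + z.2)
    rw [map_add]
  have h1 := inv_prodMap ha hb hsum
  have h2 : NilJordan.Inv f (addPart a b hsum) := fun j => (hsim.finrank_ker j).symm.trans (h1 j)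
  refine ⟨a.parts, ?_, a.parts_sum⟩
  rw [NilJordan.inv_unique hs h2]
  exact Multiset.le_add_right _ _

/-- From a sub-partition to an invariant decomposition. -/
lemma exists_compl_of_sub (hV : Module.finrank F V = n) {f : Module.End F V} (hf : IsNilpotent f)
    {s : Nat.Partition n} (hs : NilJordan.Inv f s) {ν : Multiset ℕ} (hν : ν ≤ s.parts) {m : ℕ}
    (hm : ν.sum = m) :
    ∃ U W : Submodule F V, IsCompl U W ∧ Module.finrank F U = m ∧ Inv f U ∧ Inv f W := by
  obtain ⟨ρ, hρ⟩ := Multiset.le_iff_exists_add.1 hν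
  let a : Nat.Partition m := ⟨ν, fun h => s.parts_pos (Multiset.mem_of_le hν h), hm⟩
  let b : Nat.Partition ρ.sum := ⟨ρ, fun h => s.parts_pos (hρ ▸ Multiset.mem_add.2 (Or.inr h)), rfl⟩
  have hsum : m + ρ.sum = n := by rw [← s.parts_sum, hρ, Multiset.sum_add, hm]
  obtain ⟨g₁, hg₁, ha⟩ := NilJordan.exists_of_partition (F := F) (V := Fin m → F)
    (Module.finrank_fin_fun F) a
  obtain ⟨g₂, hg₂, hb⟩ := NilJordan.exists_of_partition (F := F) (V := Fin ρ.sum → F)
    (Module.finrank_fin_fun F) b
  have hs' : s = addPart a b hsum := Nat.Partition.ext hρ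
  set g : Module.End F ((Fin m → F) × (Fin ρ.sum → F)) := g₁.prodMap g₂ with hg
  have hgnil : IsNilpotent g := by
    obtain ⟨k, hk⟩ := hg₁
    obtain ⟨l, hl⟩ := hg₂
    refine ⟨k + l, LinearMap.ext fun z => ?_⟩
    have h : ∀ j, (g ^ j) z = ((g₁ ^ j) z.1, (g₂ ^ j) z.2) := fun j => by
      induction j generalizing z with
      | zero => simp
      | succ j ih => rw [pow_succ, pow_succ, pow_succ, Module.End.mul_apply, ih]; rfl
    rw [h, pow_eq_zero_of_le (Nat.le_add_right k l) hk, pow_eq_zero_of_le (Nat.le_add_left l k) hl]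
    rfl
  obtain ⟨e, he⟩ := NilJordan.sim_of_inv hV
      (by rw [Module.finrank_prod, Module.finrank_fin_fun, Module.finrank_fin_fun, hsum]) hf hgnil hs
      (hs' ▸ inv_prodMap ha hb hsum : NilJordan.Inv g s)
  have hc : IsCompl (LinearMap.range (LinearMap.inl F (Fin m → F) (Fin ρ.sum → F)))
      (LinearMap.range (LinearMap.inr F (Fin m → F) (Fin ρ.sum → F))) := LinearMap.isCompl_range_inl_inr
  refine ⟨(LinearMap.range (LinearMap.inl F _ _)).map e.symm.toLinearMap,
    (LinearMap.range (LinearMap.inr F _ _)).map e.symm.toLinearMap,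
    hc.map (Submodule.orderIsoMapComap e.symm), ?_, ?_, ?_⟩
  · rw [LinearEquiv.finrank_map_eq, LinearMap.finrank_range_of_inj LinearMap.inl_injective,
      Module.finrank_fin_fun]
  all_goals
    rintro _ ⟨_, ⟨x, rfl⟩, rfl⟩
  · refine ⟨_, ⟨g₁ x, rfl⟩, e.injective ?_⟩
    rw [LinearEquiv.coe_coe, e.apply_symm_apply, he, e.apply_symm_apply, hg]
    simp
  · refine ⟨_, ⟨g₂ x, rfl⟩, e.injective ?_⟩
    rw [LinearEquiv.coe_coe, e.apply_symm_apply, he, e.apply_symm_apply, hg]
    simp

end unipotent

/-- Parts at most two. -/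
lemma parts_two_iff {n m : ℕ} (hm : m ≤ n) :
    (∀ μ : Multiset ℕ, (∀ a ∈ μ, 0 < a ∧ a ≤ 2) → μ.sum = n → ∃ ν : Multiset ℕ, ν ≤ μ ∧ ν.sum = m) ↔
      (Odd n ∨ Even m) := by
  constructor
  · intro h
    by_contra hc
    push Not at hc
    rw [Nat.not_odd_iff_even, Nat.not_even_iff_odd] at hc
    obtain ⟨⟨A, rfl⟩, hmodd⟩ := hc
    obtain ⟨ν, hν, hs⟩ := h (Multiset.replicate A 2)
      (fun a ha => by rw [Multiset.eq_of_mem_replicate ha]; omega)
      (by rw [Multiset.sum_replicate, smul_eq_mul]; omega)
    have hν2 : ν = Multiset.replicate (Multiset.card ν) 2 := Multiset.eq_replicate_card.2 fun b hb =>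
      Multiset.eq_of_mem_replicate (Multiset.mem_of_le hν hb)
    rw [hν2, Multiset.sum_replicate, smul_eq_mul] at hs
    obtain ⟨b, hb⟩ := hmodd
    omega
  · intro h μ hμ hsum
    have hμ' : μ = Multiset.replicate (μ.count 2) 2 + Multiset.replicate (μ.count 1) 1 := by
      ext a
      rw [Multiset.count_add, Multiset.count_replicate, Multiset.count_replicate]
      by_cases h2 : a = 2
      · subst h2; simp
      by_cases h1 : a = 1
      · subst h1; simp
      rw [if_neg (Ne.symm h2), if_neg (Ne.symm h1), Multiset.count_eq_zero]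
      intro ha
      have := hμ a ha
      omega
    generalize μ.count 2 = A at hμ'
    generalize μ.count 1 = B at hμ'
    subst hμ'
    simp only [Multiset.sum_add, Multiset.sum_replicate, smul_eq_mul, mul_one] at hsum
    refine ⟨Multiset.replicate (min A (m / 2)) 2 + Multiset.replicate (m - 2 * min A (m / 2)) 1, ?_, ?_⟩
    · refine add_le_add (Multiset.replicate_le_replicate _ |>.2 (min_le_left _ _))
        (Multiset.replicate_le_replicate _ |>.2 ?_)
      rcases h with ⟨a, ha⟩ | ⟨a, ha⟩ <;> omega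
    · simp only [Multiset.sum_add, Multiset.sum_replicate, smul_eq_mul, mul_one]
      omega

end Cfsg.Agent.Elusive
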