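import Cfsg.Agent.Lib.Elusive.Decomp
import Mathlib.FieldTheory.ChevalleyWarning

/-!
Invariant totally singular subspaces of isometries of prime order prime to the characteristic, for a
non-degenerate reflexive form given as a function.
-/

set_option autoImplicit false
set_option linter.all false

namespace Cfsg.Agent.Elusive

open Module Polynomial

/-- A non-degenerate reflexive sesquilinear form with a predicate of singular vectors. -/
structure SForm {F : Type*} [Field F] (σ : F ≃+* F) (V : Type*) [AddCommGroup V] [Module F V] where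
  B : V → V → F
  sing : V → Prop
  add_left : ∀ u v w, B (u + v) w = B u w + B v w
  smul_left : ∀ (c : F) u v, B (c • u) v = c * B u v
  add_right : ∀ u v w, B u (v + w) = B u v + B u w
  smul_right : ∀ (c : F) u v, B u (c • v) = σ c * B u v
  refl : ∀ u v, B u v = 0 → B v u = 0
  nondeg : ∀ u, (∀ v, B u v = 0) → u = 0
  sing_zero : sing 0
  sing_smul : ∀ (c : F) v, sing v → sing (c • v)
  sing_add : ∀ u v, B u v = 0 → sing u → sing v → sing (u + v)

namespace SForm

variable {F : Type*} [Field F] {σ : F ≃+* F} {V : Type*} [AddCommGroup V] [Module F V] (Φ : SForm σ V)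

lemma zero_left (v : V) : Φ.B 0 v = 0 := by
  have h := Φ.smul_left 0 0 v
  rwa [zero_smul, zero_mul] at h

lemma zero_right (v : V) : Φ.B v 0 = 0 := by
  have h := Φ.smul_right 0 v 0
  rwa [zero_smul, map_zero, zero_mul] at h

lemma sum_left {ι : Type*} (s : Finset ι) (x : ι → V) (v : V) : Φ.B (∑ k ∈ s, x k) v = ∑ k ∈ s, Φ.B (x k) v := by
  classical
  induction s using Finset.induction with
  | empty => simp [Φ.zero_left]
  | insert a s ha ih => rw [Finset.sum_insert ha, Finset.sum_insert ha, Φ.add_left, ih]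

lemma sum_right {ι : Type*} (s : Finset ι) (x : ι → V) (v : V) : Φ.B v (∑ k ∈ s, x k) = ∑ k ∈ s, Φ.B v (x k) := by
  classical
  induction s using Finset.induction with
  | empty => simp [Φ.zero_right]
  | insert a s ha ih => rw [Finset.sum_insert ha, Finset.sum_insert ha, Φ.add_right, ih]

/-- The orthogonal of a subspace. -/
def perp (X : Submodule F V) : Submodule F V where
  carrier := {v | ∀ x ∈ X, Φ.B x v = 0}
  zero_mem' := fun x _ => Φ.zero_right x
  add_mem' := fun ha hb x hx => by rw [Φ.add_right, ha x hx, hb x hx, add_zero]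
  smul_mem' := fun c v hv x hx => by rw [Φ.smul_right, hv x hx, mul_zero]

lemma mem_perp {X : Submodule F V} {v : V} : v ∈ Φ.perp X ↔ ∀ x ∈ X, Φ.B x v = 0 := Iff.rfl

lemma perp_anti {X Y : Submodule F V} (h : X ≤ Y) : Φ.perp Y ≤ Φ.perp X := fun _ hv x hx => hv x (h hx)

lemma le_perp_perp (X : Submodule F V) : X ≤ Φ.perp (Φ.perp X) := fun x hx y hy => Φ.refl _ _ (hy x hx)

/-- A non-degenerate subspace. -/
def ND (X : Submodule F V) : Prop := ∀ u ∈ X, (∀ v ∈ X, Φ.B u v = 0) → u = 0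

/-- A totally singular subspace. -/
def Iso (X : Submodule F V) : Prop := (∀ u ∈ X, ∀ v ∈ X, Φ.B u v = 0) ∧ ∀ u ∈ X, Φ.sing u

lemma iso_bot : Φ.Iso ⊥ :=
  ⟨fun u hu v _ => by rw [(Submodule.mem_bot F).1 hu]; exact Φ.zero_left v,
    fun u hu => by rw [(Submodule.mem_bot F).1 hu]; exact Φ.sing_zero⟩

lemma iso_sup {X Y : Submodule F V} (hX : Φ.Iso X) (hY : Φ.Iso Y) (h : ∀ x ∈ X, ∀ y ∈ Y, Φ.B x y = 0) :
    Φ.Iso (X ⊔ Y) := by
  constructor
  · intro u hu v hv
    obtain ⟨a, ha, b, hb, rfl⟩ := Submodule.mem_sup.1 hu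
    obtain ⟨c, hc, d, hd, rfl⟩ := Submodule.mem_sup.1 hv
    rw [Φ.add_left, Φ.add_right, Φ.add_right, hX.1 a ha c hc, h a ha d hd, Φ.refl _ _ (h c hc b hb), hY.1 b hb d hd]
    simp
  · intro u hu
    obtain ⟨a, ha, b, hb, rfl⟩ := Submodule.mem_sup.1 hu
    exact Φ.sing_add _ _ (h a ha b hb) (hX.2 a ha) (hY.2 b hb)

lemma nd_top : Φ.ND ⊤ := fun u _ h => Φ.nondeg u fun v => h v trivial

section fin
variable [FiniteDimensional F V]

lemma finrank_perp (X : Submodule F V) : finrank F X + finrank F (Φ.perp X) = finrank F V := by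
  let b := Module.finBasis F X
  let L : V →ₗ[F] (Fin (finrank F X) → F) :=
    { toFun := fun v k => σ.symm (Φ.B (b k : V) v)
      map_add' := fun u v => funext fun k => by simp [Φ.add_right, map_add]
      map_smul' := fun c v => funext fun k => by simp [Φ.smul_right, map_mul] }
  have hker : LinearMap.ker L = Φ.perp X := by
    ext v
    rw [LinearMap.mem_ker, Φ.mem_perp]
    constructor
    · intro h x hx
      have hk : ∀ k, Φ.B (b k : V) v = 0 := fun k => by
        have h1 : σ.symm (Φ.B (b k : V) v) = 0 := congrFun h k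
        exact (map_eq_zero_iff σ.symm σ.symm.injective).1 h1
      have e : (⟨x, hx⟩ : X) = ∑ k, b.repr ⟨x, hx⟩ k • b k := (b.sum_repr _).symm
      have e' : x = ∑ k, b.repr ⟨x, hx⟩ k • (b k : V) := by
        simpa only [map_sum, map_smul, Submodule.subtype_apply] using congrArg X.subtype e
      rw [e', Φ.sum_left]
      exact Finset.sum_eq_zero fun k _ => by rw [Φ.smul_left, hk, mul_zero]
    · intro h
      funext k
      show σ.symm (Φ.B (b k : V) v) = 0
      rw [h _ (b k).2, map_zero]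
  have hrange : LinearMap.range L = ⊤ := by
    by_contra hne
    obtain ⟨f, hf, hfker⟩ := Submodule.exists_le_ker_of_lt_top _ (lt_top_iff_ne_top.2 hne)
    have hz : ∀ v, ∑ k, f (Pi.single k 1) * σ.symm (Φ.B (b k : V) v) = 0 := fun v => by
      have h1 : f (L v) = 0 := hfker ⟨v, rfl⟩
      rw [pi_eq_sum_univ' (L v), map_sum] at h1
      simpa [map_smul, smul_eq_mul, mul_comm, L] using h1
    have hzero : (∑ k, σ (f (Pi.single k 1)) • (b k : V)) = 0 := Φ.nondeg _ fun v => by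
      have h1 := congrArg σ (hz v)
      rw [map_sum, map_zero] at h1
      rw [Φ.sum_left]
      simpa [Φ.smul_left] using h1
    have hall := Fintype.linearIndependent_iff.1 (b.linearIndependent.map' X.subtype X.ker_subtype) _ hzero
    refine hf (LinearMap.pi_ext' fun k => ?_)
    refine LinearMap.ext_ring ?_
    simpa using hall k
  have h := LinearMap.finrank_range_add_finrank_ker L
  rw [hrange, finrank_top, Module.finrank_fin_fun, hker] at h
  exact h

lemma isCompl_perp {X : Submodule F V} (hX : Φ.ND X) : IsCompl X (Φ.perp X) := by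
  have hd : Disjoint X (Φ.perp X) := Submodule.disjoint_def.2 fun u hu hu' =>
    hX u hu fun v hv => Φ.refl _ _ (hu' v hv)
  refine ⟨hd, codisjoint_iff.2 (Submodule.eq_top_of_finrank_eq ?_)⟩
  have h := Submodule.finrank_sup_add_finrank_inf_eq X (Φ.perp X)
  rw [hd.eq_bot, finrank_bot, add_zero] at h
  rw [h, Φ.finrank_perp]

lemma nd_perp {X : Submodule F V} (hX : Φ.ND X) : Φ.ND (Φ.perp X) := fun u hu h =>
  Φ.nondeg u fun v => by
    obtain ⟨a, ha, b, hb, rfl⟩ := Submodule.mem_sup.1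
      ((Φ.isCompl_perp hX).sup_eq_top ▸ Submodule.mem_top (x := v))
    rw [Φ.add_right, Φ.refl _ _ (hu a ha), h b hb, add_zero]

/-- Orthogonals inside a non-degenerate subspace. -/
lemma finrank_perp_inf {U Y : Submodule F V} (hU : Φ.ND U) (hY : Y ≤ U) :
    finrank F Y + finrank F (Φ.perp Y ⊓ U : Submodule F V) = finrank F U := by
  have hc := Φ.isCompl_perp hU
  have h1 : Φ.perp U ⊔ (Φ.perp Y ⊓ U) = Φ.perp Y := by
    refine le_antisymm (sup_le (Φ.perp_anti hY) inf_le_left) fun v hv => ?_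
    obtain ⟨a, ha, b, hb, rfl⟩ := Submodule.mem_sup.1 (hc.sup_eq_top ▸ Submodule.mem_top (x := v))
    rw [add_comm]
    refine Submodule.add_mem_sup hb ⟨fun y hy => ?_, ha⟩
    have h := hv y hy
    rwa [Φ.add_right, hb y (hY hy), add_zero] at h
  have h2 : Φ.perp U ⊓ (Φ.perp Y ⊓ U) = ⊥ := by
    rw [eq_bot_iff]; exact fun v hv => hc.disjoint.le_bot ⟨hv.2.2, hv.1⟩
  have h3 := Submodule.finrank_sup_add_finrank_inf_eq (Φ.perp U) (Φ.perp Y ⊓ U)
  rw [h1, h2, finrank_bot, add_zero] at h3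
  have := Φ.finrank_perp U
  have := Φ.finrank_perp Y
  omega

lemma two_finrank_le {U W : Submodule F V} (hU : Φ.ND U) (hW : W ≤ U)
    (h : ∀ u ∈ W, ∀ v ∈ W, Φ.B u v = 0) : 2 * finrank F W ≤ finrank F U := by
  have h1 := Φ.finrank_perp_inf hU hW
  have h2 : finrank F W ≤ finrank F (Φ.perp W ⊓ U : Submodule F V) :=
    Submodule.finrank_mono fun w hw => ⟨fun x hx => h x hx w hw, hW hw⟩
  omega

lemma nd_of_inf_perp {X : Submodule F V} (h : X ⊓ Φ.perp X = ⊥) : Φ.ND X := fun u hu hz =>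
  (Submodule.mem_bot F).1 (h ▸ (⟨hu, fun x hx => Φ.refl _ _ (hz x hx)⟩ : u ∈ X ⊓ Φ.perp X))

end fin

/-- An isometry. -/
structure Isom (T : Module.End F V) : Prop where
  pres : ∀ u v, Φ.B (T u) (T v) = Φ.B u v
  sing : ∀ v, Φ.sing (T v) ↔ Φ.sing v

variable {Φ}

lemma Isom.pow {T : Module.End F V} (h : Φ.Isom T) (k : ℕ) : ∀ u v, Φ.B ((T ^ k) u) ((T ^ k) v) = Φ.B u v := by
  induction k with
  | zero => simp
  | succ k ih => intro u v; rw [pow_succ', Module.End.mul_apply, Module.End.mul_apply, h.pres, ih]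

lemma Isom.pow_sing {T : Module.End F V} (h : Φ.Isom T) (k : ℕ) : ∀ v, Φ.sing ((T ^ k) v) ↔ Φ.sing v := by
  induction k with
  | zero => simp
  | succ k ih => intro v; rw [pow_succ', Module.End.mul_apply, h.sing, ih]

lemma Isom.injective {T : Module.End F V} (h : Φ.Isom T) : Function.Injective T := by
  rw [← LinearMap.ker_eq_bot, LinearMap.ker_eq_bot']
  intro u hu
  exact Φ.nondeg u fun v => by rw [← h.pres, hu, Φ.zero_left]

variable [FiniteDimensional F V]

lemma Isom.inv_perp {T : Module.End F V} (h : Φ.Isom T) {X : Submodule F V} (hX : Inv T X) :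
    Inv T (Φ.perp X) := by
  intro v hv x hx
  have heq : X.map T = X := Submodule.eq_of_le_of_finrank_eq (inv_map_iff.2 hX)
    (Submodule.equivMapOfInjective T h.injective X).finrank_eq.symm
  rw [← heq] at hx
  obtain ⟨x', hx', rfl⟩ := hx
  rw [h.pres]
  exact hv x' hx'

/-- Every large non-degenerate invariant subspace contains a small totally singular invariant one. -/
def Step (Φ : SForm σ V) (T : Module.End F V) (S : Submodule F V) (i D : ℕ) : Prop :=
  ∀ U, Inv T U → U ≤ S → Φ.ND U → D < finrank F U → ∃ X, Inv T X ∧ X ≤ U ∧ Φ.Iso X ∧ finrank F X = i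

/-- Invariant complement of a totally singular subspace in its orthogonal. -/
lemma exists_core {T : Module.End F V} {r : ℕ} {c : F} (hT : T ^ r = c • 1) (hc : c ≠ 0) (hr : (r : F) ≠ 0) (hI : Φ.Isom T)
    {U X : Submodule F V} (hU : Φ.ND U) (hUi : Inv T U) (hX : Inv T X) (hXU : X ≤ U)
    (hXX : ∀ u ∈ X, ∀ v ∈ X, Φ.B u v = 0) :
    ∃ U', Inv T U' ∧ U' ≤ U ∧ Φ.ND U' ∧ (∀ x ∈ X, ∀ u ∈ U', Φ.B x u = 0) ∧ X ⊓ U' = ⊥ ∧
      finrank F U' + 2 * finrank F X = finrank F U := by
  obtain ⟨C, hC, hCi⟩ := exists_inv_compl hT hc hr hX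
  set A := Φ.perp X ⊓ U with hA
  have hXA : X ≤ A := fun x hx => ⟨fun y hy => hXX y hy x hx, hXU hx⟩
  have hsplit : X ⊔ C ⊓ A = A := by
    refine le_antisymm (sup_le hXA inf_le_right) fun a ha => ?_
    obtain ⟨x, hx, c, hc, rfl⟩ := Submodule.mem_sup.1 (hC.sup_eq_top ▸ Submodule.mem_top (x := a))
    refine Submodule.add_mem_sup hx ⟨hc, ?_⟩
    simpa using A.sub_mem ha (hXA hx)
  have hdisj : X ⊓ (C ⊓ A) = ⊥ := by
    rw [eq_bot_iff]; exact fun v hv => hC.disjoint.le_bot ⟨hv.1, hv.2.1⟩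
  have hA1 := Φ.finrank_perp_inf hU hXU
  have hA2 := Φ.finrank_perp_inf hU (inf_le_right : A ≤ U)
  rw [← hA] at hA1
  have hrad : Φ.perp A ⊓ U = X := by
    have hle : X ≤ Φ.perp A ⊓ U := fun x hx => ⟨fun a ha => Φ.refl _ _ (ha.1 x hx), hXU hx⟩
    refine (Submodule.eq_of_le_of_finrank_eq hle ?_).symm
    linarith [hA1, hA2]
  refine ⟨C ⊓ A, fun v hv => ⟨hCi v hv.1, hI.inv_perp hX v hv.2.1, hUi v hv.2.2⟩, fun v hv => hv.2.2, ?_,
    fun x hx u hu => hu.2.1 x hx, hdisj, ?_⟩
  · intro u hu hz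
    have : u ∈ Φ.perp A ⊓ U := by
      refine ⟨fun a ha => ?_, hu.2.2⟩
      rw [← hsplit] at ha
      obtain ⟨x, hx, c, hc, rfl⟩ := Submodule.mem_sup.1 ha
      rw [Φ.add_left, hu.2.1 x hx, Φ.refl _ _ (hz c hc), add_zero]
    rw [hrad] at this
    exact (Submodule.mem_bot F).1 (hdisj ▸ (⟨this, hu⟩ : u ∈ X ⊓ (C ⊓ A)))
  · have h := Submodule.finrank_sup_add_finrank_inf_eq X (C ⊓ A)
    rw [hsplit, hdisj, finrank_bot, add_zero] at h
    omega

/-- Totally singular invariant subspaces from steps. -/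
lemma exists_iso_climb' {T : Module.End F V} {r : ℕ} {c : F} (hT : T ^ r = c • 1) (hc : c ≠ 0) (hr : (r : F) ≠ 0) (hI : Φ.Isom T)
    {i D : ℕ} (j : ℕ) : ∀ S : Submodule F V, Φ.ND S → Inv T S → Step Φ T S i D →
      (j = 0 ∨ 2 * ((j - 1) * i) + D < finrank F S) →
      ∃ W, Inv T W ∧ W ≤ S ∧ Φ.Iso W ∧ finrank F W = j * i := by
  induction j with
  | zero => intro S _ _ _ _; exact ⟨⊥, fun w hw => by simp_all, bot_le, Φ.iso_bot, by simp⟩
  | succ j ih =>
    intro S hS hSi hstep hbd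
    replace hbd : 2 * (j * i) + D < finrank F S := by simpa using hbd
    obtain ⟨X, hXi, hXS, hXiso, hXd⟩ := hstep S hSi le_rfl hS (by omega)
    obtain ⟨U, hUi, hUS, hU, hperp, hdisj, hUd⟩ := exists_core hT hc hr hI hS hSi hXi hXS hXiso.1
    rw [hXd] at hUd
    obtain ⟨W, hWi, hWU, hWiso, hWd⟩ := ih U hU hUi (fun Y h1 h2 => hstep Y h1 (h2.trans hUS)) (by
      rcases j with _ | j
      · exact Or.inl rfl
      · refine Or.inr ?_
        simp only [Nat.add_sub_cancel]
        have := Nat.succ_mul j i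
        linarith)
    refine ⟨X ⊔ W, ?_, sup_le hXS (hWU.trans hUS), Φ.iso_sup hXiso hWiso fun x hx w hw => hperp x hx w (hWU hw), ?_⟩
    · intro v hv
      obtain ⟨a, ha, b, hb, rfl⟩ := Submodule.mem_sup.1 hv
      rw [map_add]
      exact Submodule.add_mem_sup (hXi a ha) (hWi b hb)
    · have h := Submodule.finrank_sup_add_finrank_inf_eq X W
      have h0 : X ⊓ W = ⊥ := eq_bot_iff.2 ((inf_le_inf_left X hWU).trans hdisj.le)
      rw [h0, finrank_bot, add_zero] at h
      rw [h, hXd, hWd, Nat.succ_mul, add_comm]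

/-- Totally singular invariant subspaces from steps, the power being one. -/
lemma exists_iso_climb {T : Module.End F V} {r : ℕ} (hT : T ^ r = 1) (hr : (r : F) ≠ 0) (hI : Φ.Isom T)
    {i D : ℕ} (j : ℕ) (S : Submodule F V) (hS : Φ.ND S) (hSi : Inv T S) (hstep : Step Φ T S i D)
    (hbd : j = 0 ∨ 2 * ((j - 1) * i) + D < finrank F S) :
    ∃ W, Inv T W ∧ W ≤ S ∧ Φ.Iso W ∧ finrank F W = j * i :=
  exists_iso_climb' (c := 1) (by rw [hT, one_smul]) one_ne_zero hr hI j S hS hSi hstep hbd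

section prime
variable {T : Module.End F V} {r : ℕ}

lemma fixed_perp_moved (hr : (r : F) ≠ 0) (hI : Φ.Isom T) {u v : V} (hu : u ∈ fixedSpace T)
    (hv : v ∈ movedSpace T r) : Φ.B u v = 0 := by
  have hk : ∀ k : ℕ, Φ.B u ((T ^ k) v) = Φ.B u v := fun k => by
    have hku : (T ^ k) u = u := by
      induction k with
      | zero => simp
      | succ k ih => rw [pow_succ', Module.End.mul_apply, ih, mem_fixedSpace.1 hu]
    conv_lhs => rw [← hku, hI.pow]
  rw [movedSpace, LinearMap.mem_ker, LinearMap.sum_apply] at hv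
  have h := congrArg (Φ.B u) hv
  rw [Φ.sum_right, Φ.zero_right] at h
  simp only [hk, Finset.sum_const, Finset.card_range, nsmul_eq_mul] at h
  exact (mul_eq_zero.1 h).resolve_left hr

lemma nd_fixed (hT : T ^ r = 1) (hr : (r : F) ≠ 0) (hI : Φ.Isom T) : Φ.ND (fixedSpace T) := fun u hu h =>
  Φ.nondeg u fun v => by
    obtain ⟨a, ha, b, hb, rfl⟩ := Submodule.mem_sup.1
      ((split_inv hT hr (W := ⊤) fun _ _ => trivial).ge (Submodule.mem_top (x := v)))
    rw [Φ.add_right, h a ha.2, fixed_perp_moved hr hI hu hb.2, add_zero]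

lemma nd_moved (hT : T ^ r = 1) (hr : (r : F) ≠ 0) (hI : Φ.Isom T) : Φ.ND (movedSpace T r) := fun u hu h =>
  Φ.nondeg u fun v => by
    obtain ⟨a, ha, b, hb, rfl⟩ := Submodule.mem_sup.1
      ((split_inv hT hr (W := ⊤) fun _ _ => trivial).ge (Submodule.mem_top (x := v)))
    rw [Φ.add_right, h b hb.2, Φ.refl _ _ (fixed_perp_moved hr hI ha.2 hu), add_zero]

lemma finrank_fixed_add (hT : T ^ r = 1) (hr : (r : F) ≠ 0) :
    finrank F (fixedSpace T) + finrank F (movedSpace T r) = finrank F V := by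
  have h := finrank_split hT hr (W := ⊤) fun _ _ => trivial
  rw [top_inf_eq, top_inf_eq, finrank_top] at h
  omega

/-- The parts of an invariant totally singular subspace. -/
lemma iso_parts (hT : T ^ r = 1) (hr : (r : F) ≠ 0) (hI : Φ.Isom T) {W : Submodule F V} (hW : Inv T W)
    (hiso : Φ.Iso W) :
    finrank F W = finrank F (W ⊓ fixedSpace T : Submodule F V) + finrank F (W ⊓ movedSpace T r : Submodule F V) ∧
      2 * finrank F (W ⊓ fixedSpace T : Submodule F V) ≤ finrank F (fixedSpace T) ∧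
      2 * finrank F (W ⊓ movedSpace T r : Submodule F V) ≤ finrank F (movedSpace T r) :=
  ⟨finrank_split hT hr hW,
    Φ.two_finrank_le (nd_fixed hT hr hI) inf_le_right fun u hu v hv => hiso.1 u hu.1 v hv.1,
    Φ.two_finrank_le (nd_moved hT hr hI) inf_le_right fun u hu v hv => hiso.1 u hu.1 v hv.1⟩

/-- Joining the parts. -/
lemma iso_join (hr : (r : F) ≠ 0) (hI : Φ.Isom T) {A W : Submodule F V} (hA : A ≤ fixedSpace T) (hAiso : Φ.Iso A)
    (hWi : Inv T W) (hW : W ≤ movedSpace T r) (hWiso : Φ.Iso W) :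
    Inv T (A ⊔ W) ∧ Φ.Iso (A ⊔ W) ∧ finrank F (A ⊔ W : Submodule F V) = finrank F A + finrank F W := by
  refine ⟨fun v hv => ?_, Φ.iso_sup hAiso hWiso fun x hx y hy => fixed_perp_moved hr hI (hA hx) (hW hy), ?_⟩
  · obtain ⟨a, ha, b, hb, rfl⟩ := Submodule.mem_sup.1 hv
    rw [map_add, mem_fixedSpace.1 (hA ha)]
    exact Submodule.add_mem_sup ha (hWi b hb)
  · have h := Submodule.finrank_sup_add_finrank_inf_eq A W
    rw [show A ⊓ W = ⊥ from eq_bot_iff.2 fun v hv => eq_zero_of_fixed_moved hr (hA hv.1) (hW hv.2),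
      finrank_bot, add_zero] at h
    exact h

variable [Fintype F] [Fact r.Prime]

/-- A minimal invariant subspace inside a non-zero moved one. -/
lemma exists_minimal (hT : T ^ r = 1) (hr : (r : F) ≠ 0) {Z : Submodule F V} (hZ : Inv T Z)
    (hZM : Z ≤ movedSpace T r) (hne : Z ≠ ⊥) :
    ∃ X, Inv T X ∧ X ≤ Z ∧ finrank F X = orderOf (Fintype.card F : ZMod r) := by
  obtain ⟨u, hu, hu0⟩ := Submodule.exists_mem_ne_zero_of_ne_bot hne
  have hne' : (Polynomial.X ^ r - 1 : Polynomial F) ≠ 0 :=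
    (Polynomial.monic_X_pow_sub_C (1 : F) (Fact.out : r.Prime).ne_zero).ne_zero
  obtain ⟨g, hgm, hgi, hgd, v, hvU, hv0, hgv⟩ := exists_irreducible_vec (W := ⊥) hZ _ hne' u hu
    (by rwa [Submodule.mem_bot]) (by simp [hT])
  have hinv : Inv T (⊥ ⊔ cyc T v g.natDegree) := inv_sup_cyc (fun w hw => by simp_all) hgm hgv
  rw [bot_sup_eq] at hinv
  have hle : cyc T v g.natDegree ≤ Z := cyc_le hZ hvU _
  obtain ⟨a, ha⟩ := dvd_finrank_moved hT hr hinv (hle.trans hZM)
  have hdvd : r ∣ Fintype.card F ^ orderOf (Fintype.card F : ZMod r) - 1 := by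
    rw [← ZMod.natCast_eq_zero_iff, Nat.cast_sub (Nat.one_le_pow _ _ Fintype.card_pos), Nat.cast_pow,
      pow_orderOf_eq_one, Nat.cast_one, sub_self]
  have hupp := (finrank_cyc_le T v g.natDegree).trans
    (natDegree_le_of_dvd_pow_sub_one (orderOf_card_pos hr) hdvd hgi hgd)
  have hpos : 0 < finrank F (cyc T v g.natDegree) :=
    Nat.pos_of_ne_zero fun h0 => hv0 ((Submodule.finrank_eq_zero.1 h0) ▸ mem_cyc T v hgi.natDegree_pos)
  refine ⟨_, hinv, hle, ?_⟩
  rcases a with _ | _ | a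
  · rw [Nat.mul_zero] at ha; omega
  · simpa using ha
  · have := orderOf_card_pos (F := F) (r := r) hr
    rw [Nat.mul_add, Nat.mul_one, Nat.mul_add, Nat.mul_one] at ha
    omega

/-- A totally singular orbit span gives a step. -/
lemma step_of_vector (hT : T ^ r = 1) (hr : (r : F) ≠ 0) (hI : Φ.Isom T) {D : ℕ}
    (h : ∀ U, Inv T U → U ≤ movedSpace T r → Φ.ND U → D < finrank F U →
      ∃ v ∈ U, v ≠ 0 ∧ Φ.sing v ∧ ∀ a : ℕ, a < r → Φ.B ((T ^ a) v) v = 0) :
    Step Φ T (movedSpace T r) (orderOf (Fintype.card F : ZMod r)) D := by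
  intro U hUi hUM hU hD
  obtain ⟨v, hvU, hv0, hvs, hv⟩ := h U hUi hUM hU hD
  have hr0 : 0 < r := (Fact.out : r.Prime).pos
  have hmod : ∀ k : ℕ, T ^ k = T ^ (k % r) := fun k => by
    conv_lhs => rw [← Nat.mod_add_div k r, pow_add, pow_mul, hT, one_pow, mul_one]
  have hall : ∀ k l : ℕ, Φ.B ((T ^ k) v) ((T ^ l) v) = 0 := by
    intro k l
    have h1 := hI.pow (r - l % r) ((T ^ k) v) ((T ^ (l % r)) v)
    rw [← Module.End.mul_apply (T ^ (r - l % r)) (T ^ (l % r)), ← pow_add,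
      Nat.sub_add_cancel (Nat.mod_lt l hr0).le, hT, Module.End.one_apply, ← hmod l, ← Module.End.mul_apply,
      ← pow_add, hmod (r - l % r + k)] at h1
    rw [← h1, hv _ (Nat.mod_lt _ hr0)]
  let Z : Submodule F V := Submodule.span F (Set.range fun k : ℕ => (T ^ k) v)
  have hZi : Inv T Z := fun z hz => by
    refine (Submodule.span_le.2 ?_ : Z ≤ Z.comap T) hz
    rintro _ ⟨k, rfl⟩
    exact Submodule.subset_span ⟨k + 1, by simp [pow_succ']⟩
  have hZU : Z ≤ U := Submodule.span_le.2 (by rintro _ ⟨k, rfl⟩; exact hUi.pow k v hvU)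
  have hpair : ∀ x ∈ Z, ∀ y ∈ Z, Φ.B x y = 0 := by
    have hgen : ∀ k : ℕ, Z ≤ Φ.perp (Submodule.span F {(T ^ k) v}) := fun k =>
      Submodule.span_le.2 (by
        rintro _ ⟨l, rfl⟩ x hx
        obtain ⟨c, rfl⟩ := Submodule.mem_span_singleton.1 hx
        rw [Φ.smul_left, hall, mul_zero])
    intro x hx y hy
    refine Φ.refl _ _ ?_
    have : Z ≤ Φ.perp (Submodule.span F {y}) := Submodule.span_le.2 (by
      rintro _ ⟨k, rfl⟩ z hz
      obtain ⟨c, rfl⟩ := Submodule.mem_span_singleton.1 hz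
      rw [Φ.smul_left, Φ.refl _ _ (hgen k hy _ (Submodule.mem_span_singleton_self _)), mul_zero])
    exact this hx y (Submodule.mem_span_singleton_self y)
  have hsing : ∀ x ∈ Z, Φ.sing x := fun x hx => by
    induction hx using Submodule.span_induction with
    | mem x hx => obtain ⟨k, rfl⟩ := hx; exact (hI.pow_sing k v).2 hvs
    | zero => exact Φ.sing_zero
    | add a b ha hb h1 h2 => exact Φ.sing_add a b (hpair a ha b hb) h1 h2
    | smul c a ha h1 => exact Φ.sing_smul c a h1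
  obtain ⟨X, hXi, hXZ, hXd⟩ := exists_minimal hT hr hZi (hZU.trans hUM) (fun h0 => hv0 (by
    rw [← Submodule.mem_bot F, ← h0]; exact Submodule.subset_span ⟨0, by simp⟩))
  exact ⟨X, hXi, hXZ.trans hZU, ⟨fun a ha b hb => hpair a (hXZ ha) b (hXZ hb), fun a ha => hsing a (hXZ ha)⟩, hXd⟩

/-- If no minimal subspace is non-degenerate, every non-zero space has a step. -/
lemma step_of_no_nd (hT : T ^ r = 1) (hr : (r : F) ≠ 0) (hI : Φ.Isom T)
    (hsing : ∀ X, Inv T X → X ≤ movedSpace T r → (∀ u ∈ X, ∀ v ∈ X, Φ.B u v = 0) → ∀ u ∈ X, Φ.sing u)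
    (hno : ∀ X, Inv T X → X ≤ movedSpace T r → finrank F X = orderOf (Fintype.card F : ZMod r) → ¬ Φ.ND X) :
    Step Φ T (movedSpace T r) (orderOf (Fintype.card F : ZMod r)) 0 := by
  intro U hUi hUM hU hD
  obtain ⟨X, hXi, hXU, hXd⟩ := exists_minimal hT hr hUi hUM (fun h => by rw [h, finrank_bot] at hD; omega)
  have hne : X ⊓ Φ.perp X ≠ ⊥ := fun h => hno X hXi (hXU.trans hUM) hXd (Φ.nd_of_inf_perp h)
  obtain ⟨Y, hYi, hY, hYd⟩ := exists_minimal hT hr (Z := X ⊓ Φ.perp X)
    (fun v hv => ⟨hXi v hv.1, hI.inv_perp hXi v hv.2⟩) (inf_le_left.trans (hXU.trans hUM)) hne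
  have hYX : Y = X := Submodule.eq_of_le_of_finrank_eq (hY.trans inf_le_left) (hYd.trans hXd.symm)
  have hiso : ∀ u ∈ X, ∀ v ∈ X, Φ.B u v = 0 := fun u hu v hv => (hY (hYX ▸ hv)).2 u hu
  exact ⟨X, hXi, hXU, ⟨hiso, hsing X hXi (hXU.trans hUM) hiso⟩, hXd⟩

end prime

end SForm

/-- A non-zero common zero of few quadratic forms inside a subspace. -/
theorem exists_common_zero {F : Type*} [Field F] [Fintype F] {V : Type*} [AddCommGroup V] [Module F V]
    [FiniteDimensional F V] {κ : Type*} [Fintype κ] (β : κ → V →ₗ[F] V →ₗ[F] F) (U : Submodule F V)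
    (h : 2 * Fintype.card κ < finrank F U) : ∃ v ∈ U, v ≠ 0 ∧ ∀ k, β k v v = 0 := by
  classical
  obtain ⟨p, hp⟩ := CharP.exists F
  haveI : CharP F p := hp
  haveI : Fact p.Prime := ⟨(FiniteField.card F p).choose_spec.1⟩
  let b := Module.finBasis F U
  let f : κ → MvPolynomial (Fin (finrank F U)) F := fun k =>
    ∑ i, ∑ j, MvPolynomial.C (β k (b i : V) (b j : V)) * MvPolynomial.X i * MvPolynomial.X j
  have hdeg : ∀ k, (f k).totalDegree ≤ 2 := fun k => by
    refine (MvPolynomial.totalDegree_finset_sum _ _).trans (Finset.sup_le fun i _ => ?_)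
    refine (MvPolynomial.totalDegree_finset_sum _ _).trans (Finset.sup_le fun j _ => ?_)
    refine (MvPolynomial.totalDegree_mul _ _).trans ?_
    refine (Nat.add_le_add (MvPolynomial.totalDegree_mul _ _) le_rfl).trans ?_
    rw [MvPolynomial.totalDegree_C, MvPolynomial.totalDegree_X, MvPolynomial.totalDegree_X]
  have heval : ∀ k (x : Fin (finrank F U) → F),
      MvPolynomial.eval x (f k) = β k (∑ i, x i • (b i : V)) (∑ i, x i • (b i : V)) := by
    intro k x
    simp only [f, map_sum, map_mul, MvPolynomial.eval_C, MvPolynomial.eval_X, LinearMap.sum_apply, map_smul,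
      LinearMap.smul_apply, smul_eq_mul, Finset.mul_sum]
    rw [Finset.sum_comm]
    refine Finset.sum_congr rfl fun i _ => Finset.sum_congr rfl fun j _ => ?_
    ring
  have hcw := char_dvd_card_solutions_of_sum_lt (K := F) p (s := Finset.univ) (f := f) (by
    rw [Fintype.card_fin]
    refine lt_of_le_of_lt (Finset.sum_le_sum fun k _ => hdeg k) ?_
    rw [Finset.sum_const, Finset.card_univ, smul_eq_mul]
    omega)
  let z : {x : Fin (finrank F U) → F // ∀ k ∈ Finset.univ, MvPolynomial.eval x (f k) = 0} :=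
    ⟨0, fun k _ => by rw [heval]; simp⟩
  have hone : 1 < Fintype.card {x : Fin (finrank F U) → F // ∀ k ∈ Finset.univ, MvPolynomial.eval x (f k) = 0} :=
    lt_of_lt_of_le (Fact.out : p.Prime).one_lt (Nat.le_of_dvd (Fintype.card_pos_iff.2 ⟨z⟩) (by convert hcw))
  obtain ⟨⟨x, hx⟩, hxz⟩ := Fintype.exists_ne_of_one_lt_card hone z
  refine ⟨∑ i, x i • (b i : V), U.sum_mem fun i _ => U.smul_mem _ (b i).2, fun h0 => ?_,
    fun k => by rw [← heval]; exact hx k (Finset.mem_univ k)⟩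
  have hall := Fintype.linearIndependent_iff.1 (b.linearIndependent.map' U.subtype U.ker_subtype) x h0
  exact hxz (Subtype.ext (funext hall))

end Cfsg.Agent.Elusive
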