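import Cfsg.Agent.Lib.Elusive.FormIso

/-!
Non-degenerate invariant subspaces for reflexive sesquilinear forms.
-/

set_option autoImplicit false
set_option linter.all false

namespace Cfsg.Agent.Elusive

open Module Polynomial

namespace SForm

variable {F : Type*} [Field F] {σ : F ≃+* F} {V : Type*} [AddCommGroup V] [Module F V] [FiniteDimensional F V]
  {Φ : SForm σ V} {T : Module.End F V}

omit [FiniteDimensional F V] in
lemma inv_join {A B : Submodule F V} (hA : Inv T A) (hB : Inv T B) : Inv T (A ⊔ B) := fun w hw => by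
  obtain ⟨a, ha, b, hb, rfl⟩ := Submodule.mem_sup.1 hw
  rw [map_add]
  exact Submodule.add_mem_sup (hA a ha) (hB b hb)

omit [FiniteDimensional F V] in
lemma inv_bot' : Inv T (⊥ : Submodule F V) := fun w hw => by simp_all

omit [FiniteDimensional F V] in
lemma nd_bot : Φ.ND ⊥ := fun u hu _ => (Submodule.mem_bot F).1 hu

/-- Orthogonal sums of non-degenerate subspaces. -/
lemma nd_sup {X Y : Submodule F V} (hX : Φ.ND X) (hY : Φ.ND Y) (h : ∀ x ∈ X, ∀ y ∈ Y, Φ.B x y = 0) :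
    Φ.ND (X ⊔ Y) ∧ X ⊓ Y = ⊥ ∧ finrank F (X ⊔ Y : Submodule F V) = finrank F X + finrank F Y := by
  have hbot : X ⊓ Y = ⊥ := eq_bot_iff.2 fun u hu => (Submodule.mem_bot F).2 (hY u hu.2 fun v hv => h u hu.1 v hv)
  refine ⟨fun u hu hz => ?_, hbot, ?_⟩
  · obtain ⟨a, ha, b, hb, rfl⟩ := Submodule.mem_sup.1 hu
    have e1 : a = 0 := hX a ha fun v hv => by
      have := hz v (Submodule.mem_sup_left hv)
      rwa [Φ.add_left, Φ.refl _ _ (h v hv b hb), add_zero] at this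
    have e2 : b = 0 := hY b hb fun v hv => by
      have := hz v (Submodule.mem_sup_right hv)
      rwa [Φ.add_left, h a ha v hv, zero_add] at this
    rw [e1, e2, add_zero]
  · have := Submodule.finrank_sup_add_finrank_inf_eq X Y
    rwa [hbot, finrank_bot, add_zero] at this

/-- The complement inside a non-degenerate subspace. -/
lemma nd_compl {S X : Submodule F V} (hS : Φ.ND S) (hX : Φ.ND X) (hXS : X ≤ S) :
    Φ.ND (Φ.perp X ⊓ S) ∧ X ⊔ (Φ.perp X ⊓ S) = S ∧ X ⊓ (Φ.perp X ⊓ S) = ⊥ ∧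
      finrank F X + finrank F (Φ.perp X ⊓ S : Submodule F V) = finrank F S := by
  have hd := Φ.finrank_perp_inf hS hXS
  have hbot : X ⊓ (Φ.perp X ⊓ S) = ⊥ :=
    eq_bot_iff.2 fun u hu => (Submodule.mem_bot F).2 (hX u hu.1 fun v hv => Φ.refl _ _ (hu.2.1 v hv))
  have hsum : X ⊔ (Φ.perp X ⊓ S) = S := by
    refine Submodule.eq_of_le_of_finrank_eq (sup_le hXS inf_le_right) ?_
    have := Submodule.finrank_sup_add_finrank_inf_eq X (Φ.perp X ⊓ S)
    rw [hbot, finrank_bot, add_zero] at this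
    rw [this, hd]
  refine ⟨fun u hu hz => hS u hu.2 fun v hv => ?_, hsum, hbot, hd⟩
  rw [← hsum] at hv
  obtain ⟨a, ha, b, hb, rfl⟩ := Submodule.mem_sup.1 hv
  rw [Φ.add_right, Φ.refl _ _ (hu.1 a ha), hz b hb, zero_add]

lemma inv_compl_perp (hI : Φ.Isom T) {S X : Submodule F V} (hSi : Inv T S) (hXi : Inv T X) :
    Inv T (Φ.perp X ⊓ S) := fun v hv => ⟨hI.inv_perp hXi v hv.1, hSi v hv.2⟩

/-- Many blocks. -/
lemma exists_nd_climb (hI : Φ.Isom T) {c : ℕ} (S : Submodule F V)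
    (hblock : ∀ U, Inv T U → U ≤ S → Φ.ND U → c ≤ finrank F U → ∃ X, Inv T X ∧ X ≤ U ∧ Φ.ND X ∧ finrank F X = c) :
    ∀ (j : ℕ) (U : Submodule F V), Inv T U → U ≤ S → Φ.ND U → c * j ≤ finrank F U →
      ∃ W, Inv T W ∧ W ≤ U ∧ Φ.ND W ∧ finrank F W = c * j := by
  intro j
  induction j with
  | zero => intro U _ _ _ _; exact ⟨⊥, inv_bot', bot_le, nd_bot, by simp⟩
  | succ j ih =>
    intro U hUi hUS hU hd
    rw [Nat.mul_succ] at hd
    obtain ⟨X, hXi, hXU, hX, hXd⟩ := hblock U hUi hUS hU (by omega)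
    obtain ⟨hY, -, -, hYd⟩ := nd_compl hU hX hXU
    obtain ⟨W, hWi, hWY, hW, hWd⟩ :=
      ih _ (inv_compl_perp hI hUi hXi) (inf_le_right.trans hUS) hY (by omega)
    obtain ⟨h1, -, h3⟩ := nd_sup hX hW fun x hx y hy => (hWY hy).1 x hx
    exact ⟨X ⊔ W, inv_join hXi hWi, sup_le hXU (hWY.trans inf_le_right), h1, by rw [h3, Nat.mul_succ]; omega⟩

/-- The parts of a non-degenerate invariant subspace. -/
lemma nd_parts {r : ℕ} (hT : T ^ r = 1) (hr : (r : F) ≠ 0) (hI : Φ.Isom T) {W : Submodule F V} (hWi : Inv T W)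
    (hW : Φ.ND W) :
    Φ.ND (W ⊓ fixedSpace T) ∧ Φ.ND (W ⊓ movedSpace T r) ∧
      finrank F W = finrank F (W ⊓ fixedSpace T : Submodule F V) + finrank F (W ⊓ movedSpace T r : Submodule F V) := by
  refine ⟨fun u hu hz => hW u hu.1 fun v hv => ?_, fun u hu hz => hW u hu.1 fun v hv => ?_, finrank_split hT hr hWi⟩
  · obtain ⟨a, ha, b, hb, rfl⟩ := Submodule.mem_sup.1 ((split_inv hT hr hWi).ge hv)
    rw [Φ.add_right, hz a ha, fixed_perp_moved hr hI hu.2 hb.2, add_zero]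
  · obtain ⟨a, ha, b, hb, rfl⟩ := Submodule.mem_sup.1 ((split_inv hT hr hWi).ge hv)
    rw [Φ.add_right, hz b hb, Φ.refl _ _ (fixed_perp_moved hr hI ha.2 hu.2), zero_add]

/-- Joining a fixed and a moved piece. -/
lemma nd_join {r : ℕ} (hr : (r : F) ≠ 0) (hI : Φ.Isom T) {A W : Submodule F V} (hA : A ≤ fixedSpace T)
    (hAnd : Φ.ND A) (hWi : Inv T W) (hW : W ≤ movedSpace T r) (hWnd : Φ.ND W) :
    Inv T (A ⊔ W) ∧ Φ.ND (A ⊔ W) ∧ finrank F (A ⊔ W : Submodule F V) = finrank F A + finrank F W := by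
  obtain ⟨h1, -, h3⟩ := nd_sup hAnd hWnd fun x hx y hy => fixed_perp_moved hr hI (hA hx) (hW hy)
  exact ⟨inv_join (inv_of_le_fixed hA) hWi, h1, h3⟩

/-- A totally isotropic invariant subspace is half of a non-degenerate one. -/
lemma exists_pair {r : ℕ} {c : F} (hT : T ^ r = c • 1) (hc : c ≠ 0) (hr : (r : F) ≠ 0) (hI : Φ.Isom T)
    {U X : Submodule F V} (hU : Φ.ND U) (hUi : Inv T U) (hXi : Inv T X) (hXU : X ≤ U)
    (hXX : ∀ u ∈ X, ∀ v ∈ X, Φ.B u v = 0) :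
    ∃ Y, Inv T Y ∧ Y ≤ U ∧ Φ.ND Y ∧ finrank F Y = 2 * finrank F X := by
  obtain ⟨U', hU'i, hU'U, hU', -, -, hd⟩ := exists_core hT hc hr hI hU hUi hXi hXU hXX
  obtain ⟨hY, -, -, hYd⟩ := nd_compl hU hU' hU'U
  exact ⟨_, inv_compl_perp hI hUi hU'i, inf_le_right, hY, by omega⟩

section prime
variable [Fintype F] {r : ℕ} [Fact r.Prime]

/-- A minimal invariant subspace is non-degenerate or totally isotropic. -/
lemma minimal_dichotomy (hT : T ^ r = 1) (hr : (r : F) ≠ 0) (hI : Φ.Isom T) {X : Submodule F V} (hXi : Inv T X)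
    (hXM : X ≤ movedSpace T r) (hXd : finrank F X = orderOf (Fintype.card F : ZMod r)) :
    Φ.ND X ∨ ∀ u ∈ X, ∀ v ∈ X, Φ.B u v = 0 := by
  by_cases h : X ⊓ Φ.perp X = ⊥
  · exact Or.inl (Φ.nd_of_inf_perp h)
  refine Or.inr fun u hu v hv => ?_
  obtain ⟨Y, hYi, hY, hYd⟩ := exists_minimal hT hr (Z := X ⊓ Φ.perp X)
    (fun v hv => ⟨hXi v hv.1, hI.inv_perp hXi v hv.2⟩) (inf_le_left.trans hXM) h
  have hYX : Y = X := Submodule.eq_of_le_of_finrank_eq (hY.trans inf_le_left) (hYd.trans hXd.symm)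
  exact (hY (hYX ▸ hv)).2 u hu

end prime

end SForm

end Cfsg.Agent.Elusive
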