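import Cfsg.Agent.Lib.Elusive.SympIso
import Cfsg.Agent.Lib.Classical.UnitaryCount
import Cfsg.Agent.Lib.Classical.HermSU
import Mathlib.LinearAlgebra.Dimension.Free

/-!
Semisimple elements of prime order of unitary groups and their invariant totally isotropic subspaces.
-/

set_option autoImplicit false
set_option linter.all false
set_option maxHeartbeats 800000

namespace Cfsg.Agent.Elusive

open Module Polynomial Hermitian

variable {F : Type*} [Field F] {σ : F →+* F} {q : ℕ} {V : Type*} [AddCommGroup V] [Module F V]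
  {h : V → V → F}

/-- A Hermitian form as a form with every vector singular. -/
def hermSF (hh : IsHerm σ h) : SForm (sEquiv hh.invol) V where
  B := h
  sing := fun _ => True
  add_left := hh.add_left
  smul_left := hh.smul_left
  add_right := fun u v w => hh.add_right u v w
  smul_right := fun c u v => by rw [sEquiv_apply]; exact hh.smul_right c u v
  refl := fun u v e => hh.eq_zero_comm.1 e
  nondeg := hh.nondeg
  sing_zero := trivial
  sing_smul := fun _ _ _ => trivial
  sing_add := fun _ _ _ _ _ => trivial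

variable {hh : IsHerm σ h}

lemma hermSF_B (u v : V) : (hermSF hh).B u v = h u v := rfl

lemma hermSF_isom {T : Module.End F V} (e : ∀ u v, h (T u) (T v) = h u v) : (hermSF hh).Isom T :=
  ⟨e, fun _ => Iff.rfl⟩

lemma hermSF_iso {W : Submodule F V} (e : ∀ u ∈ W, ∀ v ∈ W, h u v = 0) : (hermSF hh).Iso W :=
  ⟨e, fun _ _ => trivial⟩

/-- A non-zero common zero of few sesquilinear forms. -/
lemma exists_herm_zero [Fintype F] [FiniteDimensional F V] (hh : IsHerm σ h) {κ : Type*} [Fintype κ]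
    (T : κ → Module.End F V) (π : κ → (F →ₗ[↥(fixed σ)] ↥(fixed σ))) (U : Submodule F V)
    (hc : Fintype.card κ < finrank F U) : ∃ v ∈ U, v ≠ 0 ∧ ∀ k, π k (h (T k v) v) = 0 := by
  classical
  haveI : Fintype ↥(fixed σ) := Fintype.ofFinite _
  haveI : Module.Finite ↥(fixed σ) F := Module.Finite.of_finite
  haveI : Module.Finite ↥(fixed σ) V := Module.Finite.trans F V
  have hK : finrank ↥(fixed σ) F = 2 := by
    have h1 := Module.card_eq_pow_finrank (K := ↥(fixed σ)) (V := F)
    have h2 := card_eq_sq hh.ne_id hh.invol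
    rw [Nat.card_eq_fintype_card, Nat.card_eq_fintype_card, h1] at h2
    exact Nat.pow_right_injective (Fintype.one_lt_card (α := ↥(fixed σ))) h2
  have hsc : ∀ (a : ↥(fixed σ)) (v : V), a • v = (a : F) • v := fun a v => rfl
  have hfix : ∀ (a : ↥(fixed σ)), σ (a : F) = (a : F) := fun a => a.2
  let β : κ → V →ₗ[↥(fixed σ)] V →ₗ[↥(fixed σ)] ↥(fixed σ) := fun k =>
    LinearMap.mk₂ _ (fun u v => π k (h (T k u) v))
      (fun a b c => by simp only [map_add, hh.add_left])
      (fun a b c => by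
        rw [hsc, map_smul, hh.smul_left, show (a : F) * h (T k b) c = a • h (T k b) c from rfl, map_smul])
      (fun a b c => by simp only [hh.add_right, map_add])
      (fun a b c => by
        rw [hsc, hh.smul_right, hfix, show (a : F) * h (T k b) c = a • h (T k b) c from rfl, map_smul])
  have hU : finrank ↥(fixed σ) (U.restrictScalars ↥(fixed σ)) = 2 * finrank F U := by
    rw [← hK, Module.finrank_mul_finrank]
    rfl
  obtain ⟨v, hv, hv0, hv1⟩ := exists_common_zero β (U.restrictScalars ↥(fixed σ)) (lt_of_lt_of_eq (show 2 * Fintype.card κ < 2 * finrank F U by omega) hU.symm)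
  exact ⟨v, hv, hv0, hv1⟩

/-- Isotropic lines. -/
lemma step_herm_line [Fintype F] [FiniteDimensional F V] (S : Submodule F V) (T : Module.End F V)
    (hS : S ≤ fixedSpace T) : SForm.Step (hermSF hh) T S 1 1 := by
  intro U hUi hUS hU hD
  haveI : Module.Finite ↥(fixed σ) F := Module.Finite.of_finite
  obtain ⟨φ, hφ⟩ := (Algebra.linearMap ↥(fixed σ) F).exists_leftInverse_of_injective
    (LinearMap.ker_eq_bot.2 fun a b e => Subtype.ext e)
  obtain ⟨v, hv, hv0, hv1⟩ := exists_herm_zero hh (fun _ : Unit => (1 : Module.End F V)) (fun _ => φ) U (by simpa using hD)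
  have hvv : h v v = 0 := by
    have h1 := hv1 ()
    rw [Module.End.one_apply] at h1
    have h2 := LinearMap.congr_fun hφ ⟨h v v, hh.self_fixed v⟩
    simp only [LinearMap.comp_apply, Algebra.linearMap_apply, LinearMap.id_apply] at h2
    rw [show (algebraMap ↥(fixed σ) F) ⟨h v v, hh.self_fixed v⟩ = h v v from rfl, h1] at h2
    exact (congrArg Subtype.val h2).symm
  refine ⟨Submodule.span F {v}, inv_of_le_fixed ((Submodule.span_singleton_le_iff_mem _ _).2 (hS (hUS hv))),
    (Submodule.span_singleton_le_iff_mem _ _).2 hv, hermSF_iso ?_, finrank_span_singleton hv0⟩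
  intro a ha b hb
  obtain ⟨x, rfl⟩ := Submodule.mem_span_singleton.1 ha
  obtain ⟨y, rfl⟩ := Submodule.mem_span_singleton.1 hb
  rw [hh.smul_left, hh.smul_right, hvv]; ring

section prime
variable [Fintype F] [FiniteDimensional F V] {r : ℕ} [Fact r.Prime] {T : Module.End F V}

lemma fixed_pair (hh : IsHerm σ h) : ∃ π : Fin 2 → (F →ₗ[↥(fixed σ)] ↥(fixed σ)), ∀ x, (∀ l, π l x = 0) → x = 0 := by
  haveI : Module.Finite ↥(fixed σ) F := Module.Finite.of_finite
  haveI : Fintype ↥(fixed σ) := Fintype.ofFinite _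
  have hK : finrank ↥(fixed σ) F = 2 := by
    have h1 := Module.card_eq_pow_finrank (K := ↥(fixed σ)) (V := F)
    have h2 := card_eq_sq hh.ne_id hh.invol
    rw [Nat.card_eq_fintype_card, Nat.card_eq_fintype_card, h1] at h2
    exact Nat.pow_right_injective (Fintype.one_lt_card (α := ↥(fixed σ))) h2
  let b := Module.finBasisOfFinrankEq ↥(fixed σ) F hK
  exact ⟨fun l => b.coord l, fun x hx => b.forall_coord_eq_zero_iff.1 hx⟩

/-- Steps in general. -/
lemma step_herm (hT : T ^ r = 1) (hr : (r : F) ≠ 0) (hr2 : r ≠ 2) (e : ∀ u v, h (T u) (T v) = h u v) :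
    SForm.Step (hermSF hh) T (movedSpace T r) (orderOf (Fintype.card F : ZMod r)) (r - 1) := by
  refine SForm.step_of_vector hT hr (hermSF_isom e) fun U hUi hUM hU hD => ?_
  obtain ⟨π, hπ⟩ := fixed_pair hh
  have hodd : r % 2 = 1 := Nat.odd_iff.1 ((Fact.out : r.Prime).odd_of_ne_two hr2)
  obtain ⟨v, hvU, hv0, hv⟩ := exists_herm_zero hh (κ := Fin ((r - 1) / 2) × Fin 2) (fun k => T ^ ((k.1 : ℕ) + 1))
    (fun k => π k.2) U (by rw [Fintype.card_prod, Fintype.card_fin, Fintype.card_fin]; omega)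
  have hsmall : ∀ a, 1 ≤ a → a ≤ (r - 1) / 2 → h ((T ^ a) v) v = 0 := fun a h1 h2 => hπ _ fun l => by
    have := hv (⟨a - 1, by omega⟩, l)
    simpa [show a - 1 + 1 = a by omega] using this
  have hpos : ∀ a, 1 ≤ a → a < r → h ((T ^ a) v) v = 0 := fun a h1 h2 => by
    by_cases hle : a ≤ (r - 1) / 2
    · exact hsmall a h1 hle
    · have h3 := (hermSF_isom (hh := hh) e).pow a ((T ^ (r - a)) v) v
      rw [← Module.End.mul_apply, ← pow_add, show a + (r - a) = r by omega, hT, Module.End.one_apply,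
        hermSF_B, hermSF_B, hsmall (r - a) (by omega) (by omega)] at h3
      exact hh.eq_zero_comm.1 h3
  refine ⟨v, hvU, hv0, trivial, fun a ha => ?_⟩
  rcases Nat.eq_zero_or_pos a with rfl | ha0
  · have h0 := congrArg (fun w => h w v) (show (∑ k ∈ Finset.range r, T ^ k) v = 0 from hUM hvU)
    rw [LinearMap.sum_apply, hh.sum_left, hh.zero_left,
      Finset.sum_eq_single 0 (fun k hk hk0 => hpos k (Nat.pos_of_ne_zero hk0) (Finset.mem_range.1 hk))
        (fun hn => absurd (Finset.mem_range.2 (Fact.out : r.Prime).pos) hn)] at h0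
    exact h0
  · exact hpos a ha0 ha

/-- Steps when the power is not a power. -/
lemma step_herm_nonpower {c : F} (hT : T ^ r = c • 1) (hc0 : c ≠ 0) (hc : ∀ s : F, s ^ r ≠ c) (hr2 : r ≠ 2)
    (e : ∀ u v, h (T u) (T v) = h u v) : SForm.Step (hermSF hh) T ⊤ r r := by
  intro U hUi _ hU hD
  obtain ⟨π, hπ⟩ := fixed_pair hh
  haveI : Module.Finite ↥(fixed σ) F := Module.Finite.of_finite
  obtain ⟨φ, hφ⟩ := (Algebra.linearMap ↥(fixed σ) F).exists_leftInverse_of_injective
    (LinearMap.ker_eq_bot.2 fun a b e => Subtype.ext e)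
  have hodd : r % 2 = 1 := Nat.odd_iff.1 ((Fact.out : r.Prime).odd_of_ne_two hr2)
  have hr0 : 0 < r := (Fact.out : r.Prime).pos
  obtain ⟨v, hvU, hv0, hv⟩ := exists_herm_zero hh (κ := Unit ⊕ Fin ((r - 1) / 2) × Fin 2)
    (Sum.elim (fun _ => 1) fun k => T ^ ((k.1 : ℕ) + 1)) (Sum.elim (fun _ => φ) fun k => π k.2) U
    (by simp; omega)
  have hvv : h v v = 0 := by
    have h1 := hv (Sum.inl ())
    simp only [Sum.elim_inl, Module.End.one_apply] at h1
    have h2 := LinearMap.congr_fun hφ ⟨h v v, hh.self_fixed v⟩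
    simp only [LinearMap.comp_apply, Algebra.linearMap_apply, LinearMap.id_apply] at h2
    rw [show (algebraMap ↥(fixed σ) F) ⟨h v v, hh.self_fixed v⟩ = h v v from rfl, h1] at h2
    exact (congrArg Subtype.val h2).symm
  have hsmall : ∀ a, 1 ≤ a → a ≤ (r - 1) / 2 → h ((T ^ a) v) v = 0 := fun a h1 h2 => hπ _ fun l => by
    have := hv (Sum.inr (⟨a - 1, by omega⟩, l))
    simpa [show a - 1 + 1 = a by omega] using this
  have hall : ∀ a, a < r → h ((T ^ a) v) v = 0 := fun a h2 => by
    rcases Nat.eq_zero_or_pos a with rfl | ha0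
    · simpa using hvv
    by_cases hle : a ≤ (r - 1) / 2
    · exact hsmall a ha0 hle
    · have h3 := (hermSF_isom (hh := hh) e).pow a ((T ^ (r - a)) v) v
      rw [← Module.End.mul_apply, ← pow_add, show a + (r - a) = r by omega, hT, LinearMap.smul_apply,
        Module.End.one_apply, hermSF_B, hermSF_B, hsmall (r - a) (by omega) (by omega), hh.smul_left] at h3
      exact hh.eq_zero_comm.1 ((mul_eq_zero.1 h3).resolve_left hc0)
  have hkl : ∀ k l : ℕ, l ≤ k → k < r → h ((T ^ k) v) ((T ^ l) v) = 0 := fun k l hlk hk => by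
    have h1 := (hermSF_isom (hh := hh) e).pow l ((T ^ (k - l)) v) v
    rw [← Module.End.mul_apply, ← pow_add, Nat.add_sub_cancel' hlk, hermSF_B, hermSF_B] at h1
    rw [h1, hall _ (by omega)]
  have hpair : ∀ k l : Fin r, h ((T ^ (k : ℕ)) v) ((T ^ (l : ℕ)) v) = 0 := fun k l => by
    rcases le_total (l : ℕ) k with hle | hle
    · exact hkl k l hle k.2
    · exact hh.eq_zero_comm.1 (hkl l k hle l.2)
  have hmonic := Polynomial.monic_X_pow_sub_C c (Fact.out : r.Prime).ne_zero
  have hinv := inv_sup_cyc (T := T) (W := ⊥) (fun w hw => by simp_all) hmonic (v := v) (by simp [hT, Module.algebraMap_end_apply])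
  rw [bot_sup_eq, Polynomial.natDegree_X_pow_sub_C] at hinv
  refine ⟨cyc T v r, hinv, cyc_le hUi hvU r, hermSF_iso fun a ha b hb => ?_, ?_⟩
  · obtain ⟨x, rfl⟩ := (Submodule.mem_span_range_iff_exists_fun F).1 ha
    obtain ⟨y, rfl⟩ := (Submodule.mem_span_range_iff_exists_fun F).1 hb
    rw [hh.sum_left]
    refine Finset.sum_eq_zero fun k _ => ?_
    rw [hh.smul_left, ← hermSF_B (hh := hh), SForm.sum_right, Finset.sum_eq_zero fun l _ => by
      rw [(hermSF hh).smul_right, hermSF_B, hpair, mul_zero], mul_zero]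
  · obtain ⟨a, ha⟩ := dvd_finrank_nonpower hT hc0 hc hinv
    have hup := finrank_cyc_le T v r
    have hpos : 0 < finrank F (cyc T v r) :=
      Nat.pos_of_ne_zero fun h0 => hv0 (by simpa [Submodule.finrank_eq_zero.1 h0] using mem_cyc T v hr0)
    rcases a with _ | _ | a
    · rw [Nat.mul_zero] at ha; omega
    · simpa using ha
    · rw [Nat.mul_add, Nat.mul_one, Nat.mul_add, Nat.mul_one] at ha; omega

/-- No non-degenerate minimal subspace when the unitary groups of that size have order prime to `r`. -/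
lemma step_herm_odd (hne : σ ≠ RingHom.id F) (hσ : ∀ x, σ x = x ^ q) (hq : Nat.card (fixed σ) = q)
    (hqr : ¬ r ∣ q) (hT : T ^ r = 1) (hr : (r : F) ≠ 0) (e : ∀ u v, h (T u) (T v) = h u v)
    (hnc : ∀ j, 1 ≤ j → j ≤ orderOf (Fintype.card F : ZMod r) → (q : ZMod r) ^ j ≠ (-1) ^ j) :
    SForm.Step (hermSF hh) T (movedSpace T r) (orderOf (Fintype.card F : ZMod r)) 0 := by
  refine SForm.step_of_no_nd hT hr (hermSF_isom e) (fun _ _ _ _ _ _ => trivial) fun X hXi hXM hd hX => ?_
  have hinv := hh.invol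
  let hX' : X → X → F := fun a b => h a b
  have hhX : IsHerm σ hX' := ⟨hne, hinv, fun a b c => hh.add_left _ _ _, fun t a b => hh.smul_left _ _ _,
    fun a b => hh.symm _ _, fun a ha => Subtype.ext (hX a.1 a.2 fun v hv => ha ⟨v, hv⟩)⟩
  set b := orderOf (Fintype.card F : ZMod r)
  obtain ⟨ψ, hψ⟩ := UnitaryCount.exists_isometry hne hinv hσ hhX hd
  let S : Module.End F (Fin b → F) := ψ.symm.conj (T.restrict hXi)
  have hS : ∀ n y, ((ψ ((S ^ n) y) : X) : V) = (T ^ n) (ψ y : X) := by
    intro n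
    induction n with
    | zero => simp
    | succ n ih =>
      intro y
      rw [pow_succ', pow_succ', Module.End.mul_apply, Module.End.mul_apply, ← ih]
      generalize S ^ n = Sn
      simp [S, LinearEquiv.conj_apply]
      rfl
  have hSr : S ^ r = 1 := LinearMap.ext fun y => ψ.injective (Subtype.ext (by rw [hS, hT]; rfl))
  have hMdet : (LinearMap.toMatrix' S).det ≠ 0 := fun h0 => by
    have h1 := congrArg LinearMap.det hSr
    rw [map_pow, map_one, ← LinearMap.det_toMatrix', h0, zero_pow (Fact.out : r.Prime).ne_zero] at h1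
    exact zero_ne_one h1
  obtain ⟨g, hg⟩ : ∃ g, g = Matrix.GeneralLinearGroup.mkOfDetNeZero _ hMdet := ⟨_, rfl⟩
  have hgv : ∀ y, g.1.mulVec y = S y := fun y => by
    rw [hg]; exact (LinearMap.toMatrix'_mulVec S y)
  have hgGU : g ∈ Cfsg.GU b F q := fun u v => by
    show Cfsg.hermForm b F q (g.1.mulVec u) (g.1.mulVec v) = Cfsg.hermForm b F q u v
    rw [hgv, hgv, ← hψ, ← hψ]
    simp only [hX']
    have := hS 1
    simp only [pow_one] at this
    rw [this, this, e]
  have hgr : g ^ r = 1 := Units.ext (by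
    rw [Units.val_pow_eq_pow_val, Units.val_one, hg]
    show LinearMap.toMatrix' S ^ r = 1
    exact (map_pow LinearMap.toMatrixAlgEquiv' S r).symm.trans (by rw [hSr, map_one]))
  have hb0 : 0 < b := orderOf_card_pos hr
  have hg1 : g ≠ 1 := fun h1 => by
    have hbot : X ≠ ⊥ := fun h0 => by rw [h0, finrank_bot] at hd; omega
    obtain ⟨x, hx, hx0⟩ := Submodule.exists_mem_ne_zero_of_ne_bot hbot
    refine hx0 (eq_zero_of_fixed_moved hr (mem_fixedSpace.2 ?_) (hXM hx))
    obtain ⟨y, hy⟩ := ψ.surjective ⟨x, hx⟩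
    have h2 := hS 1 y
    rw [pow_one, pow_one, ← hgv, h1, hy] at h2
    simp only [Units.val_one, Matrix.one_mulVec, hy] at h2
    exact h2.symm
  have hdiv : r ∣ Nat.card (Cfsg.GU b F q) := by
    have := orderOf_dvd_natCard (⟨g, hgGU⟩ : Cfsg.GU b F q)
    rwa [← Subgroup.orderOf_coe, orderOf_eq_prime hgr hg1] at this
  rw [HermStd.card_GU hne hinv hσ b hq] at hdiv
  rcases (Fact.out : r.Prime).dvd_mul.1 hdiv with h1 | h1
  · exact hqr ((Fact.out : r.Prime).dvd_of_dvd_pow h1)
  · obtain ⟨j, hj, hjd⟩ := ((Fact.out : r.Prime).prime.dvd_finsetProd_iff _).1 h1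
    have hj' := Finset.mem_range.1 hj
    refine hnc (j + 1) (by omega) (by omega) ?_
    rw [← ZMod.natCast_eq_zero_iff] at hjd
    split_ifs at hjd with he
    · rw [(Even.add_one he).neg_one_pow]
      push_cast at hjd
      linear_combination hjd
    · rw [(Nat.not_even_iff_odd.1 he).add_one.neg_one_pow]
      have h1q : 1 ≤ q ^ (j + 1) := Nat.one_le_pow _ _ (hq ▸ Nat.card_pos)
      push_cast [Nat.cast_sub h1q] at hjd
      linear_combination hjd

end prime

/-- Powers dividing the number of totally isotropic subspaces. -/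
lemma dvd_count_herm [Fintype F] {r n m : ℕ} [Fact r.Prime] (hne : σ ≠ RingHom.id F) (hinv : ∀ a, σ (σ a) = a)
    (hσ : ∀ x, σ x = x ^ q) (hq : Nat.card (fixed σ) = q) (hm : 2 * m ≤ n)
    (hd : r ∣ Nat.card {W : Submodule F (Fin n → F) // Module.finrank F ↥W = m ∧
      (∀ u ∈ W, ∀ v ∈ W, Cfsg.hermForm n F q u v = 0)}) :
    ∃ j, n - 2 * m < j ∧ j ≤ n ∧ (q : ZMod r) ^ j = (-1) ^ j := by
  have h2 := UnitaryCount.card_GU_split hne hinv hσ hq m n hm
  rw [← UnitaryCount.card_sing_mul hne hinv hσ n m, card_eq_sq hne hinv, hq, HermStd.card_GU hne hinv hσ _ hq,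
    HermStd.card_GU hne hinv hσ _ hq, prod_pow_sub (q ^ 2) (le_refl m)] at h2
  have h0 := gprod_top (q ^ 2) (le_refl m)
  rw [Nat.sub_self, show gprod (q ^ 2) 0 = 1 from Finset.prod_range_zero _, one_mul] at h0
  rw [h0, Finset.prod_pow_eq_pow_sum, Finset.sum_range_id, ← pow_mul] at h2
  have hq2 : 2 ≤ q := hq ▸ Finite.one_lt_card
  set P : ℕ → ℕ := fun i => if Even i then q ^ (i + 1) + 1 else q ^ (i + 1) - 1
  have hsplit : ∏ i ∈ Finset.range n, P i =
      (∏ i ∈ Finset.range (n - 2 * m), P i) * ∏ i ∈ Finset.range (2 * m), P (n - 2 * m + i) := by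
    conv_lhs => rw [show n = n - 2 * m + 2 * m by omega, Finset.prod_range_add]
  have hP : ∀ i, 0 < P i := fun i => by
    simp only [P]
    split_ifs
    · omega
    · exact Nat.sub_pos_of_lt (Nat.one_lt_pow (by omega) hq2)
  have hexp : 2 * (m * (m - 1) / 2) + m * (2 * n - 3 * m) + (n - 2 * m) * (n - 2 * m - 1) / 2 = n * (n - 1) / 2 := by
    obtain ⟨e, rfl⟩ : ∃ e, n = 2 * m + e := ⟨n - 2 * m, by omega⟩
    rw [Nat.add_sub_cancel_left, show 2 * (2 * m + e) - 3 * m = m + 2 * e by omega]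
    obtain ⟨a, ha⟩ := Nat.even_mul_pred_self m
    obtain ⟨b, hb⟩ := Nat.even_mul_pred_self e
    obtain ⟨c, hc⟩ := Nat.even_mul_pred_self (2 * m + e)
    rw [ha, hb, hc]
    have h3 : c + c = a + a + (a + a) + (b + b) + 2 * (m * (m + 2 * e)) := by
      rw [← ha, ← hb, ← hc]
      rcases Nat.eq_zero_or_pos m with rfl | hm0
      · simp
      obtain ⟨m', rfl⟩ : ∃ m', m = m' + 1 := ⟨m - 1, by omega⟩
      rcases Nat.eq_zero_or_pos e with rfl | he0
      · simp only [Nat.add_sub_cancel, show 2 * (m' + 1) + 0 - 1 = 2 * m' + 1 by omega]; ring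
      obtain ⟨e', rfl⟩ : ∃ e', e = e' + 1 := ⟨e - 1, by omega⟩
      simp only [Nat.add_sub_cancel, show 2 * (m' + 1) + (e' + 1) - 1 = 2 * m' + e' + 2 by omega]; ring
    omega
  rw [hsplit, ← hexp] at h2
  have h3 : Nat.card (UnitaryCount.Sing F q n m) * gprod (q ^ 2) m = ∏ i ∈ Finset.range (2 * m), P (n - 2 * m + i) := by
    refine Nat.eq_of_mul_eq_mul_left (show 0 < q ^ (2 * (m * (m - 1) / 2) + m * (2 * n - 3 * m) + (n - 2 * m) * (n - 2 * m - 1) / 2) *
      ∏ i ∈ Finset.range (n - 2 * m), P i from Nat.mul_pos (pow_pos (by omega) _) (Finset.prod_pos fun i _ => hP i)) ?_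
    linear_combination -h2
  have h4 : r ∣ ∏ i ∈ Finset.range (2 * m), P (n - 2 * m + i) := h3 ▸ dvd_mul_of_dvd_left hd _
  obtain ⟨i, hi, hjd⟩ := ((Fact.out : r.Prime).prime.dvd_finsetProd_iff _).1 h4
  have hi' := Finset.mem_range.1 hi
  refine ⟨n - 2 * m + i + 1, by omega, by omega, ?_⟩
  rw [← ZMod.natCast_eq_zero_iff] at hjd
  simp only [P] at hjd
  split_ifs at hjd with he
  · rw [(Even.add_one he).neg_one_pow]
    push_cast at hjd
    linear_combination hjd
  · rw [(Nat.not_even_iff_odd.1 he).add_one.neg_one_pow]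
    have h1q : 1 ≤ q ^ (n - 2 * m + i + 1) := Nat.one_le_pow _ _ (by omega)
    push_cast [Nat.cast_sub h1q] at hjd
    linear_combination hjd

end Cfsg.Agent.Elusive
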