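import Cfsg.Agent.Lib.Elusive.HermIso
import Cfsg.Agent.Lib.LinearBlock.GURootClasses

/-!
Models of isometries of Hermitian spaces.
-/

set_option autoImplicit false
set_option linter.all false
set_option maxHeartbeats 800000

namespace Cfsg.Agent.Elusive

open Module Polynomial Hermitian

variable {F : Type*} [Field F] [Fintype F] {q n m r : ℕ} {σ : F →+* F}

/-- Every element of order `r` of the projective special unitary group fixes a totally isotropic `m`-space. -/
def SUTIFix (F : Type*) [Field F] (q n m r : ℕ) : Prop :=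
  ∀ x : Matrix.SpecialLinearGroup (Fin n) F, x ∈ Cfsg.SU n F q →
    (∃ z : F, ((x ^ r : Matrix.SpecialLinearGroup (Fin n) F) : Matrix (Fin n) (Fin n) F) = z • (1 : Matrix (Fin n) (Fin n) F)) →
    (∀ z : F, (x : Matrix (Fin n) (Fin n) F) ≠ z • (1 : Matrix (Fin n) (Fin n) F)) →
    ∃ W : Submodule F (Fin n → F), Module.finrank F ↥W = m ∧ (∀ u ∈ W, ∀ v ∈ W, Cfsg.hermForm n F q u v = 0) ∧
      W.map (Matrix.toLin' (x : Matrix (Fin n) (Fin n) F)) ≤ W

/-- Counterexamples from isometries. -/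
lemma not_suFix_of_isometry {V : Type*} [AddCommGroup V] [Module F V] [FiniteDimensional F V] {h : V → V → F}
    (hh : IsHerm σ h) (hσ : ∀ x, σ x = x ^ q) (hd : finrank F V = n) {T : Module.End F V} {z : F}
    (e : ∀ u v, h (T u) (T v) = h u v) (hz : T ^ r = z • 1) (hdet : LinearMap.det T = 1)
    (hns : ∀ a : F, T ≠ a • 1)
    (hno : ∀ W : Submodule F V, Inv T W → (∀ u ∈ W, ∀ v ∈ W, h u v = 0) → finrank F W = m → False) :
    ¬ SUTIFix F q n m r := by
  intro hall
  obtain ⟨ψ, hψ⟩ := UnitaryCount.exists_isometry hh.ne_id hh.invol hσ hh hd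
  let S : Module.End F (Fin n → F) := ψ.symm.conj T
  have hS : ∀ y, ψ (S y) = T (ψ y) := fun y => by simp [S, LinearEquiv.conj_apply]
  have hSp : ∀ k y, ψ ((S ^ k) y) = (T ^ k) (ψ y) := fun k => by
    induction k with
    | zero => simp
    | succ k ih => intro y; rw [pow_succ', pow_succ', Module.End.mul_apply, Module.End.mul_apply, hS, ih]
  have hSd : (LinearMap.toMatrix' S).det = 1 := by
    rw [LinearMap.det_toMatrix']
    exact (LinearMap.det_conj T ψ.symm).trans hdet
  let x : Matrix.SpecialLinearGroup (Fin n) F := ⟨LinearMap.toMatrix' S, hSd⟩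
  have hx : x ∈ Cfsg.SU n F q := fun u v => by
    show Cfsg.hermForm n F q ((LinearMap.toMatrix' S).mulVec u) ((LinearMap.toMatrix' S).mulVec v) = Cfsg.hermForm n F q u v
    rw [LinearMap.toMatrix'_mulVec, LinearMap.toMatrix'_mulVec, ← hψ, ← hψ, hS, hS, e]
  have hxr : S ^ r = z • 1 := LinearMap.ext fun y => ψ.injective (by
    rw [hSp, hz]; simp)
  obtain ⟨W, hWd, hWiso, hWi⟩ := hall x hx ⟨z, by
      show ((LinearMap.toMatrix' S) ^ r) = z • 1
      have h1 := (map_pow LinearMap.toMatrixAlgEquiv' S r).symm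
      rw [hxr, map_smul, map_one] at h1
      exact h1⟩
    (fun a ha => hns a (LinearMap.ext fun v => by
      obtain ⟨y, rfl⟩ := ψ.surjective v
      have h1 := congrArg Matrix.toLin' ha
      rw [show (x : Matrix (Fin n) (Fin n) F) = LinearMap.toMatrix' S from rfl, Matrix.toLin'_toMatrix', map_smul,
        Matrix.toLin'_one] at h1
      rw [← hS, h1]; simp))
  rw [inv_map_iff, show (x : Matrix (Fin n) (Fin n) F) = LinearMap.toMatrix' S from rfl, Matrix.toLin'_toMatrix'] at hWi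
  refine hno (W.comap ψ.symm.toLinearMap) (fun v hv => ?_) (fun u hu v hv => ?_) ?_
  · show ψ.symm (T v) ∈ W
    have h1 := hS (ψ.symm v)
    rw [ψ.apply_symm_apply] at h1
    rw [← h1, ψ.symm_apply_apply]
    exact hWi _ hv
  · rw [← ψ.apply_symm_apply u, ← ψ.apply_symm_apply v, hψ]
    exact hWiso _ hu _ hv
  · rw [← hWd]
    exact LinearEquiv.finrank_eq (LinearEquiv.ofSubmodule' ψ.symm W)

section model
variable {κ : Type*} [Fintype κ] {f h : ℕ}

/-- The model space: a fixed part and blocks. -/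
abbrev HMdl (F : Type*) (f h : ℕ) (κ : Type*) := (Fin f → F) × (κ → Fin h → F)

/-- The model form. -/
def hmForm (q : ℕ) (u v : HMdl F f h κ) : F :=
  Cfsg.hermForm f F q u.1 v.1 + ∑ k, Cfsg.hermForm h F q (u.2 k) (v.2 k)

lemma hmForm_herm (hne : σ ≠ RingHom.id F) (hinv : ∀ a, σ (σ a) = a) (hσ : ∀ x, σ x = x ^ q) :
    IsHerm σ (hmForm (F := F) (κ := κ) (f := f) (h := h) q) := by
  classical
  have hs := fun k => HermStd.isHerm_std hne hinv hσ k
  refine ⟨hne, hinv, fun a b c => ?_, fun t a b => ?_, fun a b => ?_, fun a ha => ?_⟩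
  · simp only [hmForm, Prod.fst_add, Prod.snd_add, Pi.add_apply, (hs _).add_left, Finset.sum_add_distrib]
    abel
  · simp only [hmForm, Prod.smul_fst, Prod.smul_snd, Pi.smul_apply, (hs _).smul_left, mul_add, Finset.mul_sum]
  · simp only [hmForm, map_add, map_sum, ← (hs _).symm]
  · refine Prod.ext ((hs f).nondeg _ fun y => ?_) (funext fun k => (hs h).nondeg _ fun y => ?_)
    · simpa [hmForm, (hs h).zero_right] using ha (y, 0)
    · have := ha (0, Pi.single k y)
      rw [hmForm, Finset.sum_eq_single k (fun l _ hl => by simp [hl, (hs h).zero_right]) (by simp)] at this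
      simpa [(hs f).zero_right] using this

lemma finrank_hmdl : finrank F (HMdl F f h κ) = f + Fintype.card κ * h := by
  simp [Module.finrank_pi_fintype]

/-- The model map. -/
noncomputable def hmMap (A : κ → Matrix (Fin h) (Fin h) F) : Module.End F (HMdl F f h κ) :=
  LinearMap.prodMap LinearMap.id (LinearMap.pi fun k => (Matrix.toLin' (A k)).comp (LinearMap.proj k))

variable {A : κ → Matrix (Fin h) (Fin h) F}

omit [Fintype κ] [Fintype F] in
lemma hmMap_apply (w : HMdl F f h κ) : hmMap A w = (w.1, fun k => Matrix.toLin' (A k) (w.2 k)) := rfl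

omit [Fintype κ] [Fintype F] in
lemma hmMap_pow (j : ℕ) (w : HMdl F f h κ) :
    (hmMap A ^ j) w = (w.1, fun k => (Matrix.toLin' (A k) ^ j) (w.2 k)) := by
  induction j with
  | zero => simp
  | succ j ih => rw [pow_succ', Module.End.mul_apply, ih, hmMap_apply]; simp [pow_succ', Module.End.mul_apply]

omit [Fintype κ] [Fintype F] in
lemma hmMap_aeval (P : F[X]) (w : HMdl F f h κ) :
    aeval (hmMap A) P w = (P.eval 1 • w.1, fun k => aeval (Matrix.toLin' (A k)) P (w.2 k)) := by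
  induction P using Polynomial.induction_on' with
  | add P Q hP hQ =>
    rw [map_add, LinearMap.add_apply, hP, hQ, Prod.mk_add_mk, eval_add, add_smul]
    refine Prod.ext rfl (funext fun k => ?_)
    simp [map_add]
  | monomial n c =>
    rw [aeval_monomial, Module.End.mul_apply, Module.algebraMap_end_apply, hmMap_pow, Prod.smul_mk, eval_monomial,
      one_pow, mul_one]
    refine Prod.ext rfl (funext fun k => ?_)
    simp [aeval_monomial, Module.End.mul_apply, Module.algebraMap_end_apply]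

lemma hmMap_isometry (hA : ∀ k u v, Cfsg.hermForm h F q (Matrix.toLin' (A k) u) (Matrix.toLin' (A k) v) = Cfsg.hermForm h F q u v)
    (u v : HMdl F f h κ) : hmForm q (hmMap A u) (hmMap A v) = hmForm q u v := by
  simp only [hmForm, hmMap_apply, hA]

omit [Fintype κ] [Fintype F] in
lemma hmMap_pow_eq_one (hAr : ∀ k, A k ^ r = 1) : hmMap (f := f) A ^ r = 1 :=
  LinearMap.ext fun w => by
    rw [hmMap_pow, Module.End.one_apply]
    refine Prod.ext rfl (funext fun k => ?_)
    show (Matrix.toLin' (A k) ^ r) (w.2 k) = w.2 k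
    rw [← Matrix.toLin'_pow, hAr, Matrix.toLin'_one, LinearMap.id_apply]

omit [Fintype F] in
lemma det_hmMap : LinearMap.det (hmMap (f := f) A) = ∏ k, (A k).det := by
  rw [hmMap, LinearMap.det_prodMap, LinearMap.det_id, one_mul, LinearMap.det_pi]
  simp

omit [Fintype κ] [Fintype F] in
lemma fixed_hblock {B : Matrix (Fin h) (Fin h) F} (hB : (B - 1).det ≠ 0) {y : Fin h → F}
    (hy : Matrix.toLin' B y = y) : y = 0 := by
  by_contra hy0
  refine hB (Matrix.exists_mulVec_eq_zero_iff.1 ⟨y, hy0, ?_⟩)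
  rw [Matrix.sub_mulVec, Matrix.one_mulVec, ← Matrix.toLin'_apply, hy, sub_self]

omit [Fintype F] in
lemma finrank_hfixed (hA1 : ∀ k, (A k - 1).det ≠ 0) : finrank F (fixedSpace (hmMap (f := f) A)) = f := by
  have e : fixedSpace (hmMap (f := f) A) = LinearMap.range (LinearMap.inl F (Fin f → F) (κ → Fin h → F)) := by
    ext w
    rw [mem_fixedSpace, hmMap_apply, LinearMap.mem_range]
    constructor
    · intro hw
      refine ⟨w.1, Prod.ext rfl (funext fun k => ?_)⟩
      exact (fixed_hblock (hA1 k) (congrFun (congrArg Prod.snd hw) k)).symm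
    · rintro ⟨y, rfl⟩
      refine Prod.ext rfl (funext fun k => ?_)
      simp
  rw [e, LinearMap.finrank_range_of_inj LinearMap.inl_injective]
  simp

omit [Fintype κ] [Fintype F] in
lemma hmoved_fst (hr : (r : F) ≠ 0) {w : HMdl F f h κ} (hw : w ∈ movedSpace (hmMap A) r) : w.1 = 0 := by
  rw [movedSpace, LinearMap.mem_ker, LinearMap.sum_apply] at hw
  have h1 := congrArg Prod.fst hw
  simp only [hmMap_pow, Prod.fst_sum, Finset.sum_const, Finset.card_range, Prod.fst_zero,
    ← Nat.cast_smul_eq_nsmul F] at h1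
  exact (smul_eq_zero.1 h1).resolve_left hr

/-- Counterexamples from models. -/
lemma not_suFix_of_model [Fact r.Prime] (hne : σ ≠ RingHom.id F) (hinv : ∀ a, σ (σ a) = a) (hσ : ∀ x, σ x = x ^ q)
    (hr : (r : F) ≠ 0) (hn : n = f + Fintype.card κ * h) (hκ : 0 < Fintype.card κ) (hh0 : 0 < h)
    (hA : ∀ k u v, Cfsg.hermForm h F q (Matrix.toLin' (A k) u) (Matrix.toLin' (A k) v) = Cfsg.hermForm h F q u v)
    (hAr : ∀ k, A k ^ r = 1) (hA1 : ∀ k, (A k - 1).det ≠ 0)
    (hne2 : 0 < f ∨ ∀ a : F, (∀ k, A k = a • 1) → False)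
    (hdet : ∏ k, (A k).det = 1)
    (hno : ∀ W : Submodule F (HMdl F f h κ), Inv (hmMap A) W → (∀ u ∈ W, ∀ v ∈ W, hmForm q u v = 0) →
      finrank F W = m → ∀ c j : ℕ, finrank F W = c + j → 2 * c ≤ f →
        finrank F (W ⊓ movedSpace (hmMap A) r : Submodule F (HMdl F f h κ)) = j → False) :
    ¬ SUTIFix F q n m r := by
  classical
  have hH := hmForm_herm (F := F) (κ := κ) (f := f) (h := h) hne hinv hσ
  refine not_suFix_of_isometry hH hσ (finrank_hmdl.trans hn.symm) (z := 1) (hmMap_isometry hA)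
    (by rw [one_smul, hmMap_pow_eq_one hAr]) (det_hmMap.trans hdet) (fun a ha => ?_) fun W hWi hWiso hWd => ?_
  · have hk : ∀ k, A k = a • 1 := fun k => Matrix.toLin'.injective (LinearMap.ext fun y => by
      have h1 := congrFun (congrArg Prod.snd (LinearMap.congr_fun ha (0, Pi.single k y))) k
      simpa [hmMap_apply] using h1)
    rcases hne2 with hf | hkl
    · have h1 := congrFun (congrArg Prod.fst (LinearMap.congr_fun ha (Pi.single ⟨0, hf⟩ 1, 0))) ⟨0, hf⟩
      simp [hmMap_apply] at h1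
      obtain ⟨k⟩ := Fintype.card_pos_iff.1 hκ
      refine hA1 k ?_
      haveI : Nonempty (Fin h) := ⟨⟨0, hh0⟩⟩
      rw [hk k, ← h1, one_smul, sub_self, Matrix.det_zero]
    · exact hkl a hk
  · obtain ⟨h1, h2, -⟩ := SForm.iso_parts (Φ := hermSF hH) (hmMap_pow_eq_one hAr) hr
      (hermSF_isom (hmMap_isometry hA)) hWi (hermSF_iso hWiso)
    rw [finrank_hfixed hA1] at h2
    exact hno W hWi hWiso hWd _ _ h1 h2 rfl

end model

/-- Blocks of order prime to the group of norm-one scalars. -/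
lemma coprime_block [Fact r.Prime] (hσ : ∀ x, σ x = x ^ q) (hcop : ¬ r ∣ q + 1) {h : ℕ}
    {A : Matrix (Fin h) (Fin h) F}
    (hA : ∀ u v, Cfsg.hermForm h F q (Matrix.toLin' A u) (Matrix.toLin' A v) = Cfsg.hermForm h F q u v)
    (hAr : A ^ r = 1) : A.det = 1 ∧ ∀ a : F, 0 < h → A = a • 1 → a = 1 := by
  have hrp : r.Prime := Fact.out
  have hone : ∀ d : F, d ^ r = 1 → d ^ (q + 1) = 1 → d = 1 := fun d h1 h2 => by
    have := pow_gcd_eq_one.2 ⟨h1, h2⟩
    rwa [show r.gcd (q + 1) = 1 from hrp.coprime_iff_not_dvd.2 hcop, pow_one] at this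
  refine ⟨?_, fun a hh0 ha => ?_⟩
  · have hd : A.det ^ r = 1 := by rw [← Matrix.det_pow, hAr, Matrix.det_one]
    have hd0 : A.det ≠ 0 := fun h0 => by rw [h0, zero_pow hrp.ne_zero] at hd; exact zero_ne_one hd
    have h1 : A.det * σ A.det = 1 := HermSU.det_mem_normOne hσ (g := Matrix.GeneralLinearGroup.mkOfDetNeZero A hd0) (fun u v => hA u v)
    exact hone _ hd (by rw [pow_succ', ← hσ]; exact h1)
  · haveI : Nonempty (Fin h) := ⟨⟨0, hh0⟩⟩
    refine hone _ ?_ ?_
    · rw [ha, _root_.smul_pow, one_pow] at hAr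
      have h1 := congrFun (congrFun hAr ⟨0, hh0⟩) ⟨0, hh0⟩
      simpa using h1
    · have h1 := hA (Pi.single ⟨0, hh0⟩ 1) (Pi.single ⟨0, hh0⟩ 1)
      rw [ha, map_smul, Matrix.toLin'_one, LinearMap.smul_apply, LinearMap.id_apply] at h1
      simp only [Cfsg.hermForm, Pi.smul_apply, smul_eq_mul] at h1
      rw [Finset.sum_eq_single (⟨0, hh0⟩ : Fin h) (fun k _ hk => by simp [Pi.single_eq_of_ne hk]) (by simp),
        Finset.sum_eq_single (⟨0, hh0⟩ : Fin h) (fun k _ hk => by simp [Pi.single_eq_of_ne hk]) (by simp)] at h1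
      simpa [← pow_succ'] using h1

open LBRootPoly LBRootTwist in
/-- A unitary block with a given self-reciprocal characteristic polynomial. -/
lemma exists_hblock [DecidableEq F] (p : ℕ) [Fact p.Prime] [CharP F p] (hne : σ ≠ RingHom.id F)
    (hinv : ∀ a, σ (σ a) = a) (hσ : ∀ x, σ x = x ^ q) [Fact r.Prime] (hr : (r : F) ≠ 0) {g : F[X]} {h : ℕ}
    (hg : Good r g) (hdeg : g.natDegree = h) (hfix : rc σ g = g) :
    ∃ A : Matrix (Fin h) (Fin h) F,
      (∀ u v, Cfsg.hermForm h F q (Matrix.toLin' A u) (Matrix.toLin' A v) = Cfsg.hermForm h F q u v) ∧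
      A ^ r = 1 ∧ A.det = (-1) ^ h * g.coeff 0 ∧ A.charpoly = g ∧ aeval (Matrix.toLin' A) g = 0 ∧
      (¬ g.IsRoot 1 → (A - 1).det ≠ 0) := by
  classical
  have hrp : r.Prime := Fact.out
  obtain ⟨σe, hσe⟩ : ∃ τ : F ≃+* F, ∀ x, τ x = σ x := ⟨sEquiv hinv, sEquiv_apply hinv⟩
  obtain ⟨μ, hμ⟩ : ∃ μ, σe μ ≠ μ := by
    by_contra hc; push Not at hc; exact hne (RingHom.ext fun x => (hσe x).symm.trans (hc x))
  have hσ2 : orderOf σe = 2 := by
    haveI : Fact (Nat.Prime 2) := ⟨Nat.prime_two⟩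
    refine orderOf_eq_prime (RingEquiv.ext fun x => ?_) fun hc => hμ ?_
    · rw [sq]; show σe (σe x) = x; rw [hσe, hσe, hinv]
    · rw [hc]; rfl
  have hne0 := coeff_zero_ne hrp.ne_zero hg
  have hsym := (rc_fix_iff σ hinv hg.1 hne0 hdeg).1 hfix
  obtain ⟨M, hM, hMf⟩ := UnitaryClasses.exists_charpoly_eq σe hσ2 hμ hg.1 hdeg hne0 fun i hi' => by rw [hsym i hi', hσe]
  obtain ⟨B0, hB0, hBM⟩ : ∃ B ∈ Cfsg.GU h F q, (B : GL (Fin h) F).1 = M := by
    refine ⟨⟨M, UnitarySpectra.adj σe M, mul_eq_one_comm.1 hM, hM⟩, ?_, rfl⟩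
    rw [HermSU.mem_GU_iff hσ]
    have e : M.map σ = M.map σe := by ext s t; exact (hσe _).symm
    show Matrix.transpose M * M.map σ = 1
    rw [e, ← Matrix.transpose_inj, Matrix.transpose_mul, Matrix.transpose_transpose, Matrix.transpose_one]
    exact hM
  obtain ⟨e, he⟩ := SemisimpleCl.exists_coprime_pow (F := F) p B0
  obtain ⟨B, hB⟩ : ∃ B, B = B0 ^ Fintype.card F ^ e := ⟨_, rfl⟩
  rw [← hB] at he
  have hk : ∀ k, (M ^ Fintype.card F ^ k).charpoly = M.charpoly := by
    intro k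
    induction k with
    | zero => simp
    | succ k ih => rw [pow_succ, pow_mul, FiniteField.Matrix.charpoly_pow_card, ih]
  have hBc : B.1.charpoly = g := by rw [hB, Units.val_pow_eq_pow_val, hBM, hk, hMf]
  have hBr : B.1 ^ r = 1 := LBRootPoly.pow_eq_one p (by rw [← Units.val_pow_eq_pow_val, pow_orderOf_eq_one]; rfl) he (hBc.symm ▸ hg) hrp.ne_zero
  refine ⟨B.1, fun u v => (hB ▸ pow_mem hB0 _ : B ∈ Cfsg.GU h F q) u v, hBr, ?_, hBc, ?_, fun hroot => ?_⟩
  · rw [Matrix.det_eq_sign_charpoly_coeff, hBc, Fintype.card_fin]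
  · show aeval ((Matrix.toLinAlgEquiv' : Matrix (Fin h) (Fin h) F ≃ₐ[F] _).toAlgHom B.1) g = 0
    rw [Polynomial.aeval_algHom_apply, ← hBc, Matrix.aeval_self_charpoly, map_zero]
  · rw [← neg_sub, Matrix.det_neg]
    refine mul_ne_zero (pow_ne_zero _ (neg_ne_zero.2 one_ne_zero)) ?_
    have h1 : ¬ (B.1 : Matrix _ _ F).charpoly.eval 1 = 0 := hBc.symm ▸ hroot
    rwa [Matrix.eval_charpoly, map_one] at h1

end Cfsg.Agent.Elusive
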