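import Cfsg.Agent.Lib.Elusive.FormNd
import Cfsg.Agent.Lib.Elusive.HermIso

/-!
Non-degenerate invariant subspaces of semisimple isometries of Hermitian spaces.
-/

set_option autoImplicit false
set_option linter.all false
set_option maxHeartbeats 1600000

namespace Cfsg.Agent.Elusive

namespace SForm

open Module

variable {F : Type*} [Field F] {σ : F ≃+* F} {V : Type*} [AddCommGroup V] [Module F V] [FiniteDimensional F V]
  {Φ : SForm σ V} {T : Module.End F V}

/-- With blocks everywhere, dimensions are multiples of the block size. -/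
lemma dvd_of_block (hI : Φ.Isom T) {c : ℕ} (hc : 0 < c) (S : Submodule F V)
    (hblock : ∀ U, Inv T U → U ≤ S → Φ.ND U → U ≠ ⊥ → ∃ X, Inv T X ∧ X ≤ U ∧ Φ.ND X ∧ finrank F X = c)
    {U : Submodule F V} (hUi : Inv T U) (hUS : U ≤ S) (hU : Φ.ND U) : c ∣ finrank F U := by
  obtain ⟨n, hn⟩ : ∃ n, n = finrank F U := ⟨_, rfl⟩
  induction n using Nat.strong_induction_on generalizing U with
  | _ n ih =>
    by_cases hne : U = ⊥
    · rw [hne, finrank_bot]; exact dvd_zero c
    obtain ⟨X, hXi, hXU, hX, hXd⟩ := hblock U hUi hUS hU hne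
    obtain ⟨hY, -, -, hYd⟩ := nd_compl hU hX hXU
    have h1 := ih _ (show finrank F (Φ.perp X ⊓ U : Submodule F V) < n by omega) (inv_compl_perp hI hUi hXi)
      (inf_le_right.trans hUS) hY rfl
    rw [← hYd, hXd]
    exact dvd_add dvd_rfl h1

end SForm

open Module Polynomial Hermitian

variable {F : Type*} [Field F] [Fintype F] {σ : F →+* F} {q : ℕ} {V : Type*} [AddCommGroup V] [Module F V]
  [FiniteDimensional F V] {h : V → V → F} {hh : IsHerm σ h} {T : Module.End F V}

/-- An anisotropic vector in a non-degenerate subspace. -/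
lemma exists_aniso_in {U : Submodule F V} (hU : (hermSF hh).ND U) (hne : U ≠ ⊥) : ∃ v ∈ U, h v v ≠ 0 := by
  have hhU : IsHerm σ (fun a b : U => h a b) := ⟨hh.ne_id, hh.invol, fun a b c => hh.add_left _ _ _,
    fun t a b => hh.smul_left _ _ _, fun a b => hh.symm _ _, fun a ha => Subtype.ext (hU a.1 a.2 fun v hv => ha ⟨v, hv⟩)⟩
  obtain ⟨u, hu, hu0⟩ := Submodule.exists_mem_ne_zero_of_ne_bot hne
  haveI : Nontrivial U := ⟨⟨⟨u, hu⟩, 0, fun e => hu0 (congrArg Subtype.val e)⟩⟩
  obtain ⟨v, hv⟩ := hhU.exists_anisotropic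
  exact ⟨v.1, v.2, hv⟩

/-- Non-degenerate subspaces of every dimension. -/
lemma exists_nd_any {U : Submodule F V} (hU : (hermSF hh).ND U) {e : ℕ} (he : e ≤ finrank F U) :
    ∃ W ≤ U, (hermSF hh).ND W ∧ finrank F W = e := by
  have hI : (hermSF hh).Isom (1 : Module.End F V) := hermSF_isom fun u v => rfl
  obtain ⟨W, -, hW, hWnd, hWd⟩ := SForm.exists_nd_climb hI (c := 1) U (fun S hSi hSU hS hSd => by
    obtain ⟨v, hv, hv0⟩ := exists_aniso_in hS (fun e => by rw [e, finrank_bot] at hSd; omega)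
    refine ⟨Submodule.span F {v}, fun w hw => hw, (Submodule.span_singleton_le_iff_mem _ _).2 hv, fun u hu hz => ?_,
      finrank_span_singleton fun e => hv0 (by rw [e, hh.zero_left])⟩
    obtain ⟨a, rfl⟩ := Submodule.mem_span_singleton.1 hu
    have h1 := hz v (Submodule.mem_span_singleton_self v)
    rw [hermSF_B, hh.smul_left] at h1
    rw [(mul_eq_zero.1 h1).resolve_right hv0, zero_smul]) e U (fun w hw => hw) le_rfl hU (by rwa [one_mul])
  exact ⟨W, hW, hWnd, hWd.trans (one_mul e)⟩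

section prime

variable {r : ℕ} [Fact r.Prime]

/-- No non-degenerate minimal subspace when the unitary groups of that size have order prime to `r`. -/
lemma no_nd_minimal (hne : σ ≠ RingHom.id F) (hσ : ∀ x, σ x = x ^ q) (hq : Nat.card (fixed σ) = q)
    (hqr : ¬ r ∣ q) (hT : T ^ r = 1) (hr : (r : F) ≠ 0) (e : ∀ u v, h (T u) (T v) = h u v)
    (hnc : ∀ j, 1 ≤ j → j ≤ orderOf (Fintype.card F : ZMod r) → (q : ZMod r) ^ j ≠ (-1) ^ j)
    (X : Submodule F V) (hXi : Inv T X) (hXM : X ≤ movedSpace T r)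
    (hd : finrank F X = orderOf (Fintype.card F : ZMod r)) : ¬ (hermSF hh).ND X := by
  intro hX
  have hinv := hh.invol
  let hX' : X → X → F := fun a b => h a b
  have hhX : IsHerm σ hX' := ⟨hne, hinv, fun a b c => hh.add_left _ _ _, fun t a b => hh.smul_left _ _ _,
    fun a b => hh.symm _ _, fun a ha => Subtype.ext (hX a.1 a.2 fun v hv => ha ⟨v, hv⟩)⟩
  set b := orderOf (Fintype.card F : ZMod r)
  obtain ⟨ψ, hψ⟩ := UnitaryCount.exists_isometry hne hinv hσ hhX hd
  let S : Module.End F (Fin b → F) := ψ.symm.conj (T.restrict hXi)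
  have hS : ∀ n y, ((ψ ((S ^ n) y) : X) : V) = (T ^ n) (ψ y : X) := by
    intro n
    induction n with
    | zero => simp
    | succ n ih =>
      intro y
      rw [pow_succ', pow_succ', Module.End.mul_apply, Module.End.mul_apply, ← ih]
      generalize S ^ n = Sn
      simp [S, LinearEquiv.conj_apply]
      rfl
  have hSr : S ^ r = 1 := LinearMap.ext fun y => ψ.injective (Subtype.ext (by rw [hS, hT]; rfl))
  have hMdet : (LinearMap.toMatrix' S).det ≠ 0 := fun h0 => by
    have h1 := congrArg LinearMap.det hSr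
    rw [map_pow, map_one, ← LinearMap.det_toMatrix', h0, zero_pow (Fact.out : r.Prime).ne_zero] at h1
    exact zero_ne_one h1
  obtain ⟨g, hg⟩ : ∃ g, g = Matrix.GeneralLinearGroup.mkOfDetNeZero _ hMdet := ⟨_, rfl⟩
  have hgv : ∀ y, g.1.mulVec y = S y := fun y => by
    rw [hg]; exact (LinearMap.toMatrix'_mulVec S y)
  have hgGU : g ∈ Cfsg.GU b F q := fun u v => by
    show Cfsg.hermForm b F q (g.1.mulVec u) (g.1.mulVec v) = Cfsg.hermForm b F q u v
    rw [hgv, hgv, ← hψ, ← hψ]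
    simp only [hX']
    have := hS 1
    simp only [pow_one] at this
    rw [this, this, e]
  have hgr : g ^ r = 1 := Units.ext (by
    rw [Units.val_pow_eq_pow_val, Units.val_one, hg]
    show LinearMap.toMatrix' S ^ r = 1
    exact (map_pow LinearMap.toMatrixAlgEquiv' S r).symm.trans (by rw [hSr, map_one]))
  have hb0 : 0 < b := orderOf_card_pos hr
  have hg1 : g ≠ 1 := fun h1 => by
    have hbot : X ≠ ⊥ := fun h0 => by rw [h0, finrank_bot] at hd; omega
    obtain ⟨x, hx, hx0⟩ := Submodule.exists_mem_ne_zero_of_ne_bot hbot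
    refine hx0 (eq_zero_of_fixed_moved hr (mem_fixedSpace.2 ?_) (hXM hx))
    obtain ⟨y, hy⟩ := ψ.surjective ⟨x, hx⟩
    have h2 := hS 1 y
    rw [pow_one, pow_one, ← hgv, h1, hy] at h2
    simp only [Units.val_one, Matrix.one_mulVec, hy] at h2
    exact h2.symm
  have hdiv : r ∣ Nat.card (Cfsg.GU b F q) := by
    have := orderOf_dvd_natCard (⟨g, hgGU⟩ : Cfsg.GU b F q)
    rwa [← Subgroup.orderOf_coe, orderOf_eq_prime hgr hg1] at this
  rw [HermStd.card_GU hne hinv hσ b hq] at hdiv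
  rcases (Fact.out : r.Prime).dvd_mul.1 hdiv with h1 | h1
  · exact hqr ((Fact.out : r.Prime).dvd_of_dvd_pow h1)
  · obtain ⟨j, hj, hjd⟩ := ((Fact.out : r.Prime).prime.dvd_finsetProd_iff _).1 h1
    have hj' := Finset.mem_range.1 hj
    refine hnc (j + 1) (by omega) (by omega) ?_
    rw [← ZMod.natCast_eq_zero_iff] at hjd
    split_ifs at hjd with he
    · rw [(Even.add_one he).neg_one_pow]
      push_cast at hjd
      linear_combination hjd
    · rw [(Nat.not_even_iff_odd.1 he).add_one.neg_one_pow]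
      have h1q : 1 ≤ q ^ (j + 1) := Nat.one_le_pow _ _ (hq ▸ Nat.card_pos)
      push_cast [Nat.cast_sub h1q] at hjd
      linear_combination hjd

/-- Blocks made of two totally isotropic halves. -/
lemma exists_block_pair (hne : σ ≠ RingHom.id F) (hσ : ∀ x, σ x = x ^ q) (hq : Nat.card (fixed σ) = q)
    (hqr : ¬ r ∣ q) (hT : T ^ r = 1) (hr : (r : F) ≠ 0) (e : ∀ u v, h (T u) (T v) = h u v)
    (hnc : ∀ j, 1 ≤ j → j ≤ orderOf (Fintype.card F : ZMod r) → (q : ZMod r) ^ j ≠ (-1) ^ j)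
    {U : Submodule F V} (hUi : Inv T U) (hUM : U ≤ movedSpace T r) (hU : (hermSF hh).ND U) (hne' : U ≠ ⊥) :
    ∃ X, Inv T X ∧ X ≤ U ∧ (hermSF hh).ND X ∧ finrank F X = 2 * orderOf (Fintype.card F : ZMod r) := by
  have hI := hermSF_isom (hh := hh) e
  obtain ⟨X, hXi, hXU, hXd⟩ := SForm.exists_minimal hT hr hUi hUM hne'
  rcases SForm.minimal_dichotomy hT hr hI hXi (hXU.trans hUM) hXd with h1 | h1
  · exact absurd h1 (no_nd_minimal hne hσ hq hqr hT hr e hnc X hXi (hXU.trans hUM) hXd)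
  · obtain ⟨Y, hYi, hYU, hY, hYd⟩ :=
      SForm.exists_pair (c := 1) (by rw [hT, one_smul]) one_ne_zero hr hI hU hUi hXi hXU h1
    exact ⟨Y, hYi, hYU, hY, by rw [hYd, hXd]⟩

include hh in
/-- Moving a polynomial to the other argument. -/
lemma adjoint_herm (hT : T ^ r = 1) (e : ∀ u v, h (T u) (T v) = h u v) (P : F[X]) :
    ∀ u v, h u (aeval T P v) = h (aeval (T ^ (r - 1)) (P.map σ) u) v := by
  have hr1 : 1 ≤ r := (Fact.out : r.Prime).one_lt.le
  have hI := hermSF_isom (hh := hh) e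
  have h1 : ∀ k u v, h u ((T ^ k) v) = h (((T ^ (r - 1)) ^ k) u) v := fun k u v => by
    conv_rhs => rw [← hermSF_B (hh := hh), ← hI.pow k, ← Module.End.mul_apply, ← pow_mul, ← pow_add,
      show k + (r - 1) * k = r * k by rw [add_comm, ← Nat.succ_mul, Nat.succ_eq_add_one, Nat.sub_add_cancel hr1],
      pow_mul, hT, one_pow, Module.End.one_apply, hermSF_B]
  induction P using Polynomial.induction_on' with
  | add a b ha hb =>
    intro u v
    simp only [Polynomial.map_add, map_add, LinearMap.add_apply, hh.add_right, hh.add_left, ha, hb]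
  | monomial n c =>
    intro u v
    rw [Polynomial.map_monomial, aeval_monomial, aeval_monomial, Module.End.mul_apply, Module.End.mul_apply,
      Module.algebraMap_end_apply, Module.algebraMap_end_apply, hh.smul_right, hh.smul_left, h1]

/-- Blocks that are minimal subspaces. -/
lemma exists_block_self (p : ℕ) [Fact p.Prime] [CharP F p] (hT : T ^ r = 1) (hr : (r : F) ≠ 0)
    (e : ∀ u v, h (T u) (T v) = h u v) {k : ℕ} (hσk : ∀ x, σ x = x ^ (p ^ k)) (hneg : ((p ^ k : ℕ) : ZMod r) = -1)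
    {U : Submodule F V} (hUi : Inv T U) (hUM : U ≤ movedSpace T r) (hU : (hermSF hh).ND U) (hne' : U ≠ ⊥) :
    ∃ X, Inv T X ∧ X ≤ U ∧ (hermSF hh).ND X ∧ finrank F X = orderOf (Fintype.card F : ZMod r) := by
  have hP : r.Prime := Fact.out
  have hI := hermSF_isom (hh := hh) e
  have hi0 := orderOf_card_pos (F := F) (r := r) hr
  by_contra hno
  have hmin : ∀ X, Inv T X → X ≤ U → finrank F X = orderOf (Fintype.card F : ZMod r) → ∀ u ∈ X, ∀ v ∈ X, h u v = 0 :=
    fun X hXi hXU hXd => (SForm.minimal_dichotomy hT hr hI hXi (hXU.trans hUM) hXd).resolve_left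
      fun h1 => hno ⟨X, hXi, hXU, h1, hXd⟩
  obtain ⟨u, hu, hu0⟩ := Submodule.exists_mem_ne_zero_of_ne_bot hne'
  have hne'' : (Polynomial.X ^ r - 1 : Polynomial F) ≠ 0 :=
    (Polynomial.monic_X_pow_sub_C (1 : F) hP.ne_zero).ne_zero
  obtain ⟨g, hgm, hgi, hgd, v₀, hv₀U, hv₀, hgv₀⟩ := exists_irreducible_vec (W := ⊥) hUi _ hne'' u hu
    (by rwa [Submodule.mem_bot]) (by simp [hT])
  have hdvd : r ∣ Fintype.card F ^ orderOf (Fintype.card F : ZMod r) - 1 := by
    rw [← ZMod.natCast_eq_zero_iff, Nat.cast_sub (Nat.one_le_pow _ _ Fintype.card_pos), Nat.cast_pow,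
      pow_orderOf_eq_one, Nat.cast_one, sub_self]
  obtain ⟨K, hK⟩ : ∃ K, K = LinearMap.ker (aeval T g) ⊓ U := ⟨_, rfl⟩
  have hcomm : ∀ (P : F[X]) w, aeval T P (T w) = T (aeval T P w) := fun P w => by
    rw [← Module.End.mul_apply, ← Module.End.mul_apply]
    exact LinearMap.congr_fun (by simpa only [map_mul, aeval_X] using congrArg (aeval T) (mul_comm P (X : F[X]))) w
  have hTm : T ^ (r - 1) = T ^ p ^ k := by
    have hk : ∀ a, T ^ a = T ^ (a % r) := fun a => by
      conv_lhs => rw [← Nat.mod_add_div a r, pow_add, pow_mul, hT, one_pow, mul_one]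
    rw [hk (r - 1), hk (p ^ k), ((ZMod.natCast_eq_natCast_iff' _ _ _).1 (show ((p ^ k : ℕ) : ZMod r) = ((r - 1 : ℕ) : ZMod r) by
      rw [hneg, Nat.cast_sub hP.one_lt.le, ZMod.natCast_self, Nat.cast_one, zero_sub])).symm]
  obtain ⟨w, hw⟩ := hgd
  have hsq : Squarefree (X ^ r - 1 : F[X]) := by
    rw [← C_1]; exact (separable_X_pow_sub_C 1 hr one_ne_zero).squarefree
  obtain ⟨a, b, hab⟩ : IsCoprime g w := by
    rw [hw] at hsq
    exact ((squarefree_mul_iff.1 hsq).1).isCoprime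
  have hfrob : σ = iterateFrobenius F p k := RingHom.ext fun x => by rw [hσk, iterateFrobenius_def]
  have hmap : aeval (T ^ (r - 1)) (g.map σ) = aeval T g ^ p ^ k := by
    rw [hTm, ← expand_aeval, hfrob, ← map_expand, map_iterateFrobenius_expand, map_pow]
  have hKnd : (hermSF hh).ND K := fun x hx hz => by
    rw [hK] at hx
    have hx1 : aeval T g x = 0 := hx.1
    refine hh.nondeg x fun v => ?_
    have hv : v = aeval T (g * a) v + aeval T (b * w) v := by
      rw [← LinearMap.add_apply, ← map_add, mul_comm g a, hab, map_one, Module.End.one_apply]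
    rw [hv, hh.add_right]
    have e1 : h x (aeval T (g * a) v) = 0 := by
      rw [map_mul, Module.End.mul_apply, adjoint_herm (hh := hh) hT e, hmap]
      obtain ⟨N, hN⟩ : ∃ N, p ^ k = N + 1 :=
        ⟨p ^ k - 1, by have := Nat.one_le_pow k p (Fact.out : p.Prime).pos; omega⟩
      rw [hN, pow_succ, Module.End.mul_apply, hx1, map_zero, hh.zero_left]
    have e2 : h x (aeval T (b * w) v) = 0 := by
      have hker : aeval T g (aeval T (b * w) v) = 0 := by
        rw [← Module.End.mul_apply, ← map_mul, mul_left_comm, ← hw, map_mul, map_sub, map_pow, aeval_X, map_one, hT,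
          sub_self, mul_zero, LinearMap.zero_apply]
      obtain ⟨y, hy, z, hz', hyz⟩ := Submodule.mem_sup.1
        (((hermSF hh).isCompl_perp hU).sup_eq_top ▸ Submodule.mem_top (x := aeval T (b * w) v))
      have h0 : aeval T g y + aeval T g z = 0 := by rw [← map_add, hyz]; exact hker
      have hA' : aeval T g y = 0 := (Submodule.mem_bot F).1 (((hermSF hh).isCompl_perp hU).disjoint.le_bot
        ⟨hUi.aeval g hy, by rw [eq_neg_of_add_eq_zero_left h0]; exact neg_mem ((hI.inv_perp hUi).aeval g hz')⟩)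
      rw [← hyz, hh.add_right, show h x y = 0 from hz y (hK ▸ ⟨hA', hy⟩), zero_add]
      exact hz' x hx.2
    rw [e1, e2, add_zero]
  have hKne : K ≠ ⊥ := fun h0 => hv₀ (by
    rw [Submodule.mem_bot] at hgv₀ ⊢
    have : v₀ ∈ K := hK ▸ ⟨hgv₀, hv₀U⟩
    rwa [h0, Submodule.mem_bot] at this)
  obtain ⟨v, hv, hvv⟩ := exists_aniso_in hKnd hKne
  rw [hK] at hv
  have hv0 : v ≠ 0 := fun h0 => hvv (by rw [h0, hh.zero_left])
  have hinv : Inv T (⊥ ⊔ cyc T v g.natDegree) :=
    inv_sup_cyc (fun w hw => by simp_all) hgm (by rw [Submodule.mem_bot]; exact hv.1)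
  rw [bot_sup_eq] at hinv
  have hvZ : v ∈ cyc T v g.natDegree := mem_cyc T v hgi.natDegree_pos
  have hZU : cyc T v g.natDegree ≤ U := cyc_le hUi hv.2 _
  have hZd : finrank F (cyc T v g.natDegree) ≤ orderOf (Fintype.card F : ZMod r) :=
    (finrank_cyc_le T v g.natDegree).trans (natDegree_le_of_dvd_pow_sub_one hi0 hdvd hgi ⟨w, hw⟩)
  obtain ⟨Y, hYi, hYZ, hYd⟩ := SForm.exists_minimal hT hr hinv (hZU.trans hUM) fun h0 => hv0 (by
    rwa [h0, Submodule.mem_bot] at hvZ)
  have hYZ' : Y = cyc T v g.natDegree := Submodule.eq_of_le_of_finrank_le hYZ (by omega)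
  exact hvv (hmin _ hinv hZU (hYZ' ▸ hYd) v hvZ v hvZ)

/-- The subspaces fixed by one element. -/
lemma exists_fixed_nd_herm (hT : T ^ r = 1) (hr : (r : F) ≠ 0) (e : ∀ u v, h (T u) (T v) = h u v) {c m : ℕ}
    (hc : 0 < c)
    (hblock : ∀ U, Inv T U → U ≤ movedSpace T r → (hermSF hh).ND U → U ≠ ⊥ →
      ∃ X, Inv T X ∧ X ≤ U ∧ (hermSF hh).ND X ∧ finrank F X = c)
    (hmn : m ≤ finrank F V) (hle : m % c ≤ finrank F V % c) :
    ∃ W, Inv T W ∧ (hermSF hh).ND W ∧ finrank F W = m := by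
  have hI := hermSF_isom (hh := hh) e
  have hsum := SForm.finrank_fixed_add (T := T) hT hr
  obtain ⟨J, hJ⟩ := SForm.dvd_of_block hI hc (movedSpace T r) hblock inv_moved le_rfl (SForm.nd_moved hT hr hI)
  obtain ⟨j, hjJ, hjm, hjf⟩ : ∃ j, j ≤ J ∧ c * j ≤ m ∧ m - c * j ≤ finrank F (fixedSpace T) := by
    have hmd := Nat.div_add_mod m c
    rcases Nat.lt_or_ge J (m / c) with hlt | hge
    · refine ⟨J, le_rfl, ?_, by omega⟩
      have := Nat.mul_le_mul_left c hlt.le
      omega
    · refine ⟨m / c, hge, by omega, ?_⟩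
      rw [← hsum, hJ, Nat.add_mul_mod_self_left] at hle
      have := Nat.mod_le (finrank F (fixedSpace T)) c
      omega
  obtain ⟨W, hWi, hWM, hW, hWd⟩ := SForm.exists_nd_climb hI (movedSpace T r)
    (fun U hUi hUM hU hd => hblock U hUi hUM hU fun h1 => by
      rw [h1, finrank_bot] at hd
      omega) j (movedSpace T r) inv_moved le_rfl (SForm.nd_moved hT hr hI)
    (by rw [hJ]; exact Nat.mul_le_mul_left c hjJ)
  obtain ⟨A, hA', hAnd, hAd⟩ := exists_nd_any (SForm.nd_fixed hT hr hI) (e := m - c * j) (by omega)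
  obtain ⟨h1, h2, h3⟩ := SForm.nd_join hr hI hA' hAnd hWi hWM hW
  exact ⟨A ⊔ W, h1, h2, by omega⟩

/-- Multiples of `r` for a scalar that is not a power. -/
lemma exists_nd_nonpower {z : F} (hT : T ^ r = z • 1) (hz0 : z ≠ 0) (hz : ∀ s : F, s ^ r ≠ z)
    (e : ∀ u v, h (T u) (T v) = h u v) {m : ℕ} (hrm : r ∣ m) (hmn : m ≤ finrank F V) :
    ∃ W, Inv T W ∧ (hermSF hh).ND W ∧ finrank F W = m := by
  have hI := hermSF_isom (hh := hh) e
  obtain ⟨a, rfl⟩ := hrm
  have hr0 : 0 < r := (Fact.out : r.Prime).pos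
  obtain ⟨W, hWi, -, hW, hWd⟩ := SForm.exists_nd_climb hI (c := r) ⊤ (fun U hUi _ hU hd => by
    obtain ⟨v, hv, hvv⟩ := exists_aniso_in hU fun h1 => by rw [h1, finrank_bot] at hd; omega
    have hv0 : v ≠ 0 := fun h0 => hvv (by rw [h0, hh.zero_left])
    have hmonic := Polynomial.monic_X_pow_sub_C z (Fact.out : r.Prime).ne_zero
    have hinv := inv_sup_cyc (T := T) (W := ⊥) (fun w hw => by simp_all) hmonic (v := v)
      (by simp [hT, Module.algebraMap_end_apply])
    rw [bot_sup_eq, Polynomial.natDegree_X_pow_sub_C] at hinv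
    have hvZ := mem_cyc T v hr0
    have hle := finrank_cyc_le T v r
    have hd' : ∀ Y : Submodule F V, Inv T Y → Y ≤ cyc T v r → Y ≠ ⊥ → finrank F Y = r := fun Y hY hYZ hY0 => by
      obtain ⟨b, hb⟩ := dvd_finrank_nonpower hT hz0 hz hY
      have := Submodule.finrank_mono hYZ
      rcases b with _ | _ | b
      · exact absurd (Submodule.finrank_eq_zero.1 (hb.trans (Nat.mul_zero r))) hY0
      · simpa using hb
      · rw [Nat.mul_add, Nat.mul_one, Nat.mul_add, Nat.mul_one] at hb; omega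
    have hZd := hd' _ hinv le_rfl fun h0 => hv0 (by rwa [h0, Submodule.mem_bot] at hvZ)
    refine ⟨_, hinv, cyc_le hUi hv r, (hermSF hh).nd_of_inf_perp (by_contra fun h0 => hvv ?_), hZd⟩
    have h2 := hd' (cyc T v r ⊓ (hermSF hh).perp (cyc T v r)) (fun w hw => ⟨hinv w hw.1, hI.inv_perp hinv w hw.2⟩) inf_le_left h0
    exact ((Submodule.eq_of_le_of_finrank_eq inf_le_left (h2.trans hZd.symm)).ge hvZ).2 v hvZ)
    a ⊤ (fun _ _ => trivial) le_rfl (SForm.nd_top _) (by rwa [finrank_top])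
  exact ⟨W, hWi, hW, hWd⟩

end prime

end Cfsg.Agent.Elusive
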