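import Cfsg.Agent.Lib.Elusive.HermNd
import Cfsg.Agent.Lib.Elusive.HermModel

/-!
Models for non-degenerate subspaces of unitary spaces, and their number.
-/

set_option autoImplicit false
set_option linter.all false
set_option maxHeartbeats 1600000

namespace Cfsg.Agent.Elusive

open Module Polynomial Hermitian

/-- Every element of order `r` of the projective special unitary group fixes a non-degenerate `m`-space. -/
def SUNdFix (F : Type*) [Field F] (q n m r : ℕ) : Prop :=
  ∀ x : Matrix.SpecialLinearGroup (Fin n) F, x ∈ Cfsg.SU n F q →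
    (∃ z : F, ((x ^ r : Matrix.SpecialLinearGroup (Fin n) F) : Matrix (Fin n) (Fin n) F) = z • (1 : Matrix (Fin n) (Fin n) F)) →
    (∀ z : F, (x : Matrix (Fin n) (Fin n) F) ≠ z • (1 : Matrix (Fin n) (Fin n) F)) →
    ∃ W : Submodule F (Fin n → F), Module.finrank F ↥W = m ∧ (∀ u ∈ W, u ≠ 0 → ∃ v ∈ W, Cfsg.hermForm n F q u v ≠ 0) ∧
      W.map (Matrix.toLin' (x : Matrix (Fin n) (Fin n) F)) ≤ W

variable {F : Type*} [Field F] [Fintype F] {q n m r : ℕ} {σ : F →+* F}

omit [Fintype F] in
lemma nd_herm_iff {V : Type*} [AddCommGroup V] [Module F V] {h : V → V → F} {hh : IsHerm σ h} {W : Submodule F V} :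
    (∀ u ∈ W, u ≠ 0 → ∃ v ∈ W, h u v ≠ 0) ↔ (hermSF hh).ND W := by
  constructor
  · intro h1 u hu hz
    by_contra h0
    obtain ⟨v, hv, hv0⟩ := h1 u hu h0
    exact hv0 (hz v hv)
  · intro h1 u hu h0
    by_contra hc
    push Not at hc
    exact h0 (h1 u hu hc)

/-- Elements from isometries. -/
lemma suNdFix_get {V : Type*} [AddCommGroup V] [Module F V] [FiniteDimensional F V] {h : V → V → F}
    (hh : IsHerm σ h) (hσ : ∀ x, σ x = x ^ q) (hd : finrank F V = n) {T : Module.End F V} {z : F}
    (e : ∀ u v, h (T u) (T v) = h u v) (hz : T ^ r = z • 1) (hdet : LinearMap.det T = 1)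
    (hns : ∀ a : F, T ≠ a • 1) (hall : SUNdFix F q n m r) :
    ∃ W : Submodule F V, Inv T W ∧ (hermSF hh).ND W ∧ finrank F W = m := by
  obtain ⟨ψ, hψ⟩ := UnitaryCount.exists_isometry hh.ne_id hh.invol hσ hh hd
  let S : Module.End F (Fin n → F) := ψ.symm.conj T
  have hS : ∀ y, ψ (S y) = T (ψ y) := fun y => by simp [S, LinearEquiv.conj_apply]
  have hSp : ∀ k y, ψ ((S ^ k) y) = (T ^ k) (ψ y) := fun k => by
    induction k with
    | zero => simp
    | succ k ih => intro y; rw [pow_succ', pow_succ', Module.End.mul_apply, Module.End.mul_apply, hS, ih]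
  have hSd : (LinearMap.toMatrix' S).det = 1 := by
    rw [LinearMap.det_toMatrix']
    exact (LinearMap.det_conj T ψ.symm).trans hdet
  let x : Matrix.SpecialLinearGroup (Fin n) F := ⟨LinearMap.toMatrix' S, hSd⟩
  have hx : x ∈ Cfsg.SU n F q := fun u v => by
    show Cfsg.hermForm n F q ((LinearMap.toMatrix' S).mulVec u) ((LinearMap.toMatrix' S).mulVec v) = Cfsg.hermForm n F q u v
    rw [LinearMap.toMatrix'_mulVec, LinearMap.toMatrix'_mulVec, ← hψ, ← hψ, hS, hS, e]
  have hxr : S ^ r = z • 1 := LinearMap.ext fun y => ψ.injective (by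
    rw [hSp, hz]; simp)
  obtain ⟨W, hWd, hW, hWi⟩ := hall x hx ⟨z, by
      show ((LinearMap.toMatrix' S) ^ r) = z • 1
      have h1 := (map_pow LinearMap.toMatrixAlgEquiv' S r).symm
      rw [hxr, map_smul, map_one] at h1
      exact h1⟩
    (fun a ha => hns a (LinearMap.ext fun v => by
      obtain ⟨y, rfl⟩ := ψ.surjective v
      have h1 := congrArg Matrix.toLin' ha
      rw [show (x : Matrix (Fin n) (Fin n) F) = LinearMap.toMatrix' S from rfl, Matrix.toLin'_toMatrix', map_smul,
        Matrix.toLin'_one] at h1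
      rw [← hS, h1]; simp))
  rw [inv_map_iff, show (x : Matrix (Fin n) (Fin n) F) = LinearMap.toMatrix' S from rfl, Matrix.toLin'_toMatrix'] at hWi
  refine ⟨W.comap ψ.symm.toLinearMap, fun v hv => ?_, nd_herm_iff.1 fun u hu hu0 => ?_, ?_⟩
  · show ψ.symm (T v) ∈ W
    have h1 := hS (ψ.symm v)
    rw [ψ.apply_symm_apply] at h1
    rw [← h1, ψ.symm_apply_apply]
    exact hWi _ hv
  · obtain ⟨v, hv, hv0⟩ := hW (ψ.symm u) hu fun h0 => hu0 (by simpa using congrArg ψ h0)
    refine ⟨ψ v, by show ψ.symm (ψ v) ∈ W; rwa [ψ.symm_apply_apply], ?_⟩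
    rw [← ψ.apply_symm_apply u, hψ]
    exact hv0
  · rw [← hWd]
    exact LinearEquiv.finrank_eq (LinearEquiv.ofSubmodule' ψ.symm W)

lemma card_frame_transport {V : Type*} [AddCommGroup V] [Module F V] {h : V → V → F} {k : ℕ} {l : ℕ}
    (ψ : (Fin l → F) ≃ₗ[F] V) (hψ : ∀ a b, h (ψ a) (ψ b) = Cfsg.hermForm l F q a b) :
    Nat.card (HermStd.Frame h k) = Nat.card (HermStd.Frame (Cfsg.hermForm l F q) k) :=
  Nat.card_congr
    { toFun := fun b => ⟨fun i => ψ.symm (b.1 i), fun i j => by
        rw [← hψ, ψ.apply_symm_apply, ψ.apply_symm_apply]; exact b.2 i j⟩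
      invFun := fun b => ⟨fun i => ψ (b.1 i), fun i j => by rw [hψ, b.2]⟩
      left_inv := fun b => Subtype.ext (funext fun i => ψ.apply_symm_apply _)
      right_inv := fun b => Subtype.ext (funext fun i => ψ.symm_apply_apply _) }

/-- Counting non-degenerate subspaces. -/
theorem card_ndSub_herm (hne : σ ≠ RingHom.id F) (hinv : ∀ a, σ (σ a) = a) (hσ : ∀ x, σ x = x ^ q) (l : ℕ) :
    Nat.card {W : Submodule F (Fin (m + l) → F) // finrank F W = m ∧
        ∀ u ∈ W, u ≠ 0 → ∃ v ∈ W, Cfsg.hermForm (m + l) F q u v ≠ 0} *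
      (Nat.card (Cfsg.GU m F q) * Nat.card (Cfsg.GU l F q)) = Nat.card (Cfsg.GU (m + l) F q) := by
  classical
  rw [HermStd.card_GU_eq_frame hne hinv hσ, HermStd.card_GU_eq_frame hne hinv hσ, HermStd.card_GU_eq_frame hne hinv hσ]
  have hh := HermStd.isHerm_std hne hinv hσ (m + l)
  set h := Cfsg.hermForm (m + l) F q
  haveI : Finite (Submodule F (Fin (m + l) → F)) :=
    Finite.of_injective (SetLike.coe : Submodule F (Fin (m + l) → F) → Set _) SetLike.coe_injective
  haveI : Finite (HermStd.Frame h (m + l)) := Subtype.finite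
  haveI := Fintype.ofFinite {W : Submodule F (Fin (m + l) → F) // finrank F W = m ∧
    ∀ u ∈ W, u ≠ 0 → ∃ v ∈ W, h u v ≠ 0}
  have hli : ∀ {k : ℕ} (b : Fin k → Fin (m + l) → F), (∀ i j, h (b i) (b j) = if i = j then 1 else 0) →
      finrank F (Submodule.span F (Set.range b)) = k := fun b hb => by
    rw [finrank_span_eq_card (hh.linearIndependent_of_gram (hh.orthonormal_gram hb)), Fintype.card_fin]
  let T : HermStd.Frame h (m + l) → {W : Submodule F (Fin (m + l) → F) // finrank F W = m ∧
      ∀ u ∈ W, u ≠ 0 → ∃ v ∈ W, h u v ≠ 0} := fun b =>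
    ⟨Submodule.span F (Set.range fun i : Fin m => b.1 (Fin.castAdd l i)),
      hli _ (fun i j => by simp [b.2, Fin.castAdd_inj]), nd_herm_iff.2 (fun u hu hz => by
        obtain ⟨c, rfl⟩ := (Submodule.mem_span_range_iff_exists_fun F).1 hu
        have : c = 0 := funext fun j => by
          have h1 := hz (b.1 (Fin.castAdd l j)) (Submodule.subset_span ⟨j, rfl⟩)
          rw [hermSF_B (hh := hh), hh.sum_left, Finset.sum_eq_single j (fun i _ hij => by
            rw [hh.smul_left, b.2, if_neg fun e => hij ((Fin.castAdd_injective m l) e), mul_zero]) (by simp),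
            hh.smul_left, b.2, if_pos rfl, mul_one] at h1
          exact h1
        simp [this])⟩
  have hfib : ∀ W : {W : Submodule F (Fin (m + l) → F) // finrank F W = m ∧ ∀ u ∈ W, u ≠ 0 → ∃ v ∈ W, h u v ≠ 0},
      Nat.card {b // T b = W} =
        Nat.card (HermStd.Frame (Cfsg.hermForm m F q) m) * Nat.card (HermStd.Frame (Cfsg.hermForm l F q) l) := by
    intro W
    have hW := (nd_herm_iff (hh := hh)).1 W.2.2
    obtain ⟨P, hP⟩ : ∃ P, P = (hermSF hh).perp W.1 := ⟨_, rfl⟩
    have hPnd : (hermSF hh).ND P := hP ▸ (hermSF hh).nd_perp hW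
    have hPd : finrank F P = l := by
      have := (hermSF hh).finrank_perp W.1
      rw [← hP, W.2.1, Module.finrank_fin_fun] at this
      omega
    have hres : ∀ {U : Submodule F (Fin (m + l) → F)}, (hermSF hh).ND U → IsHerm σ (fun a b : U => h a b) :=
      fun hU => ⟨hne, hinv, fun a b c => hh.add_left _ _ _, fun t a b => hh.smul_left _ _ _, fun a b => hh.symm _ _,
        fun a ha => Subtype.ext (hU a.1 a.2 fun v hv => ha ⟨v, hv⟩)⟩
    obtain ⟨ψ₁, h1⟩ := UnitaryCount.exists_isometry hne hinv hσ (hres hW) W.2.1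
    obtain ⟨ψ₂, h2⟩ := UnitaryCount.exists_isometry hne hinv hσ (hres hPnd) hPd
    rw [← card_frame_transport (h := fun a b : W.1 => h a b) (k := m) ψ₁ h1,
      ← card_frame_transport (h := fun a b : P => h a b) (k := l) ψ₂ h2, ← Nat.card_prod]
    refine Nat.card_congr
      { toFun := fun b => (⟨fun i => ⟨b.1.1 (Fin.castAdd l i), by
            rw [← congrArg Subtype.val b.2]; exact Submodule.subset_span ⟨i, rfl⟩⟩, fun i j => by
              show h _ _ = _
              rw [b.1.2]
              exact if_congr (Fin.castAdd_inj) rfl rfl⟩,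
          ⟨fun i => ⟨b.1.1 (Fin.natAdd m i), by
            rw [hP, ← congrArg Subtype.val b.2]
            intro x hx
            show h x _ = 0
            obtain ⟨c, rfl⟩ := (Submodule.mem_span_range_iff_exists_fun F).1 hx
            rw [hh.sum_left]
            exact Finset.sum_eq_zero fun j _ => by
              rw [hh.smul_left, b.1.2, if_neg fun e => by
                have := congrArg Fin.val e
                simp at this
                omega, mul_zero]⟩, fun i j => by
              show h _ _ = _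
              rw [b.1.2]
              exact if_congr (Fin.natAdd_inj m) rfl rfl⟩)
        invFun := fun g => ⟨⟨Fin.addCases (fun i => (g.1.1 i).1) (fun i => (g.2.1 i).1), fun i j => by
            induction i using Fin.addCases <;> induction j using Fin.addCases
            · rename_i i j
              simp only [Fin.addCases_left]
              exact (g.1.2 i j).trans (if_congr Fin.castAdd_inj.symm rfl rfl)
            · rename_i i j
              simp only [Fin.addCases_left, Fin.addCases_right]
              rw [if_neg fun e => by have := congrArg Fin.val e; simp at this; omega]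
              exact (hP.le (g.2.1 j).2) _ (g.1.1 i).2
            · rename_i i j
              simp only [Fin.addCases_left, Fin.addCases_right]
              rw [if_neg fun e => by have := congrArg Fin.val e; simp at this; omega]
              exact hh.eq_zero_comm.1 ((hP.le (g.2.1 i).2) _ (g.1.1 j).2)
            · rename_i i j
              simp only [Fin.addCases_right]
              exact (g.2.2 i j).trans (if_congr (Fin.natAdd_inj m).symm rfl rfl)⟩, by
          refine Subtype.ext (Submodule.eq_of_le_of_finrank_eq (Submodule.span_le.2 ?_)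
            ((T _).2.1.trans W.2.1.symm))
          rintro _ ⟨i, rfl⟩
          simp only [Fin.addCases_left]
          exact (g.1.1 i).2⟩
        left_inv := fun b => Subtype.ext (Subtype.ext (funext fun i => by
          induction i using Fin.addCases <;> simp))
        right_inv := fun g => Prod.ext (Subtype.ext (funext fun i => Subtype.ext (by simp)))
          (Subtype.ext (funext fun i => Subtype.ext (by simp))) }
  rw [← Nat.card_congr (Equiv.sigmaFiberEquiv T), Nat.card_sigma, Finset.sum_congr rfl fun W _ => hfib W, Finset.sum_const,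
    Finset.card_univ, ← Nat.card_eq_fintype_card, smul_eq_mul]

/-- Primes dividing the number of subspaces. -/
theorem dvd_count_nd_herm [Fact r.Prime] (hne : σ ≠ RingHom.id F) (hinv : ∀ a, σ (σ a) = a) (hσ : ∀ x, σ x = x ^ q)
    (hq : Nat.card (fixed σ) = q) (hqr : ¬ r ∣ q) (hmn : m ≤ n)
    (hd : r ∣ Nat.card {W : Submodule F (Fin n → F) // finrank F W = m ∧
      ∀ u ∈ W, u ≠ 0 → ∃ v ∈ W, Cfsg.hermForm n F q u v ≠ 0}) :
    ∃ j, n - m < j ∧ j ≤ n ∧ (q : ZMod r) ^ j = (-1) ^ j := by
  obtain ⟨l, rfl⟩ : ∃ l, n = m + l := ⟨n - m, by omega⟩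
  have h1 := card_ndSub_herm (F := F) (q := q) (m := m) hne hinv hσ l
  rw [HermStd.card_GU hne hinv hσ l hq, HermStd.card_GU hne hinv hσ (m + l) hq, add_comm m l, Finset.prod_range_add] at h1
  rw [add_comm m l] at hd
  have hq2 : 2 ≤ q := hq ▸ Finite.one_lt_card
  set P : ℕ → ℕ := fun i => if Even i then q ^ (i + 1) + 1 else q ^ (i + 1) - 1
  have hP : ∀ i, 0 < P i := fun i => by
    simp only [P]
    split_ifs
    · omega
    · exact Nat.sub_pos_of_lt (Nat.one_lt_pow (by omega) hq2)
  have h2 : r ∣ q ^ ((l + m) * (l + m - 1) / 2) * ∏ i ∈ Finset.range m, P (l + i) := by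
    set N := Nat.card {W : Submodule F (Fin (l + m) → F) // finrank F W = m ∧
      ∀ u ∈ W, u ≠ 0 → ∃ v ∈ W, Cfsg.hermForm (l + m) F q u v ≠ 0}
    refine hd.trans ⟨Nat.card (Cfsg.GU m F q) * q ^ (l * (l - 1) / 2),
      Nat.eq_of_mul_eq_mul_left (show 0 < ∏ i ∈ Finset.range l, P i from Finset.prod_pos fun i _ => hP i) ?_⟩
    linear_combination -h1
  rcases (Fact.out : r.Prime).dvd_mul.1 h2 with h3 | h3
  · exact absurd ((Fact.out : r.Prime).dvd_of_dvd_pow h3) hqr
  obtain ⟨i, hi, hjd⟩ := ((Fact.out : r.Prime).prime.dvd_finsetProd_iff _).1 h3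
  have hi' := Finset.mem_range.1 hi
  refine ⟨l + i + 1, by omega, by omega, ?_⟩
  rw [← ZMod.natCast_eq_zero_iff] at hjd
  simp only [P] at hjd
  split_ifs at hjd with he
  · rw [(Even.add_one he).neg_one_pow]
    push_cast at hjd
    linear_combination hjd
  · rw [(Nat.not_even_iff_odd.1 he).add_one.neg_one_pow]
    have h1q : 1 ≤ q ^ (l + i + 1) := Nat.one_le_pow _ _ (by omega)
    push_cast [Nat.cast_sub h1q] at hjd
    linear_combination hjd

end Cfsg.Agent.Elusive
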