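import Cfsg.Agent.Lib.Elusive.HermTI
import Cfsg.Agent.Lib.Elusive.Criterion

/-!
Special elements of prime order of unitary groups: few eigenvalues, non-powers and involutions.
-/

set_option autoImplicit false
set_option linter.all false
set_option maxHeartbeats 1600000

namespace Cfsg.Agent.Elusive

open Module Polynomial Hermitian

variable {F : Type*} [Field F] [Fintype F] {q n m r : ℕ} {σ : F →+* F}

open LBRootPoly LBRootTwist in
/-- Few eigenvalues. -/
lemma not_suFix_eigen [DecidableEq F] [Fact r.Prime] (p : ℕ) [Fact p.Prime] [CharP F p] (hne : σ ≠ RingHom.id F)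
    (hinv : ∀ a, σ (σ a) = a) (hσ : ∀ x, σ x = x ^ q) (hr : (r : F) ≠ 0) (hr2 : r ≠ 2) (hrc : r ∣ Fintype.card F - 1)
    (hb : 1 = orderOf (Fintype.card F : ZMod r)) (hself : ∀ g ∈ factors F r, rc σ g = g)
    (hm : 1 ≤ m) (hmn : 2 * m ≤ n) (hlt : n - 2 * m < r - 1) : ¬ SUTIFix F q n m r := by
  classical
  have hrP : r.Prime := Fact.out
  have hodd : r % 2 = 1 := Nat.odd_iff.1 (hrP.odd_of_ne_two hr2)
  obtain ⟨u, hu⟩ := exists_prime_orderOf_dvd_card r (G := Fˣ) (by rwa [Fintype.card_units])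
  have hζ : IsPrimitiveRoot (u : F) r := by
    have h1 := IsPrimitiveRoot.orderOf (u : F)
    rwa [orderOf_units, hu] at h1
  obtain ⟨e, he⟩ : ∃ e, e = (n - 2 * m) / 2 + 1 := ⟨_, rfl⟩
  let a : Fin e ⊕ Fin e → ℕ := Sum.elim (fun k => (k : ℕ) + 1) (fun k => r - ((k : ℕ) + 1))
  have ha : ∀ k, 0 < a k ∧ a k < r := by
    rintro (k | k) <;> (have := k.2; simp only [a, Sum.elim_inl, Sum.elim_inr]; omega)
  have hainj : Function.Injective a := by
    rintro (k | k) (l | l) h <;> (have := k.2; have := l.2; simp only [a, Sum.elim_inl, Sum.elim_inr] at h)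
    · exact congrArg Sum.inl (Fin.ext (by omega))
    · exfalso; omega
    · exfalso; omega
    · exact congrArg Sum.inr (Fin.ext (by omega))
  let w : Fin e ⊕ Fin e → F[X] := fun k => X - C ((u : F) ^ a k)
  have hwinj : Function.Injective w := fun k l h =>
    hainj (hζ.pow_inj (ha k).2 (ha l).2 (C_injective (sub_right_injective h)))
  have hmem : ∀ k, w k ∈ factors F r := fun k => by
    refine (mem_factors hrP.ne_zero).2 ⟨fun h => hζ.pow_ne_one_of_pos_of_lt (ha k).1.ne' (ha k).2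
      (C_injective (sub_right_injective h)), monic_X_sub_C _, irreducible_X_sub_C _, ?_⟩
    rw [dvd_iff_isRoot]
    simp only [IsRoot.def, eval_sub, eval_pow, eval_X, eval_one]
    rw [← pow_mul, mul_comm, pow_mul, hζ.pow_eq_one, one_pow, sub_self]
  have hcard : (Finset.univ.image w).card = 2 * e := by
    rw [Finset.card_image_of_injective _ hwinj, Finset.card_univ, Fintype.card_sum, Fintype.card_fin, two_mul]
  refine not_suFix_singles p hne hinv hσ hr hb hself (S := Finset.univ.image w)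
    (Finset.image_subset_iff.2 fun k _ => hmem k) 0 (L := 0) (f := n - 2 * e) (fun h => absurd h (lt_irrefl 0))
    (by rw [hcard]; omega) (by rw [hcard]; omega) (by omega) (Or.inr ⟨rfl, ?_, Or.inr (by rw [hcard]; omega)⟩)
  rw [Finset.prod_image fun k _ l _ h => hwinj h]
  simp only [w, coeff_sub, coeff_X_zero, coeff_C_zero, zero_sub, pow_one, neg_mul_neg, one_mul]
  rw [Fintype.prod_sum_type, ← Finset.prod_mul_distrib]
  refine Finset.prod_eq_one fun k _ => ?_
  rw [← pow_add, show a (Sum.inl k) + a (Sum.inr k) = r by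
    have := k.2; simp only [a, Sum.elim_inl, Sum.elim_inr]; omega, hζ.pow_eq_one]

/-- A scalar that is not a power. -/
lemma not_suFix_nonpower [Fact r.Prime] (hne : σ ≠ RingHom.id F) (hinv : ∀ a, σ (σ a) = a)
    (hσ : ∀ x, σ x = x ^ q) (hcard : Fintype.card F = q ^ 2) (hr2 : r ≠ 2) (hdq : r ∣ q + 1)
    (hn : 0 < n) (hrm : ¬ r ∣ m) (hv : padicValNat r (q + 1) < padicValNat r n) : ¬ SUTIFix F q n m r := by
  classical
  have hrP : r.Prime := Fact.out
  have hodd : r % 2 = 1 := Nat.odd_iff.1 (hrP.odd_of_ne_two hr2)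
  obtain ⟨a, ha⟩ : ∃ a, a = padicValNat r (q + 1) := ⟨_, rfl⟩
  obtain ⟨w, hw⟩ : r ^ (a + 1) ∣ n := (padicValNat_dvd_iff_le hn.ne').2 (by omega)
  have ha1 : 1 ≤ a := ha ▸ one_le_padicValNat_of_dvd (by omega : q + 1 ≠ 0) hdq
  have hq1 : 1 ≤ q := by
    rcases Nat.eq_zero_or_pos q with rfl | h
    · simp at hcard
    · exact h
  have hcf : Fintype.card F - 1 = (q + 1) * (q - 1) := by
    rw [hcard, show q ^ 2 - 1 = q ^ 2 - 1 ^ 2 by rfl, Nat.sq_sub_sq]
  have hrq1 : ¬ r ∣ q - 1 := fun h => by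
    have h1 := Nat.dvd_sub hdq h
    rw [show q + 1 - (q - 1) = 2 by omega] at h1
    exact hr2 ((Nat.prime_dvd_prime_iff_eq hrP Nat.prime_two).1 h1)
  have hpa : r ^ a ∣ Nat.card Fˣ := by
    rw [Nat.card_eq_fintype_card, Fintype.card_units, hcf]
    exact dvd_mul_of_dvd_left (ha ▸ pow_padicValNat_dvd) _
  obtain ⟨z, hz⟩ : ∃ z : Fˣ, orderOf z = r ^ a := by
    obtain ⟨g, hg⟩ := IsCyclic.exists_ofOrder_eq_natCard (α := Fˣ)
    refine ⟨g ^ (Nat.card Fˣ / r ^ a), ?_⟩
    rw [orderOf_pow' _ (Nat.div_pos (Nat.le_of_dvd Nat.card_pos hpa) (pow_pos hrP.pos a)).ne', hg,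
      Nat.gcd_eq_right (Nat.div_dvd_of_dvd hpa), Nat.div_div_self hpa Nat.card_pos.ne']
  have hzq : (z : F) ^ (q + 1) = 1 := by
    rw [← Units.val_pow_eq_pow_val, orderOf_dvd_iff_pow_eq_one.1 (hz ▸ (ha ▸ pow_padicValNat_dvd)), Units.val_one]
  have hznp : ∀ s : F, s ^ r ≠ (z : F) := fun s hs => by
    have hs0 : s ≠ 0 := fun h => z.ne_zero (by rw [← hs, h, zero_pow hrP.ne_zero])
    obtain ⟨t, rfl⟩ : ∃ t : Fˣ, (t : F) = s := ⟨Units.mk0 s hs0, rfl⟩
    have ht : t ^ r = z := Units.ext (by rw [Units.val_pow_eq_pow_val]; exact hs)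
    have hord : orderOf t = r ^ (a + 1) := by
      refine orderOf_eq_prime_pow (fun h => ?_) ?_
      · obtain ⟨b, hb⟩ : ∃ b, a = b + 1 := ⟨a - 1, by omega⟩
        rw [hb, pow_succ', pow_mul, ht, ← orderOf_dvd_iff_pow_eq_one, hz, hb,
          Nat.pow_dvd_pow_iff_le_right hrP.one_lt] at h
        omega
      · rw [pow_succ', pow_mul, ht, ← hz, pow_orderOf_eq_one]
    have h1 : r ^ (a + 1) ∣ (q + 1) * (q - 1) := by
      rw [← hord, ← hcf, ← Fintype.card_units]; exact orderOf_dvd_card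
    have h2 := ((hrP.coprime_iff_not_dvd.2 hrq1).pow_left (a + 1)).dvd_of_dvd_mul_right h1
    rw [padicValNat_dvd_iff_le (by omega : q + 1 ≠ 0)] at h2
    omega
  obtain ⟨σe, hσe⟩ : ∃ τ : F ≃+* F, ∀ x, τ x = σ x := ⟨sEquiv hinv, sEquiv_apply hinv⟩
  obtain ⟨μ, hμ⟩ : ∃ μ, σe μ ≠ μ := by
    by_contra hc; push Not at hc; exact hne (RingHom.ext fun x => (hσe x).symm.trans (hc x))
  have hσ2 : orderOf σe = 2 := by
    haveI : Fact (Nat.Prime 2) := ⟨Nat.prime_two⟩
    refine orderOf_eq_prime (RingEquiv.ext fun x => ?_) fun hc => hμ ?_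
    · rw [sq]; show σe (σe x) = x; rw [hσe, hσe, hinv]
    · rw [hc]; rfl
  have hc0 : (X ^ r - C (z : F)).coeff 0 = -(z : F) := by simp [coeff_X_pow, hrP.ne_zero.symm]
  obtain ⟨M, hM, hMf⟩ := UnitaryClasses.exists_charpoly_eq σe hσ2 hμ (monic_X_pow_sub_C (z : F) hrP.ne_zero)
    natDegree_X_pow_sub_C (by rw [hc0]; exact neg_ne_zero.2 z.ne_zero) (fun i hi => by
      rw [hc0, hσe, coeff_sub, coeff_sub, coeff_X_pow, coeff_X_pow, coeff_C, coeff_C]
      rcases Nat.eq_zero_or_pos i with rfl | hi0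
      · rw [if_pos (Nat.sub_zero r), if_neg (by have := hrP.pos; omega), if_neg hrP.ne_zero.symm, if_pos rfl,
          sub_zero, zero_sub, map_neg, neg_mul_neg, hσ, ← pow_succ', hzq]
      rcases eq_or_lt_of_le hi with rfl | hlt'
      · rw [if_neg (by omega), if_pos (Nat.sub_self i), if_pos rfl, if_neg hrP.ne_zero, zero_sub, sub_zero, map_one,
          mul_one]
      · rw [if_neg (by omega), if_neg (by omega), if_neg (by omega), if_neg (by omega), sub_zero, map_zero, mul_zero])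
  obtain ⟨B, hBU, hBM⟩ : ∃ B ∈ Cfsg.GU r F q, (B : GL (Fin r) F).1 = M := by
    refine ⟨⟨M, UnitarySpectra.adj σe M, mul_eq_one_comm.1 hM, hM⟩, ?_, rfl⟩
    rw [HermSU.mem_GU_iff hσ]
    have e : M.map σ = M.map σe := by ext s t; exact (hσe _).symm
    show Matrix.transpose M * M.map σ = 1
    rw [e, ← Matrix.transpose_inj, Matrix.transpose_mul, Matrix.transpose_transpose, Matrix.transpose_one]
    exact hM
  have hMr : M ^ r = (z : F) • (1 : Matrix (Fin r) (Fin r) F) := by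
    have h1 := Matrix.aeval_self_charpoly M
    rw [hMf, map_sub, map_pow, aeval_X, aeval_C, sub_eq_zero, Algebra.algebraMap_eq_smul_one] at h1
    exact h1
  have hMdet : M.det = (z : F) := by
    rw [Matrix.det_eq_sign_charpoly_coeff, hMf, hc0, Fintype.card_fin, Odd.neg_one_pow (Nat.odd_iff.2 hodd),
      neg_mul_neg, one_mul]
  let N := n / r
  have hrn : r ∣ n := ⟨r ^ a * w, by rw [hw, pow_succ', mul_assoc]⟩
  have hNr : N * r = n := Nat.div_mul_cancel hrn
  have hNa : N = r ^ a * w := by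
    show n / r = _
    rw [hw, pow_succ', mul_assoc, Nat.mul_div_cancel_left _ hrP.pos]
  have hN0 : 0 < N := Nat.div_pos (Nat.le_of_dvd hn hrn) hrP.pos
  let T := hmMap (f := 0) (fun _ : Fin N => M)
  have hT : T ^ r = (z : F) • 1 := LinearMap.ext fun v => by
    rw [hmMap_pow, LinearMap.smul_apply, Module.End.one_apply]
    refine Prod.ext (funext fun k => k.elim0) (funext fun k => ?_)
    rw [← Matrix.toLin'_pow, hMr, map_smul, Matrix.toLin'_one]
    rfl
  refine not_suFix_of_isometry (hmForm_herm (F := F) (κ := Fin N) (f := 0) (h := r) hne hinv hσ) hσ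
    (finrank_hmdl.trans (by rw [Fintype.card_fin, Nat.zero_add, hNr])) (T := T) (z := (z : F))
    (hmMap_isometry fun _ u v => hBM ▸ hBU u v) hT ?_ (fun c hc => hznp c ?_) ?_
  · rw [det_hmMap, Finset.prod_const, Finset.card_univ, Fintype.card_fin, hMdet, hNa, pow_mul,
      ← Units.val_pow_eq_pow_val, ← hz, pow_orderOf_eq_one, Units.val_one, one_pow]
  · have h1 := hT
    rw [hc, _root_.smul_pow, one_pow] at h1
    let v : HMdl F 0 r (Fin N) := (0, Pi.single ⟨0, hN0⟩ (Pi.single ⟨0, hrP.pos⟩ 1))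
    have h2 := congrFun (congrFun (congrArg Prod.snd (LinearMap.congr_fun h1 v)) ⟨0, hN0⟩) ⟨0, hrP.pos⟩
    simpa [v] using h2
  · intro W hW _ hWd
    exact hrm (hWd ▸ dvd_finrank_nonpower hT z.ne_zero hznp hW)

section two

lemma det_involution {V : Type*} [AddCommGroup V] [Module F V] [FiniteDimensional F V] {T : Module.End F V}
    (h2 : (2 : F) ≠ 0) (hT : T ^ 2 = 1) : LinearMap.det T = (-1) ^ finrank F (movedSpace T 2) := by
  have hr : ((2 : ℕ) : F) ≠ 0 := by simpa using h2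
  have hc : IsCompl (fixedSpace T) (movedSpace T 2) :=
    ⟨Submodule.disjoint_def.2 fun v h1 h3 => eq_zero_of_fixed_moved hr h1 h3,
      codisjoint_iff.2 (eq_top_iff.2 (by
        have := (split_inv hT hr (W := ⊤) fun _ _ => trivial).ge
        rwa [top_inf_eq, top_inf_eq] at this))⟩
  have hTe : T = ((Submodule.prodEquivOfIsCompl _ _ hc).toLinearMap ∘ₗ
      (LinearMap.prodMap (LinearMap.id : fixedSpace T →ₗ[F] fixedSpace T) ((-1 : F) • LinearMap.id))) ∘ₗ
      (Submodule.prodEquivOfIsCompl _ _ hc).symm.toLinearMap := by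
    refine LinearMap.ext fun v => ?_
    obtain ⟨⟨a, b⟩, rfl⟩ := (Submodule.prodEquivOfIsCompl _ _ hc).surjective v
    have hb := b.2
    simp only [movedSpace, LinearMap.mem_ker, Finset.sum_range_succ, Finset.sum_range_zero, pow_zero, pow_one,
      zero_add, LinearMap.add_apply, Module.End.one_apply] at hb
    simp [mem_fixedSpace.1 a.2, eq_neg_of_add_eq_zero_right hb]
  conv_lhs => rw [hTe]
  rw [LinearMap.comp_assoc, LinearMap.det_conj, LinearMap.det_prodMap, LinearMap.det_id, one_mul, LinearMap.det_smul,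
    LinearMap.det_id, mul_one]

/-- Involutions: the cases with a fixed subspace. -/
lemma suFix_two (hne : σ ≠ RingHom.id F) (hinv : ∀ a, σ (σ a) = a) (hσ : ∀ x, σ x = x ^ q)
    (hcard : Fintype.card F = q ^ 2) (h2 : (2 : F) ≠ 0) (hn : 0 < n) (hmn : 2 * m ≤ n)
    (hc : 2 * m < n ∨ padicValNat 2 (q + 1) ≤ padicValNat 2 n) : SUTIFix F q n m 2 := by
  classical
  intro x hx hx1 hx2
  obtain ⟨z, hz⟩ := hx1
  haveI : Fact (Nat.Prime 2) := ⟨Nat.prime_two⟩
  have hH := HermStd.isHerm_std hne hinv hσ n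
  have hx' : ∀ u v, Cfsg.hermForm n F q (Matrix.toLin' x.1 u) (Matrix.toLin' x.1 v) = Cfsg.hermForm n F q u v := hx
  have hxx : Matrix.toLin' x.1 ^ 2 = z • 1 := by
    rw [← Matrix.toLin'_pow, show x.1 ^ 2 = z • 1 from hz, map_smul, Matrix.toLin'_one]; rfl
  have hzz : z * σ z = 1 := by
    let e0 : Fin n → F := Pi.single ⟨0, hn⟩ 1
    have h1 : Cfsg.hermForm n F q (z • e0) (z • e0) = Cfsg.hermForm n F q e0 e0 := by
      have h3 := (hermSF_isom (hh := hH) hx').pow 2 e0 e0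
      rwa [hxx, LinearMap.smul_apply, Module.End.one_apply] at h3
    rw [hH.smul_left, hH.smul_right, ← mul_assoc, HermStd.hermForm_single hσ] at h1
    simpa using h1
  have hzq : z ^ (q + 1) = 1 := by rw [pow_succ', ← hσ]; exact hzz
  have hqodd : q % 2 = 1 := by
    have h3 : Fintype.card F % 2 = 1 := FiniteField.odd_card_of_char_ne_two fun hc' => h2 (by
      haveI := ringChar.of_eq hc'; exact CharP.cast_eq_zero F 2)
    rw [hcard, Nat.pow_mod] at h3
    rcases Nat.mod_two_eq_zero_or_one q with h | h <;> simp [h] at h3 ⊢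
  have hz0 : z ≠ 0 := fun h => by rw [h, zero_mul] at hzz; exact zero_ne_one hzz
  obtain ⟨s, hs⟩ : IsSquare z := by
    refine (FiniteField.isSquare_iff (fun hc' => h2 (by
      haveI := ringChar.of_eq hc'; exact CharP.cast_eq_zero F 2)) hz0).2 ?_
    obtain ⟨k, hk⟩ : ∃ k, q = 2 * k + 1 := ⟨q / 2, by omega⟩
    have : q ^ 2 / 2 = (q + 1) * k := by
      subst hk
      rw [show (2 * k + 1) ^ 2 = 2 * ((2 * k + 2) * k) + 1 by ring, show 2 * k + 1 + 1 = 2 * k + 2 by ring]
      omega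
    rw [hcard, this, pow_mul, hzq, one_pow]
  have hs0 : s ≠ 0 := fun h => hz0 (by rw [hs, h, mul_zero])
  obtain ⟨T, hT⟩ : ∃ T, T = s⁻¹ • Matrix.toLin' x.1 := ⟨_, rfl⟩
  have hTT : T ^ 2 = 1 := by
    rw [hT, _root_.smul_pow, hxx, smul_smul, hs, inv_pow, ← pow_two, inv_mul_cancel₀ (pow_ne_zero 2 hs0), one_smul]
  have hxT : ∀ v, Matrix.toLin' x.1 v = s • T v := fun v => by
    rw [hT, LinearMap.smul_apply, smul_inv_smul₀ hs0]
  have hTB : ∀ u v, Cfsg.hermForm n F q u v = s * σ s * Cfsg.hermForm n F q (T u) (T v) := fun u v => by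
    rw [← hx' u v, hxT, hxT, hH.smul_left, hH.smul_right, mul_assoc]
  have hinvT : ∀ W : Submodule F (Fin n → F), Inv T W → W.map (Matrix.toLin' x.1) ≤ W := fun W hW =>
    inv_map_iff.2 fun v hv => by rw [hxT]; exact W.smul_mem _ (hW v hv)
  have hr : ((2 : ℕ) : F) ≠ 0 := by simpa using h2
  have hν : s * σ s = 1 ∨ s * σ s = -1 := by
    refine mul_self_eq_one_iff.1 ?_
    have : z * σ z = (s * σ s) * (s * σ s) := by rw [hs, map_mul]; ring
    rw [← this, hzz]
  have hfd := SForm.finrank_fixed_add hTT hr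
  rw [Module.finrank_fin_fun] at hfd
  have hfix : ∀ v ∈ movedSpace T 2, T v = -v := fun v hv => by
    simp only [movedSpace, LinearMap.mem_ker, Finset.sum_range_succ, Finset.sum_range_zero, pow_zero, pow_one,
      zero_add, LinearMap.add_apply, Module.End.one_apply] at hv
    exact eq_neg_of_add_eq_zero_right hv
  rcases hν with hν | hν
  · have e : ∀ u v, Cfsg.hermForm n F q (T u) (T v) = Cfsg.hermForm n F q u v := fun u v => by
      rw [hTB u v, hν, one_mul]
    have hI := hermSF_isom (hh := hH) e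
    obtain ⟨f, hf⟩ : ∃ f, f = finrank F (fixedSpace T) := ⟨_, rfl⟩
    obtain ⟨M, hM⟩ : ∃ M, M = finrank F (movedSpace T 2) := ⟨_, rfl⟩
    rw [← hf, ← hM] at hfd
    have hle : m ≤ f / 2 + M / 2 := by
      rcases hc with hc | hc
      · omega
      by_contra hlt
      have hMo : M % 2 = 1 := by omega
      have h3 : x.1.det = 1 := x.2
      rw [← LinearMap.det_toLin', show Matrix.toLin' x.1 = s • T from LinearMap.ext hxT, LinearMap.det_smul,
        Module.finrank_fin_fun, det_involution h2 hTT, ← hM, Odd.neg_one_pow (Nat.odd_iff.2 hMo), mul_neg, mul_one,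
        neg_eq_iff_eq_neg] at h3
      obtain ⟨a, ha⟩ : ∃ a, a = padicValNat 2 (q + 1) := ⟨_, rfl⟩
      obtain ⟨u, hu⟩ : 2 ^ a ∣ q + 1 := ha ▸ pow_padicValNat_dvd
      obtain ⟨w, hw⟩ : 2 ^ a ∣ n := (padicValNat_dvd_iff_le hn.ne').2 (ha ▸ hc)
      have huo : u % 2 = 1 := by
        by_contra hu2
        have h5 : 2 ^ (a + 1) ∣ q + 1 := ⟨u / 2, by rw [hu, pow_succ, mul_assoc, show 2 * (u / 2) = u by omega]⟩
        rw [padicValNat_dvd_iff_le (by omega : q + 1 ≠ 0)] at h5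
        omega
      have h6 : (s ^ n) ^ u = 1 := by
        rw [← pow_mul, hw, mul_right_comm, ← hu, pow_mul, pow_succ' s q, ← hσ, hν, one_pow]
      rw [h3, Odd.neg_one_pow (Nat.odd_iff.2 huo)] at h6
      exact h2 (by linear_combination -h6)
    have hneg : ∀ W : Submodule F (Fin n → F), Inv (-T) W → Inv T W := fun W hW v hv => by
      simpa using W.neg_mem (hW v hv)
    obtain ⟨j, hj1, hj2, hj3⟩ : ∃ j, j ≤ M / 2 ∧ j ≤ m ∧ m - j ≤ f / 2 := ⟨min (M / 2) m, by omega, by omega, by omega⟩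
    obtain ⟨A, -, hAS, hAiso, hAd⟩ := SForm.exists_iso_climb hTT hr hI (i := 1) (D := 1) (m - j) (fixedSpace T)
      (SForm.nd_fixed hTT hr hI) (inv_of_le_fixed le_rfl) (step_herm_line (hh := hH) _ T le_rfl) (by omega)
    obtain ⟨W, hWi, hWM, hWiso, hWd⟩ := SForm.exists_iso_climb hTT hr hI (i := 1) (D := 1) j (movedSpace T 2)
      (SForm.nd_moved hTT hr hI) inv_moved (fun U hUi hUS hU hD => by
        obtain ⟨X, h1, h3, h4, h5⟩ := step_herm_line (hh := hH) (movedSpace T 2) (-T)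
          (fun v hv => mem_fixedSpace.2 (by rw [LinearMap.neg_apply, hfix v hv, neg_neg]))
          U (fun v hv => by simpa using U.neg_mem (hUi v hv)) hUS hU hD
        exact ⟨X, hneg X h1, h3, h4, h5⟩) (by omega)
    obtain ⟨hJi, hJiso, hJd⟩ := SForm.iso_join hr hI hAS hAiso hWi hWM hWiso
    exact ⟨A ⊔ W, by rw [hJd, hAd, hWd]; omega, hJiso.1, hinvT _ hJi⟩
  · have hiso : ∀ {E : Submodule F (Fin n → F)} {ε : F}, ε * σ ε = 1 → (∀ v ∈ E, T v = ε • v) →
        ∀ u ∈ E, ∀ v ∈ E, Cfsg.hermForm n F q u v = 0 := fun {E ε} hε hE u hu v hv => by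
      have h1 := hTB u v
      rw [hE u hu, hE v hv, hH.smul_left, hH.smul_right, hν, ← mul_assoc ε, hε, one_mul] at h1
      have h3 : (2 : F) * Cfsg.hermForm n F q u v = 0 := by linear_combination h1
      exact (mul_eq_zero.1 h3).resolve_left h2
    have i1 : ∀ u ∈ fixedSpace T, ∀ v ∈ fixedSpace T, Cfsg.hermForm n F q u v = 0 :=
      hiso (ε := 1) (by simp) fun v hv => by rw [one_smul]; exact mem_fixedSpace.1 hv
    have i2 : ∀ u ∈ movedSpace T 2, ∀ v ∈ movedSpace T 2, Cfsg.hermForm n F q u v = 0 :=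
      hiso (ε := -1) (by simp) fun v hv => by rw [neg_one_smul]; exact hfix v hv
    have l1 := (hermSF hH).two_finrank_le (SForm.nd_top _) le_top i1
    have l2 := (hermSF hH).two_finrank_le (SForm.nd_top _) le_top i2
    rw [finrank_top, Module.finrank_fin_fun] at l1 l2
    obtain ⟨W, -, hW, hWd⟩ := exists_between (bot_le (a := fixedSpace T)) m (by rw [finrank_bot]; omega)
    refine ⟨W, by rw [hWd, finrank_bot, Nat.zero_add], fun u hu v hv => i1 u (hW hu) v (hW hv), hinvT W ?_⟩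
    exact inv_of_le_fixed hW

/-- Involutions: the derangement. -/
lemma not_suFix_two (hne : σ ≠ RingHom.id F) (hinv : ∀ a, σ (σ a) = a) (hσ : ∀ x, σ x = x ^ q)
    (hcard : Fintype.card F = q ^ 2) (h2 : (2 : F) ≠ 0) (hn : 3 ≤ n) (hnm : n = 2 * m)
    (hv : padicValNat 2 n < padicValNat 2 (q + 1)) : ¬ SUTIFix F q n m 2 := by
  classical
  haveI : Fact (Nat.Prime 2) := ⟨Nat.prime_two⟩
  obtain ⟨e, he⟩ : ∃ e, e = padicValNat 2 n := ⟨_, rfl⟩
  obtain ⟨w, hw⟩ : 2 ^ e ∣ n := he ▸ pow_padicValNat_dvd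
  have hwo : w % 2 = 1 := by
    by_contra hw2
    have h5 : 2 ^ (e + 1) ∣ n := ⟨w / 2, by rw [hw, pow_succ, mul_assoc, show 2 * (w / 2) = w by omega]⟩
    rw [padicValNat_dvd_iff_le (by omega)] at h5
    omega
  have hdq : 2 ^ (e + 1) ∣ q + 1 := (padicValNat_dvd_iff_le (by omega : q + 1 ≠ 0)).2 (by omega)
  have hpa : 2 ^ (e + 1) ∣ Nat.card Fˣ := by
    rw [Nat.card_eq_fintype_card, Fintype.card_units, hcard, show q ^ 2 - 1 = q ^ 2 - 1 ^ 2 by rfl, Nat.sq_sub_sq]
    exact dvd_mul_of_dvd_left hdq _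
  obtain ⟨z, hz⟩ : ∃ z : Fˣ, orderOf z = 2 ^ (e + 1) := by
    obtain ⟨g, hg⟩ := IsCyclic.exists_ofOrder_eq_natCard (α := Fˣ)
    refine ⟨g ^ (Nat.card Fˣ / 2 ^ (e + 1)), ?_⟩
    rw [orderOf_pow' _ (Nat.div_pos (Nat.le_of_dvd Nat.card_pos hpa) (pow_pos two_pos _)).ne', hg,
      Nat.gcd_eq_right (Nat.div_dvd_of_dvd hpa), Nat.div_div_self hpa Nat.card_pos.ne']
  have hzq : (z : F) * σ (z : F) = 1 := by
    rw [hσ, ← pow_succ', ← Units.val_pow_eq_pow_val, orderOf_dvd_iff_pow_eq_one.1 (hz ▸ hdq), Units.val_one]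
  have hhalf : (z : F) ^ 2 ^ e = -1 := by
    have h1 : ((z : F) ^ 2 ^ e) ^ 2 = 1 := by
      rw [← pow_mul, ← pow_succ, ← hz, ← Units.val_pow_eq_pow_val, pow_orderOf_eq_one, Units.val_one]
    refine (sq_eq_one_iff.1 h1).resolve_left fun h => ?_
    rw [← Units.val_pow_eq_pow_val, Units.val_eq_one, ← orderOf_dvd_iff_pow_eq_one, hz,
      Nat.pow_dvd_pow_iff_le_right one_lt_two] at h
    omega
  have hzn : (z : F) ^ n = -1 := by rw [hw, pow_mul, hhalf, Odd.neg_one_pow (Nat.odd_iff.2 hwo)]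
  let A : Unit → Matrix (Fin 1) (Fin 1) F := fun _ => (-1 : F) • 1
  let T₀ := hmMap (f := n - 1) A
  have hA : ∀ (k : Unit) u v, Cfsg.hermForm 1 F q (Matrix.toLin' (A k) u) (Matrix.toLin' (A k) v) = Cfsg.hermForm 1 F q u v := by
    intro k u v
    have hH1 := HermStd.isHerm_std hne hinv hσ 1
    simp only [A, map_smul, Matrix.toLin'_one, LinearMap.smul_apply, LinearMap.id_apply, hH1.smul_left, hH1.smul_right,
      map_neg, map_one]
    ring
  have hAr : ∀ k, A k ^ 2 = 1 := fun k => by simp [A, pow_two]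
  have hA1 : ∀ k, (A k - 1).det ≠ 0 := fun k => by
    rw [Matrix.det_fin_one]
    simp only [A, Matrix.sub_apply, Matrix.smul_apply, Matrix.one_apply_eq, smul_eq_mul, mul_one]
    intro h; exact h2 (by linear_combination -h)
  have hH := hmForm_herm (F := F) (κ := Unit) (f := n - 1) (h := 1) hne hinv hσ
  have hI0 := hmMap_isometry (f := n - 1) hA
  have hT0 : T₀ ^ 2 = 1 := hmMap_pow_eq_one hAr
  have hd : finrank F (HMdl F (n - 1) 1 Unit) = n := finrank_hmdl.trans (by simp; omega)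
  refine not_suFix_of_isometry hH hσ hd (T := (z : F) • T₀) (z := (z : F) ^ 2) (fun u v => ?_)
    (by rw [_root_.smul_pow, hT0]) ?_ (fun a ha => ?_) fun W hW hiso hWd => ?_
  · rw [LinearMap.smul_apply, LinearMap.smul_apply, hH.smul_left, hH.smul_right, ← mul_assoc, hzq, one_mul]
    exact hI0 u v
  · rw [LinearMap.det_smul, hd, hzn, det_hmMap]
    simp [A]
  · have h1 := congrFun (congrArg Prod.fst (LinearMap.congr_fun ha (Pi.single ⟨0, by omega⟩ 1, 0))) ⟨0, by omega⟩
    have h3 := congrFun (congrFun (congrArg Prod.snd (LinearMap.congr_fun ha (0, fun _ => Pi.single 0 1))) ()) 0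
    simp [T₀, hmMap_apply, A] at h1 h3
    rw [← h1] at h3
    exact mul_ne_zero h2 z.ne_zero (by linear_combination -h3)
  · have hW' : Inv T₀ W := fun v hv => by
      have := W.smul_mem (z : F)⁻¹ (hW v hv)
      rwa [LinearMap.smul_apply, inv_smul_smul₀ z.ne_zero] at this
    have hr : ((2 : ℕ) : F) ≠ 0 := by simpa using h2
    obtain ⟨h1, h3, h4⟩ := SForm.iso_parts (Φ := hermSF hH) hT0 hr (hermSF_isom hI0) hW' (hermSF_iso hiso)
    have h5 := SForm.finrank_fixed_add hT0 hr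
    rw [hd, finrank_hfixed hA1] at h5
    rw [finrank_hfixed hA1] at h3
    omega

end two

end Cfsg.Agent.Elusive
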