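import Cfsg.Agent.Lib.Elusive.HermNdModel
import Cfsg.Agent.Lib.Elusive.HermSpecial

/-!
Involutions and non-degenerate subspaces of unitary spaces.
-/

set_option autoImplicit false
set_option linter.all false
set_option maxHeartbeats 1600000

namespace Cfsg.Agent.Elusive

open Module Hermitian

section gen

variable {F : Type*} [Field F] [Fintype F] {σ : F →+* F} {V : Type*} [AddCommGroup V] [Module F V] [FiniteDimensional F V]
  {h : V → V → F} {hh : IsHerm σ h} {T : Module.End F V} {s : F}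

/-- When the eigenvalues have norm `-1`, everything comes in pairs. -/
lemma exists_block_norm_neg (h2 : (2 : F) ≠ 0) (hs : s * σ s = -1) (hT : T ^ 2 = (s * s) • 1)
    (e : ∀ u v, h (T u) (T v) = h u v) {U : Submodule F V} (hUi : Inv T U) (hU : (hermSF hh).ND U) (hne : U ≠ ⊥) :
    ∃ X, Inv T X ∧ X ≤ U ∧ (hermSF hh).ND X ∧ finrank F X = 2 := by
  haveI : Fact (Nat.Prime 2) := ⟨Nat.prime_two⟩
  have hs0 : s ≠ 0 := fun h0 => by
    rw [h0, zero_mul] at hs
    exact one_ne_zero (show (1 : F) = 0 by linear_combination hs)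
  obtain ⟨u, hu, hu0⟩ := Submodule.exists_mem_ne_zero_of_ne_bot hne
  obtain ⟨v, ε, hv, hv0, hε, hTv⟩ : ∃ v ε, v ∈ U ∧ v ≠ 0 ∧ ε * σ ε = -1 ∧ T v = ε • v := by
    by_cases hc : T u + s • u = 0
    · exact ⟨u, -s, hu, hu0, by rw [map_neg, neg_mul_neg, hs], by rw [neg_smul]; exact eq_neg_of_add_eq_zero_left hc⟩
    · refine ⟨T u + s • u, s, U.add_mem (hUi u hu) (U.smul_mem s hu), hc, hs, ?_⟩
      rw [map_add, map_smul, ← Module.End.mul_apply, ← pow_two, hT, LinearMap.smul_apply, Module.End.one_apply,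
        smul_add, smul_smul, add_comm]
  have hvv : h v v = 0 := by
    have h1 := e v v
    rw [hTv, hh.smul_left, hh.smul_right, ← mul_assoc, hε] at h1
    exact (mul_eq_zero.1 (show (2 : F) * h v v = 0 by linear_combination -h1)).resolve_left h2
  obtain ⟨Y, hYi, hYU, hY, hYd⟩ := SForm.exists_pair (r := 2) (X := Submodule.span F {v}) hT (mul_ne_zero hs0 hs0)
    (by simpa using h2) (hermSF_isom (hh := hh) e) hU hUi (fun w hw => by
      obtain ⟨c, rfl⟩ := Submodule.mem_span_singleton.1 hw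
      rw [map_smul, hTv, smul_smul]
      exact Submodule.smul_mem _ _ (Submodule.mem_span_singleton_self v))
    ((Submodule.span_singleton_le_iff_mem _ _).2 hv) (fun a ha b hb => by
      obtain ⟨c, rfl⟩ := Submodule.mem_span_singleton.1 ha
      obtain ⟨d, rfl⟩ := Submodule.mem_span_singleton.1 hb
      rw [hermSF_B, hh.smul_left, hh.smul_right, hvv, mul_zero, mul_zero])
  exact ⟨Y, hYi, hYU, hY, by rw [hYd, finrank_span_singleton hv0]⟩

end gen

section std

variable {F : Type*} [Field F] [Fintype F] {σ : F →+* F} {q n m : ℕ}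

/-- Involutions: the cases with a fixed subspace. -/
theorem suNdFix_two (hne : σ ≠ RingHom.id F) (hinv : ∀ a, σ (σ a) = a) (hσ : ∀ x, σ x = x ^ q)
    (hcard : Fintype.card F = q ^ 2) (h2 : (2 : F) ≠ 0) (hn : 0 < n) (hmn : m ≤ n)
    (hc : Odd n ∨ Even m ∨ (padicValNat 2 n ≤ padicValNat 2 (q + 1) ∧ q % 4 = 3)) : SUNdFix F q n m 2 := by
  classical
  intro x hx hx1 hx2
  obtain ⟨z, hz⟩ := hx1
  haveI : Fact (Nat.Prime 2) := ⟨Nat.prime_two⟩
  have hH := HermStd.isHerm_std hne hinv hσ n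
  have hx' : ∀ u v, Cfsg.hermForm n F q (Matrix.toLin' x.1 u) (Matrix.toLin' x.1 v) = Cfsg.hermForm n F q u v := hx
  have hxx : Matrix.toLin' x.1 ^ 2 = z • 1 := by
    rw [← Matrix.toLin'_pow, show x.1 ^ 2 = z • 1 from hz, map_smul, Matrix.toLin'_one]; rfl
  have hzz : z * σ z = 1 := by
    let e0 : Fin n → F := Pi.single ⟨0, hn⟩ 1
    have h3 := (hermSF_isom (hh := hH) hx').pow 2 e0 e0
    rw [hxx, LinearMap.smul_apply, Module.End.one_apply, hermSF_B, hermSF_B, hH.smul_left, hH.smul_right, ← mul_assoc,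
      HermStd.hermForm_single hσ] at h3
    simpa using h3
  have hzq : z ^ (q + 1) = 1 := by rw [pow_succ', ← hσ]; exact hzz
  have hqodd : q % 2 = 1 := by
    have h3 : Fintype.card F % 2 = 1 := FiniteField.odd_card_of_char_ne_two fun hc' => h2 (by
      haveI := ringChar.of_eq hc'; exact CharP.cast_eq_zero F 2)
    rw [hcard, Nat.pow_mod] at h3
    rcases Nat.mod_two_eq_zero_or_one q with h | h <;> simp [h] at h3 ⊢
  have hz0 : z ≠ 0 := fun h => by rw [h, zero_mul] at hzz; exact zero_ne_one hzz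
  obtain ⟨s, hs⟩ : IsSquare z := by
    refine (FiniteField.isSquare_iff (fun hc' => h2 (by
      haveI := ringChar.of_eq hc'; exact CharP.cast_eq_zero F 2)) hz0).2 ?_
    obtain ⟨k, hk⟩ : ∃ k, q = 2 * k + 1 := ⟨q / 2, by omega⟩
    have : q ^ 2 / 2 = (q + 1) * k := by
      subst hk
      rw [show (2 * k + 1) ^ 2 = 2 * ((2 * k + 2) * k) + 1 by ring, show 2 * k + 1 + 1 = 2 * k + 2 by ring]
      omega
    rw [hcard, this, pow_mul, hzq, one_pow]
  have hs0 : s ≠ 0 := fun h => hz0 (by rw [hs, h, mul_zero])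
  obtain ⟨T, hT⟩ : ∃ T, T = s⁻¹ • Matrix.toLin' x.1 := ⟨_, rfl⟩
  have hTT : T ^ 2 = 1 := by
    rw [hT, _root_.smul_pow, hxx, smul_smul, hs, inv_pow, ← pow_two, inv_mul_cancel₀ (pow_ne_zero 2 hs0), one_smul]
  have hxT : ∀ v, Matrix.toLin' x.1 v = s • T v := fun v => by
    rw [hT, LinearMap.smul_apply, smul_inv_smul₀ hs0]
  have hTB : ∀ u v, Cfsg.hermForm n F q u v = s * σ s * Cfsg.hermForm n F q (T u) (T v) := fun u v => by
    rw [← hx' u v, hxT, hxT, hH.smul_left, hH.smul_right, mul_assoc]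
  have hr : ((2 : ℕ) : F) ≠ 0 := by simpa using h2
  have hν : s * σ s = 1 ∨ s * σ s = -1 := by
    refine mul_self_eq_one_iff.1 ?_
    have : z * σ z = (s * σ s) * (s * σ s) := by rw [hs, map_mul]; ring
    rw [← this, hzz]
  have hfd := SForm.finrank_fixed_add hTT hr
  rw [Module.finrank_fin_fun] at hfd
  have hfix : ∀ v ∈ movedSpace T 2, T v = -v := fun v hv => by
    simp only [movedSpace, LinearMap.mem_ker, Finset.sum_range_succ, Finset.sum_range_zero, pow_zero, pow_one,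
      zero_add, LinearMap.add_apply, Module.End.one_apply] at hv
    exact eq_neg_of_add_eq_zero_right hv
  rcases hν with hν | hν
  · have e : ∀ u v, Cfsg.hermForm n F q (T u) (T v) = Cfsg.hermForm n F q u v := fun u v => by
      rw [hTB u v, hν, one_mul]
    have hI := hermSF_isom (hh := hH) e
    obtain ⟨j, hj1, hj2⟩ : ∃ j, j ≤ finrank F (movedSpace T 2) ∧ j ≤ m ∧ m - j ≤ finrank F (fixedSpace T) :=
      ⟨min (finrank F (movedSpace T 2)) m, by omega, by omega, by omega⟩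
    obtain ⟨A, hA, hAnd, hAd⟩ := exists_nd_any (SForm.nd_fixed hTT hr hI) (e := m - j) hj2.2
    obtain ⟨B, hB, hBnd, hBd⟩ := exists_nd_any (SForm.nd_moved hTT hr hI) hj1
    obtain ⟨h1, h3, h4⟩ := SForm.nd_join hr hI hA hAnd (W := B)
      (fun v hv => by rw [hfix v (hB hv)]; exact B.neg_mem hv) hB hBnd
    exact ⟨A ⊔ B, by rw [h4, hAd, hBd]; omega, nd_herm_iff.2 h3,
      inv_map_iff.2 fun v hv => by rw [hxT]; exact (A ⊔ B).smul_mem _ (h1 v hv)⟩
  · have hblock := fun U hUi hU hne' => exists_block_norm_neg (hh := hH) h2 hν (T := Matrix.toLin' x.1)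
      (hs ▸ hxx) hx' (U := U) hUi hU hne'
    have hIx := hermSF_isom (hh := hH) hx'
    have hn2 := SForm.dvd_of_block hIx two_pos ⊤ (fun U hUi _ hU hne' => hblock U hUi hU hne') (U := ⊤)
      (fun _ _ => trivial) le_rfl (SForm.nd_top _)
    rw [finrank_top, Module.finrank_fin_fun] at hn2
    rcases Nat.even_or_odd m with hm | hm
    · obtain ⟨W, hWi, -, hW, hWd⟩ := SForm.exists_nd_climb hIx (c := 2) ⊤
        (fun U hUi _ hU hd => hblock U hUi hU fun h1 => by rw [h1, finrank_bot] at hd; omega) (m / 2) ⊤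
        (fun _ _ => trivial) le_rfl (SForm.nd_top _) (by rw [finrank_top, Module.finrank_fin_fun]; omega)
      exact ⟨W, by rw [hWd]; exact Nat.mul_div_cancel' hm.two_dvd, nd_herm_iff.2 hW, inv_map_iff.2 hWi⟩
    exfalso
    obtain ⟨hv, hq4⟩ := (hc.resolve_left fun h => Nat.not_even_iff_odd.2 h (even_iff_two_dvd.2 hn2)).resolve_left
      (Nat.not_even_iff_odd.2 hm)
    have hiso : ∀ {E : Submodule F (Fin n → F)} {ε : F}, ε * σ ε = 1 → (∀ v ∈ E, T v = ε • v) →
        ∀ u ∈ E, ∀ v ∈ E, Cfsg.hermForm n F q u v = 0 := fun {E ε} hε hE u hu v hv => by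
      have h1 := hTB u v
      rw [hE u hu, hE v hv, hH.smul_left, hH.smul_right, hν, ← mul_assoc ε, hε, one_mul] at h1
      have h3 : (2 : F) * Cfsg.hermForm n F q u v = 0 := by linear_combination h1
      exact (mul_eq_zero.1 h3).resolve_left h2
    have l1 := (hermSF hH).two_finrank_le (SForm.nd_top _) le_top (hiso (E := fixedSpace T) (ε := 1) (by simp)
      fun v hv => by rw [one_smul]; exact mem_fixedSpace.1 hv)
    have l2 := (hermSF hH).two_finrank_le (SForm.nd_top _) le_top (hiso (E := movedSpace T 2) (ε := -1) (by simp)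
      fun v hv => by rw [neg_one_smul]; exact hfix v hv)
    rw [finrank_top, Module.finrank_fin_fun] at l1 l2
    obtain ⟨M, hM⟩ : ∃ M, M = finrank F (movedSpace T 2) := ⟨_, rfl⟩
    have hMn : n = M + M := by omega
    have h3 : x.1.det = 1 := x.2
    rw [← LinearMap.det_toLin', show Matrix.toLin' x.1 = s • T from LinearMap.ext hxT, LinearMap.det_smul,
      Module.finrank_fin_fun, det_involution h2 hTT, ← hM] at h3
    rw [hMn] at h3
    have h4 : (-(s * s)) ^ M = 1 := (show (-(s * s)) ^ M = s ^ (M + M) * (-1) ^ M by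
      rw [neg_pow, mul_pow, pow_add]; ring).trans h3
    obtain ⟨a, ha⟩ : ∃ a, a = padicValNat 2 (q + 1) := ⟨_, rfl⟩
    obtain ⟨e, he⟩ : ∃ e, e = padicValNat 2 n := ⟨_, rfl⟩
    obtain ⟨u, hu⟩ : 2 ^ a ∣ q + 1 := ha ▸ pow_padicValNat_dvd
    obtain ⟨w, hw⟩ : 2 ^ e ∣ n := he ▸ pow_padicValNat_dvd
    have hwo : w % 2 = 1 := by
      by_contra hw2
      have h5 : 2 ^ (e + 1) ∣ n := ⟨w / 2, by rw [hw, pow_succ, mul_assoc, show 2 * (w / 2) = w by omega]⟩
      rw [padicValNat_dvd_iff_le hn.ne'] at h5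
      omega
    obtain ⟨Q, hQ⟩ : ∃ Q, q + 1 = 2 * Q := ⟨(q + 1) / 2, by omega⟩
    have h5 : (-(s * s)) ^ Q = -1 := by
      rw [neg_pow, Even.neg_one_pow (Nat.even_iff.2 (by omega)), one_mul, ← pow_two, ← pow_mul, ← hQ, pow_succ', ← hσ, hν]
    have h6 : Q * w = M * (2 ^ (a - e) * u) := by
      have : 2 * (Q * w) = 2 * (M * (2 ^ (a - e) * u)) := by
        rw [← mul_assoc, ← hQ, hu, ← mul_assoc 2 M, two_mul, ← hMn, hw]
        rw [show 2 ^ a = 2 ^ e * 2 ^ (a - e) by rw [← pow_add]; congr 1; omega]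
        ring
      omega
    have h7 : ((-1 : F)) ^ w = 1 := by rw [← h5, ← pow_mul, h6, pow_mul, h4, one_pow]
    rw [Odd.neg_one_pow (Nat.odd_iff.2 hwo)] at h7
    exact h2 (by linear_combination -h7)

/-- Involutions: the derangement. -/
theorem not_suNdFix_two (hne : σ ≠ RingHom.id F) (hinv : ∀ a, σ (σ a) = a) (hσ : ∀ x, σ x = x ^ q)
    (hcard : Fintype.card F = q ^ 2) (h2 : (2 : F) ≠ 0) (hn : 0 < n) (hne2 : Even n) (hmo : Odd m)
    (hv : ¬ (padicValNat 2 n ≤ padicValNat 2 (q + 1) ∧ q % 4 = 3)) : ¬ SUNdFix F q n m 2 := by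
  classical
  intro hall
  haveI : Fact (Nat.Prime 2) := ⟨Nat.prime_two⟩
  obtain ⟨N, rfl⟩ : ∃ N, n = 2 * N := ⟨n / 2, (Nat.mul_div_cancel' hne2.two_dvd).symm⟩
  have hqodd : q % 2 = 1 := by
    have h3 : Fintype.card F % 2 = 1 := FiniteField.odd_card_of_char_ne_two fun hc' => h2 (by
      haveI := ringChar.of_eq hc'; exact CharP.cast_eq_zero F 2)
    rw [hcard, Nat.pow_mod] at h3
    rcases Nat.mod_two_eq_zero_or_one q with h | h <;> simp [h] at h3 ⊢
  obtain ⟨a, ha⟩ : ∃ a, a = padicValNat 2 (q + 1) := ⟨_, rfl⟩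
  obtain ⟨u, hu⟩ : 2 ^ a ∣ q + 1 := ha ▸ pow_padicValNat_dvd
  have huo : u % 2 = 1 := by
    by_contra hu2
    have h5 : 2 ^ (a + 1) ∣ q + 1 := ⟨u / 2, by rw [hu, pow_succ, mul_assoc, show 2 * (u / 2) = u by omega]⟩
    rw [padicValNat_dvd_iff_le (by omega : q + 1 ≠ 0)] at h5
    omega
  have ha1 : 1 ≤ a := ha ▸ one_le_padicValNat_of_dvd (by omega) (Nat.dvd_of_mod_eq_zero (by omega))
  have hpa : 2 ^ (a + 1) ∣ Nat.card Fˣ := by
    rw [Nat.card_eq_fintype_card, Fintype.card_units, hcard, show q ^ 2 - 1 = q ^ 2 - 1 ^ 2 by rfl, Nat.sq_sub_sq,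
      pow_succ]
    exact Nat.mul_dvd_mul ⟨u, hu⟩ (Nat.dvd_of_mod_eq_zero (by omega))
  obtain ⟨s, hs⟩ : ∃ s : Fˣ, orderOf s = 2 ^ (a + 1) := by
    obtain ⟨g, hg⟩ := IsCyclic.exists_ofOrder_eq_natCard (α := Fˣ)
    refine ⟨g ^ (Nat.card Fˣ / 2 ^ (a + 1)), ?_⟩
    rw [orderOf_pow' _ (Nat.div_pos (Nat.le_of_dvd Nat.card_pos hpa) (pow_pos two_pos _)).ne', hg,
      Nat.gcd_eq_right (Nat.div_dvd_of_dvd hpa), Nat.div_div_self hpa Nat.card_pos.ne']
  have hhalf : (s : F) ^ 2 ^ a = -1 := by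
    have h1 : ((s : F) ^ 2 ^ a) ^ 2 = 1 := by
      rw [← pow_mul, ← pow_succ, ← hs, ← Units.val_pow_eq_pow_val, pow_orderOf_eq_one, Units.val_one]
    refine (sq_eq_one_iff.1 h1).resolve_left fun h => ?_
    rw [← Units.val_pow_eq_pow_val, Units.val_eq_one, ← orderOf_dvd_iff_pow_eq_one, hs,
      Nat.pow_dvd_pow_iff_le_right one_lt_two] at h
    omega
  have hsn : (s : F) * σ (s : F) = -1 := by
    rw [hσ, ← pow_succ', hu, pow_mul, hhalf, Odd.neg_one_pow (Nat.odd_iff.2 huo)]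
  obtain ⟨z, hz⟩ : ∃ z : F, z = (s : F) * s := ⟨_, rfl⟩
  have hzz : z * σ z = 1 := by
    rw [hz, map_mul, mul_mul_mul_comm, hsn, neg_one_mul, neg_neg]
  have hzN : (-z) ^ N = 1 := by
    rcases Nat.even_or_odd N with hN | hN
    · have hle : a + 1 ≤ padicValNat 2 (2 * N) := by
        by_contra hlt
        obtain ⟨k, hk⟩ := hN
        have h4 : (2 : ℕ) ^ 2 ∣ 2 * N := ⟨k, by omega⟩
        rw [padicValNat_dvd_iff_le (by omega)] at h4
        by_cases h34 : q % 4 = 3
        · exact hv ⟨by omega, h34⟩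
        · have h5 : ¬ 2 ≤ a := fun h5 => by
            have h6 : (2 : ℕ) ^ 2 ∣ q + 1 := (padicValNat_dvd_iff_le (by omega)).2 (ha ▸ h5)
            omega
          omega
      obtain ⟨k, hk⟩ : 2 ^ (a + 1) ∣ 2 * N := (padicValNat_dvd_iff_le (by omega)).2 hle
      rw [neg_pow, hN.neg_one_pow, one_mul, hz, ← pow_two, ← pow_mul, hk, pow_mul, ← hs, ← Units.val_pow_eq_pow_val,
        pow_orderOf_eq_one, Units.val_one, one_pow]
    · have he : padicValNat 2 (2 * N) = 1 := by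
        rw [padicValNat.mul two_ne_zero (by omega), padicValNat.self one_lt_two,
          padicValNat.eq_zero_of_not_dvd (by rw [Nat.odd_iff] at hN; omega)]
      have hq4 : q % 4 ≠ 3 := fun h => hv ⟨by omega, h⟩
      have ha' : a = 1 := by
        by_contra h5
        have h6 : (2 : ℕ) ^ 2 ∣ q + 1 := (padicValNat_dvd_iff_le (by omega)).2 (ha ▸ (show 2 ≤ a by omega))
        omega
      rw [ha', pow_one] at hhalf
      rw [neg_pow, hN.neg_one_pow, hz, ← pow_two, hhalf, hN.neg_one_pow, neg_one_mul, neg_neg]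
  obtain ⟨A, hA⟩ : ∃ A : Matrix (Fin 2) (Fin 2) F, A = !![0, z; 1, 0] := ⟨_, rfl⟩
  let T := hmMap (f := 0) (fun _ : Fin N => A)
  have hH := hmForm_herm (F := F) (κ := Fin N) (f := 0) (h := 2) hne hinv hσ
  have hA2 : ∀ u v, Cfsg.hermForm 2 F q (Matrix.toLin' A u) (Matrix.toLin' A v) = Cfsg.hermForm 2 F q u v := fun u v => by
    simp only [Cfsg.hermForm, Fin.sum_univ_two, Matrix.toLin'_apply, Matrix.mulVec, dotProduct, hA, ← hσ]
    simp only [Matrix.cons_val', Matrix.cons_val_zero, Matrix.cons_val_one, Matrix.of_apply, zero_mul, one_mul,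
      add_zero, zero_add, map_mul, Matrix.empty_val', Matrix.cons_val_fin_one, map_add, map_zero]
    linear_combination (u 1 * σ (v 1)) * hzz
  have hAA : A ^ 2 = z • 1 := by
    rw [pow_two, hA]
    ext i j
    fin_cases i <;> fin_cases j <;> simp [Matrix.mul_apply, Fin.sum_univ_two]
  have hT : T ^ 2 = z • 1 := LinearMap.ext fun v => by
    rw [hmMap_pow, LinearMap.smul_apply, Module.End.one_apply]
    refine Prod.ext (funext fun k => k.elim0) (funext fun k => ?_)
    rw [← Matrix.toLin'_pow, hAA, map_smul, Matrix.toLin'_one]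
    rfl
  obtain ⟨W, hWi, hW, hWd⟩ := suNdFix_get hH hσ (finrank_hmdl.trans (by rw [Fintype.card_fin]; omega)) (T := T) (z := z)
    (hmMap_isometry fun _ => hA2) hT (by
      rw [det_hmMap, Finset.prod_const, Finset.card_univ, Fintype.card_fin,
        show A.det = -z by rw [hA, Matrix.det_fin_two_of]; ring, hzN])
    (fun c hc => by
      have h1 := congrFun (congrFun (congrArg Prod.snd
        (LinearMap.congr_fun hc (0, Pi.single ⟨0, by omega⟩ (Pi.single 0 1)))) ⟨0, by omega⟩) 1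
      simp [T, hmMap_apply, hA, Matrix.toLin'_apply, Matrix.mulVec, dotProduct, Fin.sum_univ_two] at h1) hall
  have hdvd := SForm.dvd_of_block (hermSF_isom (hh := hH) (hmMap_isometry fun _ => hA2)) two_pos ⊤
    (fun U hUi _ hU hne' => exists_block_norm_neg (hh := hH) h2 hsn (hz ▸ hT) (hmMap_isometry fun _ => hA2) hUi hU hne')
    hWi le_top hW
  rw [hWd] at hdvd
  exact Nat.not_even_iff_odd.2 hmo (even_iff_two_dvd.2 hdvd)

end std

/-- Parts of size at most two. -/
lemma part_two_iff {n m : ℕ} (hmn : m ≤ n) :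
    (∀ μ : Multiset ℕ, (∀ a ∈ μ, 0 < a ∧ a ≤ 2) → μ.sum = n → ∃ ν : Multiset ℕ, ν ≤ μ ∧ ν.sum = m) ↔
      Odd n ∨ Even m := by
  constructor
  · intro h
    by_contra hc
    rw [not_or, Nat.not_odd_iff_even, Nat.not_even_iff_odd] at hc
    obtain ⟨ν, hν, hs⟩ := h (Multiset.replicate (n / 2) 2) (fun a ha => by rw [Multiset.eq_of_mem_replicate ha]; omega)
      (by rw [Multiset.sum_replicate, smul_eq_mul]; exact Nat.div_mul_cancel hc.1.two_dvd)
    obtain ⟨k, -, rfl⟩ := Multiset.le_replicate_iff.1 hν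
    rw [Multiset.sum_replicate, smul_eq_mul] at hs
    exact Nat.not_even_iff_odd.2 hc.2 ⟨k, by omega⟩
  · intro hc μ hμ hsum
    have hdec : μ = Multiset.replicate (μ.count 2) 2 + Multiset.replicate (μ.count 1) 1 := Multiset.ext.2 fun a => by
      rw [Multiset.count_add, Multiset.count_replicate, Multiset.count_replicate]
      by_cases h2 : a = 2
      · subst h2; simp
      by_cases h1 : a = 1
      · subst h1; simp
      rw [if_neg (Ne.symm h2), if_neg (Ne.symm h1)]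
      exact Multiset.count_eq_zero.2 fun ha => by have := hμ a ha; omega
    obtain ⟨A, hA⟩ : ∃ A, A = μ.count 2 := ⟨_, rfl⟩
    obtain ⟨B, hB⟩ : ∃ B, B = μ.count 1 := ⟨_, rfl⟩
    rw [hdec, ← hA, ← hB, Multiset.sum_add, Multiset.sum_replicate, Multiset.sum_replicate, smul_eq_mul, smul_eq_mul] at hsum
    obtain ⟨k, hk1, hk2, hk3⟩ : ∃ k, k ≤ A ∧ 2 * k ≤ m ∧ m - 2 * k ≤ B := by
      refine ⟨min A (m / 2), by omega, by omega, ?_⟩
      rcases hc with h | h
      · rw [Nat.odd_iff] at h; omega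
      · rw [Nat.even_iff] at h; omega
    refine ⟨Multiset.replicate k 2 + Multiset.replicate (m - 2 * k) 1, ?_, ?_⟩
    · rw [hdec, ← hA, ← hB]
      exact add_le_add ((Multiset.replicate_le_replicate _).2 hk1) ((Multiset.replicate_le_replicate _).2 hk3)
    · rw [Multiset.sum_add, Multiset.sum_replicate, Multiset.sum_replicate, smul_eq_mul, smul_eq_mul]
      omega

end Cfsg.Agent.Elusive
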