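import Cfsg.Agent.Lib.Elusive.HermNdModel
import Cfsg.Agent.Lib.LinearBlock.OrthTypeElem

/-!
Elements of order the characteristic and non-degenerate subspaces of unitary spaces: partitions.
-/

set_option autoImplicit false
set_option linter.all false
set_option maxHeartbeats 1600000

namespace Cfsg.Agent.Elusive

open Module Hermitian

section gen

variable {F : Type*} [Field F] [Fintype F] {σ : F →+* F} {V : Type*} [AddCommGroup V] [Module F V] [FiniteDimensional F V]
  {h : V → V → F} {hh : IsHerm σ h} {N : Module.End F V}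

omit [Fintype F] [FiniteDimensional F V] in
lemma inv_one_add {T : Module.End F V} (hT : T = 1 + N) {W : Submodule F V} : Inv T W ↔ Inv N W := by
  subst hT
  exact ⟨fun h v hv => by simpa using W.sub_mem (h v hv) hv, fun h v hv => by simpa using W.add_mem hv (h v hv)⟩

/-- The relations between the members of two strings. -/
lemma rel_herm (hh : IsHerm σ h) (hP : ∀ u v, h (u + N u) (v + N v) = h u v) {a b : ℕ} {u v : V}
    (hu : (N ^ a) u = 0) (hv : (N ^ b) v = 0) :
    LBJordanForms.Rel a b fun i j => h ((N ^ i) u) ((N ^ j) v) := by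
  have hz : ∀ {c i : ℕ} {w : V}, (N ^ c) w = 0 → c ≤ i → (N ^ i) w = 0 := fun {c i w} hw hci => by
    obtain ⟨k, rfl⟩ := Nat.exists_eq_add_of_le hci
    rw [add_comm c, pow_add, Module.End.mul_apply, hw, map_zero]
  refine ⟨fun i j e => ?_, fun i j _ _ => ?_⟩
  · rcases e with e | e
    · show h _ _ = 0
      rw [hz hu e, hh.zero_left]
    · show h _ _ = 0
      rw [hz hv e, hh.zero_right]
  · have := hP ((N ^ i) u) ((N ^ j) v)
    simp only [hh.add_left, hh.add_right] at this
    rw [← Module.End.mul_apply N, ← Module.End.mul_apply N, ← pow_succ', ← pow_succ'] at this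
    linear_combination this

/-- The piece of largest size. -/
lemma exists_piece_herm (hP : ∀ u v, h (u + N u) (v + N v) = h u v) {p : ℕ} (hN : N ^ p = 0) {U : Submodule F V}
    (hUi : Inv N U) (hU : (hermSF hh).ND U) (hne : U ≠ ⊥) :
    ∃ (e : ℕ) (Z : Submodule F V), 0 < e ∧ e ≤ p ∧ Inv N Z ∧ Z ≤ U ∧ (hermSF hh).ND Z ∧ finrank F Z = e := by
  classical
  have hex : ∃ e, ∀ u ∈ U, (N ^ e) u = 0 := ⟨p, fun u _ => by rw [hN]; rfl⟩
  obtain ⟨e, he, hmin⟩ : ∃ e, (∀ u ∈ U, (N ^ e) u = 0) ∧ ∀ e' < e, ¬ ∀ u ∈ U, (N ^ e') u = 0 :=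
    ⟨Nat.find hex, Nat.find_spec hex, fun e' h1 => Nat.find_min hex h1⟩
  have hep : e ≤ p := by
    by_contra h1
    exact hmin p (by omega) fun u _ => by rw [hN]; rfl
  have he0 : 0 < e := Nat.pos_of_ne_zero fun h1 => hne (eq_bot_iff.2 fun u hu => by
    have := he u hu
    rw [h1, pow_zero] at this
    exact (Submodule.mem_bot F).2 this)
  obtain ⟨u, hu, hu0⟩ : ∃ u ∈ U, (N ^ (e - 1)) u ≠ 0 := by
    by_contra h1
    push Not at h1
    exact hmin (e - 1) (by omega) h1
  obtain ⟨w, hw, hw0⟩ : ∃ w ∈ U, h ((N ^ (e - 1)) w) w ≠ 0 := by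
    by_contra hc
    push Not at hc
    refine hu0 (hU _ (hUi.pow _ _ hu) fun v hv => ?_)
    obtain ⟨c, hc'⟩ : ∃ c : F, σ c ≠ c := by
      by_contra h1; push Not at h1; exact hh.ne_id (RingHom.ext h1)
    have h1 : ∀ a b, a ∈ U → b ∈ U → h ((N ^ (e - 1)) a) b + h ((N ^ (e - 1)) b) a = 0 := fun a b ha hb => by
      have := hc _ (U.add_mem ha hb)
      simp only [map_add, hh.add_left, hh.add_right, hc a ha, hc b hb, zero_add, add_zero] at this
      linear_combination this
    have h2 := h1 u v hu hv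
    have h3 := h1 u (c • v) hu (U.smul_mem c hv)
    rw [map_smul, hh.smul_left, hh.smul_right] at h3
    have h4 : (σ c - c) * h ((N ^ (e - 1)) u) v = 0 := by linear_combination h3 - c * h2
    exact (mul_eq_zero.1 h4).resolve_left (sub_ne_zero.2 hc')
  have hrel := rel_herm hh hP (he w hw) (he w hw)
  have hanti : ∀ i, i < e → h ((N ^ i) w) ((N ^ (e - 1 - i)) w) ≠ 0 := fun i hi => by
    have h1 := hrel.anti i hi
    have h2 := hrel.anti (e - 1) (by omega)
    simp only [Nat.sub_self, pow_zero, Module.End.one_apply] at h1 h2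
    rw [h1]
    refine mul_ne_zero (pow_ne_zero _ (neg_ne_zero.2 one_ne_zero)) fun h3 => hw0 ?_
    rw [h2, h3, mul_zero]
  let v : Fin e → V := fun i => (N ^ (i : ℕ)) w
  have key : ∀ c : Fin e → F, (∀ i < e, h ((N ^ i) w) (∑ a, c a • v a) = 0) → c = 0 := fun c hc => by
    have h1 := LBJordanForms.Tri.inj (d := e) (g := fun i j => h ((N ^ i) w) ((N ^ j) w))
      ⟨fun i j hij => hrel.van hij, hanti⟩ (v := fun j => if hj : j < e then σ (c ⟨j, hj⟩) else 0) fun i hi => by
      have h2 := hc i hi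
      rw [← hermSF_B (hh := hh), SForm.sum_right] at h2
      rw [Finset.sum_range]
      refine Eq.trans (Finset.sum_congr rfl fun a _ => ?_) h2
      rw [dif_pos a.2, hermSF_B, hh.smul_right, mul_comm]
    exact funext fun a => by
      have := h1 a a.2
      rw [dif_pos a.2] at this
      exact (map_eq_zero σ).1 this
  refine ⟨e, Submodule.span F (Set.range v), he0, hep, ?_, Submodule.span_le.2 ?_, ?_, ?_⟩
  · intro z hz
    refine (Submodule.span_le.2 ?_ : Submodule.span F (Set.range v) ≤ (Submodule.span F (Set.range v)).comap N) hz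
    rintro _ ⟨a, rfl⟩
    rw [SetLike.mem_coe, Submodule.mem_comap]
    show N ((N ^ (a : ℕ)) w) ∈ _
    rw [← Module.End.mul_apply, ← pow_succ']
    rcases Nat.lt_or_ge ((a : ℕ) + 1) e with h1 | h1
    · exact Submodule.subset_span ⟨⟨_, h1⟩, rfl⟩
    · rw [show (a : ℕ) + 1 = e from le_antisymm a.2 h1, he w hw]
      exact Submodule.zero_mem _
  · rintro _ ⟨a, rfl⟩
    exact hUi.pow _ _ hw
  · intro z hz hzero
    obtain ⟨c, rfl⟩ := (Submodule.mem_span_range_iff_exists_fun F).1 hz
    rw [key c fun i hi => hh.eq_zero_comm.1 (hzero _ (Submodule.subset_span ⟨⟨i, hi⟩, rfl⟩))]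
    simp
  · rw [finrank_span_eq_card (Fintype.linearIndependent_iff.2 fun c hc => congrFun (key c fun i _ => by rw [hc, hh.zero_right])),
      Fintype.card_fin]

/-- The partition of a unipotent isometry and its invariant non-degenerate subspaces. -/
theorem exists_partition_herm (hP : ∀ u v, h (u + N u) (v + N v) = h u v) {p : ℕ} (hN : N ^ p = 0) :
    ∀ (n : ℕ) (U : Submodule F V), finrank F U = n → Inv N U → (hermSF hh).ND U →
      ∃ μ : Multiset ℕ, (∀ a ∈ μ, 0 < a ∧ a ≤ p) ∧ μ.sum = n ∧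
        ∀ ν : Multiset ℕ, ν ≤ μ → ∃ W, Inv N W ∧ W ≤ U ∧ (hermSF hh).ND W ∧ finrank F W = ν.sum := by
  intro n
  induction n using Nat.strong_induction_on with
  | _ n ih =>
  intro U hUd hUi hU
  by_cases hne : U = ⊥
  · subst hne
    rw [finrank_bot] at hUd
    refine ⟨0, by simp, by simp [← hUd], fun ν hν => ⟨⊥, SForm.inv_bot', le_rfl, SForm.nd_bot, ?_⟩⟩
    rw [Multiset.le_zero.1 hν]; simp
  obtain ⟨e, Z, he0, hep, hZi, hZU, hZ, hZd⟩ := exists_piece_herm hP hN hUi hU hne
  obtain ⟨hY, -, -, hYd⟩ := SForm.nd_compl hU hZ hZU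
  have hI : (hermSF hh).Isom (1 + N) := hermSF_isom fun u v => by simpa using hP u v
  have hYi : Inv N ((hermSF hh).perp Z ⊓ U) := (inv_one_add rfl).1
    (SForm.inv_compl_perp hI ((inv_one_add rfl).2 hUi) ((inv_one_add rfl).2 hZi))
  obtain ⟨μ, hμ, hsum, hget⟩ := ih (finrank F ((hermSF hh).perp Z ⊓ U : Submodule F V)) (by omega) _ rfl hYi hY
  refine ⟨e ::ₘ μ, fun a ha => ?_, ?_, fun ν hν => ?_⟩
  · rcases Multiset.mem_cons.1 ha with rfl | h1
    · exact ⟨he0, hep⟩
    · exact hμ a h1
  · rw [Multiset.sum_cons, hsum]; omega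
  · by_cases hc : e ∈ ν
    · obtain ⟨W, hWi, hWY, hW, hWd⟩ := hget (ν.erase e) (by
        have := Multiset.erase_le_erase e hν
        rwa [Multiset.erase_cons_head] at this)
      obtain ⟨h1, -, h3⟩ := SForm.nd_sup hZ hW fun x hx y hy => (hWY hy).1 x hx
      refine ⟨Z ⊔ W, SForm.inv_join hZi hWi, sup_le hZU (hWY.trans inf_le_right), h1, ?_⟩
      rw [h3, hZd, hWd, Multiset.sum_erase hc]
    · obtain ⟨W, hWi, hWY, hW, hWd⟩ := hget ν ((Multiset.le_cons_of_notMem hc).1 hν)
      exact ⟨W, hWi, hWY.trans inf_le_right, hW, hWd⟩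

end gen

section model

variable {F : Type*} [Field F] [Fintype F] {σ : F →+* F} {t : ℕ} {dd : Fin t → ℕ}

lemma shift_sum : ∀ (d : ℕ) (u : Fin d → F) (X : ℕ → F), X d = 0 →
    ∑ i : Fin d, (if hi : (i : ℕ) = 0 then 0 else u ⟨i - 1, by omega⟩) * X i = ∑ i : Fin d, u i * X (i + 1) := by
  intro d u X hX
  rcases d with _ | d
  · simp
  rw [Fin.sum_univ_succ, Fin.sum_univ_castSucc (f := fun i : Fin (d + 1) => u i * X (i + 1))]
  simp [hX]
  exact Finset.sum_congr rfl fun i _ => congrArg (fun a => u a * X (i + 1)) (Fin.ext (by simp))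

/-- A Hermitian form with a prescribed unipotent type. -/
lemma exists_type_form (hne : σ ≠ RingHom.id F) (hinv : ∀ a, σ (σ a) = a) (dd : Fin t → ℕ) :
    ∃ h : (((k : Fin t) × Fin (dd k)) → F) → (((k : Fin t) × Fin (dd k)) → F) → F, IsHerm σ h ∧
      ∀ u v, h (u + LBType.jn dd F u) (v + LBType.jn dd F v) = h u v := by
  classical
  have hcex : ∀ k, ∃ c : F, c + (-1) ^ (dd k - 1) * σ c ≠ 0 := fun k => by
    rcases Nat.even_or_odd (dd k - 1) with he | ho
    · rw [he.neg_one_pow]
      obtain ⟨c, hc⟩ := exists_trace hne hinv (map_one σ)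
      exact ⟨c, by rw [one_mul, hc]; exact one_ne_zero⟩
    · obtain ⟨c, hc⟩ : ∃ c : F, σ c ≠ c := by
        by_contra h1; push Not at h1; exact hne (RingHom.ext h1)
      exact ⟨c, by rw [ho.neg_one_pow, neg_one_mul, ← sub_eq_add_neg, sub_ne_zero]; exact Ne.symm hc⟩
  choose c hc using hcex
  let g : Fin t → ℕ → ℕ → F := fun k i j =>
    c k * LBJordanForms.pair (dd k) i j + σ (c k) * LBJordanForms.pair (dd k) j i
  have hpσ : ∀ d i j, σ (LBJordanForms.pair (F := F) d i j) = LBJordanForms.pair d i j := fun d i j => by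
    unfold LBJordanForms.pair; split_ifs <;> simp
  have hgrel : ∀ k, LBJordanForms.Rel (dd k) (dd k) (g k) := fun k =>
    ⟨fun i j hij => by
      have h1 := ((LBJordanForms.pair_rel (F := F) (dd k)).smul (c k)).1 i j hij
      have h2 := ((LBJordanForms.pair_rel (F := F) (dd k)).swap.smul (σ (c k))).1 i j hij
      simp only [g]; linear_combination h1 + h2,
    fun i j hi hj => by
      have h1 := (LBJordanForms.pair_rel (F := F) (dd k)).2 i j hi hj
      have h2 := (LBJordanForms.pair_rel (F := F) (dd k)).2 j i hj hi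
      simp only [g]; linear_combination c k * h1 + σ (c k) * h2⟩
  have htri : ∀ k, LBJordanForms.Tri (dd k) (g k) := fun k => by
    refine ⟨fun i j hij => (hgrel k).van hij, fun i hi => ?_⟩
    rw [(hgrel k).anti i hi]
    refine mul_ne_zero (pow_ne_zero _ (neg_ne_zero.2 one_ne_zero)) fun h1 => hc k ?_
    have e1 : LBJordanForms.pair (F := F) (dd k) 0 (dd k - 1) = 1 := by
      simp [LBJordanForms.pair, show 0 < dd k by omega]
    have e2 : LBJordanForms.pair (F := F) (dd k) (dd k - 1) 0 = (-1) ^ (dd k - 1) := by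
      simp [LBJordanForms.pair, show dd k - 1 < dd k by omega]
    simp only [g, e1, e2, mul_one] at h1
    linear_combination h1
  refine ⟨fun u v => ∑ k, ∑ i : Fin (dd k), ∑ j : Fin (dd k), u ⟨k, i⟩ * g k i j * σ (v ⟨k, j⟩),
    ⟨hne, hinv, fun a b v => by simp [add_mul, Finset.sum_add_distrib],
      fun a u v => by simp [Finset.mul_sum, mul_assoc], fun u v => ?_, fun u hu => ?_⟩, fun u v => ?_⟩
  · simp only [map_sum, map_mul, hinv]
    refine Finset.sum_congr rfl fun k _ => ?_
    rw [Finset.sum_comm]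
    refine Finset.sum_congr rfl fun i _ => Finset.sum_congr rfl fun j _ => ?_
    simp only [g, map_add, map_mul, hinv, hpσ]
    ring
  · funext a
    obtain ⟨k, i₀⟩ := a
    have h1 := LBJordanForms.Tri.inj (d := dd k) (g := fun i j => g k j i)
      ⟨fun i j hij => (htri k).1 j i (by omega), fun i hi => by
        have := (htri k).2 (dd k - 1 - i) (by omega)
        rwa [show dd k - 1 - (dd k - 1 - i) = i by omega] at this⟩
      (v := fun j => if hj : j < dd k then u ⟨k, ⟨j, hj⟩⟩ else 0) fun i hi => by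
      have h2 := hu (Pi.single ⟨k, ⟨i, hi⟩⟩ 1)
      rw [Finset.sum_eq_single k (fun l _ hl => Finset.sum_eq_zero fun x _ => Finset.sum_eq_zero fun y _ => by
        rw [Pi.single_eq_of_ne (fun e => hl (congrArg Sigma.fst e)), map_zero, mul_zero]) (by simp)] at h2
      rw [Finset.sum_range]
      refine Eq.trans (Finset.sum_congr rfl fun x _ => ?_) h2
      rw [dif_pos x.2, Finset.sum_eq_single (⟨i, hi⟩ : Fin (dd k)) (fun y _ hy => by
        rw [Pi.single_eq_of_ne (fun e => hy (by simpa using e)), map_zero, mul_zero]) (by simp),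
        Pi.single_eq_same, map_one, mul_one, mul_comm]
    have h3 := h1 i₀ i₀.2
    rwa [dif_pos i₀.2] at h3
  · refine Finset.sum_congr rfl fun k _ => ?_
    obtain ⟨N, hN⟩ : ∃ N, N = LBType.jn dd F := ⟨_, rfl⟩
    rw [← hN]
    have hNv : ∀ (w : ((k : Fin t) × Fin (dd k)) → F) (i : Fin (dd k)),
        N w ⟨k, i⟩ = if hi : (i : ℕ) = 0 then 0 else w ⟨k, ⟨i - 1, by omega⟩⟩ := fun w i => by
      rw [hN, LBType.jn_apply]
    have hσN : ∀ (w : ((k : Fin t) × Fin (dd k)) → F) (i : Fin (dd k)),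
        σ (N w ⟨k, i⟩) = if hi : (i : ℕ) = 0 then 0 else σ (w ⟨k, ⟨i - 1, by omega⟩⟩) := fun w i => by
      rw [hNv]; split_ifs <;> simp
    have hR : ∀ (i : ℕ) (a : Fin (dd k) → F), ∑ j : Fin (dd k), g k i j * (if hj : (j : ℕ) = 0 then 0 else a ⟨j - 1, by omega⟩)
        = ∑ j : Fin (dd k), g k i (j + 1) * a j := fun i a => by
      exact (Finset.sum_congr rfl fun j _ => mul_comm _ _).trans
        ((shift_sum _ a (fun j => g k i j) ((hgrel k).1 _ _ (Or.inr le_rfl))).trans (Finset.sum_congr rfl fun j _ => mul_comm _ _))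
    have hR' := fun i => hR i fun j => σ (v ⟨k, j⟩)
    have hL : ∀ (Y : ℕ → F), Y (dd k) = 0 → ∑ i : Fin (dd k), N u ⟨k, i⟩ * Y i =
        ∑ i : Fin (dd k), u ⟨k, i⟩ * Y (i + 1) := fun Y hY => by
      simp only [hNv]
      exact shift_sum _ (fun i => u ⟨k, i⟩) Y hY
    simp only [Pi.add_apply, map_add, hσN, mul_assoc, ← Finset.mul_sum, mul_add, Finset.sum_add_distrib, hR', add_mul]
    rw [hL (fun i => ∑ j : Fin (dd k), g k i j * σ (v ⟨k, j⟩))
        (Finset.sum_eq_zero fun j _ => by rw [(hgrel k).1 _ _ (Or.inl le_rfl), zero_mul]),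
      hL (fun i => ∑ j : Fin (dd k), g k i (j + 1) * σ (v ⟨k, j⟩))
        (Finset.sum_eq_zero fun j _ => by rw [(hgrel k).1 _ _ (Or.inl le_rfl), zero_mul])]
    have h0 : ∑ i : Fin (dd k), u ⟨k, i⟩ * ∑ j : Fin (dd k),
        (g k (i + 1) j + g k i (j + 1) + g k (i + 1) (j + 1)) * σ (v ⟨k, j⟩) = 0 :=
      Finset.sum_eq_zero fun i _ => by
        rw [Finset.sum_eq_zero fun j _ => by rw [(hgrel k).2 i j i.2 j.2, zero_mul], mul_zero]
    simp only [add_mul, Finset.sum_add_distrib, mul_add] at h0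
    linear_combination h0

end model

section std

variable {F : Type*} [Field F] [Fintype F] {σ : F →+* F} {q n m : ℕ} (p : ℕ) [Fact p.Prime] [CharP F p]

lemma nilp_of_pow_char {V : Type*} [AddCommGroup V] [Module F V] [Nontrivial V] {T : Module.End F V} (hT : T ^ p = 1) :
    (T - 1) ^ p = 0 := by
  haveI : CharP (Module.End F V) p := charP_of_injective_algebraMap (algebraMap F (Module.End F V)).injective p
  rw [sub_pow_char_of_commute (p := p) (Commute.one_right T), hT, one_pow, sub_self]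

lemma det_unip {V : Type*} [AddCommGroup V] [Module F V] [FiniteDimensional F V] {T : Module.End F V} (hT : T ^ p = 1) :
    LinearMap.det T = 1 := by
  have h1 : LinearMap.det T ^ p = 1 := by rw [← map_pow, hT, map_one]
  have h2 : (LinearMap.det T - 1) ^ p = 0 := by rw [sub_pow_char, h1, one_pow, sub_self]
  exact sub_eq_zero.1 ((pow_eq_zero_iff (Fact.out : p.Prime).ne_zero).1 h2)

/-- The characteristic. -/
theorem suNdFix_unip_iff (hne : σ ≠ RingHom.id F) (hinv : ∀ a, σ (σ a) = a) (hσ : ∀ x, σ x = x ^ q)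
    (hn : 0 < n) (hmn : m ≤ n) :
    SUNdFix F q n m p ↔ ∀ μ : Multiset ℕ, (∀ a ∈ μ, 0 < a ∧ a ≤ p) → μ.sum = n →
      ∃ ν : Multiset ℕ, ν ≤ μ ∧ ν.sum = m := by
  classical
  have hp : p.Prime := Fact.out
  constructor
  · intro hall μ hμ hsum
    by_cases hbig : ∀ a ∈ μ, a = 1
    · have hrep : μ = Multiset.replicate (Multiset.card μ) 1 := Multiset.eq_replicate.2 ⟨rfl, hbig⟩
      have hcard : Multiset.card μ = n := by
        rw [hrep, Multiset.sum_replicate, smul_eq_mul, mul_one] at hsum; exact hsum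
      exact ⟨Multiset.replicate m 1, by rw [hrep, hcard]; exact Multiset.replicate_le_replicate 1 |>.2 hmn, by simp⟩
    obtain ⟨t, dd, hmap⟩ : ∃ (t : ℕ) (dd : Fin t → ℕ), (Finset.univ : Finset (Fin t)).val.map dd = μ :=
      ⟨μ.toList.length, μ.toList.get, by rw [Fin.univ_def, Multiset.map_coe, List.map_get_finRange, Multiset.coe_toList]⟩
    have hmem : ∀ k, dd k ∈ μ := fun k => hmap ▸ Multiset.mem_map_of_mem _ (Finset.mem_univ k)
    have hcnt : ∀ j, (Finset.univ.filter fun k : Fin t => dd k = j).card = μ.count j := fun j => by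
      rw [← hmap, Multiset.count_map, Finset.card_def, Finset.filter_val]
      congr 1
      exact Multiset.filter_congr fun k _ => eq_comm
    obtain ⟨h, hh, hinvar⟩ := exists_type_form (F := F) hne hinv dd
    obtain ⟨N, hN⟩ : ∃ N, N = LBType.jn dd F := ⟨_, rfl⟩
    rw [← hN] at hinvar
    have hlay : ∀ i, LBType.lay N i = (Finset.univ.filter fun k : Fin t => i < dd k).card := fun i =>
      hN ▸ LBType.lay_jn (F := F) i
    have hNp : N ^ p = 0 := hN ▸ LBType.jn_nilp fun k => (hμ _ (hmem k)).2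
    have hdim : finrank F (((k : Fin t) × Fin (dd k)) → F) = n := by
      rw [finrank_fintype_fun_eq_card, Fintype.card_sigma, ← hsum, ← hmap]
      simp [List.sum_ofFn]
    haveI : Nonempty ((k : Fin t) × Fin (dd k)) := Fintype.card_pos_iff.1 (by
      rw [← finrank_fintype_fun_eq_card (R := F), hdim]; exact hn)
    have hT : (1 + N) ^ p = 1 := by
      haveI : CharP (Module.End F (((k : Fin t) × Fin (dd k)) → F)) p :=
        charP_of_injective_algebraMap (algebraMap F (Module.End F (((k : Fin t) × Fin (dd k)) → F))).injective p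
      rw [add_pow_char_of_commute (p := p) (Commute.one_left N), hNp, one_pow, add_zero]
    obtain ⟨W, hWi, hW, hWd⟩ := suNdFix_get hh hσ hdim (T := 1 + N) (z := 1) (fun u v => by simpa using hinvar u v)
      (by rw [one_smul, hT]) (det_unip p hT) (fun z hz => hbig fun a ha => by
        have hzp : z = 1 := by
          have h1 := hT
          rw [hz, _root_.smul_pow, one_pow] at h1
          have h3 : z ^ p = 1 := by
            have := congrFun (LinearMap.congr_fun h1 (fun _ => 1)) (Classical.arbitrary _)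
            simpa using this
          have h4 : (z - 1) ^ p = 0 := by rw [sub_pow_char, h3, one_pow, sub_self]
          exact sub_eq_zero.1 ((pow_eq_zero_iff hp.ne_zero).1 h4)
        obtain ⟨k, rfl⟩ : ∃ k, dd k = a := by
          rw [← hmap, Multiset.mem_map] at ha
          exact ha.imp fun k hk => hk.2
        have h0 : N = 0 := by rw [hzp, one_smul] at hz; simpa using hz
        have h3 := hlay 1
        rw [LBType.lay_of_nilp N (m := 1) (by rw [pow_one, h0])] at h3
        by_contra hk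
        have := (hμ _ (hmem k)).1
        exact Finset.notMem_empty k (Finset.card_eq_zero.1 h3.symm ▸ Finset.mem_filter.2 ⟨Finset.mem_univ k, by omega⟩))
      hall
    have hI : (hermSF hh).Isom (1 + N) := hermSF_isom fun u v => by simpa using hinvar u v
    have hWi' : ∀ v ∈ W, N v ∈ W := (inv_one_add rfl).1 hWi
    have hW'i : ∀ v ∈ (hermSF hh).perp W, N v ∈ (hermSF hh).perp W := (inv_one_add rfl).1 (hI.inv_perp hWi)
    obtain ⟨NW, hNW⟩ : ∃ NW, NW = N.restrict hWi' := ⟨_, rfl⟩
    have hNWp : NW ^ p = 0 := LinearMap.ext fun w => Subtype.ext (by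
      rw [hNW, LBType.pow_restrict_apply, hNp]; rfl)
    refine ⟨LBType.parts NW p, Multiset.le_iff_count.2 fun e => ?_, by rw [LBType.sum_parts_eq NW hNWp, hWd]⟩
    rw [LBType.count_parts]
    split_ifs with he
    · have hc := (hermSF hh).isCompl_perp hW
      have h1 := LBType.lay_split N hc hWi' hW'i (e - 1)
      have h2' := LBType.lay_split N hc hWi' hW'i e
      have h3 := LBType.lay_le (N.restrict hW'i) (Nat.sub_le e 1)
      rw [← hNW, hlay] at h1 h2'
      have h4 : (Finset.univ.filter fun k : Fin t => e - 1 < dd k).card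
          = (Finset.univ.filter fun k : Fin t => e < dd k).card + (Finset.univ.filter fun k : Fin t => dd k = e).card := by
        rw [← Finset.card_union_of_disjoint (Finset.disjoint_filter.2 fun k _ hk1 hk2 => by omega), ← Finset.filter_or]
        exact congrArg Finset.card (Finset.filter_congr fun k _ => by omega)
      rw [hcnt] at h4
      omega
    · exact Nat.zero_le _
  · intro hc x hx hx1 _
    obtain ⟨z, hz⟩ := hx1
    haveI : Nonempty (Fin n) := ⟨⟨0, hn⟩⟩
    have hH := HermStd.isHerm_std hne hinv hσ n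
    have hx' : ∀ u v, Cfsg.hermForm n F q (Matrix.toLin' x.1 u) (Matrix.toLin' x.1 v) = Cfsg.hermForm n F q u v := hx
    have hxx : Matrix.toLin' x.1 ^ p = z • 1 := by
      rw [← Matrix.toLin'_pow, show x.1 ^ p = z • 1 from hz, map_smul, Matrix.toLin'_one]; rfl
    obtain ⟨s, rfl⟩ : ∃ s : F, s ^ p = z := (bijective_frobenius F p).2 z
    have hzz : (s ^ p) * σ (s ^ p) = 1 := by
      let e0 : Fin n → F := Pi.single ⟨0, hn⟩ 1
      have h3 := (hermSF_isom (hh := hH) hx').pow p e0 e0
      rw [hxx, LinearMap.smul_apply, Module.End.one_apply, hermSF_B, hermSF_B, hH.smul_left, hH.smul_right,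
        ← mul_assoc, HermStd.hermForm_single hσ] at h3
      simpa using h3
    have hs : s * σ s = 1 := by
      refine frobenius_inj F p (show (s * σ s) ^ p = 1 ^ p from ?_)
      rw [one_pow, mul_pow, ← map_pow, hzz]
    have hs0 : s ≠ 0 := fun h0 => by rw [h0, zero_mul] at hs; exact zero_ne_one hs
    obtain ⟨T, hT⟩ : ∃ T, T = s⁻¹ • Matrix.toLin' x.1 := ⟨_, rfl⟩
    have hTp : T ^ p = 1 := by
      rw [hT, _root_.smul_pow, hxx, smul_smul, inv_pow, inv_mul_cancel₀ (pow_ne_zero p hs0), one_smul]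
    have e' : ∀ u v, Cfsg.hermForm n F q (T u) (T v) = Cfsg.hermForm n F q u v := fun u v => by
      rw [hT, LinearMap.smul_apply, LinearMap.smul_apply, hH.smul_left, hH.smul_right, hx', ← mul_assoc, map_inv₀,
        ← mul_inv, hs, inv_one, one_mul]
    obtain ⟨μ, hμ, hsum, hget⟩ := exists_partition_herm (hh := hH) (N := T - 1) (fun u v => by simpa using e' u v)
      (nilp_of_pow_char p hTp) n ⊤ (by rw [finrank_top, Module.finrank_fin_fun]) (fun _ _ => trivial) (SForm.nd_top _)
    obtain ⟨ν, hν, hνs⟩ := hc μ hμ hsum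
    obtain ⟨W, hWi, -, hW, hWd⟩ := hget ν hν
    refine ⟨W, hWd.trans hνs, nd_herm_iff.2 hW, inv_map_iff.2 fun v hv => ?_⟩
    rw [show Matrix.toLin' x.1 v = s • T v by rw [hT, LinearMap.smul_apply, smul_inv_smul₀ hs0]]
    exact W.smul_mem _ ((inv_one_add (add_sub_cancel 1 T).symm).2 hWi v hv)

end std

end Cfsg.Agent.Elusive
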