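import Cfsg.Agent.Lib.Elusive.HermNdModel
import Cfsg.Agent.Lib.Elusive.HermSpecial

/-!
Semisimple derangements on non-degenerate subspaces of unitary spaces.
-/

set_option autoImplicit false
set_option linter.all false
set_option maxHeartbeats 1600000

namespace Cfsg.Agent.Elusive

open Module Polynomial Hermitian

variable {F : Type*} [Field F] [Fintype F] {q n m r b : ℕ} {σ : F →+* F} [Fact r.Prime]

/-- A scalar that is not a power. -/
lemma not_suNdFix_nonpower (hne : σ ≠ RingHom.id F) (hinv : ∀ a, σ (σ a) = a)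
    (hσ : ∀ x, σ x = x ^ q) (hcard : Fintype.card F = q ^ 2) (hr2 : r ≠ 2) (hdq : r ∣ q + 1)
    (hn : 0 < n) (hrm : ¬ r ∣ m) (hv : padicValNat r (q + 1) < padicValNat r n) : ¬ SUNdFix F q n m r := by
  classical
  intro hall
  have hrP : r.Prime := Fact.out
  have hodd : r % 2 = 1 := Nat.odd_iff.1 (hrP.odd_of_ne_two hr2)
  obtain ⟨a, ha⟩ : ∃ a, a = padicValNat r (q + 1) := ⟨_, rfl⟩
  obtain ⟨w, hw⟩ : r ^ (a + 1) ∣ n := (padicValNat_dvd_iff_le hn.ne').2 (by omega)
  have ha1 : 1 ≤ a := ha ▸ one_le_padicValNat_of_dvd (by omega : q + 1 ≠ 0) hdq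
  have hq1 : 1 ≤ q := by
    rcases Nat.eq_zero_or_pos q with rfl | h
    · simp at hcard
    · exact h
  have hcf : Fintype.card F - 1 = (q + 1) * (q - 1) := by
    rw [hcard, show q ^ 2 - 1 = q ^ 2 - 1 ^ 2 by rfl, Nat.sq_sub_sq]
  have hrq1 : ¬ r ∣ q - 1 := fun h => by
    have h1 := Nat.dvd_sub hdq h
    rw [show q + 1 - (q - 1) = 2 by omega] at h1
    exact hr2 ((Nat.prime_dvd_prime_iff_eq hrP Nat.prime_two).1 h1)
  have hpa : r ^ a ∣ Nat.card Fˣ := by
    rw [Nat.card_eq_fintype_card, Fintype.card_units, hcf]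
    exact dvd_mul_of_dvd_left (ha ▸ pow_padicValNat_dvd) _
  obtain ⟨z, hz⟩ : ∃ z : Fˣ, orderOf z = r ^ a := by
    obtain ⟨g, hg⟩ := IsCyclic.exists_ofOrder_eq_natCard (α := Fˣ)
    refine ⟨g ^ (Nat.card Fˣ / r ^ a), ?_⟩
    rw [orderOf_pow' _ (Nat.div_pos (Nat.le_of_dvd Nat.card_pos hpa) (pow_pos hrP.pos a)).ne', hg,
      Nat.gcd_eq_right (Nat.div_dvd_of_dvd hpa), Nat.div_div_self hpa Nat.card_pos.ne']
  have hzq : (z : F) ^ (q + 1) = 1 := by
    rw [← Units.val_pow_eq_pow_val, orderOf_dvd_iff_pow_eq_one.1 (hz ▸ (ha ▸ pow_padicValNat_dvd)), Units.val_one]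
  have hznp : ∀ s : F, s ^ r ≠ (z : F) := fun s hs => by
    have hs0 : s ≠ 0 := fun h => z.ne_zero (by rw [← hs, h, zero_pow hrP.ne_zero])
    obtain ⟨t, rfl⟩ : ∃ t : Fˣ, (t : F) = s := ⟨Units.mk0 s hs0, rfl⟩
    have ht : t ^ r = z := Units.ext (by rw [Units.val_pow_eq_pow_val]; exact hs)
    have hord : orderOf t = r ^ (a + 1) := by
      refine orderOf_eq_prime_pow (fun h => ?_) ?_
      · obtain ⟨b, hb⟩ : ∃ b, a = b + 1 := ⟨a - 1, by omega⟩
        rw [hb, pow_succ', pow_mul, ht, ← orderOf_dvd_iff_pow_eq_one, hz, hb,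
          Nat.pow_dvd_pow_iff_le_right hrP.one_lt] at h
        omega
      · rw [pow_succ', pow_mul, ht, ← hz, pow_orderOf_eq_one]
    have h1 : r ^ (a + 1) ∣ (q + 1) * (q - 1) := by
      rw [← hord, ← hcf, ← Fintype.card_units]; exact orderOf_dvd_card
    have h2 := ((hrP.coprime_iff_not_dvd.2 hrq1).pow_left (a + 1)).dvd_of_dvd_mul_right h1
    rw [padicValNat_dvd_iff_le (by omega : q + 1 ≠ 0)] at h2
    omega
  obtain ⟨σe, hσe⟩ : ∃ τ : F ≃+* F, ∀ x, τ x = σ x := ⟨sEquiv hinv, sEquiv_apply hinv⟩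
  obtain ⟨μ, hμ⟩ : ∃ μ, σe μ ≠ μ := by
    by_contra hc; push Not at hc; exact hne (RingHom.ext fun x => (hσe x).symm.trans (hc x))
  have hσ2 : orderOf σe = 2 := by
    haveI : Fact (Nat.Prime 2) := ⟨Nat.prime_two⟩
    refine orderOf_eq_prime (RingEquiv.ext fun x => ?_) fun hc => hμ ?_
    · rw [sq]; show σe (σe x) = x; rw [hσe, hσe, hinv]
    · rw [hc]; rfl
  have hc0 : (X ^ r - C (z : F)).coeff 0 = -(z : F) := by simp [coeff_X_pow, hrP.ne_zero.symm]
  obtain ⟨M, hM, hMf⟩ := UnitaryClasses.exists_charpoly_eq σe hσ2 hμ (monic_X_pow_sub_C (z : F) hrP.ne_zero)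
    natDegree_X_pow_sub_C (by rw [hc0]; exact neg_ne_zero.2 z.ne_zero) (fun i hi => by
      rw [hc0, hσe, coeff_sub, coeff_sub, coeff_X_pow, coeff_X_pow, coeff_C, coeff_C]
      rcases Nat.eq_zero_or_pos i with rfl | hi0
      · rw [if_pos (Nat.sub_zero r), if_neg (by have := hrP.pos; omega), if_neg hrP.ne_zero.symm, if_pos rfl,
          sub_zero, zero_sub, map_neg, neg_mul_neg, hσ, ← pow_succ', hzq]
      rcases eq_or_lt_of_le hi with rfl | hlt'
      · rw [if_neg (by omega), if_pos (Nat.sub_self i), if_pos rfl, if_neg hrP.ne_zero, zero_sub, sub_zero, map_one,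
          mul_one]
      · rw [if_neg (by omega), if_neg (by omega), if_neg (by omega), if_neg (by omega), sub_zero, map_zero, mul_zero])
  obtain ⟨B, hBU, hBM⟩ : ∃ B ∈ Cfsg.GU r F q, (B : GL (Fin r) F).1 = M := by
    refine ⟨⟨M, UnitarySpectra.adj σe M, mul_eq_one_comm.1 hM, hM⟩, ?_, rfl⟩
    rw [HermSU.mem_GU_iff hσ]
    have e : M.map σ = M.map σe := by ext s t; exact (hσe _).symm
    show Matrix.transpose M * M.map σ = 1
    rw [e, ← Matrix.transpose_inj, Matrix.transpose_mul, Matrix.transpose_transpose, Matrix.transpose_one]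
    exact hM
  have hMr : M ^ r = (z : F) • (1 : Matrix (Fin r) (Fin r) F) := by
    have h1 := Matrix.aeval_self_charpoly M
    rw [hMf, map_sub, map_pow, aeval_X, aeval_C, sub_eq_zero, Algebra.algebraMap_eq_smul_one] at h1
    exact h1
  have hMdet : M.det = (z : F) := by
    rw [Matrix.det_eq_sign_charpoly_coeff, hMf, hc0, Fintype.card_fin, Odd.neg_one_pow (Nat.odd_iff.2 hodd),
      neg_mul_neg, one_mul]
  let N := n / r
  have hrn : r ∣ n := ⟨r ^ a * w, by rw [hw, pow_succ', mul_assoc]⟩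
  have hNr : N * r = n := Nat.div_mul_cancel hrn
  have hNa : N = r ^ a * w := by
    show n / r = _
    rw [hw, pow_succ', mul_assoc, Nat.mul_div_cancel_left _ hrP.pos]
  have hN0 : 0 < N := Nat.div_pos (Nat.le_of_dvd hn hrn) hrP.pos
  let T := hmMap (f := 0) (fun _ : Fin N => M)
  have hT : T ^ r = (z : F) • 1 := LinearMap.ext fun v => by
    rw [hmMap_pow, LinearMap.smul_apply, Module.End.one_apply]
    refine Prod.ext (funext fun k => k.elim0) (funext fun k => ?_)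
    rw [← Matrix.toLin'_pow, hMr, map_smul, Matrix.toLin'_one]
    rfl
  obtain ⟨W, hW, -, hWd⟩ := suNdFix_get (hmForm_herm (F := F) (κ := Fin N) (f := 0) (h := r) hne hinv hσ) hσ
    (finrank_hmdl.trans (by rw [Fintype.card_fin, Nat.zero_add, hNr])) (T := T) (z := (z : F))
    (hmMap_isometry fun _ u v => hBM ▸ hBU u v) hT
    (by rw [det_hmMap, Finset.prod_const, Finset.card_univ, Fintype.card_fin, hMdet, hNa, pow_mul,
      ← Units.val_pow_eq_pow_val, ← hz, pow_orderOf_eq_one, Units.val_one, one_pow])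
    (fun c hc => hznp c (by
      have h1 := hT
      rw [hc, _root_.smul_pow, one_pow] at h1
      let v : HMdl F 0 r (Fin N) := (0, Pi.single ⟨0, hN0⟩ (Pi.single ⟨0, hrP.pos⟩ 1))
      have h2 := congrFun (congrFun (congrArg Prod.snd (LinearMap.congr_fun h1 v)) ⟨0, hN0⟩) ⟨0, hrP.pos⟩
      simpa [v] using h2)) hall
  exact hrm (hWd ▸ dvd_finrank_nonpower hT z.ne_zero hznp hW)

open LBRootPoly LBRootTwist in
/-- Too small a remainder: a derangement. -/
lemma not_suNdFix_mod [DecidableEq F] (p : ℕ) [Fact p.Prime] [CharP F p] (hne : σ ≠ RingHom.id F) (hinv : ∀ a, σ (σ a) = a)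
    (hσ : ∀ x, σ x = x ^ q) (hr : (r : F) ≠ 0) (hcop : ¬ r ∣ q + 1) (hb : b = orderOf (Fintype.card F : ZMod r))
    {h : ℕ} (hh : (h = b ∧ ∀ g ∈ factors F r, rc σ g = g) ∨
      (h = 2 * b ∧ ∀ j, 1 ≤ j → j ≤ b → (q : ZMod r) ^ j ≠ (-1) ^ j))
    (hfix : Nat.card (fixed σ) = q) (hqr : ¬ r ∣ q) (hhn : h ≤ n)
    (hlt : n % h < m % h) : ¬ SUNdFix F q n m r := by
  classical
  intro hall
  have hrP : r.Prime := Fact.out
  have hrp : r ≠ p := fun e => hr (by rw [e, CharP.cast_eq_zero])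
  have hb0 : 0 < b := hb ▸ orderOf_card_pos hr
  obtain ⟨g, hg⟩ : (factors F r).Nonempty := by
    rw [← Finset.card_pos]
    refine Nat.pos_of_ne_zero fun e => ?_
    have hcard := card_factors (F := F) p hrP hrp
    rw [e, zero_mul] at hcard
    have := hrP.two_le; omega
  obtain ⟨hg1, hgm, hgi, hgd⟩ := (mem_factors hrP.ne_zero).1 hg
  obtain ⟨hn1, hnm, hni, hnd⟩ := (mem_factors hrP.ne_zero).1 (rc_mem_factors σ hinv hrP hg)
  have hdeg : g.natDegree = b := hb ▸ natDegree_factor hrP hgm hgi hgd hg1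
  have hndeg : (rc σ g).natDegree = b := hb ▸ natDegree_factor hrP hnm hni hnd hn1
  have hroot : ∀ u : F[X], u.Monic → Irreducible u → u ≠ X - C 1 → ¬ u.IsRoot 1 := fun u hm hu hne h =>
    hne (eq_of_monic_of_associated hm (monic_X_sub_C 1)
      ((irreducible_X_sub_C (1 : F)).associated_of_dvd hu (dvd_iff_isRoot.2 h)).symm)
  obtain ⟨P, hP, hPd, hPfix, hP1⟩ : ∃ P : F[X], Good r P ∧ P.natDegree = h ∧ rc σ P = P ∧ ¬ P.IsRoot 1 := by
    rcases hh with ⟨rfl, hself⟩ | ⟨rfl, -⟩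
    · exact ⟨g, ⟨hgm, fun u hum hui hud => hud.trans hgd⟩, hdeg, hself g hg, hroot g hgm hgi hg1⟩
    · refine ⟨g * rc σ g, ⟨hgm.mul hnm, fun u hum hui hud => ?_⟩, ?_, ?_, ?_⟩
      · rcases hui.prime.dvd_or_dvd hud with e | e
        · exact e.trans hgd
        · exact e.trans hnd
      · rw [hgm.natDegree_mul hnm, hdeg, hndeg, two_mul]
      · rw [rc_mul, rc_rc _ hinv hgm (factor_coeff_zero hrP.ne_zero hgd), mul_comm]
      · rw [IsRoot.def, eval_mul]
        exact mul_ne_zero (hroot g hgm hgi hg1) (hroot _ hnm hni hn1)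
  obtain ⟨A, hA, hAr, -, -, -, hA1⟩ := exists_hblock p hne hinv hσ hr hP hPd hPfix
  obtain ⟨hAdet, hAscal⟩ := coprime_block hσ hcop hA hAr
  have hh0 : 0 < h := by rcases hh with ⟨e, -⟩ | ⟨e, -⟩ <;> omega
  have hκ : 0 < n / h := Nat.div_pos hhn hh0
  let T := hmMap (f := n % h) (fun _ : Fin (n / h) => A)
  have hH := hmForm_herm (F := F) (κ := Fin (n / h)) (f := n % h) (h := h) hne hinv hσ
  have hiso := hmMap_isometry (f := n % h) (κ := Fin (n / h)) (A := fun _ => A) fun _ => hA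
  have hT : T ^ r = 1 := hmMap_pow_eq_one fun _ => hAr
  obtain ⟨W, hWi, hW, hWd⟩ := suNdFix_get hH hσ
    (finrank_hmdl.trans (by rw [Fintype.card_fin]; exact Nat.mod_add_div' n h)) (T := T) (z := 1) hiso
    (by rw [one_smul, hT]) (by rw [det_hmMap]; simp [hAdet])
    (fun a ha => by
      have hk : A = a • 1 := Matrix.toLin'.injective (LinearMap.ext fun y => by
        have h1 := congrFun (congrArg Prod.snd (LinearMap.congr_fun ha (0, Pi.single ⟨0, hκ⟩ y))) ⟨0, hκ⟩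
        simpa [T, hmMap_apply] using h1)
      haveI : Nonempty (Fin h) := ⟨⟨0, hh0⟩⟩
      exact hA1 hP1 (by rw [hk, hAscal a hh0 hk, one_smul, sub_self, Matrix.det_zero])) hall
  have hI := hermSF_isom (hh := hH) hiso
  obtain ⟨-, h2, h3⟩ := SForm.nd_parts hT hr hI hWi hW
  have h4 : finrank F (W ⊓ fixedSpace T : Submodule F (HMdl F (n % h) h (Fin (n / h)))) ≤ n % h :=
    (Submodule.finrank_mono inf_le_right).trans (finrank_hfixed (f := n % h) fun _ => hA1 hP1).le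
  have h5 : h ∣ finrank F (W ⊓ movedSpace T r : Submodule F (HMdl F (n % h) h (Fin (n / h)))) := by
    rcases hh with ⟨e, -⟩ | ⟨e, hnc⟩
    · exact (dvd_of_eq (e.trans hb)).trans
        (dvd_finrank_moved hT hr (fun v hv => ⟨hWi v hv.1, inv_moved v hv.2⟩) inf_le_right)
    · subst hb
      exact SForm.dvd_of_block hI hh0 (movedSpace T r) (fun U hUi hUM hU hne' => by
        exact (exists_block_pair hne hσ hfix hqr hT hr hiso hnc hUi hUM hU hne').imp
          fun X hX => ⟨hX.1, hX.2.1, hX.2.2.1, hX.2.2.2.trans e.symm⟩)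
        (fun v hv => ⟨hWi v hv.1, inv_moved v hv.2⟩) inf_le_right h2
  obtain ⟨a, ha⟩ := h5
  rw [← hWd, h3, ha, Nat.add_mul_mod_self_left] at hlt
  have := Nat.mod_le (finrank F (W ⊓ fixedSpace T : Submodule F (HMdl F (n % h) h (Fin (n / h))))) h
  omega

end Cfsg.Agent.Elusive
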