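import Cfsg.Agent.Lib.Elusive.HermModel

/-!
Elements of odd prime order of unitary groups fixing totally isotropic subspaces.
-/

set_option autoImplicit false
set_option linter.all false
set_option maxHeartbeats 1600000

namespace Cfsg.Agent.Elusive

open Module Polynomial Hermitian

variable {F : Type*} [Field F] [Fintype F] {q n m r b : ℕ} {σ : F →+* F} [Fact r.Prime]

lemma hermForm_iso_iff (hne : σ ≠ RingHom.id F) (hinv : ∀ a, σ (σ a) = a) (hσ : ∀ x, σ x = x ^ q)
    {W : Submodule F (Fin n → F)} :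
    (hermSF (HermStd.isHerm_std hne hinv hσ n)).Iso W ↔ ∀ u ∈ W, ∀ v ∈ W, Cfsg.hermForm n F q u v = 0 :=
  ⟨fun h => h.1, fun h => hermSF_iso h⟩

/-- Fixed totally isotropic subspaces of elements of order `r`. -/
lemma exists_ti_fixed (hne : σ ≠ RingHom.id F) (hinv : ∀ a, σ (σ a) = a) (hσ : ∀ x, σ x = x ^ q)
    (hq : Nat.card (fixed σ) = q) (hqr : ¬ r ∣ q) (hr : (r : F) ≠ 0) (hr2 : r ≠ 2)
    (hb : b = orderOf (Fintype.card F : ZMod r)) (hmn : 2 * m ≤ n) {T : Module.End F (Fin n → F)} (hT : T ^ r = 1)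
    (e : ∀ u v, Cfsg.hermForm n F q (T u) (T v) = Cfsg.hermForm n F q u v)
    (hc : ((∀ j, 1 ≤ j → j ≤ b → (q : ZMod r) ^ j ≠ (-1) ^ j) ∧ 2 * (m % b) ≤ n % (2 * b)) ∨
      (2 * (m % b) ≤ n % b ∧ (r - 1) / b + 2 * (m / b) ≤ n / b)) :
    ∃ W : Submodule F (Fin n → F), Inv T W ∧ (∀ u ∈ W, ∀ v ∈ W, Cfsg.hermForm n F q u v = 0) ∧ finrank F W = m := by
  have hH := HermStd.isHerm_std hne hinv hσ n
  have hI := hermSF_isom (hh := hH) e
  have hb0 : 0 < b := hb ▸ orderOf_card_pos hr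
  obtain ⟨N, hN, -⟩ := exists_moved_eq hT hr
  rw [← hb] at hN
  have hfix := SForm.finrank_fixed_add hT hr
  rw [Module.finrank_fin_fun, hN] at hfix
  have hndM := SForm.nd_moved (Φ := hermSF hH) hT hr hI
  obtain ⟨j, W, hWi, hWM, hWiso, hWd, hjm, hjf⟩ : ∃ j W, Inv T W ∧ W ≤ movedSpace T r ∧ (hermSF hH).Iso W ∧
      finrank F W = j * b ∧ j * b ≤ m ∧ 2 * (m - j * b) ≤ finrank F (fixedSpace T) := by
    have hmb := Nat.div_add_mod' m b
    rcases hc with ⟨hnc, hk⟩ | ⟨hk, hs⟩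
    · have hstep := step_herm_odd (hh := hH) hne hσ hq hqr hT hr e (hb ▸ hnc)
      rw [← hb] at hstep
      have key : ∀ j, 2 * j ≤ N + 1 → ∃ W, Inv T W ∧ W ≤ movedSpace T r ∧ (hermSF hH).Iso W ∧ finrank F W = j * b :=
        fun j hj => SForm.exists_iso_climb hT hr hI j _ hndM inv_moved hstep (by
          rcases Nat.eq_zero_or_pos j with rfl | hj0
          · exact Or.inl rfl
          · refine Or.inr ?_
            rw [hN]
            have h3 : (2 * (j - 1)) * b < N * b := Nat.mul_lt_mul_of_pos_right (by omega) hb0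
            linarith)
      obtain ⟨W1, -, h2, h3, h4⟩ := key ((N + 1) / 2) (by omega)
      have h5 := (hermSF hH).two_finrank_le hndM h2 h3.1
      rw [hN, h4, ← mul_assoc] at h5
      have h6 := Nat.le_of_mul_le_mul_right h5 hb0
      obtain ⟨N', rfl⟩ : ∃ N', N = 2 * N' := ⟨N / 2, by omega⟩
      rcases le_total (m / b) N' with hle | hle
      · obtain ⟨W, a, c, d, g⟩ := key (m / b) (by omega)
        refine ⟨_, W, a, c, d, g, by omega, ?_⟩
        have h7 : n % (2 * b) = finrank F (fixedSpace T) % (2 * b) := by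
          conv_lhs => rw [← hfix, show 2 * N' * b = 2 * b * N' by ring, Nat.add_mul_mod_self_left]
        have h8 := Nat.mod_le (finrank F (fixedSpace T)) (2 * b)
        omega
      · obtain ⟨W, a, c, d, g⟩ := key N' (by omega)
        have h7 : N' * b ≤ m / b * b := Nat.mul_le_mul_right b hle
        refine ⟨_, W, a, c, d, g, by omega, ?_⟩
        have : 2 * N' * b = 2 * (N' * b) := mul_assoc _ _ _
        omega
    · have hstep := step_herm (hh := hH) hT hr hr2 e
      rw [← hb] at hstep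
      have hbdvd : b ∣ r - 1 := by
        rw [hb]
        refine orderOf_dvd_of_pow_eq_one (ZMod.pow_card_sub_one_eq_one fun h0 => ?_)
        have h1 : r ∣ Fintype.card F := (ZMod.natCast_eq_zero_iff _ _).1 h0
        rw [← Nat.card_eq_fintype_card, card_eq_sq hne hinv, hq] at h1
        exact hqr ((Fact.out : r.Prime).dvd_of_dvd_pow h1)
      obtain ⟨s, hs'⟩ : ∃ s, s = (r - 1) / b := ⟨_, rfl⟩
      have hsb : s * b = r - 1 := hs' ▸ Nat.div_mul_cancel hbdvd
      rw [← hs'] at hs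
      have key : ∀ j, 2 * j ≤ N + 1 - s → ∃ W, Inv T W ∧ W ≤ movedSpace T r ∧ (hermSF hH).Iso W ∧ finrank F W = j * b :=
        fun j hj => SForm.exists_iso_climb hT hr hI j _ hndM inv_moved hstep (by
          rcases Nat.eq_zero_or_pos j with rfl | hj0
          · exact Or.inl rfl
          · refine Or.inr ?_
            rw [hN, ← hsb]
            have h3 : (2 * (j - 1) + s) * b < N * b := Nat.mul_lt_mul_of_pos_right (by omega) hb0
            linarith)
      have hnb := Nat.div_add_mod' n b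
      by_cases hle : 2 * (m / b) ≤ N + 1 - s
      · obtain ⟨W, a, c, d, g⟩ := key (m / b) hle
        refine ⟨_, W, a, c, d, g, by omega, ?_⟩
        have h7 : n % b = finrank F (fixedSpace T) % b := by
          conv_lhs => rw [← hfix, mul_comm N b, Nat.add_mul_mod_self_left]
        have h8 := Nat.mod_le (finrank F (fixedSpace T)) b
        omega
      · obtain ⟨W, a, c, d, g⟩ := key ((N + 1 - s) / 2) (by omega)
        have h3 : (N + 1 - s) / 2 * b ≤ m / b * b := Nat.mul_le_mul_right b (by omega)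
        refine ⟨_, W, a, c, d, g, by omega, ?_⟩
        have h4 : (N + 2 * (m / b)) * b ≤ (n / b + 2 * ((N + 1 - s) / 2)) * b := Nat.mul_le_mul_right b (by omega)
        simp only [Nat.add_mul, Nat.mul_assoc] at h4
        omega
  obtain ⟨A, -, hAS, hAiso, hAd⟩ := SForm.exists_iso_climb hT hr hI (i := 1) (D := 1) (m - j * b) (fixedSpace T)
    (SForm.nd_fixed hT hr hI) (inv_of_le_fixed le_rfl) (step_herm_line (hh := hH) _ T le_rfl) (by omega)
  obtain ⟨hJi, hJiso, hJd⟩ := SForm.iso_join hr hI hAS hAiso hWi hWM hWiso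
  exact ⟨A ⊔ W, hJi, hJiso.1, by rw [hJd, hAd, hWd]; omega⟩

open LBRootPoly LBRootTwist in
/-- Too small a remainder: a derangement. -/
lemma not_suFix_mod [DecidableEq F] (p : ℕ) [Fact p.Prime] [CharP F p] (hne : σ ≠ RingHom.id F) (hinv : ∀ a, σ (σ a) = a)
    (hσ : ∀ x, σ x = x ^ q) (hr : (r : F) ≠ 0) (hcop : ¬ r ∣ q + 1) (hb : b = orderOf (Fintype.card F : ZMod r))
    {h : ℕ} (hh : (h = b ∧ ∀ g ∈ factors F r, rc σ g = g) ∨ h = 2 * b) (hhn : h ≤ n)
    (hlt : n % h < 2 * (m % b)) : ¬ SUTIFix F q n m r := by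
  classical
  have hrP : r.Prime := Fact.out
  have hrp : r ≠ p := fun e => hr (by rw [e, CharP.cast_eq_zero])
  have hb0 : 0 < b := hb ▸ orderOf_card_pos hr
  obtain ⟨g, hg⟩ : (factors F r).Nonempty := by
    rw [← Finset.card_pos]
    refine Nat.pos_of_ne_zero fun e => ?_
    have hcard := card_factors (F := F) p hrP hrp
    rw [e, zero_mul] at hcard
    have := hrP.two_le; omega
  obtain ⟨hg1, hgm, hgi, hgd⟩ := (mem_factors hrP.ne_zero).1 hg
  obtain ⟨hn1, hnm, hni, hnd⟩ := (mem_factors hrP.ne_zero).1 (rc_mem_factors σ hinv hrP hg)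
  have hdeg : g.natDegree = b := hb ▸ natDegree_factor hrP hgm hgi hgd hg1
  have hndeg : (rc σ g).natDegree = b := hb ▸ natDegree_factor hrP hnm hni hnd hn1
  have hroot : ∀ u : F[X], u.Monic → Irreducible u → u ≠ X - C 1 → ¬ u.IsRoot 1 := fun u hm hu hne h =>
    hne (eq_of_monic_of_associated hm (monic_X_sub_C 1)
      ((irreducible_X_sub_C (1 : F)).associated_of_dvd hu (dvd_iff_isRoot.2 h)).symm)
  obtain ⟨P, hP, hPd, hPfix, hP1⟩ : ∃ P : F[X], Good r P ∧ P.natDegree = h ∧ rc σ P = P ∧ ¬ P.IsRoot 1 := by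
    rcases hh with ⟨rfl, hself⟩ | rfl
    · exact ⟨g, ⟨hgm, fun u hum hui hud => hud.trans hgd⟩, hdeg, hself g hg, hroot g hgm hgi hg1⟩
    · refine ⟨g * rc σ g, ⟨hgm.mul hnm, fun u hum hui hud => ?_⟩, ?_, ?_, ?_⟩
      · rcases hui.prime.dvd_or_dvd hud with e | e
        · exact e.trans hgd
        · exact e.trans hnd
      · rw [hgm.natDegree_mul hnm, hdeg, hndeg, two_mul]
      · rw [rc_mul, rc_rc _ hinv hgm (factor_coeff_zero hrP.ne_zero hgd), mul_comm]
      · rw [IsRoot.def, eval_mul]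
        exact mul_ne_zero (hroot g hgm hgi hg1) (hroot _ hnm hni hn1)
  obtain ⟨A, hA, hAr, -, -, -, hA1⟩ := exists_hblock p hne hinv hσ hr hP hPd hPfix
  obtain ⟨hAdet, hAscal⟩ := coprime_block hσ hcop hA hAr
  have hh0 : 0 < h := by rcases hh with ⟨e, -⟩ | e <;> omega
  have hκ : 0 < n / h := Nat.div_pos hhn hh0
  refine not_suFix_of_model (σ := σ) (κ := Fin (n / h)) (f := n % h) (h := h) (A := fun _ => A) hne hinv hσ hr
    (by rw [Fintype.card_fin]; exact (Nat.mod_add_div' n h).symm) (by rwa [Fintype.card_fin]) hh0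
    (fun _ => hA) (fun _ => hAr) (fun _ => hA1 hP1) (Or.inr fun a ha => hA1 hP1 (by
      haveI : Nonempty (Fin h) := ⟨⟨0, hh0⟩⟩
      rw [ha ⟨0, hκ⟩, hAscal a hh0 (ha ⟨0, hκ⟩), one_smul, sub_self, Matrix.det_zero]))
    (by simp [hAdet]) ?_
  intro W hWi hWiso hWd c₀ j hcj hc₀ hj
  obtain ⟨a, ha⟩ := dvd_finrank_moved (hmMap_pow_eq_one (f := n % h) fun _ : Fin (n / h) => hAr) hr
    (W := W ⊓ movedSpace (hmMap fun _ : Fin (n / h) => A) r) (fun v hv => ⟨hWi v hv.1, inv_moved v hv.2⟩) inf_le_right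
  rw [← hb] at ha
  have hlt2 : n % h < 2 * b := by
    have := Nat.mod_lt n hh0
    rcases hh with ⟨e, -⟩ | e <;> omega
  have h5 : m % b = c₀ := by
    rw [← hWd, hcj, ← hj, ha, Nat.add_mul_mod_self_left, Nat.mod_eq_of_lt (by omega)]
  omega

open LBRootPoly LBRootTwist in
/-- Distinct self-reciprocal factors: a derangement. -/
lemma not_suFix_singles [DecidableEq F] (p : ℕ) [Fact p.Prime] [CharP F p] (hne : σ ≠ RingHom.id F) (hinv : ∀ a, σ (σ a) = a)
    (hσ : ∀ x, σ x = x ^ q) (hr : (r : F) ≠ 0) (hb : b = orderOf (Fintype.card F : ZMod r))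
    (hself : ∀ g ∈ factors F r, rc σ g = g) {S : Finset F[X]} (hS : S ⊆ factors F r) (g₀ : F[X]) {L f : ℕ}
    (hg₀ : 0 < L → g₀ ∈ factors F r ∧ g₀ ∉ S) (hSL : 0 < S.card + L) (hn : n = f + (S.card + L) * b)
    (hlt : f + 2 * b * (L / 2) < 2 * m)
    (hdet : ¬ r ∣ q + 1 ∨ (L = 0 ∧ (∏ g ∈ S, (-1) ^ b * g.coeff 0) = 1 ∧ (0 < f ∨ 2 ≤ S.card))) :
    ¬ SUTIFix F q n m r := by
  classical
  have hrP : r.Prime := Fact.out
  have hb0 : 0 < b := hb ▸ orderOf_card_pos hr
  let lab : {g // g ∈ S} ⊕ Fin L → F[X] := Sum.elim (fun g => g.1) (fun _ => g₀)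
  have hlab : ∀ k, lab k ∈ factors F r := by
    rintro (g | k)
    · exact hS g.2
    · exact (hg₀ k.pos).1
  have hblk : ∀ k, ∃ A : Matrix (Fin b) (Fin b) F,
      (∀ u v, Cfsg.hermForm b F q (Matrix.toLin' A u) (Matrix.toLin' A v) = Cfsg.hermForm b F q u v) ∧
      A ^ r = 1 ∧ A.det = (-1) ^ b * (lab k).coeff 0 ∧ A.charpoly = lab k ∧ aeval (Matrix.toLin' A) (lab k) = 0 ∧
      (A - 1).det ≠ 0 := by
    intro k
    obtain ⟨hg1, hgm, hgi, hgd⟩ := (mem_factors hrP.ne_zero).1 (hlab k)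
    obtain ⟨A, a1, a2, a3, a4, a5, a6⟩ := exists_hblock p hne hinv hσ hr (g := lab k) (h := b)
      ⟨hgm, fun u hum hui hud => hud.trans hgd⟩ (hb ▸ natDegree_factor hrP hgm hgi hgd hg1) (hself _ (hlab k))
    exact ⟨A, a1, a2, a3, a4, a5, a6 fun h => hg1 (eq_of_monic_of_associated hgm (monic_X_sub_C 1)
      ((irreducible_X_sub_C (1 : F)).associated_of_dvd hgi (dvd_iff_isRoot.2 h)).symm)⟩
  choose A hA hAr hAd hAc hAg hA1 using hblk
  have hκ : Fintype.card ({g // g ∈ S} ⊕ Fin L) = S.card + L := by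
    rw [Fintype.card_sum, Fintype.card_coe, Fintype.card_fin]
  refine not_suFix_of_model (σ := σ) (κ := {g // g ∈ S} ⊕ Fin L) (f := f) (h := b) (A := A) hne hinv hσ hr
    (by rw [hκ]; exact hn) (by rw [hκ]; exact hSL) hb0 hA hAr hA1 ?_ ?_ ?_
  · rcases hdet with hcop | ⟨hL, -, hf | hS2⟩
    · refine Or.inr fun a ha => ?_
      obtain ⟨k⟩ : Nonempty ({g // g ∈ S} ⊕ Fin L) := Fintype.card_pos_iff.1 (by rw [hκ]; exact hSL)
      haveI : Nonempty (Fin b) := ⟨⟨0, hb0⟩⟩
      exact hA1 k (by rw [ha k, (coprime_block hσ hcop (hA k) (hAr k)).2 a hb0 (ha k), one_smul, sub_self,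
        Matrix.det_zero])
    · exact Or.inl hf
    · refine Or.inr fun a ha => ?_
      obtain ⟨g1, hg1, g2, hg2, hne'⟩ := Finset.one_lt_card.1 hS2
      refine hne' ?_
      have h1 := hAc (Sum.inl ⟨g1, hg1⟩)
      have h2 := hAc (Sum.inl ⟨g2, hg2⟩)
      rw [ha] at h1 h2
      exact h1.symm.trans h2
  · rcases hdet with hcop | ⟨rfl, hp, -⟩
    · exact Finset.prod_eq_one fun k _ => (coprime_block hσ hcop (hA k) (hAr k)).1
    · rw [Fintype.prod_sum_type]
      simp only [Finset.univ_eq_empty, Finset.prod_empty, mul_one, hAd]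
      exact (Finset.prod_coe_sort S fun g => (-1) ^ b * g.coeff 0).trans hp
  intro W hWi hWiso hWd c₀ j hcj hc₀ hj
  let T := hmMap (f := f) A
  have hT : T ^ r = 1 := hmMap_pow_eq_one hAr
  let W₀ := W ⊓ movedSpace T r
  have hW₀i : Inv T W₀ := fun v hv => ⟨hWi v hv.1, inv_moved v hv.2⟩
  have hH := fun k => HermStd.isHerm_std hne hinv hσ k
  have hsingle : ∀ w ∈ W₀, ∀ g : {g // g ∈ S}, w.2 (Sum.inl g) = 0 := by
    intro w hw g
    obtain ⟨P, hP⟩ : ∃ P, P = ∏ u ∈ ((Finset.univ : Finset ({g // g ∈ S} ⊕ Fin L)).image lab).erase g.1, u := ⟨_, rfl⟩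
    obtain ⟨hg1, hgm, hgi, hgd⟩ := (mem_factors hrP.ne_zero).1 (hS g.2)
    have hkill : ∀ k, k ≠ Sum.inl g → aeval (Matrix.toLin' (A k)) P = 0 := by
      intro k hk
      have hmem : lab k ∈ ((Finset.univ : Finset ({g // g ∈ S} ⊕ Fin L)).image lab).erase g.1 := by
        refine Finset.mem_erase.2 ⟨?_, Finset.mem_image_of_mem _ (Finset.mem_univ k)⟩
        rcases k with g' | k
        · exact fun e => hk (congrArg Sum.inl (Subtype.ext e))
        · exact fun e => (hg₀ k.pos).2 ((show g.1 = g₀ from e.symm) ▸ g.2)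
      obtain ⟨u, hu⟩ : lab k ∣ P := hP ▸ Finset.dvd_prod_of_mem (fun u => u) hmem
      rw [hu, map_mul, hAg, zero_mul]
    have hcop : IsCoprime P g.1 := by
      rw [hP]
      refine IsCoprime.prod_left fun u hu => ?_
      obtain ⟨hne', hu'⟩ := Finset.mem_erase.1 hu
      obtain ⟨k, -, rfl⟩ := Finset.mem_image.1 hu'
      obtain ⟨-, hum, hui, -⟩ := (mem_factors hrP.ne_zero).1 (hlab k)
      exact hui.coprime_iff_not_dvd.2 fun hd => hne' (eq_of_monic_of_associated hum hgm (hui.associated_of_dvd hgi hd))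
    let ι₁ : (Fin b → F) →ₗ[F] HMdl F f b ({g // g ∈ S} ⊕ Fin L) :=
      (LinearMap.inr F _ _).comp (LinearMap.single F (fun _ => Fin b → F) (Sum.inl g))
    have hTι : ∀ y, T (ι₁ y) = ι₁ (Matrix.toLin' (A (Sum.inl g)) y) := fun y => by
      refine Prod.ext rfl (funext fun k => ?_)
      by_cases hk : k = Sum.inl g
      · subst hk; simp [T, ι₁, hmMap_apply]
      · simp [T, ι₁, hmMap_apply, hk]
    let Z : Submodule F (Fin b → F) := W.comap ι₁
    have hZi : Inv (Matrix.toLin' (A (Sum.inl g))) Z := fun y hy => by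
      show ι₁ _ ∈ W
      rw [← hTι]; exact hWi _ hy
    have hZiso : ∀ u ∈ Z, ∀ v ∈ Z, Cfsg.hermForm b F q u v = 0 := fun u hu v hv => by
      have h3 := hWiso _ hu _ hv
      rw [hmForm, Finset.sum_eq_single (Sum.inl g) (fun l _ hl => by simp [ι₁, hl, (hH b).zero_left]) (by simp)] at h3
      simpa [ι₁, (hH f).zero_left] using h3
    have hTr : Matrix.toLin' (A (Sum.inl g)) ^ r = 1 := by
      rw [← Matrix.toLin'_pow, hAr, Matrix.toLin'_one]; rfl
    have hmoved : movedSpace (Matrix.toLin' (A (Sum.inl g))) r = ⊤ := by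
      refine eq_top_iff.2 fun v _ => ?_
      rw [movedSpace, LinearMap.mem_ker]
      refine fixed_hblock (hA1 (Sum.inl g)) ?_
      have h3 := LinearMap.congr_fun (mul_geom_sum (Matrix.toLin' (A (Sum.inl g))) r) v
      rw [hTr, sub_self, LinearMap.zero_apply, Module.End.mul_apply, LinearMap.sub_apply, Module.End.one_apply,
        sub_eq_zero] at h3
      exact h3
    have hZ0 : Z = ⊥ := by
      obtain ⟨a, ha⟩ := dvd_finrank_moved (T := Matrix.toLin' (A (Sum.inl g))) hTr hr hZi (hmoved ▸ le_top)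
      have h4 := (hermSF (hH b)).two_finrank_le (SForm.nd_top _) (le_top : Z ≤ ⊤) hZiso
      rw [finrank_top, Module.finrank_fin_fun, ha, ← hb] at h4
      refine Submodule.finrank_eq_zero.1 ?_
      rcases a with _ | a
      · simpa using ha
      · rw [Nat.mul_succ] at h4; omega
    have hPw : aeval T P w ∈ W := Inv.aeval hWi P hw.1
    have heq : aeval T P w = ι₁ (aeval (Matrix.toLin' (A (Sum.inl g))) P (w.2 (Sum.inl g))) := by
      rw [hmMap_aeval, hmoved_fst hr hw.2, smul_zero]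
      refine Prod.ext rfl (funext fun k => ?_)
      by_cases hk : k = Sum.inl g
      · subst hk; simp [ι₁]
      · simp [ι₁, hk, hkill k hk]
    rw [heq] at hPw
    have hPz : aeval (Matrix.toLin' (A (Sum.inl g))) P (w.2 (Sum.inl g)) = 0 := by
      rw [← Submodule.mem_bot F, ← hZ0]; exact hPw
    have hAgg : aeval (Matrix.toLin' (A (Sum.inl g))) g.1 = 0 := hAg (Sum.inl g)
    obtain ⟨u, v, huv⟩ := hcop
    have h5 := LinearMap.congr_fun (congrArg (aeval (Matrix.toLin' (A (Sum.inl g)))) huv) (w.2 (Sum.inl g))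
    rw [map_add, map_mul, map_mul, hAgg, mul_zero, add_zero, Module.End.mul_apply, hPz, map_zero, map_one,
      Module.End.one_apply] at h5
    exact h5.symm
  let π : HMdl F f b ({g // g ∈ S} ⊕ Fin L) →ₗ[F] HMdl F 0 b (Fin L) :=
    LinearMap.prod 0 (LinearMap.pi fun k => (LinearMap.proj (Sum.inr k)).comp (LinearMap.snd F _ _))
  have hπinj : finrank F (W₀.map π) = finrank F W₀ := by
    have hinj : Function.Injective (π.comp W₀.subtype) := by
      rw [← LinearMap.ker_eq_bot, LinearMap.ker_eq_bot']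
      intro w hw
      refine Subtype.ext (Prod.ext (hmoved_fst hr w.2.2) (funext fun k => ?_))
      rcases k with g | k
      · exact hsingle w.1 w.2 g
      · exact congrFun (congrArg Prod.snd hw) k
    have h6 := LinearMap.finrank_range_of_inj hinj
    rwa [LinearMap.range_comp, Submodule.range_subtype] at h6
  have hπiso : ∀ u ∈ W₀.map π, ∀ v ∈ W₀.map π, hmForm q u v = 0 := by
    rintro _ ⟨u, hu, rfl⟩ _ ⟨v, hv, rfl⟩
    have h3 := hWiso u hu.1 v hv.1
    rw [hmForm, hmoved_fst hr hu.2, (hH f).zero_left, zero_add, Fintype.sum_sum_type,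
      Finset.sum_eq_zero (s := (Finset.univ : Finset {g // g ∈ S})) (fun g _ => by
        rw [hsingle u hu g]; exact (hH b).zero_left _), zero_add] at h3
    rw [hmForm, show ∀ x y : Fin 0 → F, Cfsg.hermForm 0 F q x y = 0 from fun x y => Finset.sum_empty]
    simpa [π] using h3
  have h7 := (hermSF (hmForm_herm (F := F) (κ := Fin L) (f := 0) (h := b) hne hinv hσ)).two_finrank_le
    (SForm.nd_top _) (le_top : W₀.map π ≤ ⊤) hπiso
  rw [finrank_top, finrank_hmdl, hπinj, Fintype.card_fin, Nat.zero_add] at h7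
  obtain ⟨a, ha⟩ := dvd_finrank_moved hT hr hW₀i inf_le_right
  rw [← hb] at ha
  rw [ha] at h7
  have h8 : 2 * a ≤ L := Nat.le_of_mul_le_mul_right (c := b) (by linarith) hb0
  have h9 : b * a ≤ b * (L / 2) := Nat.mul_le_mul_left _ (by omega)
  have h10 : 2 * b * (L / 2) = 2 * (b * (L / 2)) := mul_assoc _ _ _
  rw [show finrank F (W ⊓ movedSpace T r : Submodule F _) = b * a from ha] at hj
  omega

end Cfsg.Agent.Elusive
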