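import Cfsg.Agent.Lib.Elusive.Criterion
import Cfsg.Agent.Lib.Classical.Symplectic

/-!
Pairs of complementary totally isotropic subspaces of a symplectic space: their number, and elements of
odd prime order fixing none of them.
-/

set_option autoImplicit false
set_option linter.style.haveILetI false

namespace Cfsg.Agent.Elusive

open Matrix Cfsg.Agent.ClassicalSp
open scoped Matrix

variable {F : Type*} [Field F] {d : ℕ}

/-- The type of pairs. -/
abbrev LPair (F : Type*) [Field F] (d : ℕ) :=
  {P : Submodule F (Fin d ⊕ Fin d → F) × Submodule F (Fin d ⊕ Fin d → F) // IsCompl P.1 P.2 ∧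
    (∀ u ∈ P.1, ∀ v ∈ P.1, Cfsg.sympForm d F u v = 0) ∧ (∀ u ∈ P.2, ∀ v ∈ P.2, Cfsg.sympForm d F u v = 0)}

lemma sympForm_single (a b : Fin d ⊕ Fin d) :
    Cfsg.sympForm d F (Pi.single a 1) (Pi.single b 1) = J (Fin d) F a b := by
  rw [sympForm_eq, mulVec_single_one, single_one_dotProduct]
  rfl

lemma pairing_injective {U W : Submodule F (Fin d ⊕ Fin d → F)} (hc : IsCompl U W)
    (hW : ∀ u ∈ W, ∀ v ∈ W, Cfsg.sympForm d F u v = 0) {z : Fin d ⊕ Fin d → F} (hz : z ∈ W)
    (h : ∀ u ∈ U, Cfsg.sympForm d F u z = 0) : z = 0 := by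
  refine (spBilin_nondeg (m := d) (F := F)).2 z fun x => ?_
  obtain ⟨u, hu, w, hw, rfl⟩ := Submodule.mem_sup.1 (hc.sup_eq_top ▸ Submodule.mem_top (x := x))
  rw [map_add, LinearMap.add_apply, spBilin_apply, spBilin_apply, h u hu, hW w hw z hz, add_zero]

lemma finrank_iso_le {U W : Submodule F (Fin d ⊕ Fin d → F)} (hc : IsCompl U W)
    (hW : ∀ u ∈ W, ∀ v ∈ W, Cfsg.sympForm d F u v = 0) : Module.finrank F W ≤ Module.finrank F U := by
  let Λ : W →ₗ[F] U →ₗ[F] F := LinearMap.compl₂ ((spBilin d F).flip ∘ₗ W.subtype) U.subtype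
  have hinj : Function.Injective Λ := by
    rw [← LinearMap.ker_eq_bot, LinearMap.ker_eq_bot']
    intro z hz
    refine Subtype.ext (pairing_injective hc hW z.2 fun u hu => ?_)
    rw [← spBilin_apply]
    exact LinearMap.congr_fun hz ⟨u, hu⟩
  have h := LinearMap.finrank_le_finrank_of_injective hinj
  rwa [Module.finrank_linearMap, Module.finrank_self, mul_one] at h

lemma finrank_lpair (P : LPair F d) : Module.finrank F P.1.1 = d ∧ Module.finrank F P.1.2 = d := by
  have h1 := finrank_iso_le P.2.1 P.2.2.2
  have h2 := finrank_iso_le P.2.1.symm P.2.2.1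
  have h3 := Submodule.finrank_add_eq_of_isCompl P.2.1
  rw [finrank_space] at h3
  omega

lemma sympForm_col {A : Matrix (Fin d ⊕ Fin d) (Fin d ⊕ Fin d) F} (hA : A ∈ symplecticGroup (Fin d) F)
    (a b : Fin d ⊕ Fin d) : Cfsg.sympForm d F (A.col a) (A.col b) = J (Fin d) F a b := by
  have h := (mem_iff_preserves A).1 hA (Pi.single a 1) (Pi.single b 1)
  rwa [sympForm_single, mulVec_single_one, mulVec_single_one] at h

lemma span_iso {v : Fin d → Fin d ⊕ Fin d → F} (h : ∀ a b, Cfsg.sympForm d F (v a) (v b) = 0) :
    ∀ x ∈ Submodule.span F (Set.range v), ∀ y ∈ Submodule.span F (Set.range v),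
      Cfsg.sympForm d F x y = 0 := by
  intro x hx y hy
  rw [← spBilin_apply]
  induction hx using Submodule.span_induction with
  | zero => rw [map_zero, LinearMap.zero_apply]
  | add x x' _ _ ih ih' => rw [map_add, LinearMap.add_apply, ih, ih', add_zero]
  | smul c x _ ih => rw [map_smul, LinearMap.smul_apply, ih, smul_zero]
  | mem x hx =>
    obtain ⟨a, rfl⟩ := hx
    induction hy using Submodule.span_induction with
    | zero => rw [map_zero]
    | add y y' _ _ ih ih' => rw [map_add, ih, ih', add_zero]
    | smul c y _ ih => rw [map_smul, ih, smul_zero]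
    | mem y hy =>
      obtain ⟨b, rfl⟩ := hy
      rw [spBilin_apply, h]

/-- The pairs and the bases of their first members are the symplectic matrices. -/
lemma card_lpair_mul [Fintype F] :
    Nat.card (LPair F d) * ∏ k : Fin d, (Fintype.card F ^ d - Fintype.card F ^ (k : ℕ)) =
      Nat.card (symplecticGroup (Fin d) F) := by
  classical
  haveI : Finite (Submodule F (Fin d ⊕ Fin d → F)) := Finite.of_injective _ SetLike.coe_injective
  haveI := Fintype.ofFinite (LPair F d)
  have hfib : ∀ P : LPair F d, Nat.card {u : Fin d → P.1.1 // LinearIndependent F u} =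
      ∏ k : Fin d, (Fintype.card F ^ d - Fintype.card F ^ (k : ℕ)) := fun P => by
    have h := card_linearIndependent (K := F) (V := P.1.1) (k := d) (finrank_lpair P).1.ge
    simpa only [(finrank_lpair P).1] using h
  have hcols : ∀ A : symplecticGroup (Fin d) F, LinearIndependent F A.1.col := fun A =>
    Matrix.linearIndependent_cols_iff_isUnit.2 (Matrix.isUnit_iff_isUnit_det _ |>.2 (SymplecticGroup.symplectic_det A.2))
  have htop : ∀ A : symplecticGroup (Fin d) F,
      Submodule.span F (Set.range A.1.col) = ⊤ := fun A =>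
    (hcols A).span_eq_top_of_card_eq_finrank' (by rw [finrank_space]; simp [two_mul])
  let Φ : symplecticGroup (Fin d) F → Σ P : LPair F d, {u : Fin d → P.1.1 // LinearIndependent F u} :=
    fun A => ⟨⟨(Submodule.span F (Set.range fun k => A.1.col (Sum.inl k)),
        Submodule.span F (Set.range fun k => A.1.col (Sum.inr k))), by
      refine ⟨⟨?_, codisjoint_iff.2 ?_⟩, span_iso fun a b => ?_, span_iso fun a b => ?_⟩
      · have h := (hcols A).disjoint_span_image (s := Set.range Sum.inl) (t := Set.range Sum.inr)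
          Set.isCompl_range_inl_range_inr.disjoint
        rwa [← Set.range_comp, ← Set.range_comp] at h
      · rw [← Submodule.span_union, ← htop A]
        congr 1
        ext x
        simp [eq_comm]
      · rw [sympForm_col A.2]; simp [J]
      · rw [sympForm_col A.2]; simp [J]⟩,
      ⟨fun k => ⟨A.1.col (Sum.inl k), Submodule.subset_span ⟨k, rfl⟩⟩,
        LinearIndependent.of_comp (Submodule.subtype _) ((hcols A).comp _ Sum.inl_injective)⟩⟩
  have hΦ : Function.Bijective Φ := by
    constructor
    · intro A B h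
      have h1 : (Φ A).1 = (Φ B).1 := congrArg Sigma.fst h
      have h2 : (fun k => A.1.col (Sum.inl k)) = fun k => B.1.col (Sum.inl k) :=
        congrArg (fun S : Σ P : LPair F d, {u : Fin d → P.1.1 // LinearIndependent F u} =>
          fun k => (S.2.1 k : Fin d ⊕ Fin d → F)) h
      have hW : Submodule.span F (Set.range fun k => B.1.col (Sum.inr k)) =
          Submodule.span F (Set.range fun k => A.1.col (Sum.inr k)) :=
        (congrArg (fun P : LPair F d => P.1.2) h1).symm
      refine Subtype.ext (Matrix.ext_col fun a => ?_)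
      rcases a with k | k
      · exact congrFun h2 k
      · refine sub_eq_zero.1 (pairing_injective (Φ A).1.2.1 (Φ A).1.2.2.2 (z := _)
          (Submodule.sub_mem _ (Submodule.subset_span ⟨k, rfl⟩)
            (by show _ ∈ Submodule.span F _; rw [← hW]; exact Submodule.subset_span ⟨k, rfl⟩)) ?_)
        intro u hu
        rw [← spBilin_apply]
        induction hu using Submodule.span_induction with
        | zero => rw [map_zero, LinearMap.zero_apply]
        | add x x' _ _ ih ih' => rw [map_add, LinearMap.add_apply, ih, ih', add_zero]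
        | smul c x _ ih => rw [map_smul, LinearMap.smul_apply, ih, smul_zero]
        | mem x hx =>
          obtain ⟨l, rfl⟩ := hx
          have e : A.1.col (Sum.inl l) = B.1.col (Sum.inl l) := congrFun h2 l
          show spBilin d F (A.1.col (Sum.inl l)) (A.1.col (Sum.inr k) - B.1.col (Sum.inr k)) = 0
          rw [map_sub, spBilin_apply, spBilin_apply, sympForm_col A.2, e, sympForm_col B.2, sub_self]
    · rintro ⟨P, u⟩
      let Λ : P.1.2 →ₗ[F] (Fin d → F) :=
        LinearMap.pi fun l => (spBilin d F (u.1 l : Fin d ⊕ Fin d → F)).comp P.1.2.subtype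
      have hu : Submodule.span F (Set.range fun l => (u.1 l : Fin d ⊕ Fin d → F)) = P.1.1 := by
        refine Submodule.eq_of_le_of_finrank_eq (Submodule.span_le.2 ?_) ?_
        · rintro _ ⟨l, rfl⟩; exact (u.1 l).2
        · rw [finrank_span_eq_card, Fintype.card_fin, (finrank_lpair P).1]
          exact u.2.map' P.1.1.subtype P.1.1.ker_subtype
      have hinj : Function.Injective Λ := by
        rw [← LinearMap.ker_eq_bot, LinearMap.ker_eq_bot']
        intro z hz
        refine Subtype.ext (pairing_injective P.2.1 P.2.2.2 z.2 fun x hx => ?_)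
        rw [← spBilin_apply]
        rw [← hu] at hx
        induction hx using Submodule.span_induction with
        | zero => rw [map_zero, LinearMap.zero_apply]
        | add x x' _ _ ih ih' => rw [map_add, LinearMap.add_apply, ih, ih', add_zero]
        | smul c x _ ih => rw [map_smul, LinearMap.smul_apply, ih, smul_zero]
        | mem x hx =>
          obtain ⟨l, rfl⟩ := hx
          exact congrFun hz l
      have hsurj : Function.Surjective Λ :=
        (LinearMap.injective_iff_surjective_of_finrank_eq_finrank (by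
          rw [(finrank_lpair P).2, Module.finrank_fin_fun])).1 hinj
      choose w hw using fun k : Fin d => hsurj (fun l => J (Fin d) F (Sum.inl l) (Sum.inr k))
      have hw' : ∀ k l, Cfsg.sympForm d F (u.1 l).1 (w k).1 = J (Fin d) F (Sum.inl l) (Sum.inr k) :=
        fun k l => by rw [← spBilin_apply]; exact congrFun (hw k) l
      let M : Matrix (Fin d ⊕ Fin d) (Fin d ⊕ Fin d) F :=
        (Matrix.of (Sum.elim (fun l => (u.1 l).1) fun k => (w k).1))ᵀ
      have hM : M ∈ symplecticGroup (Fin d) F := by
        rw [SymplecticGroup.mem_iff']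
        ext a b
        have e : (Mᵀ * J (Fin d) F * M) a b = Cfsg.sympForm d F (M.col a) (M.col b) := by
          rw [← mulVec_single_one M a, ← mulVec_single_one M b, sympForm_mulVec, mulVec_single_one,
            single_one_dotProduct]
          rfl
        rw [e]
        rcases a with a | a <;> rcases b with b | b
        · exact (P.2.2.1 _ (u.1 a).2 _ (u.1 b).2).trans (by simp [J])
        · exact hw' b a
        · show Cfsg.sympForm d F (w a).1 (u.1 b).1 = _
          rw [← spBilin_apply, ← LinearMap.BilinForm.IsAlt.neg_eq spBilin_isAlt, spBilin_apply, hw']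
          simp [J, Matrix.one_apply, eq_comm]
        · exact (P.2.2.2 _ (w a).2 _ (w b).2).trans (by simp [J])
      refine ⟨⟨M, hM⟩, ?_⟩
      have hW : Submodule.span F (Set.range fun k => (w k : Fin d ⊕ Fin d → F)) = P.1.2 := by
        refine Submodule.eq_of_le_of_finrank_eq (Submodule.span_le.2 ?_) ?_
        · rintro _ ⟨l, rfl⟩; exact (w l).2
        · rw [finrank_span_eq_card, Fintype.card_fin, (finrank_lpair P).2]
          exact (hcols ⟨M, hM⟩).comp _ Sum.inr_injective
      have key : ∀ (S S' : Σ Q : LPair F d, {v : Fin d → Q.1.1 // LinearIndependent F v}), S.1 = S'.1 →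
          (fun k => (S.2.1 k : Fin d ⊕ Fin d → F)) = (fun k => (S'.2.1 k : Fin d ⊕ Fin d → F)) → S = S' := by
        rintro ⟨Q, v⟩ ⟨Q', v'⟩ (rfl : Q = Q') h
        exact Sigma.ext rfl (heq_of_eq (Subtype.ext (funext fun k => Subtype.ext (congrFun h k))))
      exact key _ _ (Subtype.ext (congrArg₂ Prod.mk hu hW)) rfl
  rw [Nat.card_eq_of_bijective Φ hΦ, Nat.card_sigma, Finset.sum_congr rfl fun P _ => hfib P,
    Finset.sum_const, Finset.card_univ, smul_eq_mul, Nat.card_eq_fintype_card (α := LPair F d)]

/-- The odd divisors of the number of pairs. -/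
lemma dvd_lpair [Fintype F] (hd : 0 < d) {r : ℕ} [Fact r.Prime] (hr2 : r ≠ 2) (hq : ¬ r ∣ Fintype.card F)
    (h : r ∣ Nat.card (LPair F d) / 2) : ∃ j ≤ d, r ∣ Fintype.card F ^ j + 1 := by
  classical
  haveI : Finite (Submodule F (Fin d ⊕ Fin d → F)) := Finite.of_injective _ SetLike.coe_injective
  haveI := Fintype.ofFinite (LPair F d)
  have heven : 2 ∣ Nat.card (LPair F d) := by
    let σ : Equiv.Perm (LPair F d) :=
      { toFun := fun P => ⟨(P.1.2, P.1.1), P.2.1.symm, P.2.2.2, P.2.2.1⟩
        invFun := fun P => ⟨(P.1.2, P.1.1), P.2.1.symm, P.2.2.2, P.2.2.1⟩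
        left_inv := fun _ => rfl
        right_inv := fun _ => rfl }
    have hfix : σ.supportᶜ = ∅ := by
      ext P
      rw [Finset.mem_compl, Equiv.Perm.mem_support, not_not]
      simp only [Finset.notMem_empty, iff_false]
      intro e
      have he : P.1.2 = P.1.1 := congrArg (fun Q : LPair F d => Q.1.1) e
      have := P.2.1.disjoint
      rw [he, disjoint_self] at this
      have hd' := (finrank_lpair P).1
      rw [this, finrank_bot] at hd'
      omega
    have hmod := Equiv.Perm.card_compl_support_modEq (p := 2) (σ := σ) (n := 1) (Equiv.ext fun _ => rfl)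
    rw [hfix, Finset.card_empty] at hmod
    rw [Nat.card_eq_fintype_card]
    exact Nat.modEq_zero_iff_dvd.1 hmod.symm
  have hdvd : r ∣ Nat.card (LPair F d) := h.trans (Nat.div_dvd_of_dvd heven)
  have e := card_lpair_mul (F := F) (d := d)
  rw [card_sp, prod_pow_sub (Fintype.card F) le_rfl, Nat.card_eq_fintype_card (α := F)] at e
  have hQ : 2 ≤ Fintype.card F := Fintype.one_lt_card
  have hg := gprod_top (Fintype.card F) (le_refl d)
  rw [Nat.sub_self, show gprod (Fintype.card F) 0 = 1 from Finset.prod_range_zero _, one_mul] at hg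
  rw [hg] at e
  have hsq : ∏ i ∈ Finset.range d, (Fintype.card F ^ (2 * (i + 1)) - 1) =
      gprod (Fintype.card F) d * ∏ i ∈ Finset.range d, (Fintype.card F ^ (i + 1) + 1) := by
    rw [gprod, ← Finset.prod_mul_distrib]
    refine Finset.prod_congr rfl fun i _ => ?_
    have h := Nat.sq_sub_sq (Fintype.card F ^ (i + 1)) 1
    rw [one_pow, ← pow_mul, mul_comm (i + 1)] at h
    rw [h, mul_comm]
  rw [hsq, ← mul_assoc, mul_left_comm _ (gprod (Fintype.card F) d)] at e
  have e' : (Nat.card (LPair F d) * ∏ k ∈ Finset.range d, Fintype.card F ^ k) =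
      Fintype.card F ^ d ^ 2 * ∏ i ∈ Finset.range d, (Fintype.card F ^ (i + 1) + 1) :=
    Nat.eq_of_mul_eq_mul_left (gprod_pos hQ d) (by linarith)
  rcases (Fact.out : r.Prime).dvd_mul.1 (e' ▸ hdvd.trans (dvd_mul_right _ _)) with h' | h'
  · exact absurd ((Fact.out : r.Prime).dvd_of_dvd_pow h') hq
  · obtain ⟨j, hj, hjd⟩ := ((Fact.out : r.Prime).prime.dvd_finsetProd_iff _).1 h'
    exact ⟨j + 1, Finset.mem_range.1 hj, hjd⟩

end Cfsg.Agent.Elusive
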