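import Cfsg.Agent.Lib.Elusive.Criterion

/-!
Every element of prime order fixes a subspace (or a pair of subspaces): the criterion.
-/

set_option autoImplicit false
set_option linter.style.haveILetI false

namespace Cfsg.Agent.Elusive

variable {F : Type*} [Field F] [Fintype F] {n m r : ℕ} [Fact r.Prime]

lemma pow_case (hr : ¬ r ∣ Fintype.card F) {T : Module.End F (Fin n → F)} (hT : T ^ r = 1)
    (hm : 2 * m ≤ n) (hcond : m % orderOf (Fintype.card F : ZMod r) ≤ n % orderOf (Fintype.card F : ZMod r)) :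
    ∃ W, Inv T W ∧ Module.finrank F W = m := by
  have hr0 := cast_ne_zero_of_not_dvd_card hr
  obtain ⟨J, hJ, hsum⟩ := exists_moved_eq hT hr0
  rw [Module.finrank_fin_fun] at hsum
  have hipos := orderOf_card_pos (F := F) (r := r) hr0
  set i := orderOf (Fintype.card F : ZMod r) with hi
  obtain ⟨j, hj1, hj2, hj3⟩ : ∃ j, j ≤ J ∧ j * i ≤ m ∧
      m ≤ j * i + Module.finrank F (fixedSpace T) := by
    rcases Nat.le_total (m / i) J with h | h
    · refine ⟨m / i, h, Nat.div_mul_le_self m i, ?_⟩
      have h1 := Nat.div_add_mod m i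
      have h2 : n % i ≤ Module.finrank F (fixedSpace T) := by
        have e : n % i = Module.finrank F (fixedSpace T) % i :=
          (congrArg (· % i) hsum.symm).trans (Nat.add_mul_mod_self_right _ _ _)
        exact e.le.trans (Nat.mod_le _ _)
      rw [Nat.mul_comm] at h1
      omega
    · have h1 := (Nat.mul_le_mul_right i h).trans (Nat.div_mul_le_self m i)
      exact ⟨J, le_rfl, h1, by omega⟩
  obtain ⟨U, -, hU, -, -, hUd, -⟩ := exists_nested hT hr0 (cU := m - j * i) (cW := m - j * i)
    (jU := j) (jW := j) le_rfl (by omega) le_rfl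
    (by rw [hJ]; exact Nat.mul_le_mul_right i hj1)
  exact ⟨U, hU, by rw [hUd, ← hi]; omega⟩

lemma pow_case_flag (hr : ¬ r ∣ Fintype.card F) {T : Module.End F (Fin n → F)} (hT : T ^ r = 1)
    (hm : 2 * m ≤ n)
    (hcond : 2 * (m % orderOf (Fintype.card F : ZMod r)) ≤ n % orderOf (Fintype.card F : ZMod r)) :
    ∃ U W, Inv T U ∧ Inv T W ∧ U ≤ W ∧ Module.finrank F U = m ∧ Module.finrank F W = n - m := by
  have hr0 := cast_ne_zero_of_not_dvd_card hr
  obtain ⟨J, hJ, hsum⟩ := exists_moved_eq hT hr0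
  rw [Module.finrank_fin_fun] at hsum
  have hipos := orderOf_card_pos (F := F) (r := r) hr0
  set i := orderOf (Fintype.card F : ZMod r) with hi
  -- `a` goes into the small subspace, `b` is left out of the large one
  obtain ⟨a, b, hab, ha, hb, hc⟩ : ∃ a b, a + b ≤ J ∧ a * i ≤ m ∧ b * i ≤ m ∧
      2 * m ≤ (a + b) * i + Module.finrank F (fixedSpace T) := by
    rcases Nat.le_total (2 * (m / i)) J with h | h
    · refine ⟨m / i, m / i, by omega, Nat.div_mul_le_self m i, Nat.div_mul_le_self m i, ?_⟩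
      have h1 := Nat.div_add_mod m i
      have h2 : n % i ≤ Module.finrank F (fixedSpace T) := by
        have e : n % i = Module.finrank F (fixedSpace T) % i :=
          (congrArg (· % i) hsum.symm).trans (Nat.add_mul_mod_self_right _ _ _)
        exact e.le.trans (Nat.mod_le _ _)
      rw [Nat.mul_comm] at h1
      rw [Nat.add_mul]
      omega
    · refine ⟨J / 2, J - J / 2, by omega, ?_, ?_, ?_⟩
      · exact (Nat.mul_le_mul_right i (show J / 2 ≤ m / i by omega)).trans (Nat.div_mul_le_self m i)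
      · exact (Nat.mul_le_mul_right i (show J - J / 2 ≤ m / i by omega)).trans (Nat.div_mul_le_self m i)
      · rw [show J / 2 + (J - J / 2) = J by omega]
        omega
  have hbJ : b * i ≤ J * i := Nat.mul_le_mul_right i (by omega)
  have hmul : (a + b) * i ≤ J * i := Nat.mul_le_mul_right i hab
  rw [Nat.add_mul] at hc hmul
  obtain ⟨U, W, hU, hW, hUW, hUd, hWd⟩ := exists_nested hT hr0 (cU := m - a * i)
    (cW := Module.finrank F (fixedSpace T) - (m - b * i)) (jU := a) (jW := J - b)
    (by omega) (Nat.sub_le _ _) (by omega)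
    (by rw [hJ]; exact Nat.mul_le_mul_right i (Nat.sub_le _ _))
  rw [← hi] at hUd hWd
  rw [Nat.sub_mul] at hWd
  exact ⟨U, W, hU, hW, hUW, by omega, by omega⟩

/-- Dimension of a subspace invariant under a small-fixed-space operator. -/
lemma mod_le_of_inv (hr : ¬ r ∣ Fintype.card F) {T : Module.End F (Fin n → F)} (hT : T ^ r = 1) {e : ℕ}
    (he : Module.finrank F (fixedSpace T) ≤ e) {W : Submodule F (Fin n → F)} (hW : Inv T W)
    (hd : Module.finrank F W = m) : m % orderOf (Fintype.card F : ZMod r) ≤ e := by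
  obtain ⟨cU, cW, jU, jW, h1, h2, -, -, h5, -⟩ :=
    nested_dims hT (cast_ne_zero_of_not_dvd_card hr) hW hW le_rfl
  rw [← hd, h5, Nat.add_mul_mod_self_right]
  exact (Nat.mod_le _ _).trans (h1.trans (h2.trans he))

lemma two_mod_le_of_inv (hr : ¬ r ∣ Fintype.card F) {T : Module.End F (Fin n → F)} (hT : T ^ r = 1)
    (hm : m ≤ n) {e : ℕ}
    (he : Module.finrank F (fixedSpace T) ≤ e) {U W : Submodule F (Fin n → F)} (hU : Inv T U)
    (hW : Inv T W) (hUW : U ≤ W)
    (hUd : Module.finrank F U = m) (hWd : Module.finrank F W = n - m) :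
    2 * (m % orderOf (Fintype.card F : ZMod r)) ≤ e := by
  have hr0 := cast_ne_zero_of_not_dvd_card hr
  obtain ⟨cU, cW, jU, jW, h1, h2, -, h4, h5, h6⟩ := nested_dims hT hr0 hU hW hUW
  obtain ⟨J, hJ, hsum⟩ := exists_moved_eq hT hr0
  rw [Module.finrank_fin_fun] at hsum
  rw [hJ] at h4
  set i := orderOf (Fintype.card F : ZMod r) with hi
  have e1 : m % i ≤ cU := by
    rw [← hUd, h5, Nat.add_mul_mod_self_right]
    exact Nat.mod_le _ _
  have e2 : m = (Module.finrank F (fixedSpace T) - cW) + (J - jW) * i := by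
    rw [Nat.sub_mul]; omega
  have e3 : m % i ≤ Module.finrank F (fixedSpace T) - cW := by
    conv_lhs => rw [e2, Nat.add_mul_mod_self_right]
    exact Nat.mod_le _ _
  omega

lemma dvd_of_inv {c : F} {T : Module.End F (Fin n → F)} (hT : T ^ r = c • 1) (hc0 : c ≠ 0)
    (hc : ∀ s : F, s ^ r ≠ c) {W : Submodule F (Fin n → F)} (hW : Inv T W)
    (hd : Module.finrank F W = m) : r ∣ m :=
  hd ▸ dvd_finrank_nonpower hT hc0 hc hW

/-- The arithmetic of the division by `i`. -/
lemma mod_lt_of_dvd_sub {i t k : ℕ} (hk : k < t) (hkn : k ≤ n) (h : i ∣ n - k) : n % i < t := by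
  obtain ⟨l, hl⟩ := h
  rw [show n = k + i * l by omega, Nat.add_mul_mod_self_left]
  exact (Nat.mod_le _ _).trans_lt hk

end Cfsg.Agent.Elusive
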