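import Cfsg.Agent.Lib.Elusive.NdMoved
import Cfsg.Agent.Lib.Orthogonal.Witt

/-!
Isometry classes of non-degenerate subspaces: completion inside orthogonal pieces, and counts prime to the order.
-/

set_option autoImplicit false
set_option linter.all false
set_option maxHeartbeats 1600000

namespace Cfsg.Agent.Elusive

open Module QuadraticMap

variable {F : Type*} [Field F] {V : Type*} [AddCommGroup V] [Module F V] {Q : QuadraticForm F V}

/-- Isometric subspaces. -/
def IsoQ (Q : QuadraticForm F V) (W W' : Submodule F V) : Prop := ∃ e : W ≃ₗ[F] W', ∀ w : W, Q (e w : V) = Q (w : V)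

lemma IsoQ.refl (W : Submodule F V) : IsoQ Q W W := ⟨LinearEquiv.refl F W, fun _ => rfl⟩

lemma IsoQ.symm {W W' : Submodule F V} : IsoQ Q W W' → IsoQ Q W' W := fun ⟨e, he⟩ =>
  ⟨e.symm, fun w => by rw [← he, LinearEquiv.apply_symm_apply]⟩

lemma IsoQ.trans {W W' W'' : Submodule F V} : IsoQ Q W W' → IsoQ Q W' W'' → IsoQ Q W W'' := fun ⟨e, he⟩ ⟨f, hf⟩ =>
  ⟨e.trans f, fun w => by rw [LinearEquiv.trans_apply, hf, he]⟩

lemma IsoQ.finrank {W W' : Submodule F V} : IsoQ Q W W' → finrank F W = finrank F W' := fun ⟨e, _⟩ => e.finrank_eq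

lemma IsoQ.ndq {W W' : Submodule F V} (h : IsoQ Q W W') (hW : NDQ Q W) : NDQ Q W' := by
  obtain ⟨e, he⟩ := h
  intro u hu hz
  obtain ⟨w, hw⟩ := e.surjective ⟨u, hu⟩
  have h0 : (w : V) = 0 := hW _ w.2 fun v hv => by
    have := hz _ (e ⟨v, hv⟩).2
    rw [show u = (e w : V) by rw [hw], polar, ← Submodule.coe_add, ← map_add, he, he, he] at this
    exact this
  have h1 : w = 0 := Subtype.ext h0
  rw [h1, map_zero] at hw
  exact (congrArg Subtype.val hw).symm

lemma isoQ_of_range {Z : Type*} [AddCommGroup Z] [Module F Z] (f g : Z →ₗ[F] V) (hf : Function.Injective f)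
    (hg : Function.Injective g) (h : ∀ z, Q (f z) = Q (g z)) : IsoQ Q (LinearMap.range f) (LinearMap.range g) := by
  refine ⟨(LinearEquiv.ofInjective f hf).symm.trans (LinearEquiv.ofInjective g hg), fun w => ?_⟩
  obtain ⟨z, rfl⟩ := (LinearEquiv.ofInjective f hf).surjective w
  rw [LinearEquiv.trans_apply, LinearEquiv.symm_apply_apply]
  show Q (g z) = Q (f z)
  rw [h]

lemma isoQ_map {W : Submodule F V} (f : V →ₗ[F] V) (hf : Function.Injective f) (h : ∀ v, Q (f v) = Q v) :
    IsoQ Q W (W.map f) :=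
  ⟨Submodule.equivMapOfInjective f hf W, fun w => by rw [Submodule.coe_equivMapOfInjective_apply, h]⟩

lemma isoQ_span {a b : V} (ha : a ≠ 0) (hb : b ≠ 0) (h : Q a = Q b) :
    IsoQ Q (Submodule.span F {a}) (Submodule.span F {b}) := by
  rw [← LinearMap.range_toSpanSingleton (R := F) a, ← LinearMap.range_toSpanSingleton (R := F) b]
  refine isoQ_of_range _ _ (smul_left_injective F ha) (smul_left_injective F hb) fun c => ?_
  simp [QuadraticMap.map_smul, h]

variable [FiniteDimensional F V]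

lemma IsoQ.plus {W W' : Submodule F V} (h : IsoQ Q W W') : PlusOn Q W ↔ PlusOn Q W' := by
  suffices key : ∀ {A B : Submodule F V}, IsoQ Q A B → PlusOn Q A → PlusOn Q B from ⟨key h, key h.symm⟩
  rintro A B ⟨e, he⟩ ⟨U, hU, hUs, hUd⟩
  refine ⟨(U.comap A.subtype).map (B.subtype.comp e.toLinearMap), ?_, ?_, ?_⟩
  · rintro _ ⟨w, -, rfl⟩
    exact (e w).2
  · rintro _ ⟨w, hw, rfl⟩
    exact (he w).trans (hUs _ hw)
  · have hinj : Function.Injective ⇑(B.subtype.comp e.toLinearMap) := fun x y h => e.injective (Subtype.ext h)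
    rw [← (Submodule.equivMapOfInjective _ hinj (U.comap A.subtype)).finrank_eq,
      (Submodule.comapSubtypeEquivOfLe hU).finrank_eq, hUd, e.finrank_eq]

/-- Orthogonal sums of isometric pieces. -/
lemma isoQ_sup {X Y X' Y' : Submodule F V} (hX : NDQ Q X) (hY : NDQ Q Y) (h : ∀ x ∈ X, ∀ y ∈ Y, polar Q x y = 0)
    (hX' : IsoQ Q X X') (hY' : IsoQ Q Y Y') (h' : ∀ x ∈ X', ∀ y ∈ Y', polar Q x y = 0) : IsoQ Q (X ⊔ Y) (X' ⊔ Y') := by
  obtain ⟨-, hbot, -⟩ := ndq_sup hX hY h
  obtain ⟨-, hbot', -⟩ := ndq_sup (hX'.ndq hX) (hY'.ndq hY) h'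
  obtain ⟨eX, heX⟩ := hX'
  obtain ⟨eY, heY⟩ := hY'
  have inj : ∀ {A B : Submodule F V}, A ⊓ B = ⊥ → Function.Injective (LinearMap.coprod A.subtype B.subtype) := by
    intro A B hAB
    rw [← LinearMap.ker_eq_bot, LinearMap.ker_eq_bot']
    rintro ⟨a, b⟩ hab
    rw [LinearMap.coprod_apply] at hab
    have ha : (a : V) = 0 := (Submodule.mem_bot F).1 (hAB.le ⟨a.2, by
      rw [show (a : V) = -(b : V) from eq_neg_of_add_eq_zero_left hab]; exact neg_mem b.2⟩)
    have hb : (b : V) = 0 := by simpa [ha] using hab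
    exact Prod.ext (Subtype.ext ha) (Subtype.ext hb)
  have e1 : ∀ A B : Submodule F V, LinearMap.range (LinearMap.coprod A.subtype B.subtype) = A ⊔ B := fun A B => by
    rw [LinearMap.range_coprod, Submodule.range_subtype, Submodule.range_subtype]
  have e2 : LinearMap.range ((LinearMap.coprod X'.subtype Y'.subtype).comp (eX.prodCongr eY).toLinearMap) = X' ⊔ Y' := by
    rw [LinearMap.range_comp, LinearEquiv.range, Submodule.map_top, e1]
  rw [← e1 X Y, ← e2]
  refine isoQ_of_range _ _ (inj hbot) ((inj hbot').comp (eX.prodCongr eY).injective) fun z => ?_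
  show Q ((z.1 : V) + z.2) = Q ((eX z.1 : V) + eY z.2)
  rw [QuadraticMap.map_add Q, QuadraticMap.map_add Q, heX, heY, h _ z.1.2 _ z.2.2, h' _ (eX z.1).2 _ (eY z.2).2]

variable [Fintype F]

/-- Same type, same class. -/
lemma isoQ_of_type {W W' : Submodule F V} {a : ℕ} (hW : NDQ Q W) (hW' : NDQ Q W') (ha : finrank F W = 2 * a)
    (ha' : finrank F W' = 2 * a) (h : PlusOn Q W ↔ PlusOn Q W') : IsoQ Q W W' := by
  have key : ∀ {A : Submodule F V}, NDQ Q A → finrank F A = 2 * a →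
      (PlusOn Q A ↔ LBEven.IsPlus a (Q.comp A.subtype)) := fun {A} hA hAd => by
    have := plusOn_iff (Q := Q) A.subtype A.subtype_injective (by rwa [Submodule.range_subtype]) hAd
    rwa [Submodule.range_subtype] at this
  obtain ⟨g, hg⟩ := LBEven.exists_iso (restrict_nondeg hW) (restrict_nondeg hW') ha ha' ((key hW ha).symm.trans (h.trans (key hW' ha')))
  exact ⟨g, fun w => (hg w).symm⟩

/-- Completing a piece to a member of a class inside an orthogonal piece. -/
lemma exists_complete (hQ : (polarBilin Q).Nondegenerate) {W₀ W₁ S : Submodule F V} (hW₀ : NDQ Q W₀) (hW₁ : NDQ Q W₁)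
    (hS : NDQ Q S) (hperp : ∀ x ∈ S, ∀ y ∈ W₁, polar Q x y = 0) {a c₀ : ℕ} (ha : finrank F W₁ = 2 * a)
    (hc : finrank F W₀ = c₀ + 2 * a) (hlt : c₀ < finrank F S) (h0 : c₀ = 0 → (PlusOn Q W₁ ↔ PlusOn Q W₀)) :
    ∃ A : Submodule F V, A ≤ S ∧ IsoQ Q (A ⊔ W₁) W₀ := by
  rcases Nat.even_or_odd c₀ with ⟨e, he⟩ | ⟨e, he⟩
  · rcases Nat.eq_zero_or_pos e with rfl | he0
    · refine ⟨⊥, bot_le, ?_⟩
      rw [bot_sup_eq]
      exact isoQ_of_type hW₁ hW₀ ha (by omega) (h0 (by omega))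
    · obtain ⟨A, hAS, hA, hAd, hAp⟩ := exists_typed_sub hQ hS he0 (by omega) (PlusOn Q W₁ ↔ PlusOn Q W₀)
      have hp : ∀ x ∈ A, ∀ y ∈ W₁, polar Q x y = 0 := fun x hx y hy => hperp x (hAS hx) y hy
      obtain ⟨h1, -, h3⟩ := ndq_sup hA hW₁ hp
      refine ⟨A, hAS, isoQ_of_type (a := e + a) h1 hW₀ (by omega) (by omega) ?_⟩
      rw [plus_sup hQ hA hW₁ hAd ha hp, hAp]
      tauto
  · obtain ⟨A, hAS, hA, hAd, hAp⟩ := exists_plus_sub hQ e S hS (by omega)
    have hp : ∀ x ∈ A, ∀ y ∈ W₁, polar Q x y = 0 := fun x hx y hy => hperp x (hAS hx) y hy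
    obtain ⟨hE, -, hEd⟩ := ndq_sup hA hW₁ hp
    obtain ⟨E', hE'W, hE', hE'i⟩ : ∃ E', E' ≤ W₀ ∧ NDQ Q E' ∧ IsoQ Q (A ⊔ W₁) E' := by
      rcases Nat.eq_zero_or_pos (e + a) with h | h
      · have : A ⊔ W₁ = ⊥ := Submodule.finrank_eq_zero.1 (by omega)
        exact ⟨⊥, bot_le, ndq_bot, this ▸ IsoQ.refl _⟩
      · obtain ⟨E', h1, h2, h3, h4⟩ := exists_typed_sub hQ hW₀ h (by omega) (PlusOn Q (A ⊔ W₁))
        exact ⟨E', h1, h2, isoQ_of_type hE h2 (a := e + a) (by omega) h3 h4.symm⟩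
    obtain ⟨L, hLW, hL, hLperp, hLsum, hLd, -⟩ := ndq_compl hQ hW₀ hE' hE'W
    rw [← hE'i.finrank] at hLd
    obtain ⟨b, hb, hb0⟩ := Submodule.exists_mem_ne_zero_of_ne_bot (p := L) (fun h => by
      rw [h, finrank_bot] at hLd; omega)
    have hspan : Submodule.span F {b} = L := Submodule.eq_of_le_of_finrank_eq
      ((Submodule.span_singleton_le_iff_mem _ _).2 hb) (by rw [finrank_span_singleton hb0]; omega)
    have hQb : Q b ≠ 0 := fun h => hb0 (hL b hb fun v hv => by
      rw [← hspan] at hv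
      obtain ⟨c, rfl⟩ := Submodule.mem_span_singleton.1 hv
      rw [polar_smul_right, polar_diag, h, mul_zero, smul_zero])
    obtain ⟨R, hRS, hR, hARperp, -, hRd, -⟩ := ndq_compl hQ hS hA hAS
    obtain ⟨x, hx⟩ := Orth.exists_value (restrict_nondeg hR) (by omega) (Q b)
    have hx' : Q (x : V) = Q b := hx
    have hx0 : (x : V) ≠ 0 := fun h => hQb (by rw [← hx', h, map_zero])
    have hiso := isoQ_span (Q := Q) hx0 hb0 hx'
    rw [hspan] at hiso
    refine ⟨A ⊔ Submodule.span F {(x : V)}, sup_le hAS ((Submodule.span_singleton_le_iff_mem _ _).2 (hRS x.2)), ?_⟩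
    rw [show A ⊔ Submodule.span F {(x : V)} ⊔ W₁ = (A ⊔ W₁) ⊔ Submodule.span F {(x : V)} from sup_right_comm _ _ _,
      ← hLsum]
    refine isoQ_sup hE (hiso.symm.ndq hL) (fun u hu v hv => ?_) hE'i hiso hLperp
    obtain ⟨c, rfl⟩ := Submodule.mem_span_singleton.1 hv
    obtain ⟨y, hy, w, hw, rfl⟩ := Submodule.mem_sup.1 hu
    rw [polar_smul_right, polar_add_left, hARperp y hy x x.2, polar_comm Q w, hperp x (hRS x.2) w hw]
    simp

variable {r : ℕ} [Fact r.Prime] {T : Module.End F V}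

/-- The parts of a non-degenerate invariant subspace. -/
lemma nd_parts (hQ : (polarBilin Q).Nondegenerate) (hT : T ^ r = 1) (hr : (r : F) ≠ 0) (e : ∀ v, Q (T v) = Q v)
    {W : Submodule F V} (hWi : Inv T W) (hW : NDQ Q W) :
    NDQ Q (W ⊓ fixedSpace T) ∧ NDQ Q (W ⊓ movedSpace T r) ∧ Inv T (W ⊓ movedSpace T r) ∧
      (∀ x ∈ W ⊓ fixedSpace T, ∀ y ∈ W ⊓ movedSpace T r, polar Q x y = 0) ∧
      (W ⊓ fixedSpace T) ⊔ (W ⊓ movedSpace T r) = W := by
  have hI := quad_isom (hQ := hQ) e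
  have hp : ∀ x ∈ W ⊓ fixedSpace T, ∀ y ∈ W ⊓ movedSpace T r, polar Q x y = 0 := fun x hx y hy =>
    SForm.fixed_perp_moved (Φ := quadSF hQ) hr hI hx.2 hy.2
  have hs := split_inv hT hr hWi
  refine ⟨fun u hu hz => hW u hu.1 fun v hv => ?_, fun u hu hz => hW u hu.1 fun v hv => ?_,
    fun v hv => ⟨hWi v hv.1, inv_moved v hv.2⟩, hp, hs⟩
  · rw [← hs] at hv
    obtain ⟨a, ha, b, hb, rfl⟩ := Submodule.mem_sup.1 hv
    rw [polar_add_right, hz a ha, hp u hu b hb, add_zero]
  · rw [← hs] at hv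
    obtain ⟨a, ha, b, hb, rfl⟩ := Submodule.mem_sup.1 hv
    rw [polar_add_right, hz b hb, polar_comm Q u a, hp a ha u hu, zero_add]

local notation "ord" => orderOf (Fintype.card F : ZMod r)

/-- Small non-degenerate invariant subspaces are fixed. -/
lemma le_fixed_of_small (hQ : (polarBilin Q).Nondegenerate) (hT : T ^ r = 1) (hr : (r : F) ≠ 0) (hr2 : r ≠ 2)
    (e : ∀ v, Q (T v) = Q v) {W : Submodule F V} (hWi : Inv T W) (hW : NDQ Q W) (hd : finrank F W < blockDim ord) :
    W ≤ fixedSpace T := by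
  obtain ⟨-, hM, hMi, -, hs⟩ := nd_parts hQ hT hr e hWi hW
  obtain ⟨j, hj⟩ := dvd_moved hQ hT hr hr2 e hMi inf_le_right hM
  have h1 := Submodule.finrank_mono (inf_le_left : W ⊓ movedSpace T r ≤ W)
  rcases j with _ | j
  · rw [mul_zero] at hj
    rw [← hs, Submodule.finrank_eq_zero.1 hj, sup_bot_eq]
    exact inf_le_right
  · rw [Nat.mul_succ] at hj; omega

/-- Classes inside a small space have size prime to the order. -/
lemma not_dvd_in (hr : (r : F) ≠ 0) (hr2 : r ≠ 2) {K : Submodule F V} (hK : NDQ Q K) (hk : finrank F K < blockDim ord)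
    {W₁ : Submodule F V} (hW₁ : W₁ ≤ K) :
    ¬ r ∣ Nat.card {W : Submodule F V // W ≤ K ∧ IsoQ Q W W₁} := by
  open scoped Pointwise in
  classical
  haveI : Finite V := Module.finite_of_finite F
  obtain ⟨QK, hQK⟩ : ∃ QK : QuadraticForm F K, QK = Q.comp K.subtype := ⟨_, rfl⟩
  have hQKv : ∀ w, QK w = Q (w : V) := fun w => by rw [hQK]; rfl
  have hn : (polarBilin QK).Nondegenerate := hQK ▸ restrict_nondeg hK
  let G := ↥(Orth.oGroup QK)
  haveI : Finite (K ≃ₗ[F] K) := Finite.of_injective (fun g : K ≃ₗ[F] K => (g : K → K)) DFunLike.coe_injective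
  have hmap : ∀ (g : G) (W : Submodule F K), g • W = W.map g.1.toLinearMap := fun g W => rfl
  intro hdvd
  have hcard : Nat.card {W : Submodule F V // W ≤ K ∧ IsoQ Q W W₁} = (MulAction.orbit G (W₁.comap K.subtype)).ncard := by
    rw [← Nat.card_coe_set_eq]
    refine Nat.card_congr (Equiv.ofBijective (fun W => ⟨W.1.comap K.subtype, ?_⟩) ⟨?_, ?_⟩)
    · obtain ⟨φ, hφ⟩ := W.2.2.symm
      obtain ⟨g, hg, hgφ⟩ := Orth.witt_pair hn ((Submodule.comapSubtypeEquivOfLe hW₁).trans
        (φ.trans (Submodule.comapSubtypeEquivOfLe W.2.1).symm)) fun x => by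
          rw [hQKv, hQKv]
          exact hφ _
      refine ⟨⟨g, hg⟩, ?_⟩
      show (⟨g, hg⟩ : G) • W₁.comap K.subtype = W.1.comap K.subtype
      rw [hmap]
      refine Submodule.eq_of_le_of_finrank_eq ?_ ?_
      · rintro _ ⟨x, hx, rfl⟩
        show g x ∈ _
        rw [hgφ ⟨x, hx⟩]
        exact Subtype.prop _
      · rw [← (Submodule.equivMapOfInjective _ g.injective _).finrank_eq, (Submodule.comapSubtypeEquivOfLe hW₁).finrank_eq,
          (Submodule.comapSubtypeEquivOfLe W.2.1).finrank_eq, W.2.2.finrank]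
    · intro A B h
      have := congrArg (fun Z : Submodule F K => Z.map K.subtype) (Subtype.ext_iff.1 h)
      simp only [Submodule.map_comap_subtype, inf_eq_right.2 A.2.1, inf_eq_right.2 B.2.1] at this
      exact Subtype.ext this
    · rintro ⟨Z, g, rfl⟩
      refine ⟨⟨((g • W₁.comap K.subtype : Submodule F K)).map K.subtype, Submodule.map_subtype_le _ _, ?_⟩,
        Subtype.ext (Submodule.comap_map_eq_of_injective K.subtype_injective _)⟩
      rw [hmap, ← Submodule.map_comp]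
      have h1 : IsoQ Q (LinearMap.range (K.subtype.comp (W₁.comap K.subtype).subtype))
          (LinearMap.range ((K.subtype.comp g.1.toLinearMap).comp (W₁.comap K.subtype).subtype)) :=
        isoQ_of_range _ _ (K.subtype_injective.comp (Submodule.subtype_injective _))
          ((K.subtype_injective.comp g.1.injective).comp (Submodule.subtype_injective _)) fun z => by
            show Q ((z.1 : K) : V) = Q ((g.1 z.1 : K) : V)
            rw [← hQKv, ← hQKv, g.2]
      rw [LinearMap.range_comp, Submodule.range_subtype, LinearMap.range_comp, Submodule.range_subtype,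
        Submodule.map_comap_subtype, inf_eq_right.2 hW₁] at h1
      exact h1.symm
  rw [hcard, ← MulAction.index_stabilizer] at hdvd
  obtain ⟨g, hg⟩ := exists_prime_orderOf_dvd_card' r (hdvd.trans (Subgroup.index_dvd_card _))
  obtain ⟨S, hS⟩ : ∃ S : Module.End F K, S = g.1.toLinearMap := ⟨_, rfl⟩
  have hSk : ∀ (k : ℕ) w, (S ^ k) w = (g ^ k).1 w := fun k => by
    induction k with
    | zero => intro w; rfl
    | succ k ih =>
      intro w
      rw [pow_succ', Module.End.mul_apply, ih, hS, pow_succ']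
      rfl
  have hgr : g ^ r = 1 := hg ▸ pow_orderOf_eq_one g
  have hSr : S ^ r = 1 := LinearMap.ext fun w => by rw [hSk, hgr]; rfl
  have hSe : ∀ w, QK (S w) = QK w := fun w => hS ▸ g.2 w
  obtain ⟨j, hj⟩ := dvd_moved (Q := QK) hn hSr hr hr2 hSe inv_moved le_rfl
    (SForm.nd_moved (Φ := quadSF hn) hSr hr (quad_isom hSe))
  have hle := Submodule.finrank_le (movedSpace S r)
  have hM : movedSpace S r = ⊥ := Submodule.finrank_eq_zero.1 (by
    rcases j with _ | j
    · rwa [mul_zero] at hj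
    · rw [Nat.mul_succ] at hj; omega)
  refine (Fact.out : r.Prime).ne_one (hg ▸ orderOf_eq_one_iff.2 (Subtype.ext (LinearEquiv.ext fun w => ?_)))
  have h1 := split_inv hSr hr (W := ⊤) fun _ _ => trivial
  rw [hM, inf_bot_eq, sup_bot_eq, top_inf_eq] at h1
  have h2 := mem_fixedSpace.1 (h1.ge (Submodule.mem_top (x := w)))
  rw [hS] at h2
  exact h2

/-- No invariant member of a small class when the fixed space is small. -/
lemma no_fix_small (hQ : (polarBilin Q).Nondegenerate) (hT : T ^ r = 1) (hr : (r : F) ≠ 0) (hr2 : r ≠ 2)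
    (e : ∀ v, Q (T v) = Q v) {W₀ : Submodule F V} (hW₀ : NDQ Q W₀) (hm : finrank F W₀ < blockDim ord)
    (hk : finrank F (fixedSpace T) < blockDim ord) (hdvd : r ∣ Nat.card {W : Submodule F V // IsoQ Q W W₀})
    {W : Submodule F V} (hW : IsoQ Q W W₀) (hWi : Inv T W) : False := by
  classical
  haveI : Finite V := Module.finite_of_finite F
  haveI : Finite (Submodule F V) := Finite.of_injective (fun S : Submodule F V => (S : Set V)) SetLike.coe_injective
  have hI := quad_isom (hQ := hQ) e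
  have hin : ∀ X, IsoQ Q X W₀ → Inv T X → X ≤ fixedSpace T := fun X hX hXi =>
    le_fixed_of_small hQ hT hr hr2 e hXi (hX.symm.ndq hW₀) (hX.finrank ▸ hm)
  obtain ⟨Ω, rfl⟩ : ∃ Ω, Ω = {W : Submodule F V // IsoQ Q W W₀} := ⟨_, rfl⟩
  haveI := Fintype.ofFinite {W : Submodule F V // IsoQ Q W W₀}
  let f : Function.End {W : Submodule F V // IsoQ Q W W₀} :=
    fun X => ⟨X.1.map T, (isoQ_map T hI.injective e).symm.trans X.2⟩
  have hfk : ∀ (k : ℕ) X, ((f ^ k) X).1 = X.1.map (T ^ k) := fun k => by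
    induction k with
    | zero => intro X; show X.1 = X.1.map LinearMap.id; rw [Submodule.map_id]
    | succ k ih =>
      intro X
      rw [pow_succ', pow_succ', Module.End.mul_eq_comp, Submodule.map_comp, ← ih]
      rfl
  have hf : f ^ r ^ 1 = 1 := funext fun X => Subtype.ext (by
    rw [pow_one, hfk, hT]; exact Submodule.map_id _)
  have hmod := Equiv.Perm.card_fixedPoints_modEq hf
  rw [← Nat.card_eq_fintype_card, ← Nat.card_eq_fintype_card] at hmod
  refine not_dvd_in hr hr2 (SForm.nd_fixed (Φ := quadSF hQ) hT hr hI) hk (hin W hW hWi) ?_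
  have hcard : Nat.card f.fixedPoints = Nat.card {X : Submodule F V // X ≤ fixedSpace T ∧ IsoQ Q X W} :=
    Nat.card_congr
      { toFun := fun X => ⟨X.1.1, hin _ X.1.2 (inv_map_iff.1 (congrArg Subtype.val X.2).le), X.1.2.trans hW.symm⟩
        invFun := fun X => ⟨⟨X.1, X.2.2.trans hW⟩, Subtype.ext (by
          show X.1.map T = X.1
          ext v
          constructor
          · rintro ⟨u, hu, rfl⟩
            rw [mem_fixedSpace.1 (X.2.1 hu)]; exact hu
          · exact fun hv => ⟨v, hv, mem_fixedSpace.1 (X.2.1 hv)⟩)⟩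
        left_inv := fun X => rfl
        right_inv := fun X => rfl }
  rw [← hcard]
  exact Nat.modEq_zero_iff_dvd.1 (hmod.symm.trans (Nat.modEq_zero_iff_dvd.2 hdvd))

end Cfsg.Agent.Elusive
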