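import Cfsg.Agent.Lib.Elusive.OrthTwo
import Cfsg.Agent.Lib.Orthogonal.SumSquares
import Cfsg.Agent.Lib.Orthogonal.OddInvolutions

/-!
Involutions fixing totally singular subspaces: the three families.
-/

set_option autoImplicit false
set_option linter.all false
set_option maxHeartbeats 1600000

namespace Cfsg.Agent.Elusive

open Module QuadraticMap

section common
variable {F : Type*} [Field F] [Fintype F] {ι : Type} [Fintype ι] [DecidableEq ι] {Q : QuadraticForm F (ι → F)}
  (hQ : (polarBilin Q).Nondegenerate) (h2 : (2 : F) ≠ 0) {m : ℕ}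

/-- The conclusion from an invariant subspace. -/
lemma fix_conv {x : GL ι F} (h : ∃ W : Submodule F (ι → F), finrank F W = m ∧ (∀ w ∈ W, Q w = 0) ∧ Inv (Matrix.toLin' x.1) W) :
    ∃ W : Submodule F (ι → F), Module.finrank F ↥W = m ∧ (∀ w ∈ W, Q w = 0) ∧
      W.map (Matrix.toLin' (x : Matrix ι ι F)) ≤ W := by
  obtain ⟨W, a, b, c⟩ := h
  exact ⟨W, a, b, inv_map_iff.2 c⟩

include hQ h2 in
/-- The eigenspaces of an involution, not scalar. -/
lemma parts_two (hn : 2 ≤ Fintype.card ι) {x : GL ι F} (hx : x ∈ Cfsg.Geo.omegaGL (⇑Q))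
    (hxx : ∀ v, Matrix.toLin' x.1 (Matrix.toLin' x.1 v) = v) (hns : ∀ z : F, (x : Matrix ι ι F) ≠ z • (1 : Matrix ι ι F)) :
    ∃ a b : ℕ, finrank F (fixedSpace (Matrix.toLin' x.1)) = a ∧ 0 < a ∧ a + 2 * b = Fintype.card ι ∧ 0 < b ∧
      (∀ k, k = 0 ∨ 2 * k < a → ∃ A : Submodule F (ι → F), A ≤ fixedSpace (Matrix.toLin' x.1) ∧ (∀ u ∈ A, Q u = 0) ∧ finrank F A = k) ∧
      (∀ k, k = 0 ∨ k < b → ∃ A : Submodule F (ι → F), A ≤ movedSpace (Matrix.toLin' x.1) 2 ∧ (∀ u ∈ A, Q u = 0) ∧ finrank F A = k) ∧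
      ∃ e : ℕ → ι → F, OFam Q (2 * b) e ∧ (∀ i < 2 * b, e i ∈ movedSpace (Matrix.toLin' x.1) 2) ∧
        IsSquare (∏ i ∈ Finset.range (2 * b), Q (e i)) := by
  obtain ⟨b, hb, he⟩ := disc_moved hQ h2 hn hx hxx
  have hI := quad_isom (hQ := hQ) (mem_omega_preserves hx)
  have hT : Matrix.toLin' x.1 ^ 2 = 1 := LinearMap.ext fun v => by rw [pow_two, Module.End.mul_apply]; exact hxx v
  have hr : ((2 : ℕ) : F) ≠ 0 := by exact_mod_cast h2
  have hsum := SForm.finrank_fixed_add hT hr
  rw [finrank_fintype_fun_eq_card, hb] at hsum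
  obtain ⟨a, ha⟩ : ∃ a, a = finrank F (fixedSpace (Matrix.toLin' x.1)) := ⟨_, rfl⟩
  refine ⟨a, b, ha.symm, Nat.pos_of_ne_zero fun h0 => hns (-1) ?_, by omega, Nat.pos_of_ne_zero fun h0 => hns 1 ?_,
    fun k hk => exists_sing_in hQ (SForm.nd_fixed hT hr hI) (ha ▸ hk),
    fun k hk => exists_sing_in hQ (SForm.nd_moved hT hr hI) (hk.imp_right fun h => by omega), he⟩
  · refine Matrix.toLin'.injective (LinearMap.ext fun v => ?_)
    rw [map_smul, Matrix.toLin'_one, LinearMap.smul_apply, LinearMap.id_apply, neg_one_smul]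
    obtain ⟨p, hp, q, hq, rfl⟩ := Submodule.mem_sup.1
      ((split_inv hT hr (W := ⊤) fun _ _ => trivial).ge (Submodule.mem_top (x := v)))
    rw [show fixedSpace (Matrix.toLin' x.1) = ⊥ from Submodule.finrank_eq_zero.1 (ha ▸ h0)] at hp
    rw [(Submodule.mem_bot F).1 hp.2, zero_add]
    exact mem_moved_two.1 hq.2
  · refine Matrix.toLin'.injective (LinearMap.ext fun v => ?_)
    rw [map_smul, Matrix.toLin'_one, LinearMap.smul_apply, LinearMap.id_apply, one_smul]
    obtain ⟨p, hp, q, hq, rfl⟩ := Submodule.mem_sup.1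
      ((split_inv hT hr (W := ⊤) fun _ _ => trivial).ge (Submodule.mem_top (x := v)))
    rw [h0, Nat.mul_zero] at hb
    rw [show movedSpace (Matrix.toLin' x.1) 2 = ⊥ from Submodule.finrank_eq_zero.1 hb] at hq
    rw [(Submodule.mem_bot F).1 hq.2, add_zero]
    exact mem_fixedSpace.1 hp.2

include h2 in
/-- Odd-dimensional invariant subspaces of an element with square minus one. -/
lemma no_fix_turn (hs : ¬ IsSquare (-1 : F)) (hm : Odd m) {x : GL ι F}
    (hxx : ∀ v, Matrix.toLin' x.1 (Matrix.toLin' x.1 v) = -v) {W : Submodule F (ι → F)} (hd : finrank F W = m)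
    (hW : W.map (Matrix.toLin' (x : Matrix ι ι F)) ≤ W) : False := by
  refine Nat.not_even_iff_odd.2 hm (hd ▸ ?_)
  refine LBGUSp.even_finrank_of_sq (T := (Matrix.toLin' x.1).restrict (inv_map_iff.1 hW)) hs fun v => Subtype.ext ?_
  show Matrix.toLin' x.1 (Matrix.toLin' x.1 v.1) = (-1 : F) • v.1
  rw [hxx, neg_one_smul]

end common

section odd
variable {F : Type*} [Field F] [Fintype F] {d m : ℕ}

/-- Involutions in odd dimension. -/
theorem tsFix_two_odd (h2 : (2 : F) ≠ 0) (hd : 2 ≤ d) (hmd : m ≤ d) :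
    TSFix (⇑(Orth.qOdd F d)) m 2 ↔ (m < d ∨ Fintype.card F % 4 = 1) := by
  have hQ := Orth.qOdd_nondeg (F := F) h2 d
  have hι : Fintype.card (Unit ⊕ (Fin d ⊕ Fin d)) = 2 * d + 1 := by simp; omega
  constructor
  · intro hall
    by_contra hno
    rw [not_or, Nat.not_lt] at hno
    have hns : ¬ IsSquare (-1 : F) := fun h => hno.2 ((square_neg_one h2).1 h)
    obtain ⟨a, b, hab⟩ : ∃ a b : Fin d, a ≠ b := ⟨⟨0, by omega⟩, ⟨1, by omega⟩, by simp⟩
    obtain ⟨x, hx, hx2, hxs, hW⟩ := exists_plane_elt (w := OrthInvol.oBase (F := F) d (.inr (.inl b))) hQ h2 (by omega) hns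
      (u := OrthInvol.oBase d (.inl ())) (v := OrthInvol.oBase d (.inr (.inl a)))
      (OrthInvol.oBase_orth d (by simp)) (by rw [OrthInvol.oBase_value]; rfl) (by rw [OrthInvol.oBase_value]; rfl)
      (OrthInvol.oBase_orth d (by simp)) (OrthInvol.oBase_orth d (by simp [hab]))
      (by rw [OrthInvol.oBase_value]; exact one_ne_zero)
    obtain ⟨W, hWd, hWQ, hWi⟩ := hall x hx ⟨1, by rw [hx2, one_smul]; rfl⟩ hxs
    obtain ⟨h1, h3, -⟩ := hW W (inv_map_iff.1 hWi) hWQ
    have h4 := Submodule.finrank_mono h3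
    have h5 := (quadSF hQ).finrank_perp W
    rw [finrank_fintype_fun_eq_card, hι] at h5
    omega
  · intro h x hx hz hns
    rcases sq_sign hQ h2 (by omega) hx hz with hxx | hxx
    · obtain ⟨a, b, -, ha0, hab, hb0, hA, hB, e, he, hem, hsq⟩ := parts_two hQ h2 (by omega) hx hxx hns
      obtain ⟨A, hA1, hA2, hA3⟩ := hA ((a - 1) / 2) (by omega)
      refine fix_conv ?_
      rcases h with h | h
      · obtain ⟨B, hB1, hB2, hB3⟩ := hB (b - 1) (by omega)
        exact fix_eigen hQ h2 (mem_omega_preserves hx) hA1 hA2 hB1 hB2 (by omega)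
      · obtain ⟨B, hB2, hB3, hB1⟩ := ts_of_square h2 b e he ((neg_one_pow_square ((square_neg_one h2).2 h)).mul hsq)
        exact fix_eigen hQ h2 (mem_omega_preserves hx) hA1 hA2 (hB1 _ hem) hB2 (by omega)
    · exfalso
      have h1 := det_omega hx
      have h3 : Matrix.toLin' (x.1 * x.1) = Matrix.toLin' (-1 : Matrix (Unit ⊕ (Fin d ⊕ Fin d)) (Unit ⊕ (Fin d ⊕ Fin d)) F) :=
        LinearMap.ext fun v => by rw [Matrix.toLin'_mul, LinearMap.comp_apply, hxx, map_neg, Matrix.toLin'_one]; rfl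
      have h4 := congrArg Matrix.det (Matrix.toLin'.injective h3)
      rw [Matrix.det_mul, h1, mul_one, Matrix.det_neg, Matrix.det_one, mul_one, hι, (odd_two_mul_add_one d).neg_one_pow] at h4
      exact h2 (by linear_combination h4)

end odd

section even
variable {F : Type*} [Field F] [Fintype F] {d m : ℕ}

/-- A family from a frame of the hyperbolic form. -/
lemma plus_ones (h2 : (2 : F) ≠ 0) (hev : Even d) :
    ∃ f : ℕ → (Fin d ⊕ Fin d → F), OFam (Orth.qPlus F d) (2 * d) f ∧ ∀ i < 2 * d, Orth.qPlus F d (f i) = 1 := by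
  obtain ⟨σ, -⟩ : ∃ σ : Fin d ⊕ Fin d ≃ Fin (2 * d), True :=
    ⟨finSumFinEquiv.trans (finCongr (two_mul d).symm), trivial⟩
  obtain ⟨e, he⟩ : ∃ e : ℕ → (Fin d ⊕ Fin d → F), ∀ i : Fin (2 * d), e i = Orth.plusFrame F d (σ.symm i) :=
    ⟨fun i => if h : i < 2 * d then Orth.plusFrame F d (σ.symm ⟨i, h⟩) else 0, fun i => by simp [i.2]⟩
  have hne : ∀ k, Orth.qPlus F d (Orth.plusFrame F d k) ≠ 0 := by
    rintro (k | k)
    · rw [(Orth.plusFrame_val d k).1]; exact one_ne_zero
    · rw [(Orth.plusFrame_val d k).2]; exact neg_ne_zero.2 one_ne_zero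
  have hfam : OFam (Orth.qPlus F d) (2 * d) e := by
    refine ⟨fun i hi j hj hij => ?_, fun i hi => by rw [he ⟨i, hi⟩]; exact hne _⟩
    rw [he ⟨i, hi⟩, he ⟨j, hj⟩]
    exact Orth.plusFrame_orth d _ _ fun h => hij (congrArg Fin.val (σ.symm.injective h))
  obtain ⟨f, hf, hf1, -⟩ := exists_ones h2 (2 * d) e hfam ⟨1, by
    rw [← Fin.prod_univ_eq_prod_range (fun i => Orth.qPlus F d (e i))]
    simp only [he]
    rw [Equiv.prod_comp σ.symm (fun k => Orth.qPlus F d (Orth.plusFrame F d k)), Orth.plusFrame_prod, hev.neg_one_pow,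
      mul_one]⟩
  exact ⟨f, hf, hf1⟩

/-- Involutions, plus type. -/
theorem tsFix_two_plus (h2 : (2 : F) ≠ 0) (hd : 4 ≤ d) (hm : 1 ≤ m) (hmd : m < d) :
    TSFix (⇑(Orth.qPlus F d)) m 2 ↔
      (Fintype.card F % 4 = 1 ∨ (Fintype.card F % 4 = 3 ∧ m + 2 ≤ d ∧ (Even m ∨ (2 * d) % 4 = 2))) := by
  have hQ := Orth.qPlus_nondeg (F := F) d
  have hι : Fintype.card (Fin d ⊕ Fin d) = 2 * d := by simp; omega
  have hq := card_ne_two (F := F) h2
  constructor
  · intro hall
    refine or_iff_not_imp_left.2 fun hno => ⟨by omega, ?_, ?_⟩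
    · by_contra hlt
      have hns : ¬ IsSquare (-1 : F) := fun h => hno ((square_neg_one h2).1 h)
      obtain ⟨a, b, c, hab, hac, hbc⟩ : ∃ a b c : Fin d, a ≠ b ∧ a ≠ c ∧ b ≠ c :=
        ⟨⟨0, by omega⟩, ⟨1, by omega⟩, ⟨2, by omega⟩, by simp, by simp, by simp⟩
      obtain ⟨x, hx, hx2, hxs, hW⟩ := exists_plane_elt (w := Orth.plusFrame F d (.inl c)) hQ h2 (by omega) hns
        (u := Orth.plusFrame F d (.inl a)) (v := Orth.plusFrame F d (.inl b))
        (Orth.plusFrame_orth d _ _ (by simp [hab])) (Orth.plusFrame_val d a).1 (Orth.plusFrame_val d b).1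
        (Orth.plusFrame_orth d _ _ (by simp [hac])) (Orth.plusFrame_orth d _ _ (by simp [hbc]))
        (by rw [(Orth.plusFrame_val d c).1]; exact one_ne_zero)
      obtain ⟨W, hWd, hWQ, hWi⟩ := hall x hx ⟨1, by rw [hx2, one_smul]; rfl⟩ hxs
      obtain ⟨h1, h3, hanis⟩ := hW W (inv_map_iff.1 hWi) hWQ
      obtain ⟨L, hLQ, hLd⟩ := qPlus_half (Q := Orth.qPlus F d) (LinearEquiv.refl F _) fun v => rfl
      have h5 := (quadSF hQ).finrank_perp W
      have h6 := (quadSF hQ).finrank_perp L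
      rw [finrank_fintype_fun_eq_card, hι] at h5 h6
      have hPW : Submodule.span F {Orth.plusFrame F d (.inl a), Orth.plusFrame F d (.inl b)} ⊔ W = (quadSF hQ).perp W :=
        Submodule.eq_of_le_of_finrank_eq h3 (by omega)
      have hLL : (quadSF hQ).perp L = L :=
        (Submodule.eq_of_le_of_finrank_eq (show L ≤ (quadSF hQ).perp L from fun u hu v hv => (quad_iso (hQ := hQ) hLQ).1 v hv u hu) (by omega)).symm
      have hle : L ⊓ (quadSF hQ).perp W ≤ L ⊓ W := fun y hy => by
        refine ⟨hy.1, ?_⟩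
        obtain ⟨p, hp, w, hw, rfl⟩ := Submodule.mem_sup.1 (hPW.ge hy.2)
        have h0 := hLQ _ hy.1
        rw [QuadraticMap.map_add (Orth.qPlus F d), hWQ w hw, add_zero, show polar (Orth.qPlus F d) p w = 0 from by
          rw [polar_comm]; exact h3 (Submodule.mem_sup_left hp) w hw, add_zero] at h0
        rw [hanis p hp h0, zero_add]
        exact hw
      have h7 := (quadSF hQ).finrank_perp (L ⊔ W)
      rw [finrank_fintype_fun_eq_card, hι] at h7
      have h8 : (quadSF hQ).perp (L ⊔ W) ≤ L ⊓ W :=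
        le_trans (le_inf (((quadSF hQ).perp_anti le_sup_left).trans hLL.le) ((quadSF hQ).perp_anti le_sup_right)) hle
      have h9 := Submodule.finrank_mono h8
      have h10 := Submodule.finrank_sup_add_finrank_inf_eq L W
      omega
    · by_contra hcon
      rw [not_or, Nat.not_even_iff_odd] at hcon
      have hev : Even d := Nat.even_iff.2 (by omega)
      obtain ⟨f, hf, hf1⟩ := plus_ones (F := F) h2 hev
      obtain ⟨x, hx, hxx, hxs⟩ := exists_turn_elt hQ h2 (by omega) hι f hf hf1 (by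
        obtain ⟨u, rfl⟩ := hev
        exact ⟨2 ^ u, by rw [pow_add]⟩)
      obtain ⟨W, hWd, -, hWi⟩ := hall x hx ⟨-1, by
        rw [Units.val_pow_eq_pow_val, pow_two, neg_one_smul]
        refine Matrix.toLin'.injective (LinearMap.ext fun v => ?_)
        rw [Matrix.toLin'_mul, LinearMap.comp_apply, hxx, map_neg, Matrix.toLin'_one]; rfl⟩ hxs
      exact no_fix_turn h2 (fun h => hno ((square_neg_one h2).1 h)) hcon.1 hxx hWd hWi
  · intro h x hx hz hns
    have he := mem_omega_preserves hx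
    refine fix_conv ?_
    rcases sq_sign hQ h2 (by omega) hx hz with hxx | hxx
    · obtain ⟨a, b, -, ha0, hab, hb0, hA, hB, e, hfam, hem, hsq⟩ := parts_two hQ h2 (by omega) hx hxx hns
      obtain ⟨A, hA1, hA2, hA3⟩ := hA ((a - 1) / 2) (by omega)
      rcases h with h | h
      · obtain ⟨B, hB2, hB3, hB1⟩ := ts_of_square h2 b e hfam ((neg_one_pow_square ((square_neg_one h2).2 h)).mul hsq)
        exact fix_eigen hQ h2 he hA1 hA2 (hB1 _ hem) hB2 (by omega)
      · obtain ⟨B, hB1, hB2, hB3⟩ := hB (b - 1) (by omega)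
        exact fix_eigen hQ h2 he hA1 hA2 hB1 hB2 (by omega)
    · by_cases hs : IsSquare (-1 : F)
      · obtain ⟨W, hW1, hW2, hW3⟩ := fix_neg_square_one h2 he hxx hs
        rw [finrank_fintype_fun_eq_card, hι] at hW1
        obtain ⟨W', hW', hWd⟩ := exists_sub_dim (W := W) (k := m) (by omega)
        exact ⟨W', hWd, fun w hw => hW2 w (hW' hw), hW3 W' hW'⟩
      · rcases h with h | ⟨-, -, h⟩
        · exact absurd ((square_neg_one h2).2 h) hs
        rcases Nat.even_or_odd m with ⟨j, hj⟩ | hmo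
        · obtain ⟨W, a, b, c⟩ := fix_neg_climb (j := j) hQ h2 he hxx hs (by rw [finrank_fintype_fun_eq_card, hι]; omega)
          exact ⟨W, by omega, b, c⟩
        · exfalso
          have hdo : d % 2 = 1 := by
            rcases h with h | h
            · exact absurd h (Nat.not_even_iff_odd.2 hmo)
            · omega
          obtain ⟨g, hg, hgx⟩ := hx
          have hg2 : ((g ^ 2 : ↥(Cfsg.isometryGroup F (⇑(Orth.qPlus F d)))) : GL (Fin d ⊕ Fin d) F).1 = -1 := by
            refine Matrix.toLin'.injective (LinearMap.ext fun v => ?_)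
            rw [Subgroup.coe_pow, show ((g : GL (Fin d ⊕ Fin d) F)) = x from hgx, Units.val_pow_eq_pow_val, pow_two,
              Matrix.toLin'_mul, LinearMap.comp_apply, hxx, map_neg, Matrix.toLin'_one]
            rfl
          have h4 := (Orth.neg_one_plus (F := F) (Nat.odd_iff.2 hq) d (by omega)).1
            ⟨g ^ 2, Subgroup.pow_mem _ hg 2, hg2⟩
          rw [Nat.pow_mod, show Fintype.card F % 4 = 3 by
            have : ¬ Fintype.card F % 4 = 1 := fun h => hs ((square_neg_one h2).2 h)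
            omega] at h4
          obtain ⟨u, rfl⟩ : ∃ u, d = 2 * u + 1 := ⟨d / 2, by omega⟩
          rw [pow_succ, pow_mul, Nat.mul_mod, Nat.pow_mod] at h4
          norm_num at h4

/-- Involutions, minus type. -/
theorem tsFix_two_minus {a b : F} (hab : ∀ x y : F, x ^ 2 + a * x * y + b * y ^ 2 = 0 → x = 0 ∧ y = 0) (h2 : (2 : F) ≠ 0)
    (hd : 4 ≤ d) (hm : 1 ≤ m) (hmd : m + 1 ≤ d) :
    TSFix (⇑(Orth.qMinus F (d - 1) a b)) m 2 ↔ (Even d ∨ Even m ∨ Fintype.card F % 8 ≠ 7) := by
  have hQ := Orth.qMinus_nondeg (F := F) (a := a) (b := b) hab (d - 1)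
  have hι : Fintype.card ((Fin (d - 1) ⊕ Fin (d - 1)) ⊕ Fin 2) = 2 * d := by simp; omega
  have hq := card_ne_two (F := F) h2
  have hbound : ∀ U : Submodule F ((Fin (d - 1) ⊕ Fin (d - 1)) ⊕ Fin 2 → F),
      (∀ u ∈ U, Orth.qMinus F (d - 1) a b u = 0) → finrank F U < d := fun U hU => by
    have := (LBQuad.singular_bound (Orth.qBin_nondeg hab) (fun w hw => LBQuad.qBin_eq_zero hab hw) (d - 1)).2 U hU
    omega
  constructor
  · intro hall
    by_contra hno
    rw [not_or, not_or, not_not, Nat.not_even_iff_odd, Nat.not_even_iff_odd] at hno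
    obtain ⟨hdo, hmo, h7⟩ := hno
    have hns : ¬ IsSquare (-1 : F) := fun h => by have := (square_neg_one h2).1 h; omega
    obtain ⟨e, hfam, -⟩ := exists_ofam h2 (SForm.nd_top (quadSF hQ)) (2 * d)
      (by rw [finrank_top, finrank_fintype_fun_eq_card, hι])
    have hsq : IsSquare (∏ i ∈ Finset.range (2 * d), Orth.qMinus F (d - 1) a b (e i)) := by
      by_contra hsq
      obtain ⟨W, hW, hWd, -⟩ := ts_of_square h2 d e hfam (by rw [hdo.neg_one_pow]; exact square_mul_nonsquares h2 hns hsq)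
      exact absurd hWd (hbound W hW).ne
    obtain ⟨f, hf, hf1, -⟩ := exists_ones h2 (2 * d) e hfam hsq
    obtain ⟨x, hx, hxx, hxs⟩ := exists_turn_elt hQ h2 (by omega) hι f hf hf1
      ((FiniteField.isSquare_two_iff.2 ⟨by omega, by omega⟩).pow d)
    obtain ⟨W, hWd, -, hWi⟩ := hall x hx ⟨-1, by
      rw [Units.val_pow_eq_pow_val, pow_two, neg_one_smul]
      refine Matrix.toLin'.injective (LinearMap.ext fun v => ?_)
      rw [Matrix.toLin'_mul, LinearMap.comp_apply, hxx, map_neg, Matrix.toLin'_one]; rfl⟩ hxs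
    exact no_fix_turn h2 hns hmo hxx hWd hWi
  · intro h x hx hz hns
    have he := mem_omega_preserves hx
    refine fix_conv ?_
    rcases sq_sign hQ h2 (by omega) hx hz with hxx | hxx
    · obtain ⟨k, b', hk, hk0, hkb, hb0, hA, hB, e, hfam, hem, hsq⟩ := parts_two hQ h2 (by omega) hx hxx hns
      obtain ⟨a', rfl⟩ : ∃ a', k = 2 * a' := ⟨k / 2, by omega⟩
      have hT : Matrix.toLin' x.1 ^ 2 = 1 := LinearMap.ext fun v => by rw [pow_two, Module.End.mul_apply]; exact hxx v
      have hr : ((2 : ℕ) : F) ≠ 0 := by exact_mod_cast h2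
      have hI := quad_isom (hQ := hQ) he
      obtain ⟨e', hfam', hem'⟩ := exists_ofam h2 (SForm.nd_fixed hT hr hI) (2 * a') hk.ge
      by_cases hsB : IsSquare ((-1 : F) ^ b' * ∏ i ∈ Finset.range (2 * b'), Orth.qMinus F (d - 1) a b (e i))
      · obtain ⟨B, hB2, hB3, hB1⟩ := ts_of_square h2 b' e hfam hsB
        obtain ⟨A, hA1, hA2, hA3⟩ := hA (a' - 1) (by omega)
        exact fix_eigen hQ h2 he hA1 hA2 (hB1 _ hem) hB2 (by omega)
      by_cases hsA : IsSquare ((-1 : F) ^ a' * ∏ i ∈ Finset.range (2 * a'), Orth.qMinus F (d - 1) a b (e' i))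
      · obtain ⟨A, hA2, hA3, hA1⟩ := ts_of_square h2 a' e' hfam' hsA
        obtain ⟨B, hB1, hB2, hB3⟩ := hB (b' - 1) (by omega)
        exact fix_eigen hQ h2 he (hA1 _ hem') hA2 hB1 hB2 (by omega)
      exfalso
      obtain ⟨E, hE⟩ : ∃ E, E = fun i => if i < 2 * a' then e' i else e (i - 2 * a') := ⟨_, rfl⟩
      have hperp : ∀ i < 2 * a', ∀ j < 2 * b', polar (Orth.qMinus F (d - 1) a b) (e' i) (e j) = 0 := fun i hi j hj =>
        SForm.fixed_perp_moved hr hI (hem' i hi) (hem j hj)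
      have hEfam : OFam (Orth.qMinus F (d - 1) a b) (2 * d) E := by
        refine ⟨fun i hi j hj hij => ?_, fun i hi => ?_⟩
        · rw [hE]; dsimp only
          split_ifs with h1 h3 h3
          · exact hfam'.1 i h1 j h3 hij
          · exact hperp i h1 _ (by omega)
          · rw [polar_comm]; exact hperp j h3 _ (by omega)
          · exact hfam.1 _ (by omega) _ (by omega) (by omega)
        · rw [hE]; dsimp only
          split_ifs with h1
          · exact hfam'.2 i h1
          · exact hfam.2 _ (by omega)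
      have hprod : (-1 : F) ^ d * ∏ i ∈ Finset.range (2 * d), Orth.qMinus F (d - 1) a b (E i) =
          ((-1 : F) ^ a' * ∏ i ∈ Finset.range (2 * a'), Orth.qMinus F (d - 1) a b (e' i)) *
            ((-1 : F) ^ b' * ∏ i ∈ Finset.range (2 * b'), Orth.qMinus F (d - 1) a b (e i)) := by
        rw [show 2 * d = 2 * a' + 2 * b' by omega, show (-1 : F) ^ d = (-1) ^ (a' + b') by rw [show d = a' + b' by omega], Finset.prod_range_add, pow_add, hE]
        have e1 : ∀ i ∈ Finset.range (2 * a'), (if i < 2 * a' then e' i else e (i - 2 * a')) = e' i :=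
          fun i hi => if_pos (Finset.mem_range.1 hi)
        rw [Finset.prod_congr rfl fun i hi => congrArg (Orth.qMinus F (d - 1) a b) (e1 i hi)] <;> simp <;> ring
      obtain ⟨W, hW, hWd, -⟩ := ts_of_square h2 d E hEfam (hprod ▸ square_mul_nonsquares h2 hsA hsB)
      exact absurd hWd (hbound W hW).ne
    · by_cases hs : IsSquare (-1 : F)
      · obtain ⟨W, hW1, hW2, -⟩ := fix_neg_square_one h2 he hxx hs
        rw [finrank_fintype_fun_eq_card, hι] at hW1
        have := hbound W hW2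
        omega
      · rcases Nat.even_or_odd m with ⟨j, hj⟩ | hmo
        · obtain ⟨W, hW1, hW2, hW3⟩ := fix_neg_climb (j := j) hQ h2 he hxx hs (by rw [finrank_fintype_fun_eq_card, hι]; omega)
          exact ⟨W, by omega, hW2, hW3⟩
        exfalso
        rcases Nat.even_or_odd d with ⟨j, hj⟩ | hdo
        · obtain ⟨W, hW1, hW2, -⟩ := fix_neg_climb (j := j) hQ h2 he hxx hs (by rw [finrank_fintype_fun_eq_card, hι]; omega)
          have := hbound W hW2
          omega
        · have h8 : Fintype.card F % 8 ≠ 7 := by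
            rcases h with h | h | h
            · exact absurd h (Nat.not_even_iff_odd.2 hdo)
            · exact absurd h (Nat.not_even_iff_odd.2 hmo)
            · exact h
          have h4 : ¬ Fintype.card F % 4 = 1 := fun h => hs ((square_neg_one h2).2 h)
          have hsq := turn_square hQ h2 (by omega) hι hx hxx
          obtain ⟨u, rfl⟩ := hdo
          obtain ⟨s, hs'⟩ := hsq
          have h22 : IsSquare (2 : F) := ⟨s / 2 ^ u, by
            rw [div_mul_div_comm, ← hs', pow_succ, two_mul, pow_add]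
            field_simp⟩
          have := (FiniteField.isSquare_two_iff.1 h22)
          omega

end even

end Cfsg.Agent.Elusive
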