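import Cfsg.Agent.Lib.Elusive.NdMain
import Cfsg.Agent.Lib.Elusive.OrthTwoMain

/-!
Involutions in odd characteristic fixing non-degenerate subspaces.
-/

set_option autoImplicit false
set_option linter.all false
set_option maxHeartbeats 1600000

namespace Cfsg.Agent.Elusive

open Module QuadraticMap

section space
variable {F : Type*} [Field F] [Fintype F] {V : Type*} [AddCommGroup V] [Module F V] [FiniteDimensional F V]
  {Q : QuadraticForm F V} {T : Module.End F V}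

omit [Fintype F] in
lemma exists_ne_zero_in {S : Submodule F V} (hS : NDQ Q S) (hd : 0 < finrank F S) : ∃ v ∈ S, Q v ≠ 0 := by
  by_contra h
  push Not at h
  have : S = ⊥ := eq_bot_iff.2 fun y hy => (Submodule.mem_bot F).2 (hS y hy fun z hz => polar_zero_of_sing h hy hz)
  rw [this, finrank_bot] at hd
  omega

omit [Fintype F] in
/-- A line. -/
lemma ndq_line (h2 : (2 : F) ≠ 0) {v : V} (hv : Q v ≠ 0) :
    NDQ Q (Submodule.span F {v}) ∧ finrank F (Submodule.span F {v}) = 1 := by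
  refine ⟨fun u hu hz => ?_, finrank_span_singleton fun h => hv (by rw [h, map_zero])⟩
  obtain ⟨c, rfl⟩ := Submodule.mem_span_singleton.1 hu
  have h := hz v (Submodule.mem_span_singleton_self v)
  rw [polar_smul_left, polar_diag, smul_eq_mul] at h
  rw [(mul_eq_zero.1 h).resolve_right (mul_ne_zero h2 hv), zero_smul]

/-- Non-degenerate subspaces of every dimension. -/
lemma exists_nd_sub (hQ : (polarBilin Q).Nondegenerate) (h2 : (2 : F) ≠ 0) {S : Submodule F V} (hS : NDQ Q S) {k : ℕ}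
    (hk : k ≤ finrank F S) : ∃ A : Submodule F V, A ≤ S ∧ NDQ Q A ∧ finrank F A = k := by
  rcases Nat.eq_or_lt_of_le hk with h | h
  · exact ⟨S, le_rfl, hS, h.symm⟩
  obtain ⟨A, hAS, hA, hAd, -⟩ := exists_plus_sub hQ (k / 2) S hS (by omega)
  rcases Nat.even_or_odd k with ⟨e, he⟩ | ⟨e, he⟩
  · exact ⟨A, hAS, hA, by omega⟩
  · obtain ⟨Y, hYS, hY, hperp, -, hYd, -⟩ := ndq_compl hQ hS hA hAS
    obtain ⟨v, hv, hv0⟩ := exists_ne_zero_in hY (by omega)
    obtain ⟨hl, hld⟩ := ndq_line h2 hv0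
    have hle : Submodule.span F {v} ≤ Y := (Submodule.span_singleton_le_iff_mem _ _).2 hv
    obtain ⟨h1, -, h3⟩ := ndq_sup hA hl fun x hx y hy => hperp x hx y (hle hy)
    exact ⟨A ⊔ Submodule.span F {v}, sup_le hAS (hle.trans hYS), h1, by omega⟩

/-- A small piece inside an orthogonal part. -/
lemma exists_embed (hQ : (polarBilin Q).Nondegenerate) {E S : Submodule F V} (hE : NDQ Q E) (hS : NDQ Q S)
    (hlt : finrank F E < finrank F S) : ∃ A : Submodule F V, A ≤ S ∧ IsoQ Q A E := by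
  obtain ⟨A, hA, hi⟩ := exists_complete hQ (W₁ := ⊥) hE ndq_bot hS (fun x _ y hy => by
    rw [(Submodule.mem_bot F).1 hy]; simp) (a := 0) (by simp) (c₀ := finrank F E) (by simp) hlt
    (fun h => by rw [Submodule.finrank_eq_zero.1 h])
  rw [sup_bot_eq] at hi
  exact ⟨A, hA, hi⟩

/-- Involutions. -/
lemma fix_involution (hQ : (polarBilin Q).Nondegenerate) (h2 : (2 : F) ≠ 0) (e : ∀ v, Q (T v) = Q v)
    (hxx : ∀ v, T (T v) = v) (hA0 : 0 < finrank F (fixedSpace T)) (hB0 : 0 < finrank F (movedSpace T 2))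
    {W₀ : Submodule F V} (hW₀ : NDQ Q W₀) {m : ℕ} (hm : finrank F W₀ = m) (hm1 : 1 ≤ m)
    (h : m + 2 ≤ finrank F V ∨ (m + 1 = finrank F V ∧ Even m ∧ Even (finrank F (movedSpace T 2)))) :
    ∃ W : Submodule F V, IsoQ Q W W₀ ∧ Inv T W := by
  have hT : T ^ 2 = 1 := LinearMap.ext fun v => by rw [pow_two, Module.End.mul_apply]; exact hxx v
  have hr : ((2 : ℕ) : F) ≠ 0 := by exact_mod_cast h2
  haveI : Fact (Nat.Prime 2) := ⟨Nat.prime_two⟩
  have hI := quad_isom (hQ := hQ) e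
  have hA : NDQ Q (fixedSpace T) := SForm.nd_fixed (Φ := quadSF hQ) hT hr hI
  have hB : NDQ Q (movedSpace T 2) := SForm.nd_moved (Φ := quadSF hQ) hT hr hI
  have hsum := SForm.finrank_fixed_add hT hr (V := V)
  have hperp : ∀ a ∈ fixedSpace T, ∀ b ∈ movedSpace T 2, polar Q a b = 0 := fun a ha b hb =>
    SForm.fixed_perp_moved (Φ := quadSF hQ) hr hI ha hb
  have hinv : ∀ {A B : Submodule F V}, A ≤ fixedSpace T → B ≤ movedSpace T 2 → Inv T (A ⊔ B) := by
    intro A B hA hB v hv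
    obtain ⟨a, ha, b, hb, rfl⟩ := Submodule.mem_sup.1 hv
    rw [map_add, mem_fixedSpace.1 (hA ha), mem_moved_two.1 (hB hb)]
    exact Submodule.add_mem_sup ha (B.neg_mem hb)
  have hjoin : ∀ {E₁ E₂ A B : Submodule F V}, E₁ ≤ W₀ → NDQ Q E₁ → (∀ x ∈ E₁, ∀ y ∈ E₂, polar Q x y = 0) → E₁ ⊔ E₂ = W₀ →
      NDQ Q E₂ → A ≤ fixedSpace T → B ≤ movedSpace T 2 → IsoQ Q A E₁ → IsoQ Q B E₂ →
      ∃ W : Submodule F V, IsoQ Q W W₀ ∧ Inv T W := by
    intro E₁ E₂ A B _ hE₁ hp hs hE₂ hA hB h1 h2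
    exact ⟨A ⊔ B, hs ▸ isoQ_sup (h1.symm.ndq hE₁) (h2.symm.ndq hE₂) (fun x hx y hy => hperp x (hA hx) y (hB hy)) h1 h2 hp,
      hinv hA hB⟩
  rcases Nat.lt_or_ge m (finrank F (fixedSpace T)) with h1 | h1
  · obtain ⟨A, hA', hi⟩ := exists_embed hQ hW₀ hA (by omega)
    exact ⟨A, hi, inv_of_le_fixed hA'⟩
  rcases Nat.lt_or_ge m (finrank F (movedSpace T 2)) with h1' | h1'
  · obtain ⟨B, hB', hi⟩ := exists_embed hQ hW₀ hB (by omega)
    exact ⟨B, hi, fun v hv => by rw [mem_moved_two.1 (hB' hv)]; exact B.neg_mem hv⟩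
  rcases h with h | ⟨h, hme, hbe⟩
  · obtain ⟨E₂, hE₂W, hE₂, hE₂d⟩ := exists_nd_sub hQ h2 hW₀ (k := finrank F (movedSpace T 2) - 1) (by omega)
    obtain ⟨E₁, hE₁W, hE₁, hp, hs, hd, -⟩ := ndq_compl hQ hW₀ hE₂ hE₂W
    obtain ⟨A, hA', hAi⟩ := exists_embed hQ hE₁ hA (by omega)
    obtain ⟨B, hB', hBi⟩ := exists_embed hQ hE₂ hB (by omega)
    exact hjoin hE₁W hE₁ (fun x hx y hy => by rw [polar_comm]; exact hp y hy x hx) (by rw [sup_comm]; exact hs) hE₂
      hA' hB' hAi hBi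
  obtain ⟨b, hb⟩ := hbe
  rw [Nat.even_iff] at hme
  rcases Nat.lt_or_ge (finrank F (fixedSpace T)) 2 with h3 | h3
  · obtain ⟨v, hv, hv0⟩ := exists_ne_zero_in hA hA0
    obtain ⟨hl, hld⟩ := ndq_line h2 hv0
    obtain ⟨w, hw⟩ := Orth.exists_value (restrict_nondeg hW₀) (by omega) (Q v)
    have hw' : Q (w : V) = Q v := hw
    obtain ⟨hl', hld'⟩ := ndq_line h2 (show Q (w : V) ≠ 0 by rw [hw']; exact hv0)
    obtain ⟨E₂, hE₂W, hE₂, hp, hs, hd, -⟩ := ndq_compl hQ hW₀ hl' ((Submodule.span_singleton_le_iff_mem _ _).2 w.2)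
    obtain ⟨B, hB', hBi⟩ := exists_embed hQ hE₂ hB (by omega)
    exact hjoin ((Submodule.span_singleton_le_iff_mem _ _).2 w.2) hl' hp hs hE₂
      ((Submodule.span_singleton_le_iff_mem _ _).2 hv) hB'
      (isoQ_span (fun h => hv0 (by rw [h, map_zero])) (fun h => hv0 (by rw [← hw', h, map_zero])) hw'.symm) hBi
  · obtain ⟨E₂, hE₂W, hE₂, hE₂d, hE₂p⟩ := exists_typed_sub hQ hW₀ (e := b) (by omega) (by omega) (PlusOn Q (movedSpace T 2))
    obtain ⟨E₁, hE₁W, hE₁, hp, hs, hd, -⟩ := ndq_compl hQ hW₀ hE₂ hE₂W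
    obtain ⟨A, hA', hAi⟩ := exists_embed hQ hE₁ hA (by omega)
    exact hjoin hE₁W hE₁ (fun x hx y hy => by rw [polar_comm]; exact hp y hy x hx) (by rw [sup_comm]; exact hs) hE₂
      hA' le_rfl hAi (isoQ_of_type hB hE₂ (a := b) (by omega) hE₂d hE₂p.symm)

section turn
variable (hQ : (polarBilin Q).Nondegenerate) (h2 : (2 : F) ≠ 0) (e : ∀ v, Q (T v) = Q v) (hxx : ∀ v, T (T v) = -v)
include hQ h2 e hxx

/-- A block of an element with square minus one. -/
lemma turn_block {U : Submodule F V} (hUi : Inv T U) (hU : NDQ Q U) (hd : 0 < finrank F U) :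
    ∃ X : Submodule F V, Inv T X ∧ X ≤ U ∧ NDQ Q X ∧ finrank F X = 2 ∧ (PlusOn Q X ↔ IsSquare (-1 : F)) := by
  obtain ⟨v, hv, hv0⟩ := exists_ne_zero_in hU hd
  have h1 : polar Q v (T v) = 0 := by
    have hp := (quad_isom (hQ := hQ) e).pres v (T v)
    simp only [quadSF_B] at hp
    rw [hxx, polar_neg_right, polar_comm Q (T v) v] at hp
    exact (mul_eq_zero.1 (show (2 : F) * polar Q v (T v) = 0 by linear_combination -hp)).resolve_left h2
  have hQs : ∀ a b : F, Q (a • v + b • T v) = (a * a + b * b) * Q v := fun a b => by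
    rw [q_comb, e, h1]; ring
  have hcoef : ∀ a b : F, (∀ z ∈ Submodule.span F {v, T v}, polar Q (a • v + b • T v) z = 0) → a = 0 ∧ b = 0 := by
    intro a b hz
    have e1 := hz v (Submodule.subset_span (Or.inl rfl))
    have e2 := hz (T v) (Submodule.subset_span (Or.inr rfl))
    rw [polar_add_left, polar_smul_left, polar_smul_left, polar_diag, polar_comm Q (T v) v, h1, smul_zero, add_zero,
      smul_eq_mul] at e1
    rw [polar_add_left, polar_smul_left, polar_smul_left, polar_diag, h1, e, smul_zero, zero_add, smul_eq_mul] at e2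
    exact ⟨(mul_eq_zero.1 e1).resolve_right (mul_ne_zero h2 hv0), (mul_eq_zero.1 e2).resolve_right (mul_ne_zero h2 hv0)⟩
  have hli : LinearIndependent F ![v, T v] := LinearIndependent.pair_iff.2 fun a b hab =>
    hcoef a b fun z _ => by rw [hab, polar_zero_left]
  have hX2 : finrank F (Submodule.span F {v, T v}) = 2 := by
    have h6 := finrank_span_eq_card hli
    rw [Matrix.range_cons, Matrix.range_cons, Matrix.range_empty, Set.union_empty, Set.singleton_union, Fintype.card_fin] at h6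
    exact h6
  refine ⟨Submodule.span F {v, T v}, fun w hw => ?_, Submodule.span_le.2 (Set.insert_subset hv (Set.singleton_subset_iff.2 (hUi v hv))),
    fun w hw hz => ?_, hX2, ?_⟩
  · obtain ⟨a, b, rfl⟩ := Submodule.mem_span_pair.1 hw
    rw [map_add, map_smul, map_smul, hxx, smul_neg]
    exact Submodule.mem_span_pair.2 ⟨-b, a, by rw [neg_smul]; abel⟩
  · obtain ⟨a, b, rfl⟩ := Submodule.mem_span_pair.1 hw
    obtain ⟨rfl, rfl⟩ := hcoef a b hz
    simp
  · constructor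
    · rintro ⟨L, hL, hLs, hLd⟩
      rw [hX2] at hLd
      obtain ⟨w, hw, hw0⟩ := Submodule.exists_mem_ne_zero_of_ne_bot (p := L) fun h => by
        rw [h, finrank_bot] at hLd; omega
      obtain ⟨a, b, rfl⟩ := Submodule.mem_span_pair.1 (hL hw)
      have h0 := hLs _ hw
      rw [hQs, mul_eq_zero] at h0
      have h0' := h0.resolve_right hv0
      have hb : b ≠ 0 := fun hb => hw0 (by
        subst hb
        rw [show a = 0 from mul_self_eq_zero.1 (by linear_combination h0'), zero_smul, zero_smul, add_zero])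
      exact ⟨a / b, by field_simp; linear_combination -h0'⟩
    · rintro ⟨s, hs⟩
      refine ⟨Submodule.span F {s • v + (1 : F) • T v}, (Submodule.span_singleton_le_iff_mem _ _).2
        (Submodule.mem_span_pair.2 ⟨s, 1, rfl⟩), fun w hw => ?_, ?_⟩
      · obtain ⟨c, rfl⟩ := Submodule.mem_span_singleton.1 hw
        rw [QuadraticMap.map_smul, hQs, show s * s + 1 * 1 = 0 by linear_combination -hs, zero_mul, smul_zero]
      · rw [hX2, finrank_span_singleton fun h => ?_]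
        exact one_ne_zero (α := F) (LinearIndependent.pair_iff.1 hli s 1 h).2

/-- Invariant non-degenerate subspaces of an element with square minus one. -/
lemma turn_type {W : Submodule F V} (hWi : Inv T W) (hW : NDQ Q W) :
    Even (finrank F W) ∧ (PlusOn Q W ↔ (IsSquare (-1 : F) ∨ Even (finrank F W / 2))) := by
  suffices key : ∀ (k : ℕ) (W : Submodule F V), Inv T W → NDQ Q W → finrank F W = k →
      Even k ∧ (PlusOn Q W ↔ (IsSquare (-1 : F) ∨ Even (k / 2))) from key _ W hWi hW rfl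
  intro k
  induction k using Nat.strong_induction_on with
  | _ k ih =>
    intro W hWi hW hk
    rcases Nat.eq_zero_or_pos k with rfl | hk0
    · rw [Submodule.finrank_eq_zero.1 hk]
      exact ⟨⟨0, rfl⟩, iff_of_true plus_bot (Or.inr ⟨0, rfl⟩)⟩
    obtain ⟨X, hXi, hXW, hX, hX2, hXp⟩ := turn_block hQ h2 e hxx hWi hW (by omega)
    obtain ⟨Y, hYW, hY, hp, hs, hd, hYe⟩ := ndq_compl hQ hW hX hXW
    have hYi : Inv T Y := fun w hw => by
      rw [hYe] at hw ⊢
      exact ⟨(quad_isom (hQ := hQ) e).inv_perp hXi w hw.1, hWi w hw.2⟩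
    obtain ⟨⟨b, hb⟩, hYp⟩ := ih (finrank F Y) (by omega) Y hYi hY rfl
    refine ⟨⟨b + 1, by omega⟩, ?_⟩
    rw [← hs, plus_sup hQ hX hY (a := 1) hX2 (b := b) (by omega) hp, hXp, hYp,
      show k / 2 = b + 1 by omega, show finrank F Y / 2 = b by omega, Nat.even_add_one]
    tauto

/-- Such subspaces exist. -/
lemma turn_sub : ∀ (j : ℕ) (U : Submodule F V), Inv T U → NDQ Q U → 2 * j ≤ finrank F U →
    ∃ W : Submodule F V, Inv T W ∧ W ≤ U ∧ NDQ Q W ∧ finrank F W = 2 * j := by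
  intro j
  induction j with
  | zero => intro U _ _ _; exact ⟨⊥, fun w hw => by simp_all, bot_le, ndq_bot, by simp⟩
  | succ j ih =>
    intro U hUi hU hd
    obtain ⟨X, hXi, hXU, hX, hX2, -⟩ := turn_block hQ h2 e hxx hUi hU (by omega)
    obtain ⟨Y, hYU, hY, hp, hs, hd', hYe⟩ := ndq_compl hQ hU hX hXU
    have hYi : Inv T Y := fun w hw => by
      rw [hYe] at hw ⊢
      exact ⟨(quad_isom (hQ := hQ) e).inv_perp hXi w hw.1, hUi w hw.2⟩
    obtain ⟨W, hWi, hWY, hW, hWd⟩ := ih Y hYi hY (by omega)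
    obtain ⟨h1, -, h3⟩ := ndq_sup hX hW fun x hx y hy => hp x hx y (hWY hy)
    refine ⟨X ⊔ W, fun w hw => ?_, sup_le hXU (hWY.trans hYU), h1, by omega⟩
    obtain ⟨a, ha, b, hb, rfl⟩ := Submodule.mem_sup.1 hw
    rw [map_add]
    exact Submodule.add_mem_sup (hXi a ha) (hWi b hb)

end turn

end space

section main
variable {F : Type*} [Field F] [Fintype F] {ι : Type} [Fintype ι] [DecidableEq ι] {Q : QuadraticForm F (ι → F)}
  {d m : ℕ} {pl : Prop}

/-- Involutions, even dimension. -/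
theorem ndFix_two_even (hQ : (polarBilin Q).Nondegenerate) (h2 : (2 : F) ≠ 0) (hι : Fintype.card ι = 2 * d) (hd : 2 ≤ d)
    (hpl : PlusOn Q ⊤ ↔ pl)
    (hones : (pl ↔ (IsSquare (-1 : F) ∨ Even d)) → ∃ f : ℕ → ι → F, OFam Q (2 * d) f ∧ ∀ i < 2 * d, Q (f i) = 1)
    {W₀ : Submodule F (ι → F)} (hW₀ : NDQ Q W₀) (hm : finrank F W₀ = m) (hm1 : 1 ≤ m) (hmn : m + 2 ≤ 2 * d) :
    NdFix Q W₀ 2 ↔ ¬ ((pl ↔ (IsSquare (-1 : F) ∨ Even d)) ∧ IsSquare ((2 : F) ^ d)) ∨
      (Even m ∧ (PlusOn Q W₀ ↔ (IsSquare (-1 : F) ∨ Even (m / 2)))) := by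
  have hV : finrank F (ι → F) = 2 * d := by rw [finrank_fintype_fun_eq_card, hι]
  constructor
  · intro hall
    refine or_iff_not_imp_left.2 fun hex => ?_
    obtain ⟨hex1, hex2⟩ := not_not.1 hex
    obtain ⟨f, hf, hf1⟩ := hones hex1
    obtain ⟨x, hx, hxx, hxs⟩ := exists_turn_elt hQ h2 (by omega) hι f hf hf1 hex2
    obtain ⟨W, hW, hWi⟩ := hall x hx ⟨-1, by
      rw [Units.val_pow_eq_pow_val, pow_two, neg_one_smul]
      refine Matrix.toLin'.injective (LinearMap.ext fun v => ?_)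
      rw [Matrix.toLin'_mul, LinearMap.comp_apply, hxx, map_neg, Matrix.toLin'_one]; rfl⟩ hxs
    obtain ⟨h1, h3⟩ := turn_type hQ h2 (mem_omega_preserves hx) hxx (inv_map_iff.1 hWi) (hW.symm.ndq hW₀)
    rw [hW.finrank, hm] at h1 h3
    exact ⟨h1, hW.plus.symm.trans h3⟩
  · intro h x hx hz hns
    have e := mem_omega_preserves hx
    rcases sq_sign hQ h2 (by omega) hx hz with hxx | hxx
    · obtain ⟨a, b, ha, ha0, hab, hb0, -, -, -⟩ := parts_two hQ h2 (by omega) hx hxx hns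
      have hr : ((2 : ℕ) : F) ≠ 0 := by exact_mod_cast h2
      have hsum := SForm.finrank_fixed_add (T := Matrix.toLin' x.1) (r := 2)
        (LinearMap.ext fun v => by rw [pow_two, Module.End.mul_apply]; exact hxx v) hr
      rw [ha, hV] at hsum
      obtain ⟨W, hW, hWi⟩ := fix_involution hQ h2 e hxx (by omega) (by omega) hW₀ hm hm1 (Or.inl (by omega))
      exact ⟨W, hW, inv_map_iff.2 hWi⟩
    · have hsq := turn_square hQ h2 (by omega) hι hx hxx
      obtain ⟨-, ht⟩ := turn_type hQ h2 e hxx (W := ⊤) (fun _ _ => trivial) fun u _ hz => hQ.1 u fun v => hz v trivial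
      rw [finrank_top, hV, Nat.mul_div_cancel_left _ two_pos, hpl] at ht
      obtain ⟨⟨j, hj⟩, hs⟩ := h.resolve_left (not_not.2 ⟨ht, hsq⟩)
      obtain ⟨W, hWi, -, hW, hWd⟩ := turn_sub hQ h2 e hxx j ⊤ (fun _ _ => trivial) (fun u _ hz => hQ.1 u fun v => hz v trivial)
        (by rw [finrank_top, hV]; omega)
      obtain ⟨-, ht'⟩ := turn_type hQ h2 e hxx hWi hW
      refine ⟨W, isoQ_of_type hW hW₀ hWd (by omega) ?_, inv_map_iff.2 hWi⟩
      rw [ht', hs, hWd, show m / 2 = 2 * j / 2 by omega]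

/-- Involutions, odd dimension. -/
theorem ndFix_two_odd (hQ : (polarBilin Q).Nondegenerate) (h2 : (2 : F) ≠ 0) (hι : Fintype.card ι = 2 * d + 1) (hd : 1 ≤ d)
    {W₀ : Submodule F (ι → F)} (hW₀ : NDQ Q W₀) (hm : finrank F W₀ = m) (hm1 : 1 ≤ m) (hme : Even m) (hmn : m ≤ 2 * d) :
    NdFix Q W₀ 2 := by
  intro x hx hz hns
  have e := mem_omega_preserves hx
  rcases sq_sign hQ h2 (by omega) hx hz with hxx | hxx
  · obtain ⟨a, b, ha, ha0, hab, hb0, -, -, -⟩ := parts_two hQ h2 (by omega) hx hxx hns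
    have hr : ((2 : ℕ) : F) ≠ 0 := by exact_mod_cast h2
    have hsum := SForm.finrank_fixed_add (T := Matrix.toLin' x.1) (r := 2)
      (LinearMap.ext fun v => by rw [pow_two, Module.End.mul_apply]; exact hxx v) hr
    rw [ha, finrank_fintype_fun_eq_card, hι] at hsum
    rw [Nat.even_iff] at hme
    obtain ⟨W, hW, hWi⟩ := fix_involution hQ h2 e hxx (by omega) (by omega) hW₀ hm hm1 (by
      rw [finrank_fintype_fun_eq_card, hι, Nat.even_iff, Nat.even_iff]
      omega)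
    exact ⟨W, hW, inv_map_iff.2 hWi⟩
  · exfalso
    have h3 : Matrix.toLin' (x.1 * x.1) = Matrix.toLin' (-1 : Matrix ι ι F) :=
      LinearMap.ext fun v => by rw [Matrix.toLin'_mul, LinearMap.comp_apply, hxx, map_neg, Matrix.toLin'_one]; rfl
    have h4 := congrArg Matrix.det (Matrix.toLin'.injective h3)
    rw [Matrix.det_mul, det_omega hx, mul_one, Matrix.det_neg, Matrix.det_one, mul_one, hι,
      (odd_two_mul_add_one d).neg_one_pow] at h4
    exact h2 (by linear_combination h4)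

end main

end Cfsg.Agent.Elusive
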