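import Cfsg.Agent.Lib.Elusive.NdUnip
import Cfsg.Agent.Lib.Elusive.NdInvol

/-!
Unipotent elements fixing no non-degenerate subspace of a given class.
-/

set_option autoImplicit false
set_option linter.all false
set_option maxHeartbeats 1600000

namespace Cfsg.Agent.Elusive

open Module QuadraticMap

section classes
variable {F : Type*} [Field F] [Fintype F] {V : Type*} [AddCommGroup V] [Module F V] [FiniteDimensional F V]
  {Q : QuadraticForm F V}

/-- Isometric subspaces have isometric orthogonals. -/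
lemma isoQ_perp (hQ : (polarBilin Q).Nondegenerate) {W W₀ : Submodule F V} (h : IsoQ Q W W₀) :
    IsoQ Q ((quadSF hQ).perp W) ((quadSF hQ).perp W₀) := by
  have hd := h.finrank
  obtain ⟨φ, hφ⟩ := h
  obtain ⟨g, hg, hgφ⟩ := Orth.witt_pair hQ φ hφ
  have hmap : ((quadSF hQ).perp W).map g.toLinearMap = (quadSF hQ).perp W₀ := by
    refine Submodule.eq_of_le_of_finrank_eq ?_ ?_
    · rintro _ ⟨v, hv, rfl⟩ u hu
      show polar Q u (g v) = 0
      obtain ⟨w, hw⟩ := φ.surjective ⟨u, hu⟩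
      rw [show u = g w by rw [hgφ, hw], polar, ← map_add, hg, hg, hg]
      exact hv w w.2
    · have h1 := (quadSF hQ).finrank_perp W
      have h2 := (quadSF hQ).finrank_perp W₀
      rw [← (Submodule.equivMapOfInjective g.toLinearMap g.injective _).finrank_eq]
      omega
  exact hmap ▸ isoQ_map g.toLinearMap g.injective hg

/-- The value on the core of an odd-dimensional class. -/
lemma class_value {Y Y₀ U U₀ : Submodule F V} {e : ℕ} (hY₀ : NDQ Q Y₀) (hiso : IsoQ Q Y Y₀) (hy : finrank F Y = 2 * e + 1)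
    (hU : U ≤ Y) (hUs : ∀ u ∈ U, Q u = 0) (hUd : finrank F U = e) {k : V} (hk : k ∈ Y) (hkU : ∀ u ∈ U, polar Q u k = 0)
    (hU₀ : U₀ ≤ Y₀) (hU₀s : ∀ u ∈ U₀, Q u = 0) (hU₀d : finrank F U₀ = e) {w : V} (hw : w ∈ Y₀)
    (hwU : ∀ u ∈ U₀, polar Q u w = 0) (hw0 : Q w ≠ 0) : ∃ c : F, Q k = c * c * Q w := by
  obtain ⟨φ, hφ⟩ := hiso
  have hy₀ : finrank F Y₀ = 2 * e + 1 := φ.finrank_eq.symm.trans hy
  obtain ⟨R, hR⟩ : ∃ R : QuadraticForm F Y₀, R = Q.comp Y₀.subtype := ⟨_, rfl⟩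
  have hRv : ∀ v, R v = Q (v : V) := fun v => by rw [hR]; rfl
  have hRn : (polarBilin R).Nondegenerate := hR ▸ restrict_nondeg hY₀
  have hd1 : finrank F ((U.comap Y.subtype).map φ.toLinearMap) = e := by
    rw [LinearEquiv.finrank_map_eq, (Submodule.comapSubtypeEquivOfLe hU).finrank_eq, hUd]
  have hd2 : finrank F (U₀.comap Y₀.subtype) = e := by rw [(Submodule.comapSubtypeEquivOfLe hU₀).finrank_eq, hU₀d]
  have hs1 : ∀ u ∈ (U.comap Y.subtype).map φ.toLinearMap, R u = 0 := by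
    rintro _ ⟨u, hu, rfl⟩
    rw [hRv]
    exact (hφ u).trans (hUs _ hu)
  have hs2 : ∀ u ∈ U₀.comap Y₀.subtype, R u = 0 := fun u hu => (hRv u).trans (hU₀s _ hu)
  obtain ⟨g, hg, hgφ⟩ := Orth.witt_pair hRn (LinearEquiv.ofFinrankEq _ (U₀.comap Y₀.subtype) (hd1.trans hd2.symm))
    (fun u => by rw [hs1 _ u.2]; exact hs2 _ (Subtype.prop _))
  have hperp : (quadSF hRn).perp (U₀.comap Y₀.subtype) = U₀.comap Y₀.subtype ⊔ Submodule.span F {(⟨w, hw⟩ : Y₀)} := by
    refine (Submodule.eq_of_le_of_finrank_eq (sup_le (fun u hu x hx => ?_) ((Submodule.span_singleton_le_iff_mem _ _).2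
      fun x hx => ?_)) ?_).symm
    · exact polar_zero_of_sing (Q := R) (W := U₀.comap Y₀.subtype) (fun a ha => (hRv a).trans (hU₀s _ ha)) hx hu
    · show polar R x ⟨w, hw⟩ = 0
      rw [hR, polar_comp]
      exact hwU _ hx
    · have h1 := (quadSF hRn).finrank_perp (U₀.comap Y₀.subtype)
      have h2 := Submodule.finrank_sup_add_finrank_inf_eq (U₀.comap Y₀.subtype) (Submodule.span F {(⟨w, hw⟩ : Y₀)})
      have h3 : (U₀.comap Y₀.subtype) ⊓ Submodule.span F {(⟨w, hw⟩ : Y₀)} = ⊥ := eq_bot_iff.2 fun u hu => by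
        obtain ⟨c, rfl⟩ := Submodule.mem_span_singleton.1 hu.2
        have h : Q (c • w) = 0 := hU₀s _ hu.1
        rw [QuadraticMap.map_smul, smul_eq_mul, mul_eq_zero] at h
        rw [Submodule.mem_bot, mul_self_eq_zero.1 (h.resolve_right hw0), zero_smul]
      rw [h3, finrank_bot, add_zero, finrank_span_singleton (fun h => hw0 (by
        rw [show w = 0 from congrArg Subtype.val h, map_zero]))] at h2
      omega
  have hmem : g (φ ⟨k, hk⟩) ∈ (quadSF hRn).perp (U₀.comap Y₀.subtype) := fun x hx => by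
    obtain ⟨u, hu⟩ := (LinearEquiv.ofFinrankEq _ (U₀.comap Y₀.subtype) (hd1.trans hd2.symm)).surjective ⟨x, hx⟩
    obtain ⟨a, ha, hau⟩ := u.2
    show polar R x (g (φ ⟨k, hk⟩)) = 0
    rw [show x = g u.1 by rw [hgφ, hu], polar, ← map_add, hg, hg, hg, ← hau]
    show R (φ a + φ ⟨k, hk⟩) - R (φ a) - R (φ ⟨k, hk⟩) = 0
    rw [← map_add, hRv, hRv, hRv, hφ, hφ, hφ]
    exact hkU _ ha
  rw [hperp] at hmem
  obtain ⟨u, hu, s, hs, hus⟩ := Submodule.mem_sup.1 hmem
  obtain ⟨c, rfl⟩ := Submodule.mem_span_singleton.1 hs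
  refine ⟨c, ?_⟩
  have h1 : R (g (φ ⟨k, hk⟩)) = Q k := by rw [hg, hRv, hφ]
  rw [← h1, ← hus, hRv, Submodule.coe_add, Submodule.coe_smul, QuadraticMap.map_add Q, QuadraticMap.map_smul,
    polar_smul_right]
  show Q (u : V) + (c * c) • Q w + c • polar Q (u : V) w = _
  rw [show Q (u : V) = 0 from hU₀s _ hu, show polar Q (u : V) w = 0 from hwU _ hu, smul_eq_mul, smul_eq_mul]
  ring

end classes

section witnesses
variable {F : Type*} [Field F] [Fintype F] {ι : Type} [Fintype ι] [DecidableEq ι] {Q : QuadraticForm F (ι → F)}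
  {p : ℕ} [Fact p.Prime] [CharP F p] {d m : ℕ}

omit [Fintype F] in
/-- An element of order `p` yields a fixed member. -/
lemma ndFix_get {W₀ : Submodule F (ι → F)} (hall : NdFix Q W₀ p) {x : GL ι F} (hx : x ∈ Cfsg.Geo.omegaGL (⇑Q))
    (hxp : x ^ p = 1) (hxs : ∀ z : F, (x : Matrix ι ι F) ≠ z • (1 : Matrix ι ι F)) :
    ∃ W, IsoQ Q W W₀ ∧ Inv (Matrix.toLin' x.1) W := by
  obtain ⟨W, hW, hWi⟩ := hall x hx ⟨1, by rw [hxp, one_smul]; rfl⟩ hxs
  exact ⟨W, hW, inv_map_iff.1 hWi⟩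

omit [Fintype F] [Fintype ι] [DecidableEq ι] in
lemma two_ne_of (hp : p ≠ 2) : (2 : F) ≠ 0 := fun h => by
  have h' : ((2 : ℕ) : F) = 0 := by exact_mod_cast h
  rw [CharP.cast_eq_zero_iff F p] at h'
  exact hp ((Nat.prime_dvd_prime_iff_eq Fact.out Nat.prime_two).1 h')

/-- For an element with square-zero displacement the singular part has even dimension. -/
lemma levi_even (hQ : (polarBilin Q).Nondegenerate) {x : GL ι F} (hx : x ∈ Cfsg.Geo.omegaGL (⇑Q))
    {N : Module.End F (ι → F)} (hN : N = Matrix.toLin' x.1 - 1) {L : Submodule F (ι → F)}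
    (hran : LinearMap.range N = L) (hR0 : LinearMap.ker N ⊓ LinearMap.range N = L) (hsk : ∀ u, polar Q (N u) u = 0)
    {W : Submodule F (ι → F)} (hWi : Inv (Matrix.toLin' x.1) W) (hW : NDQ Q W) :
    Even (finrank F (W ⊓ L : Submodule F (ι → F))) := by
  obtain ⟨W', -, -, -, -, hd, -, hNW, -, hκ, hU, hr1, hr2⟩ := unip_split hQ hN (mem_omega_preserves hx) hWi hW
  rw [hR0] at hU
  rw [hran] at hr1 hr2
  obtain ⟨k, hk⟩ := even_rank hsk hNW hW
  have h3 := LinearMap.finrank_range_add_finrank_ker N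
  rw [hran] at h3
  exact ⟨k, by omega⟩

/-- Plus type, subspaces of minus type. -/
theorem no_fix_minus_in_plus (hQ : (polarBilin Q).Nondegenerate) (hι : Fintype.card ι = 2 * d) (hd : 3 ≤ d)
    (hpl : PlusOn Q ⊤) {W₀ : Submodule F (ι → F)} (hW₀ : NDQ Q W₀) (hm : finrank F W₀ = m) (hme : Even m)
    (hnp : ¬ PlusOn Q W₀) : ¬ NdFix Q W₀ p := by
  intro hall
  have hV : finrank F (ι → F) = 2 * d := by rw [finrank_fintype_fun_eq_card, hι]
  obtain ⟨U, -, hU, hUd⟩ := hpl
  rw [finrank_top, hV] at hUd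
  obtain ⟨L, hLU, hLd⟩ := exists_sub_dim (W := U) (k := 0 + (d / 2 + d / 2)) (by omega)
  obtain ⟨x, N, hx, hxp, hxs, hN, hran, -, hR0, -, -⟩ := exists_unip p hQ (by omega) (fun u hu => hU u (hLU hu))
    (g := d / 2) (t := 0) hLd (by omega) Fin.elim0 (fun j => j.elim0) (fun i => i.elim0) (fun j => j.elim0) (by omega)
  obtain ⟨W, hW, hWi⟩ := ndFix_get hall hx hxp hxs
  have hWn := hW.symm.ndq hW₀
  obtain ⟨W', hW'n, -, -, hsum, hd', hperp, -, -, -, hR, -, -⟩ := unip_split hQ hN (mem_omega_preserves hx) hWi hWn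
  rw [hR0, hLd] at hR
  rw [hW.finrank, hm, hV] at hd'
  obtain ⟨a, ha⟩ := hme
  have hbd := sing_le hQ hWn (inf_le_left : W ⊓ L ≤ W) fun u hu => hU u (hLU hu.2)
  have hbd' := sing_le hQ hW'n (inf_le_left : W' ⊓ L ≤ W') fun u hu => hU u (hLU hu.2)
  rw [hW.finrank, hm] at hbd
  have hWp : ¬ PlusOn Q W := fun h => hnp (hW.plus.1 h)
  by_cases hU1 : 2 * finrank F (W ⊓ L : Submodule F (ι → F)) = m
  · exact hWp ⟨W ⊓ L, inf_le_left, fun u hu => hU u (hLU hu.2), by rw [hU1, hW.finrank, hm]⟩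
  · have hW'p : PlusOn Q W' := ⟨W' ⊓ L, inf_le_left, fun u hu => hU u (hLU hu.2), by omega⟩
    have h := plus_sup hQ hWn hW'n (a := a) (by rw [hW.finrank, hm]; omega) (b := d - a) (by omega) hperp
    rw [hsum] at h
    exact hWp ((h.1 ⟨U, le_top, hU, by rw [finrank_top, hV]; exact hUd⟩).2 hW'p)

/-- Odd dimension, subspaces of minus type. -/
theorem no_fix_minus_in_odd (hQ : (polarBilin Q).Nondegenerate) (hp : p ≠ 2) (hι : Fintype.card ι = 2 * d + 1) (hd : 2 ≤ d)
    {W₀ : Submodule F (ι → F)} (hW₀ : NDQ Q W₀) (hm : finrank F W₀ = m) (hme : Even m) (hnp : ¬ PlusOn Q W₀) :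
    ¬ NdFix Q W₀ p := by
  intro hall
  have hV : finrank F (ι → F) = 2 * d + 1 := by rw [finrank_fintype_fun_eq_card, hι]
  have htop : NDQ Q (⊤ : Submodule F (ι → F)) := fun u _ hz => hQ.1 u fun v => hz v trivial
  obtain ⟨H, -, hH, hHd, U, hUH, hU, hUd⟩ := exists_plus_sub hQ d ⊤ htop (by rw [finrank_top, hV]; omega)
  obtain ⟨Y, -, hY, hperp, -, hYd, -⟩ := ndq_compl hQ htop hH le_top
  rw [finrank_top, hV, hHd] at hYd
  obtain ⟨a, ha, ha0⟩ := exists_ne_zero_in hY (by omega)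
  obtain ⟨x, N, hx, hxp, hxs, hN, -, -, hR0, -, -⟩ := exists_unip p hQ (by omega) hU (g := d / 2) (t := d % 2)
    (by omega) (by omega) (fun _ => a) (fun _ => ha0) (fun i j hij => absurd (Fin.ext (by omega)) hij)
    (fun _ u hu => hperp u (hUH hu) a ha) (fun _ => hp)
  obtain ⟨W, hW, hWi⟩ := ndFix_get hall hx hxp hxs
  have hWn := hW.symm.ndq hW₀
  obtain ⟨W', hW'n, -, -, hsum, hd', -, -, -, -, hR, -, -⟩ := unip_split hQ hN (mem_omega_preserves hx) hWi hWn
  rw [hR0] at hR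
  rw [hW.finrank, hm, hV] at hd'
  obtain ⟨e, he⟩ := hme
  have hbd := sing_le hQ hWn (inf_le_left : W ⊓ U ≤ W) fun u hu => hU u hu.2
  have hbd' := sing_le hQ hW'n (inf_le_left : W' ⊓ U ≤ W') fun u hu => hU u hu.2
  rw [hW.finrank, hm] at hbd
  exact hnp (hW.plus.1 ⟨W ⊓ U, inf_le_left, fun u hu => hU u hu.2, by rw [hW.finrank, hm]; omega⟩)

/-- Even dimension, subspaces of odd dimension. -/
theorem no_fix_parabolic (hQ : (polarBilin Q).Nondegenerate) (hp : p ≠ 2) (hι : Fintype.card ι = 2 * d) (hd : 3 ≤ d)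
    {W₀ : Submodule F (ι → F)} (hW₀ : NDQ Q W₀) (hm : finrank F W₀ = m) (hmo : Odd m) (hmn : m ≤ 2 * d) :
    ¬ NdFix Q W₀ p := by
  intro hall
  have hp2 : 2 < p := lt_of_le_of_ne (Fact.out : p.Prime).two_le (Ne.symm hp)
  have h2 : (2 : F) ≠ 0 := two_ne_of hp
  have hV : finrank F (ι → F) = 2 * d := by rw [finrank_fintype_fun_eq_card, hι]
  have htop : NDQ Q (⊤ : Submodule F (ι → F)) := fun u _ hz => hQ.1 u fun v => hz v trivial
  rw [Nat.odd_iff] at hmo
  by_cases hcase : PlusOn Q ⊤ ∧ Even d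
  · obtain ⟨⟨U, -, hU, hUd⟩, hde⟩ := hcase
    rw [finrank_top, hV] at hUd
    rw [Nat.even_iff] at hde
    obtain ⟨x, N, hx, hxp, hxs, hN, hran, -, hR0, -, -⟩ := exists_unip p hQ (by omega) hU
      (g := d / 2) (t := 0) (by omega) (by omega) Fin.elim0 (fun j => j.elim0) (fun i => i.elim0) (fun j => j.elim0) (by omega)
    obtain ⟨W, hW, hWi⟩ := ndFix_get hall hx hxp hxs
    have hWn := hW.symm.ndq hW₀
    obtain ⟨W', hW'n, -, -, -, hd', -, -, -, -, hR, -, -⟩ := unip_split hQ hN (mem_omega_preserves hx) hWi hWn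
    rw [hR0] at hR
    have hbd := sing_le hQ hWn (inf_le_left : W ⊓ U ≤ W) fun u hu => hU u hu.2
    have hbd' := sing_le hQ hW'n (inf_le_left : W' ⊓ U ≤ W') fun u hu => hU u hu.2
    rw [hW.finrank, hm] at hbd hd'
    rw [hV] at hd'
    omega
  obtain ⟨H, -, hH, hHd, L, hLH, hL, hLd⟩ := exists_plus_sub hQ (d - 1) ⊤ htop (by rw [finrank_top, hV]; omega)
  obtain ⟨P, -, hP, hHP, -, hPd, -⟩ := ndq_compl hQ htop hH le_top
  rw [finrank_top, hV, hHd] at hPd
  rcases Nat.even_or_odd d with hde | hdo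
  · have hpl : ¬ PlusOn Q ⊤ := fun h => hcase ⟨h, hde⟩
    rw [Nat.even_iff] at hde
    obtain ⟨Y₀, hY₀, hy4, hYfix⟩ : ∃ Y₀ : Submodule F (ι → F), NDQ Q Y₀ ∧ finrank F Y₀ % 4 = 1 ∧
        ∀ x : GL ι F, x ∈ Cfsg.Geo.omegaGL (⇑Q) → x ^ p = 1 → (∀ z : F, (x : Matrix ι ι F) ≠ z • (1 : Matrix ι ι F)) →
          ∃ Y, IsoQ Q Y Y₀ ∧ Inv (Matrix.toLin' x.1) Y := by
      rcases Nat.lt_or_ge (m % 4) 2 with h | h
      · exact ⟨W₀, hW₀, by omega, fun x hx hxp hxs => ndFix_get hall hx hxp hxs⟩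
      · have h1 := (quadSF hQ).finrank_perp W₀
        rw [hV] at h1
        refine ⟨(quadSF hQ).perp W₀, (quadSF hQ).nd_perp hW₀, by omega, fun x hx hxp hxs => ?_⟩
        obtain ⟨W, hW, hWi⟩ := ndFix_get hall hx hxp hxs
        exact ⟨_, isoQ_perp hQ hW, (quad_isom (hQ := hQ) (mem_omega_preserves hx)).inv_perp hWi⟩
    obtain ⟨e, he⟩ : ∃ e, finrank F Y₀ = 2 * e + 1 := ⟨finrank F Y₀ / 2, by omega⟩
    obtain ⟨E₀, hE₀Y, hE₀, hE₀d, U₀, hU₀E, hU₀, hU₀d⟩ := exists_plus_sub hQ e Y₀ hY₀ (by omega)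
    obtain ⟨L₀, hL₀Y, hL₀, hEL, -, hL₀d, -⟩ := ndq_compl hQ hY₀ hE₀ hE₀Y
    obtain ⟨w, hw, hw0⟩ := exists_ne_zero_in hL₀ (by omega)
    obtain ⟨ν, hν⟩ := FiniteField.exists_nonsquare (F := F) (fun h => h2 (by
      haveI := ringChar.of_eq h; exact CharTwo.two_eq_zero))
    have hν0 : ν ≠ 0 := fun h => hν ⟨0, by rw [h, mul_zero]⟩
    obtain ⟨v, hv⟩ := Orth.exists_value (restrict_nondeg hP) (by omega) (ν * Q w)
    have hv' : Q (v : ι → F) = ν * Q w := hv
    have hv0 : Q (v : ι → F) ≠ 0 := by rw [hv']; exact mul_ne_zero hν0 hw0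
    obtain ⟨hl, hld⟩ := ndq_line h2 hv0
    obtain ⟨A, hAP, hA, hvA, -, hAd, -⟩ := ndq_compl hQ hP hl ((Submodule.span_singleton_le_iff_mem _ _).2 v.2)
    obtain ⟨a, ha, ha0⟩ := exists_ne_zero_in hA (by omega)
    obtain ⟨x, N, hx, hxp, hxs, hN, hran, hker, hR0, hrd, -⟩ := exists_unip p hQ (by omega) hL (g := (d - 2) / 2) (t := 1)
      (by omega) (by omega) (fun _ => a) (fun _ => ha0) (fun i j hij => absurd (Subsingleton.elim i j) hij)
      (fun _ u hu => hHP u (hLH hu) a (hAP ha)) (fun _ => hp)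
    have hkerd := LinearMap.finrank_range_add_finrank_ker N
    rw [hrd, hV] at hkerd
    have hK : L ⊔ Submodule.span F {(v : ι → F)} = LinearMap.ker N := by
      refine Submodule.eq_of_le_of_finrank_eq (sup_le (hR0.ge.trans inf_le_left) ?_) ?_
      · rw [Submodule.span_singleton_le_iff_mem, hker]
        intro y hy
        obtain ⟨l, hl', s, hs, rfl⟩ := Submodule.mem_sup.1 hy
        have hsA : s ∈ A := (Submodule.span_le.2 (by rintro _ ⟨j, rfl⟩; exact ha)) hs
        show polar Q (l + s) v = 0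
        rw [polar_add_left, hHP l (hLH hl') v v.2, polar_comm Q s, hvA v (Submodule.mem_span_singleton_self _) s hsA,
          add_zero]
      · have h := Submodule.finrank_sup_add_finrank_inf_eq L (Submodule.span F {(v : ι → F)})
        rw [show L ⊓ Submodule.span F {(v : ι → F)} = ⊥ from eq_bot_iff.2 fun u hu => (Submodule.mem_bot F).2
          (hl u hu.2 fun z hz => hHP u (hLH hu.1) z ((Submodule.span_singleton_le_iff_mem _ _).2 v.2 hz)),
          finrank_bot, add_zero, hld] at h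
        omega
    obtain ⟨Y, hY, hYi⟩ := hYfix x hx hxp hxs
    have hYn := hY.symm.ndq hY₀
    have ey := mem_omega_preserves hx
    obtain ⟨Y', hY'n, -, -, -, hd', -, hNY, -, hκ, hR, -, -⟩ := unip_split hQ hN ey hYi hYn
    rw [hR0] at hR
    rw [hY.finrank, he, hV] at hd'
    have hbd := sing_le hQ hYn (inf_le_left : Y ⊓ L ≤ Y) fun u hu => hL u hu.2
    have hbd' := sing_le hQ hY'n (inf_le_left : Y' ⊓ L ≤ Y') fun u hu => hL u hu.2
    rw [hY.finrank, he] at hbd
    have hUd : finrank F (Y ⊓ L : Submodule F (ι → F)) = e := by omega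
    -- the kernel is larger than the singular part
    obtain ⟨S, hS⟩ : ∃ S, S = Matrix.toLin' x.1 - Matrix.toLin' x.1 ^ (p - 1) := ⟨_, rfl⟩
    have hTp : Matrix.toLin' x.1 ^ p = 1 := by
      rw [← Matrix.toLin'_pow, ← Units.val_pow_eq_pow_val, hxp, Units.val_one, Matrix.toLin'_one]; rfl
    have hp1 : p - 1 + 1 = p := by omega
    have hsk : ∀ u, polar Q (S u) u = 0 := fun u => by
      have h1 : polar Q ((Matrix.toLin' x.1 ^ (p - 1)) u) u = polar Q u (Matrix.toLin' x.1 u) := by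
        have h := (quad_isom (hQ := hQ) ey).pres ((Matrix.toLin' x.1 ^ (p - 1)) u) u
        rw [quadSF_B, quadSF_B, ← Module.End.mul_apply, ← pow_succ', hp1, hTp, Module.End.one_apply] at h
        exact h.symm
      rw [hS, LinearMap.sub_apply, polar_sub_left, h1, polar_comm Q u, sub_self]
    have hkerS : LinearMap.ker S = LinearMap.ker N := by
      ext u
      rw [LinearMap.mem_ker, LinearMap.mem_ker, hS, hN, LinearMap.sub_apply, LinearMap.sub_apply, Module.End.one_apply,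
        sub_eq_zero, sub_eq_zero]
      constructor
      · intro h
        have h' : Matrix.toLin' x.1 (Matrix.toLin' x.1 u) = u := by
          rw [h, ← Module.End.mul_apply, ← pow_succ', hp1, hTp, Module.End.one_apply]
        have hk : ∀ k, (Matrix.toLin' x.1 ^ (2 * k)) u = u := fun k => by
          induction k with
          | zero => simp
          | succ k ih => rw [Nat.mul_succ, pow_add, Module.End.mul_apply, pow_two, Module.End.mul_apply, h', ih]
        obtain ⟨l, hl⟩ := (Fact.out : p.Prime).odd_of_ne_two hp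
        have := hk (l + 1)
        rwa [show 2 * (l + 1) = 1 + p by omega, pow_add, hTp, mul_one, pow_one] at this
      · intro h
        have hk : ∀ k, (Matrix.toLin' x.1 ^ k) u = u := fun k => by
          induction k with
          | zero => simp
          | succ k ih => rw [pow_succ, Module.End.mul_apply, h, ih]
        rw [h, hk]
    have hSi : Inv S Y := fun u hu => by
      rw [hS, LinearMap.sub_apply]; exact Y.sub_mem (hYi u hu) (hYi.pow _ u hu)
    obtain ⟨k', hk'⟩ := even_rank hsk hSi hYn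
    rw [hkerS, hY.finrank, he] at hk'
    have hle : finrank F (Y ⊓ L : Submodule F (ι → F)) ≤ finrank F (Y ⊓ LinearMap.ker N : Submodule F (ι → F)) :=
      Submodule.finrank_mono (inf_le_inf_left Y (hR0.ge.trans inf_le_left))
    obtain ⟨k, ⟨hkY, hkN⟩, hkL⟩ : ∃ k ∈ Y ⊓ LinearMap.ker N, k ∉ L := by
      by_contra hc
      push Not at hc
      have := Submodule.finrank_mono (show Y ⊓ LinearMap.ker N ≤ Y ⊓ L from fun u hu => ⟨hu.1, hc u hu⟩)
      omega
    obtain ⟨l, hl', s, hs, hls⟩ := Submodule.mem_sup.1 (hK.ge hkN)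
    obtain ⟨c, rfl⟩ := Submodule.mem_span_singleton.1 hs
    have hc0 : c ≠ 0 := fun h => hkL (by rw [← hls, h, zero_smul, add_zero]; exact hl')
    obtain ⟨c', hc'⟩ := class_value hY₀ hY (by rw [hY.finrank, he]) (inf_le_left : Y ⊓ L ≤ Y) (fun u hu => hL u hu.2) hUd
      hkY (fun u hu => by
        rw [hker] at hkN
        exact hkN u (Submodule.mem_sup_left hu.2))
      (hU₀E.trans hE₀Y) hU₀ (by omega) (hL₀Y hw) (fun u hu => hEL u (hU₀E hu) w hw) hw0
    rw [← hls, QuadraticMap.map_add Q, hL l hl', QuadraticMap.map_smul, polar_smul_right, hHP l (hLH hl') v v.2, hv',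
      smul_zero, smul_eq_mul, zero_add, add_zero] at hc'
    refine hν ⟨c' / c, ?_⟩
    field_simp
    exact mul_right_cancel₀ hw0 (by linear_combination hc')
  rw [Nat.odd_iff] at hdo
  rcases Nat.lt_or_ge (m % 4) 2 with h4 | h4
  · obtain ⟨u, hu, hu0⟩ := exists_ne_zero_in hP (by omega)
    obtain ⟨hl, hld⟩ := ndq_line h2 hu0
    obtain ⟨A, hAP, hA, huA, -, hAd, -⟩ := ndq_compl hQ hP hl ((Submodule.span_singleton_le_iff_mem _ _).2 hu)
    obtain ⟨a, ha, ha0⟩ := exists_ne_zero_in hA (by omega)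
    obtain ⟨x, N, hx, hxp, hxs, hN, -, -, hR0, hrd, -⟩ := exists_unip p hQ (by omega) hL (g := (d - 3) / 2) (t := 2)
      (by omega) (by omega) ![u, a] (by intro j; fin_cases j <;> assumption)
      (by
        intro i j hij
        have h1 := huA u (Submodule.mem_span_singleton_self _) a ha
        fin_cases i <;> fin_cases j <;> simp_all [polar_comm])
      (by intro j; fin_cases j
          · exact fun w hw => hHP w (hLH hw) u hu
          · exact fun w hw => hHP w (hLH hw) a (hAP ha))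
      (fun _ => hp)
    have hkerd := LinearMap.finrank_range_add_finrank_ker N
    rw [hrd, hV] at hkerd
    have hK : L = LinearMap.ker N := Submodule.eq_of_le_of_finrank_eq (hR0.ge.trans inf_le_left) (by omega)
    obtain ⟨W, hW, hWi⟩ := ndFix_get hall hx hxp hxs
    have hWn := hW.symm.ndq hW₀
    have ey := mem_omega_preserves hx
    obtain ⟨W', hW'n, -, -, -, hd', -, -, -, -, hR, -, -⟩ := unip_split hQ hN ey hWi hWn
    rw [hR0] at hR
    rw [hW.finrank, hm, hV] at hd'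
    have hbd := sing_le hQ hWn (inf_le_left : W ⊓ L ≤ W) fun u hu => hL u hu.2
    have hbd' := sing_le hQ hW'n (inf_le_left : W' ⊓ L ≤ W') fun u hu => hL u hu.2
    rw [hW.finrank, hm] at hbd
    obtain ⟨S, hS⟩ : ∃ S, S = Matrix.toLin' x.1 - Matrix.toLin' x.1 ^ (p - 1) := ⟨_, rfl⟩
    have hTp : Matrix.toLin' x.1 ^ p = 1 := by
      rw [← Matrix.toLin'_pow, ← Units.val_pow_eq_pow_val, hxp, Units.val_one, Matrix.toLin'_one]; rfl
    have hp1 : p - 1 + 1 = p := by omega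
    have hsk : ∀ u, polar Q (S u) u = 0 := fun u => by
      have h1 : polar Q ((Matrix.toLin' x.1 ^ (p - 1)) u) u = polar Q u (Matrix.toLin' x.1 u) := by
        have h := (quad_isom (hQ := hQ) ey).pres ((Matrix.toLin' x.1 ^ (p - 1)) u) u
        rw [quadSF_B, quadSF_B, ← Module.End.mul_apply, ← pow_succ', hp1, hTp, Module.End.one_apply] at h
        exact h.symm
      rw [hS, LinearMap.sub_apply, polar_sub_left, h1, polar_comm Q u, sub_self]
    have hkerS : LinearMap.ker S = LinearMap.ker N := by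
      ext y
      rw [LinearMap.mem_ker, LinearMap.mem_ker, hS, hN, LinearMap.sub_apply, LinearMap.sub_apply, Module.End.one_apply,
        sub_eq_zero, sub_eq_zero]
      constructor
      · intro h
        have h' : Matrix.toLin' x.1 (Matrix.toLin' x.1 y) = y := by
          rw [h, ← Module.End.mul_apply, ← pow_succ', hp1, hTp, Module.End.one_apply]
        have hk : ∀ k, (Matrix.toLin' x.1 ^ (2 * k)) y = y := fun k => by
          induction k with
          | zero => simp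
          | succ k ih => rw [Nat.mul_succ, pow_add, Module.End.mul_apply, pow_two, Module.End.mul_apply, h', ih]
        obtain ⟨l, hl⟩ := (Fact.out : p.Prime).odd_of_ne_two hp
        have := hk (l + 1)
        rwa [show 2 * (l + 1) = 1 + p by omega, pow_add, hTp, mul_one, pow_one] at this
      · intro h
        have hk : ∀ k, (Matrix.toLin' x.1 ^ k) y = y := fun k => by
          induction k with
          | zero => simp
          | succ k ih => rw [pow_succ, Module.End.mul_apply, h, ih]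
        rw [h, hk]
    have hSi : Inv S W := fun y hy => by
      rw [hS, LinearMap.sub_apply]; exact W.sub_mem (hWi y hy) (hWi.pow _ y hy)
    obtain ⟨k', hk'⟩ := even_rank hsk hSi hWn
    rw [hkerS, hW.finrank, hm, ← hK] at hk'
    omega
  · obtain ⟨x, N, hx, hxp, hxs, hN, hran, -, hR0, -, hsk⟩ := exists_unip p hQ (by omega) hL
      (g := (d - 1) / 2) (t := 0) (by omega) (by omega) Fin.elim0 (fun j => j.elim0) (fun i => i.elim0) (fun j => j.elim0) (by omega)
    obtain ⟨W, hW, hWi⟩ := ndFix_get hall hx hxp hxs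
    have hWn := hW.symm.ndq hW₀
    obtain ⟨k, hk⟩ := levi_even hQ hx hN (hran.trans (by simp)) hR0 (hsk rfl) hWi hWn
    obtain ⟨W', hW'n, -, -, -, hd', -, -, -, -, hR, -, -⟩ := unip_split hQ hN (mem_omega_preserves hx) hWi hWn
    rw [hR0] at hR
    rw [hW.finrank, hm, hV] at hd'
    have hbd := sing_le hQ hWn (inf_le_left : W ⊓ L ≤ W) fun u hu => hL u hu.2
    have hbd' := sing_le hQ hW'n (inf_le_left : W' ⊓ L ≤ W') fun u hu => hL u hu.2
    rw [hW.finrank, hm] at hbd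
    omega

/-- Characteristic two. -/
theorem no_fix_two (hQ : (polarBilin Q).Nondegenerate) (hι : Fintype.card ι = 2 * d) (hd : 3 ≤ d)
    {W₀ : Submodule F (ι → F)} (hW₀ : NDQ Q W₀) (hm : finrank F W₀ = m) (hmn : m ≤ 2 * d)
    (h : (PlusOn Q ⊤ ∧ Even d ∧ m % 4 = 2) ∨ (Odd d ∧ m % 4 = 0 ∧ ¬ PlusOn Q W₀)) :
    ¬ NdFix Q W₀ p := by
  intro hall
  have hV : finrank F (ι → F) = 2 * d := by rw [finrank_fintype_fun_eq_card, hι]
  have htop : NDQ Q (⊤ : Submodule F (ι → F)) := fun u _ hz => hQ.1 u fun v => hz v trivial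
  obtain ⟨L, hL, g, hLd, hcond⟩ : ∃ L : Submodule F (ι → F), (∀ u ∈ L, Q u = 0) ∧ ∃ g, finrank F L = 0 + (g + g) ∧
      ((finrank F L = d ∧ m % 4 = 2) ∨ (finrank F L + 1 = d ∧ m % 4 = 0 ∧ ¬ PlusOn Q W₀)) := by
    rcases h with ⟨⟨U, -, hU, hUd⟩, hde, h4⟩ | ⟨hdo, h4, hnp⟩
    · rw [finrank_top, hV] at hUd
      rw [Nat.even_iff] at hde
      exact ⟨U, hU, d / 2, by omega, Or.inl ⟨by omega, h4⟩⟩
    · obtain ⟨H, -, hH, hHd, L, -, hL, hLd⟩ := exists_plus_sub hQ (d - 1) ⊤ htop (by rw [finrank_top, hV]; omega)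
      rw [Nat.odd_iff] at hdo
      exact ⟨L, hL, (d - 1) / 2, by omega, Or.inr ⟨by omega, h4, hnp⟩⟩
  obtain ⟨x, N, hx, hxp, hxs, hN, hran, -, hR0, -, hsk⟩ := exists_unip p hQ (by omega) hL
    (g := g) (t := 0) hLd (by omega) Fin.elim0 (fun j => j.elim0) (fun i => i.elim0) (fun j => j.elim0) (by omega)
  obtain ⟨W, hW, hWi⟩ := ndFix_get hall hx hxp hxs
  have hWn := hW.symm.ndq hW₀
  obtain ⟨k, hk⟩ := levi_even hQ hx hN (hran.trans (by simp)) hR0 (hsk rfl) hWi hWn
  obtain ⟨W', hW'n, -, -, -, hd', -, -, -, -, hR, -, -⟩ := unip_split hQ hN (mem_omega_preserves hx) hWi hWn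
  rw [hR0] at hR
  rw [hW.finrank, hm, hV] at hd'
  have hbd := sing_le hQ hWn (inf_le_left : W ⊓ L ≤ W) fun u hu => hL u hu.2
  have hbd' := sing_le hQ hW'n (inf_le_left : W' ⊓ L ≤ W') fun u hu => hL u hu.2
  rw [hW.finrank, hm] at hbd
  rcases hcond with ⟨hLe, h4⟩ | ⟨hLe, h4, hnp⟩
  · omega
  · by_cases hU1 : 2 * finrank F (W ⊓ L : Submodule F (ι → F)) = m
    · exact hnp (hW.plus.1 ⟨W ⊓ L, inf_le_left, fun u hu => hL u hu.2, by rw [hU1, hW.finrank, hm]⟩)
    · omega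

end witnesses

end Cfsg.Agent.Elusive
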