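import Cfsg.Agent.Lib.Elusive.NdInvol

/-!
Involutions in characteristic two fixing non-degenerate subspaces of the type of the whole space.
-/

set_option autoImplicit false
set_option linter.all false
set_option maxHeartbeats 1600000

namespace Cfsg.Agent.Elusive

open Module QuadraticMap

variable {F : Type*} [Field F] [Fintype F] {V : Type*} [AddCommGroup V] [Module F V] [FiniteDimensional F V]
  {Q : QuadraticForm F V} {T : Module.End F V}

/-- A plane with a fixed non-singular vector. -/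
def GoodPlane (Q : QuadraticForm F V) (T : Module.End F V) (P : Submodule F V) : Prop :=
  ∃ u v : V, P = Submodule.span F {u, v} ∧ polar Q u v = 1 ∧ T v = v ∧ Q v ≠ 0 ∧ ∃ b : F, T u = u + b • v

/-- Orthogonal sums of such planes. -/
inductive SoftSum (Q : QuadraticForm F V) (T : Module.End F V) : Submodule F V → ℕ → Prop
  | zero : SoftSum Q T ⊥ 0
  | step {P H : Submodule F V} {h : ℕ} : GoodPlane Q T P → SoftSum Q T H h → (∀ x ∈ P, ∀ y ∈ H, polar Q x y = 0) →
      SoftSum Q T (P ⊔ H) (h + 1)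

/-- Orthogonal sums of invariant four-dimensional spaces of plus type. -/
inductive QuadSum (Q : QuadraticForm F V) (T : Module.End F V) : Submodule F V → ℕ → Prop
  | zero : QuadSum Q T ⊥ 0
  | step {Z G : Submodule F V} {g : ℕ} : Inv T Z → NDQ Q Z → finrank F Z = 4 → PlusOn Q Z → QuadSum Q T G g →
      (∀ x ∈ Z, ∀ y ∈ G, polar Q x y = 0) → QuadSum Q T (Z ⊔ G) (g + 1)

omit [Fintype F] [FiniteDimensional F V] in
lemma inv_sup {A B : Submodule F V} (hA : Inv T A) (hB : Inv T B) : Inv T (A ⊔ B) := fun w hw => by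
  obtain ⟨a, ha, b, hb, rfl⟩ := Submodule.mem_sup.1 hw
  rw [map_add]
  exact Submodule.add_mem_sup (hA a ha) (hB b hb)

section char2
variable (hQ : (polarBilin Q).Nondegenerate) (h2 : (2 : F) = 0)
include hQ h2

lemma good_props {P : Submodule F V} (hP : GoodPlane Q T P) : NDQ Q P ∧ finrank F P = 2 ∧ Inv T P := by
  obtain ⟨u, v, rfl, huv, hv, -, b, hu⟩ := hP
  obtain ⟨h1, h3⟩ := plane_span huv (by rw [show (4 : F) = 2 * 2 by norm_num, h2]; simp)
  refine ⟨h1, h3, fun w hw => ?_⟩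
  obtain ⟨x, y, rfl⟩ := Submodule.mem_span_pair.1 hw
  exact Submodule.mem_span_pair.2 ⟨x, x * b + y, by rw [map_add, map_smul, map_smul, hu, hv]; module⟩

lemma soft_props {H : Submodule F V} {h : ℕ} (hH : SoftSum Q T H h) :
    NDQ Q H ∧ finrank F H = 2 * h ∧ Inv T H := by
  induction hH with
  | zero => exact ⟨ndq_bot, by simp, fun w hw => by simp_all⟩
  | step hP _ hperp ih =>
    obtain ⟨a1, a2, a3⟩ := good_props hQ h2 hP
    obtain ⟨h1, -, h3⟩ := ndq_sup a1 ih.1 hperp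
    exact ⟨h1, by omega, inv_sup a3 ih.2.2⟩

lemma quad_props {G : Submodule F V} {g : ℕ} (hG : QuadSum Q T G g) :
    NDQ Q G ∧ finrank F G = 4 * g ∧ Inv T G ∧ PlusOn Q G := by
  induction hG with
  | zero => exact ⟨ndq_bot, by simp, fun w hw => by simp_all, plus_bot⟩
  | @step Z G g hi hn hd hp _ hperp ih =>
    obtain ⟨h1, -, h3⟩ := ndq_sup hn ih.1 hperp
    exact ⟨h1, by omega, inv_sup hi ih.2.2.1,
      (plus_sup hQ hn ih.1 (a := 2) hd (b := 2 * g) (by omega) hperp).2 (iff_of_true hp ih.2.2.2)⟩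

omit hQ h2 in
lemma quad_sub {G : Submodule F V} {g : ℕ} (hG : QuadSum Q T G g) :
    ∀ j ≤ g, ∃ G' : Submodule F V, G' ≤ G ∧ QuadSum Q T G' j := by
  induction hG with
  | zero => intro j hj; exact ⟨⊥, le_rfl, by rw [Nat.le_zero.1 hj]; exact .zero⟩
  | @step Z G g hi hn hd hp _ hperp ih =>
    intro j hj
    rcases j with _ | j
    · exact ⟨⊥, bot_le, .zero⟩
    · obtain ⟨G', hle, hG'⟩ := ih j (by omega)
      exact ⟨Z ⊔ G', sup_le_sup_left hle _, .step hi hn hd hp hG' fun x hx y hy => hperp x hx y (hle hy)⟩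

omit hQ h2 in
lemma soft_take {H : Submodule F V} {h : ℕ} (hH : SoftSum Q T H h) :
    ∀ j ≤ h, ∃ W R : Submodule F V, W ≤ H ∧ R ≤ H ∧ SoftSum Q T W j ∧ SoftSum Q T R (h - j) ∧
      ∀ x ∈ W, ∀ y ∈ R, polar Q x y = 0 := by
  induction hH with
  | zero =>
    intro j hj
    obtain rfl := Nat.le_zero.1 hj
    exact ⟨⊥, ⊥, le_rfl, le_rfl, .zero, .zero, fun x hx y _ => by rw [(Submodule.mem_bot F).1 hx]; simp⟩
  | @step P H h hP hH' hperp ih =>
    intro j hj
    rcases j with _ | j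
    · exact ⟨⊥, P ⊔ H, bot_le, le_rfl, .zero, .step hP hH' hperp,
        fun x hx y _ => by rw [(Submodule.mem_bot F).1 hx]; simp⟩
    · obtain ⟨W, R, hW, hR, hWs, hRs, hWR⟩ := ih j (by omega)
      refine ⟨P ⊔ W, R, sup_le_sup_left hW _, hR.trans le_sup_right, .step hP hWs fun x hx y hy => hperp x hx y (hW hy),
        by rwa [show h + 1 - (j + 1) = h - j by omega], fun x hx y hy => ?_⟩
      obtain ⟨a, ha, b, hb, rfl⟩ := Submodule.mem_sup.1 hx
      rw [polar_add_left, hperp a ha y (hR hy), hWR b hb y hy, add_zero]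

/-- Both types inside a sum of planes. -/
lemma soft_flex {H : Submodule F V} {h : ℕ} (hH : SoftSum Q T H h) {j : ℕ} (hj0 : 0 < j) (hjh : j < h) (s : Prop) :
    ∃ W : Submodule F V, W ≤ H ∧ Inv T W ∧ NDQ Q W ∧ finrank F W = 2 * j ∧ (PlusOn Q W ↔ s) := by
  obtain ⟨W, R, hWH, hRH, hW, hR, hWR⟩ := soft_take hH j hjh.le
  obtain ⟨j, rfl⟩ : ∃ k, j = k + 1 := ⟨j - 1, by omega⟩
  obtain ⟨k, hk⟩ : ∃ k, h - (j + 1) = k + 1 := ⟨h - (j + 2), by omega⟩
  rw [hk] at hR
  cases hW with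
  | @step P W' _ hP hW' hPW =>
  cases hR with
  | @step P₂ R' _ hP₂ hR' hPR =>
  obtain ⟨hW'n, hW'd, hW'i⟩ := soft_props hQ h2 hW'
  obtain ⟨u, v, rfl, huv, hv, hQv, b, hu⟩ := hP
  obtain ⟨u₂, v₂, rfl, huv₂, hv₂, hQv₂, b₂, hu₂⟩ := hP₂
  have hv₂R : v₂ ∈ Submodule.span F {u₂, v₂} ⊔ R' := Submodule.mem_sup_left (Submodule.subset_span (Or.inr rfl))
  have huP : u ∈ Submodule.span F {u, v} := Submodule.subset_span (Or.inl rfl)
  have hvP : v ∈ Submodule.span F {u, v} := Submodule.subset_span (Or.inr rfl)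
  have h1 : polar Q u v₂ = 0 := hWR u (Submodule.mem_sup_left huP) v₂ hv₂R
  have h3 : polar Q v v₂ = 0 := hWR v (Submodule.mem_sup_left hvP) v₂ hv₂R
  obtain ⟨ζ, hζ⟩ : ∃ ζ : F, ∀ t : F, t ^ 2 + t + ζ ≠ 0 := by
    have hns : ¬ Function.Surjective fun t : F => -(t ^ 2 + t) := fun hs => by
      have hinj := (Finite.injective_iff_surjective).2 hs
      have : (fun t : F => -(t ^ 2 + t)) 0 = (fun t : F => -(t ^ 2 + t)) (-1) := by simp
      exact zero_ne_one (α := F) (by linear_combination -(hinj this))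
    obtain ⟨z, hz⟩ := not_forall.1 hns
    exact ⟨z, fun t ht => hz ⟨t, by show -(t ^ 2 + t) = z; linear_combination -ht⟩⟩
  classical
  obtain ⟨τ, hτ⟩ : ∃ τ : F, τ = if (s ↔ PlusOn Q W') then 0 else ζ / Q v := ⟨_, rfl⟩
  haveI : CharP F 2 := CharTwo.of_one_ne_zero_of_two_eq_zero one_ne_zero h2
  obtain ⟨c, hc⟩ := FiniteField.isSquare_of_char_two (ringChar.eq F 2) ((τ - Q u) / Q v₂)
  obtain ⟨u', hu'⟩ : ∃ u', u' = u + c • v₂ := ⟨_, rfl⟩
  have hu'v : polar Q u' v = 1 := by
    rw [hu', polar_add_left, polar_smul_left, polar_comm Q v₂ v, h3, smul_zero, add_zero, huv]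
  have hQu' : Q u' = τ := by
    rw [hu', QuadraticMap.map_add Q, QuadraticMap.map_smul, polar_smul_right, h1, smul_zero, add_zero, smul_eq_mul, ← hc,
      div_mul_cancel₀ _ hQv₂]
    ring
  have hP' : GoodPlane Q T (Submodule.span F {u', v}) := ⟨u', v, rfl, hu'v, hv, hQv, b, by
    rw [hu', map_add, map_smul, hu, hv₂]; abel⟩
  obtain ⟨hP'n, hP'd, hP'i⟩ := good_props hQ h2 hP'
  have hperp : ∀ x ∈ Submodule.span F {u', v}, ∀ y ∈ W', polar Q x y = 0 := fun x hx y hy => by
    obtain ⟨a, a', rfl⟩ := Submodule.mem_span_pair.1 hx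
    rw [hu', polar_add_left, polar_smul_left, polar_smul_left, polar_add_left, polar_smul_left, hPW u huP y hy, hPW v hvP y hy,
      polar_comm Q v₂ y, hWR y (Submodule.mem_sup_right hy) v₂ hv₂R]
    simp
  obtain ⟨g1, -, g3⟩ := ndq_sup hP'n hW'n hperp
  refine ⟨Submodule.span F {u', v} ⊔ W', sup_le ?_ (le_sup_right.trans hWH), inv_sup hP'i hW'i, g1, by omega, ?_⟩
  · rw [Submodule.span_le, Set.insert_subset_iff, Set.singleton_subset_iff]
    exact ⟨hu' ▸ H.add_mem (hWH (Submodule.mem_sup_left huP)) (H.smul_mem _ (hRH hv₂R)), hWH (Submodule.mem_sup_left hvP)⟩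
  rw [plus_sup hQ hP'n hW'n (a := 1) hP'd hW'd hperp]
  by_cases hs : s ↔ PlusOn Q W'
  · rw [if_pos hs] at hτ
    have hpl : PlusOn Q (Submodule.span F {u', v}) := by
      have hu0 : u' ≠ 0 := fun h => zero_ne_one (α := F) (by rw [← hu'v, h, polar_zero_left])
      refine ⟨Submodule.span F {u'}, Submodule.span_mono (by simp), fun w hw => ?_, by rw [finrank_span_singleton hu0, hP'd]⟩
      obtain ⟨a, rfl⟩ := Submodule.mem_span_singleton.1 hw
      rw [QuadraticMap.map_smul, hQu', hτ, smul_zero]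
    tauto
  · rw [if_neg hs] at hτ
    have hnp : ¬ PlusOn Q (Submodule.span F {u', v}) := by
      rintro ⟨L, hL, hLs, hLd⟩
      obtain ⟨w, hw, hw0⟩ := Submodule.exists_mem_ne_zero_of_ne_bot (p := L) fun h => by
        rw [h, finrank_bot, hP'd] at hLd; omega
      obtain ⟨a, a', rfl⟩ := Submodule.mem_span_pair.1 (hL hw)
      have h0 := hLs _ hw
      rw [q_comb, hQu', hu'v, hτ] at h0
      by_cases ha : a = 0
      · subst ha
        have : a' * a' * Q v = 0 := by linear_combination h0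
        rw [mul_self_eq_zero.1 ((mul_eq_zero.1 this).resolve_right hQv), zero_smul, zero_smul, add_zero] at hw0
        exact hw0 rfl
      · refine hζ (a' * Q v / a) ?_
        field_simp at h0 ⊢
        linear_combination h0
    tauto

variable (e : ∀ v, Q (T v) = Q v) (hxx : ∀ v, T (T v) = v)
include e hxx

/-- Decomposition. -/
lemma exists_decomp {U : Submodule F V} (hUi : Inv T U) (hU : NDQ Q U) :
    ∃ (G H : Submodule F V) (g h : ℕ), QuadSum Q T G g ∧ SoftSum Q T H h ∧ (∀ x ∈ G, ∀ y ∈ H, polar Q x y = 0) ∧ G ⊔ H = U := by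
  suffices key : ∀ (k : ℕ) (U : Submodule F V), Inv T U → NDQ Q U → finrank F U = k →
      ∃ (G H : Submodule F V) (g h : ℕ), QuadSum Q T G g ∧ SoftSum Q T H h ∧ (∀ x ∈ G, ∀ y ∈ H, polar Q x y = 0) ∧ G ⊔ H = U
    from key _ U hUi hU rfl
  intro k
  induction k using Nat.strong_induction_on with
  | _ k ih =>
    intro U hUi hU hk
    rcases Nat.eq_zero_or_pos k with rfl | hk0
    · exact ⟨⊥, ⊥, 0, 0, .zero, .zero, fun x hx y _ => by rw [(Submodule.mem_bot F).1 hx]; simp,
        by rw [Submodule.finrank_eq_zero.1 hk]; simp⟩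
    haveI : CharP F 2 := CharTwo.of_one_ne_zero_of_two_eq_zero one_ne_zero h2
    have hI := quad_isom (hQ := hQ) e
    have hneg : ∀ w : V, -w = w := fun w => by
      rw [neg_eq_iff_add_eq_zero, ← two_smul F, h2, zero_smul]
    have hdiag : ∀ w : V, polar Q w w = 0 := fun w => by rw [polar_diag, h2, zero_mul]
    obtain ⟨N, hN⟩ : ∃ N : Module.End F V, N = T - 1 := ⟨_, rfl⟩
    have hNa : ∀ w, N w = T w - w := fun w => by rw [hN]; rfl
    have hTN : ∀ w, T w = w + N w := fun w => by rw [hNa]; abel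
    have hTNN : ∀ w, T (N w) = N w := fun w => by
      rw [hNa, map_sub, hxx, ← hneg (w - T w), neg_sub]
    have hadj : ∀ a w, polar Q (N a) w = polar Q a (N w) := fun a w => by
      rw [hNa, hNa, polar_sub_left, polar_sub_right]
      congr 1
      have h := hI.pres (T a) w
      rw [hxx, quadSF_B, quadSF_B] at h
      exact h.symm
    have hQN : ∀ w, Q (N w) = polar Q (N w) w := fun w => by
      rw [hNa, q_sub, e, polar_sub_left, hdiag, sub_zero]
      linear_combination (Q w - polar Q (T w) w) * h2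
    have hNi : Inv N U := fun w hw => by rw [hNa]; exact U.sub_mem (hUi w hw) hw
    have hattach : ∀ X : Submodule F V, X ≤ U → NDQ Q X → Inv T X → 0 < finrank F X →
        (GoodPlane Q T X ∨ (finrank F X = 4 ∧ PlusOn Q X)) →
        ∃ (G H : Submodule F V) (g h : ℕ), QuadSum Q T G g ∧ SoftSum Q T H h ∧ (∀ x ∈ G, ∀ y ∈ H, polar Q x y = 0) ∧
          G ⊔ H = U := by
      intro X hXU hX hXi hXpos hor
      obtain ⟨Y, hYU, hY, hp, hs, hd, hYe⟩ := ndq_compl hQ hU hX hXU
      have hYi : Inv T Y := fun w hw => by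
        rw [hYe] at hw ⊢
        exact ⟨hI.inv_perp hXi w hw.1, hUi w hw.2⟩
      obtain ⟨G, H, g, h, hG, hH, hGH, hY'⟩ := ih (finrank F Y) (by omega) Y hYi hY rfl
      have hGY : G ≤ Y := hY' ▸ le_sup_left
      have hHY : H ≤ Y := hY' ▸ le_sup_right
      rcases hor with hgood | ⟨hd4, hpl⟩
      · refine ⟨G, X ⊔ H, g, h + 1, hG, .step hgood hH fun x hx y hy => hp x hx y (hHY hy), fun x hx y hy => ?_, ?_⟩
        · obtain ⟨a, ha, b, hb, rfl⟩ := Submodule.mem_sup.1 hy
          rw [polar_add_right, polar_comm Q x a, hp a ha x (hGY hx), hGH x hx b hb, add_zero]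
        · rw [← hs, ← hY', sup_left_comm]
      · refine ⟨X ⊔ G, H, g + 1, h, .step hXi hX hd4 hpl hG fun x hx y hy => hp x hx y (hGY hy), hH, fun x hx y hy => ?_, ?_⟩
        · obtain ⟨a, ha, b, hb, rfl⟩ := Submodule.mem_sup.1 hx
          rw [polar_add_left, hp a ha y (hHY hy), hGH b hb y hy, add_zero]
        · rw [← hs, ← hY', sup_assoc]
    have hgood : ∀ u v : V, u ∈ U → v ∈ U → polar Q u v = 1 → T v = v → Q v ≠ 0 → (∃ b : F, T u = u + b • v) →
        ∃ (G H : Submodule F V) (g h : ℕ), QuadSum Q T G g ∧ SoftSum Q T H h ∧ (∀ x ∈ G, ∀ y ∈ H, polar Q x y = 0) ∧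
          G ⊔ H = U := by
      intro u v hu hv h1 h3 h4 h5
      obtain ⟨a1, a2, a3⟩ := good_props hQ h2 (P := Submodule.span F {u, v}) ⟨u, v, rfl, h1, h3, h4, h5⟩
      exact hattach _ (Submodule.span_le.2 (Set.insert_subset hu (Set.singleton_subset_iff.2 hv))) a1 a3 (by omega)
        (Or.inl ⟨u, v, rfl, h1, h3, h4, h5⟩)
    by_cases hβ : ∃ u ∈ U, Q (N u) ≠ 0
    · obtain ⟨u, hu, hu0⟩ := hβ
      refine hgood u ((Q (N u))⁻¹ • N u) hu (U.smul_mem _ (hNi u hu)) ?_ (by rw [map_smul, hTNN])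
        ?_ ⟨Q (N u), by rw [smul_smul, mul_inv_cancel₀ hu0, one_smul, hTN]⟩
      · rw [polar_smul_right, polar_comm Q u, ← hQN, smul_eq_mul, inv_mul_cancel₀ hu0]
      · rw [QuadraticMap.map_smul, smul_eq_mul]
        exact mul_ne_zero (mul_ne_zero (inv_ne_zero hu0) (inv_ne_zero hu0)) hu0
    push Not at hβ
    by_cases hN0 : ∀ u ∈ U, N u = 0
    · obtain ⟨v, hv, hv0⟩ := exists_ne_zero_in hU (by omega)
      obtain ⟨w, hw, hvw⟩ : ∃ w ∈ U, polar Q v w ≠ 0 := by
        by_contra h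
        push Not at h
        exact hv0 (by rw [hU v hv h, map_zero])
      refine hgood ((polar Q v w)⁻¹ • w) v (U.smul_mem _ hw) hv ?_ (by rw [hTN, hN0 v hv, add_zero]) hv0
        ⟨0, by rw [zero_smul, add_zero, hTN, hN0 _ (U.smul_mem _ hw), add_zero]⟩
      rw [polar_smul_left, polar_comm Q w v, smul_eq_mul, inv_mul_cancel₀ hvw]
    push Not at hN0
    obtain ⟨u, hu, hu0⟩ := hN0
    obtain ⟨w, hw, huw⟩ : ∃ w ∈ U, polar Q (N u) w ≠ 0 := by
      by_contra h
      push Not at h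
      exact hu0 (hU _ (hNi u hu) h)
    have hz : ∀ x ∈ U, polar Q (N x) x = 0 := fun x hx => by rw [← hQN]; exact hβ x hx
    have hNN : ∀ a b, polar Q (N a) (N b) = 0 := fun a b => by
      rw [hadj, hNa (N b), hTNN, sub_self, polar_zero_right]
    have key : ∀ a b c c' : F, (∀ x ∈ Submodule.span F {u, w, N u, N w},
        polar Q (a • u + b • w + c • N u + c' • N w) x = 0) → a = 0 ∧ b = 0 ∧ c = 0 ∧ c' = 0 := by
      intro a b c c' h
      have e1 := h (N u) (Submodule.subset_span (by simp))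
      have e2 := h (N w) (Submodule.subset_span (by simp))
      have e3 := h u (Submodule.subset_span (by simp))
      have e4 := h w (Submodule.subset_span (by simp))
      have f1 : polar Q u (N u) = 0 := by rw [polar_comm]; exact hz u hu
      have f2 : polar Q w (N w) = 0 := by rw [polar_comm]; exact hz w hw
      have f3 : polar Q w (N u) = polar Q (N u) w := polar_comm Q _ _
      have f4 : polar Q u (N w) = polar Q (N u) w := (hadj u w).symm
      have f5 : polar Q (N w) u = polar Q (N u) w := by rw [polar_comm, f4]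
      simp only [polar_add_left, polar_smul_left, hNN, f1, f2, f3, f4, f5, hdiag, hz u hu, hz w hw, smul_eq_mul, mul_zero,
        add_zero, zero_add] at e1 e2 e3 e4
      have hb : b = 0 := (mul_eq_zero.1 e1).resolve_right huw
      have ha : a = 0 := (mul_eq_zero.1 e2).resolve_right huw
      subst hb ha
      simp only [zero_mul, zero_add, add_zero] at e3 e4
      exact ⟨rfl, rfl, (mul_eq_zero.1 e4).resolve_right huw, (mul_eq_zero.1 e3).resolve_right huw⟩
    obtain ⟨f, hf⟩ : ∃ f : Fin 4 → V, f = ![u, w, N u, N w] := ⟨_, rfl⟩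
    have hrange : Submodule.span F (Set.range f) = Submodule.span F {u, w, N u, N w} := by
      rw [hf]; congr 1; ext x; simp [Matrix.range_cons, Matrix.range_empty]; tauto
    have hli : LinearIndependent F f := Fintype.linearIndependent_iff.2 fun g hg => by
      rw [hf] at hg
      simp only [Fin.sum_univ_four, Matrix.cons_val_zero, Matrix.cons_val_one, Matrix.cons_val] at hg
      obtain ⟨a, b, c, c'⟩ := key (g 0) (g 1) (g 2) (g 3) fun x _ => by rw [hg, polar_zero_left]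
      intro k; fin_cases k <;> assumption
    have hd4 : finrank F (Submodule.span F {u, w, N u, N w}) = 4 := by
      rw [← hrange, finrank_span_eq_card hli, Fintype.card_fin]
    refine hattach _ ?_ ?_ ?_ (by omega) (Or.inr ⟨hd4, ?_⟩)
    · rw [Submodule.span_le]
      rintro x (rfl | rfl | rfl | rfl)
      exacts [hu, hw, hNi _ hu, hNi _ hw]
    · intro x hx hx0
      rw [← hrange, Submodule.mem_span_range_iff_exists_fun] at hx
      obtain ⟨g, rfl⟩ := hx
      rw [hf] at hx0 ⊢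
      simp only [Fin.sum_univ_four, Matrix.cons_val_zero, Matrix.cons_val_one, Matrix.cons_val] at hx0 ⊢
      obtain ⟨a, b, c, c'⟩ := key _ _ _ _ hx0
      rw [a, b, c, c']; simp
    · intro x hx
      refine (Submodule.span_le.2 ?_ : Submodule.span F {u, w, N u, N w} ≤ (Submodule.span F {u, w, N u, N w}).comap T) hx
      rintro y (rfl | rfl | rfl | rfl) <;> show T _ ∈ Submodule.span F _
      · rw [hTN]; exact add_mem (Submodule.subset_span (by simp)) (Submodule.subset_span (by simp))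
      · rw [hTN]; exact add_mem (Submodule.subset_span (by simp)) (Submodule.subset_span (by simp))
      · rw [hTNN]; exact Submodule.subset_span (by simp)
      · rw [hTNN]; exact Submodule.subset_span (by simp)
    · have hli2 : LinearIndependent F ![N u, N w] := LinearIndependent.pair_iff.2 fun a b hab => by
        obtain ⟨-, -, h1, h3⟩ := key 0 0 a b fun x _ => by rw [zero_smul, zero_smul, zero_add, zero_add, hab, polar_zero_left]
        exact ⟨h1, h3⟩
      refine ⟨Submodule.span F {N u, N w}, Submodule.span_mono (by intro x hx; simp at hx ⊢; tauto), fun x hx => ?_, ?_⟩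
      · obtain ⟨a, b, rfl⟩ := Submodule.mem_span_pair.1 hx
        rw [q_comb, hβ u hu, hβ w hw, hNN]
        ring
      · rw [hd4]
        have h6 := finrank_span_eq_card hli2
        rw [Matrix.range_cons, Matrix.range_cons, Matrix.range_empty, Set.union_empty, Set.singleton_union, Fintype.card_fin] at h6
        omega

/-- Involutions fix subspaces of the type of the space. -/
lemma fix_two_type {d r : ℕ} (hV : finrank F V = 2 * d) {pl : Prop} (hpl : PlusOn Q ⊤ ↔ pl) {W₀ : Submodule F V}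
    (hW₀ : NDQ Q W₀) (hm : finrank F W₀ = 2 * r) (hr1 : 1 ≤ r) (hrd : r < d)
    (hcond : (pl ∧ PlusOn Q W₀ ∧ (Odd d ∨ Even r)) ∨ (¬ pl ∧ ¬ PlusOn Q W₀ ∧ (Even d ∨ Odd r))) :
    ∃ W : Submodule F V, IsoQ Q W W₀ ∧ Inv T W := by
  obtain ⟨G, H, g, h, hG, hH, hGH, hs⟩ := exists_decomp hQ h2 e hxx (U := ⊤) (fun _ _ => trivial)
    fun u _ hz => hQ.1 u fun v => hz v trivial
  obtain ⟨hGn, hGd, -, hGp⟩ := quad_props hQ h2 hG
  obtain ⟨hHn, hHd, hHi⟩ := soft_props hQ h2 hH
  obtain ⟨-, -, hdim⟩ := ndq_sup hGn hHn hGH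
  rw [hs, finrank_top, hV, hGd, hHd] at hdim
  have hHp : PlusOn Q H ↔ pl := by
    have := plus_sup hQ hGn hHn (a := 2 * g) (by omega) hHd hGH
    rw [hs, hpl] at this
    tauto
  have hh : ¬ pl → 0 < h := fun hp => Nat.pos_of_ne_zero fun h0 => hp (hHp.1 (by
    rw [show H = ⊥ from Submodule.finrank_eq_zero.1 (by omega)]; exact plus_bot))
  obtain ⟨g', h', hg', hh', hsum, htype⟩ : ∃ g' h', g' ≤ g ∧ h' ≤ h ∧ 2 * g' + h' = r ∧
      ((h' = 0 ∧ PlusOn Q W₀) ∨ (0 < h' ∧ h' < h) ∨ (h' = h ∧ (pl ↔ PlusOn Q W₀))) := by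
    simp only [Nat.odd_iff, Nat.even_iff] at hcond
    rcases hcond with ⟨hp, hs', hc⟩ | ⟨hp, hs', hc⟩
    · refine ⟨min g (r / 2), r - 2 * min g (r / 2), min_le_left _ _, by omega, by omega, ?_⟩
      by_cases h0 : r - 2 * min g (r / 2) = 0
      · exact Or.inl ⟨h0, hs'⟩
      by_cases h1 : r - 2 * min g (r / 2) = h
      · exact Or.inr (Or.inr ⟨h1, iff_of_true hp hs'⟩)
      · exact Or.inr (Or.inl ⟨by omega, by omega⟩)
    · have := hh hp
      refine ⟨min g ((r - 1) / 2), r - 2 * min g ((r - 1) / 2), min_le_left _ _, by omega, by omega, ?_⟩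
      by_cases h1 : r - 2 * min g ((r - 1) / 2) = h
      · exact Or.inr (Or.inr ⟨h1, iff_of_false hp hs'⟩)
      · exact Or.inr (Or.inl ⟨by omega, by omega⟩)
  obtain ⟨G', hG'le, hG'⟩ := quad_sub hG g' hg'
  obtain ⟨hG'n, hG'd, hG'i, hG'p⟩ := quad_props hQ h2 hG'
  obtain ⟨W, hWH, hWi, hW, hWd, hWp⟩ : ∃ W : Submodule F V, W ≤ H ∧ Inv T W ∧ NDQ Q W ∧ finrank F W = 2 * h' ∧
      (PlusOn Q W ↔ PlusOn Q W₀) := by
    rcases htype with ⟨h0, hp⟩ | ⟨h1, h3⟩ | ⟨h1, hp⟩
    · exact ⟨⊥, bot_le, fun w hw => by simp_all, ndq_bot, by simp [h0], iff_of_true plus_bot hp⟩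
    · exact soft_flex hQ h2 hH h1 h3 _
    · exact ⟨H, le_rfl, hHi, hHn, h1 ▸ hHd, hHp.trans hp⟩
  have hperp : ∀ x ∈ G', ∀ y ∈ W, polar Q x y = 0 := fun x hx y hy => hGH x (hG'le hx) y (hWH hy)
  obtain ⟨a1, -, a3⟩ := ndq_sup hG'n hW hperp
  refine ⟨G' ⊔ W, isoQ_of_type (a := r) a1 hW₀ (by omega) hm ?_, inv_sup hG'i hWi⟩
  rw [plus_sup hQ hG'n hW (a := 2 * g') (by omega) hWd hperp]
  tauto

end char2

end Cfsg.Agent.Elusive
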