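import Cfsg.Agent.Lib.Elusive.NdWitness
import Cfsg.Agent.Lib.Elusive.NdPPart
import Cfsg.Agent.Lib.Elusive.NdTwo

/-!
The orthogonal families on non-degenerate subspaces.
-/

set_option autoImplicit false
set_option linter.all false
set_option maxHeartbeats 1600000

namespace Cfsg.Agent.Elusive

open Module QuadraticMap

section translate
variable {F : Type*} [Field F] {ι : Type} [Fintype ι] [DecidableEq ι] {Q : QuadraticForm F (ι → F)}

lemma ndq_iff_exists {W : Submodule F (ι → F)} : (∀ u ∈ W, u ≠ 0 → ∃ v ∈ W, polar Q u v ≠ 0) ↔ NDQ Q W := by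
  constructor
  · intro h u hu hz
    by_contra h0
    obtain ⟨v, hv, hv0⟩ := h u hu h0
    exact hv0 (hz v hv)
  · intro h u hu h0
    by_contra hc
    push Not at hc
    exact h0 (h u hu hc)

lemma ndq_iff_geo {W : Submodule F (ι → F)} : Cfsg.Geo.IsNondegenerateOn (polar (⇑Q)) W ↔ NDQ Q W := by
  rw [← ndq_iff_exists]
  refine ⟨fun h u hu h0 => (h u hu h0).2, fun h u hu h0 => ⟨?_, h u hu h0⟩⟩
  obtain ⟨v, hv, hv0⟩ := h u hu h0
  exact ⟨v, hv, by rwa [polar_comm]⟩

lemma plus_iff_geo {W : Submodule F (ι → F)} : Cfsg.Geo.IsPlusTypeOn (⇑Q) W ↔ PlusOn Q W := Iff.rfl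

lemma ndFix_congr {W₀ : Submodule F (ι → F)} {S : Submodule F (ι → F) → Prop} (hS : ∀ W, S W ↔ IsoQ Q W W₀) (r : ℕ) :
    (∀ x : GL ι F, x ∈ Cfsg.Geo.omegaGL (⇑Q) →
      (∃ z : F, ((x ^ r : GL ι F) : Matrix ι ι F) = z • (1 : Matrix ι ι F)) →
      (∀ z : F, (x : Matrix ι ι F) ≠ z • (1 : Matrix ι ι F)) →
      ∃ W : Submodule F (ι → F), S W ∧ W.map (Matrix.toLin' (x : Matrix ι ι F)) ≤ W) ↔ NdFix Q W₀ r := by
  simp only [NdFix, hS]

/-- Elements of order `r` in odd dimension. -/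
lemma ndFix_congr_order {W₀ : Submodule F (ι → F)} {S : Submodule F (ι → F) → Prop} (hS : ∀ W, S W ↔ IsoQ Q W W₀)
    (hQ : (polarBilin Q).Nondegenerate) (h2 : (2 : F) ≠ 0) {d : ℕ} (hι : Fintype.card ι = 2 * d + 1) (r : ℕ) [Fact r.Prime] :
    (∀ x : GL ι F, x ∈ Cfsg.Geo.omegaGL (⇑Q) → orderOf x = r →
      ∃ W : Submodule F (ι → F), S W ∧ W.map (Matrix.toLin' (x : Matrix ι ι F)) ≤ W) ↔ NdFix Q W₀ r := by
  classical
  rw [← ndFix_congr hS r]
  have hrP : r.Prime := Fact.out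
  have hone : ∀ {x : GL ι F}, x ∈ Cfsg.Geo.omegaGL (⇑Q) → ∀ z : F,
      (x : Matrix ι ι F) = z • (1 : Matrix ι ι F) → z = 1 := fun {x} hx z hz => by
    obtain ⟨v, -, hv⟩ := exists_ne_zero_in (Q := Q) (S := (⊤ : Submodule F (ι → F))) (fun u _ hz => hQ.1 u fun w => hz w trivial)
      (by rw [finrank_top, finrank_fintype_fun_eq_card, hι]; omega)
    have h1 := mem_omega_preserves hx v
    rw [hz, map_smul, Matrix.toLin'_one, LinearMap.smul_apply, LinearMap.id_apply, QuadraticMap.map_smul, smul_eq_mul] at h1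
    have hzz : z * z = 1 := mul_right_cancel₀ hv (by rw [h1, one_mul])
    have hd' := det_omega hx
    rw [hz, Matrix.det_smul, Matrix.det_one, mul_one, hι, pow_succ, pow_mul, pow_two, hzz, one_pow, one_mul] at hd'
    exact hd'
  constructor
  · intro hall x hx ⟨z, hz⟩ hns
    refine hall x hx (orderOf_eq_prime ?_ fun h => hns 1 (by rw [h, Units.val_one, one_smul]))
    have := hone (Subgroup.pow_mem _ hx r) z hz
    rw [this, one_smul] at hz
    exact Units.ext hz
  · intro hall x hx hord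
    refine hall x hx ⟨1, by rw [← hord, pow_orderOf_eq_one, one_smul]; rfl⟩ fun z hz => ?_
    have := hone hx z hz
    rw [this, one_smul] at hz
    rw [show x = 1 from Units.ext hz, orderOf_one] at hord
    exact hrP.ne_one hord.symm

variable [Fintype F]

/-- Classes of given dimension and type. -/
lemma exists_class (hQ : (polarBilin Q).Nondegenerate) {e : ℕ} (he : 1 ≤ e) (hlt : 2 * e < Fintype.card ι) (s : Prop) :
    ∃ W₀ : Submodule F (ι → F), NDQ Q W₀ ∧ finrank F W₀ = 2 * e ∧ (PlusOn Q W₀ ↔ s) ∧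
      ∀ W : Submodule F (ι → F), (finrank F W = 2 * e ∧ NDQ Q W ∧ (PlusOn Q W ↔ s)) ↔ IsoQ Q W W₀ := by
  obtain ⟨W₀, -, hW, hd, hp⟩ := exists_typed_sub hQ (S := ⊤) (fun u _ hz => hQ.1 u fun v => hz v trivial) he
    (by rw [finrank_top, finrank_fintype_fun_eq_card]; exact hlt) s
  exact ⟨W₀, hW, hd, hp, fun W => ⟨fun ⟨a, b, c⟩ => isoQ_of_type b hW a hd (c.trans hp.symm),
    fun h => ⟨h.finrank.trans hd, h.symm.ndq hW, h.plus.trans hp⟩⟩⟩

omit [Fintype F] in
/-- Involutions in characteristic two. -/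
lemma invol_two (hQ : (polarBilin Q).Nondegenerate) (h2 : (2 : F) = 0) (hn : 0 < Fintype.card ι) {x : GL ι F}
    (hx : x ∈ Cfsg.Geo.omegaGL (⇑Q)) (hz : ∃ z : F, ((x ^ 2 : GL ι F) : Matrix ι ι F) = z • (1 : Matrix ι ι F)) :
    ∀ v, Matrix.toLin' x.1 (Matrix.toLin' x.1 v) = v := by
  haveI : CharP F 2 := CharTwo.of_one_ne_zero_of_two_eq_zero one_ne_zero h2
  obtain ⟨z, hz⟩ := hz
  have hp := mem_omega_preserves hx
  have h1 : ∀ v, Matrix.toLin' x.1 (Matrix.toLin' x.1 v) = z • v := fun v => by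
    rw [← LinearMap.comp_apply, ← Matrix.toLin'_mul, ← Units.val_mul, ← pow_two, hz, map_smul, Matrix.toLin'_one]
    rfl
  obtain ⟨v, -, hv⟩ := exists_ne_zero_in (Q := Q) (S := (⊤ : Submodule F (ι → F))) (fun u _ hz => hQ.1 u fun w => hz w trivial)
    (by rw [finrank_top, finrank_fintype_fun_eq_card]; exact hn)
  have h3 := hp (Matrix.toLin' x.1 v)
  rw [h1, QuadraticMap.map_smul, hp, smul_eq_mul] at h3
  have hzz : z * z = 1 := mul_right_cancel₀ hv (h3.trans (one_mul _).symm)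
  have : z = 1 := by
    rcases mul_self_eq_one_iff.1 hzz with h | h
    · exact h
    · rw [h]; linear_combination -h2
  intro w
  rw [h1, this, one_smul]

end translate

section arith

lemma tau_odd {i : ℕ} (h : Odd i) (N : ℕ) : Tau i N ↔ True := iff_true_intro (Or.inl h)

lemma tau_even {i : ℕ} (h : Even i) (N : ℕ) : Tau i N ↔ Even N :=
  ⟨fun h' => h'.resolve_left (Nat.not_odd_iff_even.2 h), Or.inr⟩

lemma parity_sum {n m c : ℕ} (hc : 0 < c) (h : m % c = n % c) (hmn : m ≤ n) :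
    (Even ((n + m - 2 * (n % c)) / c) ↔ Even (n / c - m / c)) := by
  have h1 := Nat.div_add_mod n c
  have h2 := Nat.div_add_mod m c
  have h3 : (n + m - 2 * (n % c)) / c = n / c + m / c := by
    rw [show n + m - 2 * (n % c) = c * (n / c + m / c) by rw [Nat.mul_add]; omega, Nat.mul_div_cancel_left _ hc]
  rw [h3, Nat.even_add, Nat.even_sub (Nat.div_le_div_right hmn)]

variable {F : Type*} [Field F] [Fintype F]

lemma square_facts (h2 : (2 : F) ≠ 0) (d : ℕ) :
    (IsSquare (-1 : F) ↔ Fintype.card F % 4 = 1) ∧ Fintype.card F % 2 = 1 ∧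
      (IsSquare ((2 : F) ^ d) ↔ (Even d ∨ (Fintype.card F % 8 ≠ 3 ∧ Fintype.card F % 8 ≠ 5))) := by
  refine ⟨square_neg_one h2, card_ne_two h2, ?_⟩
  rw [← FiniteField.isSquare_two_iff]
  rcases Nat.even_or_odd d with ⟨u, hu⟩ | ⟨u, hu⟩
  · exact iff_of_true ⟨2 ^ u, by rw [hu, pow_add]⟩ (Or.inl ⟨u, hu⟩)
  · constructor
    · rintro ⟨s, hs⟩
      refine Or.inr ⟨s / 2 ^ u, ?_⟩
      field_simp
      rw [show d = 2 * u + 1 from hu] at hs
      linear_combination hs
    · rintro (h | h)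
      · exact absurd h (Nat.not_even_iff_odd.2 ⟨u, hu⟩)
      · exact h.pow d

variable {d : ℕ}

/-- Orthogonal families of ones, plus type. -/
lemma plus_ones_of (h2 : (2 : F) ≠ 0) (hsq : IsSquare ((-1 : F) ^ d)) :
    ∃ f : ℕ → (Fin d ⊕ Fin d → F), OFam (Orth.qPlus F d) (2 * d) f ∧ ∀ i < 2 * d, Orth.qPlus F d (f i) = 1 := by
  obtain ⟨σ, -⟩ : ∃ σ : Fin d ⊕ Fin d ≃ Fin (2 * d), True :=
    ⟨finSumFinEquiv.trans (finCongr (two_mul d).symm), trivial⟩
  obtain ⟨e, he⟩ : ∃ e : ℕ → (Fin d ⊕ Fin d → F), ∀ i : Fin (2 * d), e i = Orth.plusFrame F d (σ.symm i) :=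
    ⟨fun i => if h : i < 2 * d then Orth.plusFrame F d (σ.symm ⟨i, h⟩) else 0, fun i => by simp [i.2]⟩
  have hne : ∀ k, Orth.qPlus F d (Orth.plusFrame F d k) ≠ 0 := by
    rintro (k | k)
    · rw [(Orth.plusFrame_val d k).1]; exact one_ne_zero
    · rw [(Orth.plusFrame_val d k).2]; exact neg_ne_zero.2 one_ne_zero
  have hfam : OFam (Orth.qPlus F d) (2 * d) e := by
    refine ⟨fun i hi j hj hij => ?_, fun i hi => by rw [he ⟨i, hi⟩]; exact hne _⟩
    rw [he ⟨i, hi⟩, he ⟨j, hj⟩]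
    exact Orth.plusFrame_orth d _ _ fun h => hij (congrArg Fin.val (σ.symm.injective h))
  obtain ⟨f, hf, hf1, -⟩ := exists_ones h2 (2 * d) e hfam (by
    rw [← Fin.prod_univ_eq_prod_range (fun i => Orth.qPlus F d (e i))]
    simp only [he]
    rw [Equiv.prod_comp σ.symm (fun k => Orth.qPlus F d (Orth.plusFrame F d k)), Orth.plusFrame_prod]
    exact hsq)
  exact ⟨f, hf, hf1⟩

end arith

section plus
variable {F : Type*} [Field F] [Fintype F] {p : ℕ} [Fact p.Prime] [CharP F p] {d m r i c : ℕ} [Fact r.Prime]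

lemma plus_top (hd : 1 ≤ d) : PlusOn (Orth.qPlus F d) ⊤ ↔ True :=
  haveI : Fact (Nat.Prime 2) := ⟨Nat.prime_two⟩
  plus_top_iff (plus_data (r := 2) hd)

lemma minus_top (hd : 1 ≤ d) {a b : F} (hab : ∀ x y : F, x ^ 2 + a * x * y + b * y ^ 2 = 0 → x = 0 ∧ y = 0) :
    PlusOn (Orth.qMinus F (d - 1) a b) ⊤ ↔ False :=
  haveI : Fact (Nat.Prime 2) := ⟨Nat.prime_two⟩
  plus_top_iff (minus_data (r := 2) hd hab)

lemma char_two_of (hp : p = 2) : (2 : F) = 0 := by
  subst hp
  exact_mod_cast CharP.cast_eq_zero F 2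

lemma card_two (hp : p = 2) : Fintype.card F % 2 = 0 := by
  subst hp
  obtain ⟨n, -, hn⟩ := FiniteField.card F 2
  rw [hn, Nat.pow_mod]
  simp

/-- Even dimension, the plus form, subspaces of even dimension. -/
theorem plus_even (hd : 4 ≤ d) (hm : 2 ≤ m) (hme : Even m) (hmd : m < d) {W₀ : Submodule F (Fin d ⊕ Fin d → F)}
    (hW₀ : NDQ (Orth.qPlus F d) W₀) (hd0 : finrank F W₀ = m)
    (hi : i = orderOf (Fintype.card F : ZMod r)) (hc : c = if Even i then i else 2 * i)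
    (hdvd : r ∣ Nat.card {W : Submodule F (Fin d ⊕ Fin d → F) // IsoQ (Orth.qPlus F d) W W₀}) :
    (PlusOn (Orth.qPlus F d) W₀ → (r = 2 ∨ r ≠ p) → (NdFix (Orth.qPlus F d) W₀ r ↔
      ((r = 2 ∧ ((2 * d) % 4 = 2 ∨ m % 4 = 0 ∨ Fintype.card F % 4 = 1)) ∨
       (r ≠ p ∧ 2 < r ∧ Odd i ∧ c ≤ m ∧ m % c ≤ (2 * d) % c) ∨
       (r ≠ p ∧ 2 < r ∧ Even i ∧
         (((2 * d) % c = 0 ∧ (Odd ((2 * d) / i) ∨ (m % c = 0 ∧ Even (m / i)))) ∨
          (i ≤ m ∧ ((m % c < (2 * d) % c ∧ 0 < m % c) ∨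
                    ((2 * d) % c = m % c ∧ 0 < m % c ∧ Even ((2 * d + m - 2 * ((2 * d) % c)) / i)) ∨
                    (0 < (2 * d) % c ∧ m % c = 0 ∧ Even (m / i))))))))) ∧
    (¬ PlusOn (Orth.qPlus F d) W₀ → (NdFix (Orth.qPlus F d) W₀ r ↔
      ((r = 2 ∧ p ≠ 2 ∧ ((Even d ∧ Fintype.card F % 4 = 3 ∧ m % 4 = 2) ∨ (Odd d ∧ Fintype.card F % 8 ≠ 1))) ∨
       (r ≠ p ∧ 2 < r ∧ Odd i ∧ c ≤ m ∧ 0 < m % c ∧ m % c < (2 * d) % c) ∨
       (r ≠ p ∧ 2 < r ∧ Even i ∧
         (((2 * d) % c = 0 ∧ (Odd ((2 * d) / i) ∨ (m % c = 0 ∧ Odd (m / i)))) ∨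
          (i ≤ m ∧ ((0 < m % c ∧ m % c < (2 * d) % c) ∨
                    (0 < m % c ∧ m % c = (2 * d) % c ∧ Odd ((2 * d + m - 2 * ((2 * d) % c)) / i)) ∨
                    (m % c = 0 ∧ 0 < (2 * d) % c ∧ Odd (m / i))))))))) := by
  classical
  have hQ := Orth.qPlus_nondeg (F := F) d
  have hι : Fintype.card (Fin d ⊕ Fin d) = 2 * d := by simp; omega
  have htop := plus_top (F := F) (d := d) (by omega)
  have hm4 : Even (m / 2) ↔ m % 4 = 0 := by rw [Nat.even_iff] at hme ⊢; omega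
  -- the generic criterion
  have hmain : 2 < r → r ≠ p → (NdFix (Orth.qPlus F d) W₀ r ↔ _) := fun h3 hrp =>
    ndFix_even (plus_data (by omega)) p hrp (by omega) hi hc hW₀ hd0 (by omega) (by omega) hdvd
  have htwo : p ≠ 2 → (NdFix (Orth.qPlus F d) W₀ 2 ↔ _) := fun hp2 =>
    ndFix_two_even hQ (two_ne p hp2) hι (by omega) htop (fun h => plus_ones_of (two_ne p hp2) (by
      rcases h.1 trivial with h | ⟨u, hu⟩
      · exact h.pow d
      · exact ⟨(-1) ^ u, by rw [hu, pow_add]⟩)) hW₀ hd0 (by omega) (by omega)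
  have hr3 : r = 2 ∨ 2 < r := by have := (Fact.out : r.Prime).two_le; omega
  have hpos : r ≠ p → 0 < i := fun hrp => hi ▸ orderOf_card_pos (fun h => hrp (by
    rw [CharP.cast_eq_zero_iff F p] at h
    exact ((Nat.prime_dvd_prime_iff_eq Fact.out Fact.out).1 h).symm))
  refine ⟨fun hs hor => ?_, fun hs => ?_⟩
  · rcases hr3 with rfl | h3
    · have hno : ∀ {P : Prop}, ¬ (2 < 2 ∧ P) := fun h => lt_irrefl _ h.1
      by_cases hp : p = 2
      · subst hp
        have hq := card_two (F := F) (p := 2) rfl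
        have h20 := char_two_of (F := F) (p := 2) rfl
        simp only [hno, and_false, or_false, ne_eq, not_true, false_and, true_and]
        constructor
        · intro hall
          by_contra hc'
          rw [not_or, not_or] at hc'
          refine no_fix_two (p := 2) hQ hι (by omega) hW₀ hd0 (by omega)
            (Or.inl ⟨htop.2 trivial, Nat.even_iff.2 (by omega), by rw [Nat.even_iff] at hme; omega⟩) hall
        · intro h x hx hz hns
          obtain ⟨W, hW, hWi⟩ := fix_two_type hQ h20 (mem_omega_preserves hx) (invol_two hQ h20 (by omega) hx hz)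
            (d := d) (r := m / 2) (by rw [finrank_fintype_fun_eq_card, hι]) htop hW₀
            (by rw [Nat.even_iff] at hme; omega) (by omega) (by omega)
            (Or.inl ⟨trivial, hs, by rw [Nat.odd_iff, hm4]; omega⟩)
          exact ⟨W, hW, inv_map_iff.2 hWi⟩
      · obtain ⟨f1, f2, f3⟩ := square_facts (two_ne (F := F) p hp) d
        rw [htwo hp, f1, f3, hm4]
        simp only [hno, and_false, or_false, iff_true_intro hs, true_iff, true_and, hme, Nat.even_iff]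
        omega
    · have hrp : r ≠ p := hor.resolve_left (by omega)
      rw [hmain h3 hrp]
      simp only [show ¬ r = 2 by omega, false_and, false_or, hrp, ne_eq, not_false_eq_true, h3, true_and,
        iff_true_intro hs, true_iff, iff_true]
      rcases Nat.even_or_odd i with he | ho
      · rw [if_pos he] at hc
        subst hc
        simp only [tau_even he, Nat.not_odd_iff_even.2 he, false_and, false_or, he, true_and, Nat.not_even_iff_odd]
        constructor
        · rintro (⟨h1, h2⟩ | ⟨h1, ⟨h2, h4⟩ | ⟨h2, h4⟩ | ⟨h2, h4, h5⟩⟩)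
          · exact Or.inl ⟨h1, Or.inl h2⟩
          · exact Or.inr ⟨h1, Or.inl ⟨h4, h2⟩⟩
          · rcases Nat.eq_zero_or_pos (2 * d % c) with h0 | h0
            · exact Or.inl ⟨h0, Or.inr ⟨h2, h4⟩⟩
            · exact Or.inr ⟨h1, Or.inr (Or.inr ⟨h0, h2, h4⟩)⟩
          · exact Or.inr ⟨h1, Or.inr (Or.inl ⟨h2.symm, by omega, (parity_sum (hpos hrp) h2 (by omega)).2 h5⟩)⟩
        · rintro (⟨h1, h2 | ⟨h2, h4⟩⟩ | ⟨h1, ⟨h2, h4⟩ | ⟨h2, h4, h5⟩ | ⟨h2, h4, h5⟩⟩)
          · exact Or.inl ⟨h1, h2⟩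
          · exact Or.inr ⟨Nat.le_of_dvd (by omega) (Nat.dvd_of_mod_eq_zero h2), Or.inr (Or.inl ⟨h2, h4⟩)⟩
          · exact Or.inr ⟨h1, Or.inl ⟨h4, h2⟩⟩
          · exact Or.inr ⟨h1, Or.inr (Or.inr ⟨h2.symm, by omega,
              (parity_sum (Nat.pos_of_ne_zero fun h => by subst h; simp at h4; omega) h2.symm (by omega)).1 h5⟩)⟩
          · exact Or.inr ⟨h1, Or.inr (Or.inl ⟨h4, h5⟩)⟩
      · simp only [tau_odd ho, Nat.not_even_iff_odd.2 ho, false_and, or_false, ho, true_and, not_true, and_false, false_or, and_true]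
        omega
  · rcases hr3 with rfl | h3
    · have hno : ∀ {P : Prop}, ¬ (2 < 2 ∧ P) := fun h => lt_irrefl _ h.1
      by_cases hp : p = 2
      · subst hp
        simp only [hno, and_false, or_false, ne_eq, not_true, false_and]
        exact iff_false_intro (no_fix_minus_in_plus (p := 2) hQ hι (by omega) (htop.2 trivial) hW₀ hd0 hme hs)
      · obtain ⟨f1, f2, f3⟩ := square_facts (two_ne (F := F) p hp) d
        rw [htwo hp, f1, f3, hm4]
        simp only [hno, and_false, or_false, iff_false_intro hs, false_iff, true_iff, ne_eq, hp, not_false_eq_true, true_and, hme,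
          Nat.even_iff, Nat.odd_iff]
        rw [Nat.even_iff] at hme
        omega
    · by_cases hrp : r = p
      · subst hrp
        simp only [show ¬ r = 2 by omega, false_and, false_or, ne_eq, not_true, or_false]
        exact iff_false_intro (no_fix_minus_in_plus (p := r) hQ hι (by omega) (htop.2 trivial) hW₀ hd0 hme hs)
      rw [hmain h3 hrp]
      simp only [show ¬ r = 2 by omega, false_and, false_or, hrp, ne_eq, not_false_eq_true, h3, true_and,
        iff_false_intro hs, false_iff, iff_false, iff_true]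
      rcases Nat.even_or_odd i with he | ho
      · rw [if_pos he] at hc
        subst hc
        simp only [tau_even he, Nat.not_odd_iff_even.2 he, false_and, false_or, he, true_and, Nat.not_even_iff_odd, not_true]
        constructor
        · rintro (⟨h1, h2⟩ | ⟨h1, h2 | ⟨h2, h4⟩ | ⟨h2, h4, h5⟩⟩)
          · exact Or.inl ⟨h1, Or.inl h2⟩
          · exact Or.inr ⟨h1, Or.inl h2⟩
          · rcases Nat.eq_zero_or_pos (2 * d % c) with h0 | h0
            · exact Or.inl ⟨h0, Or.inr ⟨h2, h4⟩⟩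
            · exact Or.inr ⟨h1, Or.inr (Or.inr ⟨h2, h0, h4⟩)⟩
          · exact Or.inr ⟨h1, Or.inr (Or.inl ⟨by omega, h2,
              by rw [← Nat.not_even_iff_odd, parity_sum (hpos hrp) h2 (by omega), Nat.not_even_iff_odd]; exact h5⟩)⟩
        · rintro (⟨h1, h2 | ⟨h2, h4⟩⟩ | ⟨h1, h2 | ⟨h2, h4, h5⟩ | ⟨h2, h4, h5⟩⟩)
          · exact Or.inl ⟨h1, h2⟩
          · exact Or.inr ⟨Nat.le_of_dvd (by omega) (Nat.dvd_of_mod_eq_zero h2), Or.inr (Or.inl ⟨h2, h4⟩)⟩
          · exact Or.inr ⟨h1, Or.inl h2⟩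
          · refine Or.inr ⟨h1, Or.inr (Or.inr ⟨h4, by omega, ?_⟩)⟩
            rw [← Nat.not_even_iff_odd, parity_sum (Nat.pos_of_ne_zero fun h => by subst h; simp at h4; omega) h4 (by omega),
              Nat.not_even_iff_odd] at h5
            exact h5
          · exact Or.inr ⟨h1, Or.inr (Or.inl ⟨h2, h5⟩)⟩
      · simp only [tau_odd ho, Nat.not_even_iff_odd.2 ho, false_and, or_false, ho, true_and, not_true, and_false, false_or, and_true]

end plus

end Cfsg.Agent.Elusive
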