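import Cfsg.Agent.Lib.Elusive.NdFamilies

/-!
The minus and odd-dimensional families and odd-dimensional subspaces.
-/

set_option autoImplicit false
set_option linter.all false
set_option maxHeartbeats 1600000

namespace Cfsg.Agent.Elusive

open Module QuadraticMap

variable {F : Type*} [Field F] [Fintype F] {p : ℕ} [Fact p.Prime] [CharP F p] {d m r i c : ℕ} [Fact r.Prime]

/-- Orthogonal families of ones, minus type. -/
lemma minus_ones_of {a b : F} (hab : ∀ x y : F, x ^ 2 + a * x * y + b * y ^ 2 = 0 → x = 0 ∧ y = 0) (h2 : (2 : F) ≠ 0)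
    (hd : 1 ≤ d) (hns : ¬ IsSquare (-1 : F)) (hdo : Odd d) :
    ∃ f : ℕ → ((Fin (d - 1) ⊕ Fin (d - 1)) ⊕ Fin 2 → F), OFam (Orth.qMinus F (d - 1) a b) (2 * d) f ∧
      ∀ i < 2 * d, Orth.qMinus F (d - 1) a b (f i) = 1 := by
  have hQ := Orth.qMinus_nondeg (F := F) (a := a) (b := b) hab (d - 1)
  have hι : Fintype.card ((Fin (d - 1) ⊕ Fin (d - 1)) ⊕ Fin 2) = 2 * d := by simp; omega
  obtain ⟨e, hfam, -⟩ := exists_ofam h2 (SForm.nd_top (quadSF hQ)) (2 * d)
    (by rw [finrank_top, finrank_fintype_fun_eq_card, hι])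
  have hsq : IsSquare (∏ i ∈ Finset.range (2 * d), Orth.qMinus F (d - 1) a b (e i)) := by
    by_contra hsq
    obtain ⟨W, hW, hWd, -⟩ := ts_of_square h2 d e hfam (by rw [hdo.neg_one_pow]; exact square_mul_nonsquares h2 hns hsq)
    have := (LBQuad.singular_bound (Orth.qBin_nondeg hab) (fun w hw => LBQuad.qBin_eq_zero hab hw) (d - 1)).2 W hW
    omega
  obtain ⟨f, hf, hf1, -⟩ := exists_ones h2 (2 * d) e hfam hsq
  exact ⟨f, hf, hf1⟩

omit [Fintype F] in
lemma order_pos [Fintype F] (hrp : r ≠ p) (hi : i = orderOf (Fintype.card F : ZMod r)) : 0 < i :=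
  hi ▸ orderOf_card_pos (fun h => hrp (by
    rw [CharP.cast_eq_zero_iff F p] at h
    exact ((Nat.prime_dvd_prime_iff_eq Fact.out Fact.out).1 h).symm))

lemma two_le_prime (r : ℕ) [Fact r.Prime] : r = 2 ∨ 2 < r := by
  have := (Fact.out : r.Prime).two_le; omega

lemma odd_char (hodd : Odd (Fintype.card F)) : p ≠ 2 := fun h => by
  have := card_two (F := F) h
  rw [Nat.odd_iff] at hodd
  omega

/-- Subspaces of odd dimension, both even-dimensional forms. -/
theorem even_parabolic (hodd : Odd (Fintype.card F)) {ι : Type} [Fintype ι] [DecidableEq ι] {Q : QuadraticForm F (ι → F)}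
    {pl : Prop} {ε : ZMod r} (D : EvenData Q r d pl ε)
    (hones : (pl ↔ (IsSquare (-1 : F) ∨ Even d)) → ∃ f : ℕ → ι → F, OFam Q (2 * d) f ∧ ∀ i < 2 * d, Q (f i) = 1)
    (hd : 4 ≤ d) (hm : Odd m) (hmd : m < d) {W₀ : Submodule F (ι → F)} (hW₀ : NDQ Q W₀) (hd0 : finrank F W₀ = m)
    (hi : i = orderOf (Fintype.card F : ZMod r)) (hc : c = if Even i then i else 2 * i)
    (hdvd : r ∣ Nat.card {W : Submodule F (ι → F) // IsoQ Q W W₀}) :
    NdFix Q W₀ r ↔
      ((r = 2 ∧ ¬ ((pl ↔ (Fintype.card F % 4 = 1 ∨ Even d)) ∧ (Even d ∨ (Fintype.card F % 8 ≠ 3 ∧ Fintype.card F % 8 ≠ 5)))) ∨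
       (r ≠ p ∧ 2 < r ∧ (((2 * d) % c = 0 ∧ ¬ (Tau i ((2 * d) / c) ↔ pl)) ∨
          (c ≤ m ∧ 0 < m % c ∧ m % c < (2 * d) % c)))) := by
  have hp := odd_char (F := F) (p := p) hodd
  have hm2 := Nat.odd_iff.1 hm
  rcases two_le_prime r with rfl | h3
  · obtain ⟨f1, f2, f3⟩ := square_facts (two_ne (F := F) p hp) d
    rw [ndFix_two_even D.nondeg (two_ne p hp) D.card (by omega) (plus_top_iff D) hones hW₀ hd0 (by omega) (by omega), f1, f3]
    simp [Nat.not_even_iff_odd.2 hm]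
  · by_cases hrp : r = p
    · subst hrp
      refine iff_of_false (no_fix_parabolic (p := r) D.nondeg hp D.card (by omega) hW₀ hd0 hm (by omega)) ?_
      rintro (⟨h, -⟩ | ⟨h, -⟩)
      · omega
      · exact h rfl
    have hi0 := order_pos (F := F) hrp hi
    have hce : c % 2 = 0 := by rw [hc]; split_ifs with h <;> [exact Nat.even_iff.1 h; omega]
    have h1 : m % c % 2 = 1 := by rw [Nat.mod_mod_of_dvd _ (Nat.dvd_of_mod_eq_zero hce)]; exact hm2
    have h2 : 2 * d % c % 2 = 0 := by rw [Nat.mod_mod_of_dvd _ (Nat.dvd_of_mod_eq_zero hce)]; omega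
    rw [ndFix_even D p hrp (by omega) hi hc hW₀ hd0 (by omega) (by omega) hdvd]
    constructor
    · rintro (h | ⟨h, h' | ⟨h', -⟩ | ⟨h', -⟩⟩)
      · exact Or.inr ⟨hrp, h3, Or.inl h⟩
      · exact Or.inr ⟨hrp, h3, Or.inr ⟨h, h'⟩⟩
      · omega
      · omega
    · rintro (⟨h, -⟩ | ⟨-, -, h | ⟨h, h'⟩⟩)
      · omega
      · exact Or.inl h
      · exact Or.inr ⟨h, Or.inl h'⟩

/-- The minus form, subspaces of minus type. -/
theorem minus_elliptic (hd : 4 ≤ d) (hm : 2 ≤ m) (hme : Even m) (hmn : m + 2 ≤ 2 * d) {a b : F}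
    (hab : ∀ x y : F, x ^ 2 + a * x * y + b * y ^ 2 = 0 → x = 0 ∧ y = 0)
    {W₀ : Submodule F ((Fin (d - 1) ⊕ Fin (d - 1)) ⊕ Fin 2 → F)} (hW₀ : NDQ (Orth.qMinus F (d - 1) a b) W₀)
    (hd0 : finrank F W₀ = m) (hs : ¬ PlusOn (Orth.qMinus F (d - 1) a b) W₀) (hor : r = 2 ∨ r ≠ p)
    (hi : i = orderOf (Fintype.card F : ZMod r)) (hc : c = if Even i then i else 2 * i)
    (hdvd : r ∣ Nat.card {W : Submodule F ((Fin (d - 1) ⊕ Fin (d - 1)) ⊕ Fin 2 → F) // IsoQ (Orth.qMinus F (d - 1) a b) W W₀}) :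
    NdFix (Orth.qMinus F (d - 1) a b) W₀ r ↔
    ((r = 2 ∧ p = 2 ∧ (Even d ∨ m % 4 = 2)) ∨
     (r = 2 ∧ p ≠ 2 ∧ (Even d ∨ Fintype.card F % 8 ≠ 7 ∨ m % 4 = 2)) ∨
     (r ≠ p ∧ 2 < r ∧ Odd i ∧ ((2 * d) % c = 0 ∨ (c ≤ m ∧ 0 < m % c ∧ m % c ≤ (2 * d) % c))) ∨
     (r ≠ p ∧ 2 < r ∧ Even i ∧
       (((2 * d) % c = 0 ∧ (Even ((2 * d) / i) ∨ (m % c = 0 ∧ Odd (m / i)))) ∨
        (0 < (2 * d) % c ∧ i ≤ m ∧ ((0 < m % c ∧ m % c < (2 * d) % c) ∨ (m % c = 0 ∧ Odd (m / i)) ∨
                                    (m % c = (2 * d) % c ∧ Even ((2 * d + m - 2 * ((2 * d) % c)) / i))))))) := by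
  classical
  have hQ := Orth.qMinus_nondeg (F := F) (a := a) (b := b) hab (d - 1)
  have hι : Fintype.card ((Fin (d - 1) ⊕ Fin (d - 1)) ⊕ Fin 2) = 2 * d := by simp; omega
  have htop := minus_top (F := F) (d := d) (by omega) hab
  have hm2 := Nat.even_iff.1 hme
  have hm4 : Even (m / 2) ↔ m % 4 = 0 := by rw [Nat.even_iff]; omega
  rcases two_le_prime r with rfl | h3
  · have hno : ∀ {P : Prop}, ¬ (2 < 2 ∧ P) := fun h => lt_irrefl _ h.1
    by_cases hp : p = 2
    · subst hp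
      have h20 := char_two_of (F := F) (p := 2) rfl
      simp only [hno, and_false, or_false, ne_eq, not_true, false_and, true_and]
      constructor
      · intro hall
        by_contra hcon
        rw [not_or, Nat.not_even_iff_odd] at hcon
        exact no_fix_two (p := 2) hQ hι (by omega) hW₀ hd0 (by omega) (Or.inr ⟨hcon.1, by omega, hs⟩) hall
      · intro h x hx hz hns
        obtain ⟨W, hW, hWi⟩ := fix_two_type hQ h20 (mem_omega_preserves hx) (invol_two hQ h20 (by omega) hx hz)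
          (d := d) (r := m / 2) (by rw [finrank_fintype_fun_eq_card, hι]) htop hW₀ (by omega) (by omega) (by omega)
          (Or.inr ⟨not_false, hs, by rcases h with h | h <;> [exact Or.inl h; exact Or.inr (Nat.odd_iff.2 (by omega))]⟩)
        exact ⟨W, hW, inv_map_iff.2 hWi⟩
    · have h2 := two_ne (F := F) p hp
      obtain ⟨f1, f2, f3⟩ := square_facts h2 d
      rw [ndFix_two_even hQ h2 hι (by omega) htop (fun h => by
        have := h.2
        exact minus_ones_of hab h2 (by omega) (fun h' => this (Or.inl h')) (Nat.not_even_iff_odd.1 fun h' => this (Or.inr h')))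
        hW₀ hd0 (by omega) (by omega), f1, f3, hm4]
      simp only [hno, and_false, or_false, iff_false_intro hs, false_iff, ne_eq, hp, not_false_eq_true, true_and, hme,
        false_and, false_or, Nat.even_iff]
      omega
  · have hrp : r ≠ p := hor.resolve_left (by omega)
    have hi0 := order_pos (F := F) hrp hi
    rw [ndFix_even (minus_data (by omega) hab) p hrp (by omega) hi hc hW₀ hd0 (by omega) (by omega) hdvd]
    simp only [show ¬ r = 2 by omega, false_and, false_or, hrp, ne_eq, not_false_eq_true, h3, true_and,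
      iff_false_intro hs, false_iff, iff_false, iff_true, true_iff]
    rcases Nat.even_or_odd i with he | ho
    · rw [if_pos he] at hc
      subst hc
      simp only [tau_even he, Nat.not_odd_iff_even.2 he, false_and, false_or, he, true_and, Nat.not_even_iff_odd, not_true,
        Nat.not_odd_iff_even, not_false_eq_true, iff_true]
      constructor
      · rintro (⟨h1, h2⟩ | ⟨h1, h2⟩)
        · exact Or.inl ⟨h1, Or.inl (by simpa using h2)⟩
        · rcases Nat.eq_zero_or_pos (2 * d % c) with h0 | h0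
          · refine Or.inl ⟨h0, ?_⟩
            rcases h2 with ⟨-, h⟩ | h | ⟨-, h, -⟩
            · omega
            · exact Or.inr h
            · omega
          · refine Or.inr ⟨h0, h1, h2.imp_right (Or.imp_right ?_)⟩
            rintro ⟨h, -, h5⟩
            exact ⟨h, (parity_sum hi0 h (by omega)).2 h5⟩
      · rintro (⟨h1, h2 | ⟨h2, h4⟩⟩ | ⟨h0, h1, h2⟩)
        · exact Or.inl ⟨h1, by simpa using h2⟩
        · exact Or.inr ⟨Nat.le_of_dvd (by omega) (Nat.dvd_of_mod_eq_zero h2), Or.inr (Or.inl ⟨h2, h4⟩)⟩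
        · refine Or.inr ⟨h1, h2.imp_right (Or.imp_right ?_)⟩
          rintro ⟨h, h5⟩
          exact ⟨h, h0, (parity_sum hi0 h (by omega)).1 h5⟩
    · simp only [tau_odd ho, Nat.not_even_iff_odd.2 ho, false_and, or_false, ho, true_and, not_true, and_false, false_or,
        and_true, not_false_eq_true, iff_false, iff_true]
      omega

/-- Odd dimension. -/
theorem odd_even_sub (hodd : Odd (Fintype.card F)) (hd : 3 ≤ d) (hm : 2 ≤ m) (hme : Even m) (hmn : m ≤ 2 * d)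
    {W₀ : Submodule F (Unit ⊕ (Fin d ⊕ Fin d) → F)} (hW₀ : NDQ (Orth.qOdd F d) W₀) (hd0 : finrank F W₀ = m)
    (hor : r ≠ p ∨ ¬ PlusOn (Orth.qOdd F d) W₀)
    (hi : i = orderOf (Fintype.card F : ZMod r)) (hc : c = if Even i then i else 2 * i)
    (hdvd : r ∣ Nat.card {W : Submodule F (Unit ⊕ (Fin d ⊕ Fin d) → F) // IsoQ (Orth.qOdd F d) W W₀}) :
    NdFix (Orth.qOdd F d) W₀ r ↔
      (r = 2 ∨ (r ≠ p ∧ 2 < r ∧ c ≤ m ∧ m % c < (2 * d + 1) % c ∧
        (0 < m % c ∨ (Tau i (m / c) ↔ PlusOn (Orth.qOdd F d) W₀)))) := by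
  classical
  have hp := odd_char (F := F) (p := p) hodd
  have h2 := two_ne (F := F) p hp
  have hQ := Orth.qOdd_nondeg (F := F) h2 d
  have hι : Fintype.card (Unit ⊕ (Fin d ⊕ Fin d)) = 2 * d + 1 := by simp; omega
  rcases two_le_prime r with rfl | h3
  · exact iff_of_true (ndFix_two_odd hQ h2 hι (by omega) hW₀ hd0 (by omega) hme hmn) (Or.inl rfl)
  by_cases hrp : r = p
  · subst hrp
    refine iff_of_false (no_fix_minus_in_odd (p := r) hQ hp hι (by omega) hW₀ hd0 hme (hor.resolve_left (by simp))) ?_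
    rintro (h | ⟨h, -⟩)
    · omega
    · exact h rfl
  have hi0 := order_pos (F := F) hrp hi
  rw [ndFix_odd p h2 hrp (by omega) hi hc hW₀ hd0 (by omega) (by omega) hme hdvd]
  have hce : c % 2 = 0 := by rw [hc]; split_ifs with h <;> [exact Nat.even_iff.1 h; omega]
  have hk : (2 * d + 1) % c % 2 = 1 := by rw [Nat.mod_mod_of_dvd _ (Nat.dvd_of_mod_eq_zero hce)]; omega
  constructor
  · rintro ⟨h1, ⟨h, h'⟩ | ⟨h, h'⟩⟩
    · exact Or.inr ⟨hrp, h3, h1, h', Or.inl h⟩
    · exact Or.inr ⟨hrp, h3, h1, by omega, Or.inr h'⟩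
  · rintro (h | ⟨-, -, h1, h4, h5⟩)
    · omega
    · rcases Nat.eq_zero_or_pos (m % c) with h | h
      · exact ⟨h1, Or.inr ⟨h, h5.resolve_left (by omega)⟩⟩
      · exact ⟨h1, Or.inl ⟨h, h4⟩⟩

end Cfsg.Agent.Elusive
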