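import Cfsg.Agent.Lib.Elusive.OrthTI
import Cfsg.Agent.Lib.Orthogonal.NegOne
import Cfsg.Agent.Lib.LinearBlock.GUSpK
import Mathlib.NumberTheory.LegendreSymbol.QuadraticChar.GaussSum

/-!
Involutions of orthogonal groups: orthogonal families, discriminants, spinor values, singular subspaces.
-/

set_option autoImplicit false
set_option linter.all false
set_option maxHeartbeats 1600000

namespace Cfsg.Agent.Elusive

open Module QuadraticMap

section families
variable {F : Type*} [Field F] {V : Type*} [AddCommGroup V] [Module F V] {Q : QuadraticForm F V}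

/-- An orthogonal family of anisotropic vectors. -/
def OFam (Q : QuadraticForm F V) (n : ℕ) (e : ℕ → V) : Prop :=
  (∀ i < n, ∀ j < n, i ≠ j → polar Q (e i) (e j) = 0) ∧ ∀ i < n, Q (e i) ≠ 0

lemma OFam.prod_ne {n : ℕ} {e : ℕ → V} (h : OFam Q n e) : ∏ i ∈ Finset.range n, Q (e i) ≠ 0 :=
  Finset.prod_ne_zero_iff.2 fun i hi => h.2 i (Finset.mem_range.1 hi)

lemma q_comb (x y : F) (u v : V) : Q (x • u + y • v) = x * x * Q u + y * y * Q v + x * y * polar Q u v := by
  rw [QuadraticMap.map_add Q, QuadraticMap.map_smul, QuadraticMap.map_smul, polar_smul_left, polar_smul_right]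
  simp only [smul_eq_mul]; ring

variable [Fintype F]

/-- A plane represents every scalar, with control of the discriminant. -/
lemma plane_rep (h2 : (2 : F) ≠ 0) {u v : V} (huv : polar Q u v = 0) (hu : Q u ≠ 0) (hv : Q v ≠ 0) {c : F} (hc : c ≠ 0) :
    ∃ a b : V, polar Q a b = 0 ∧ Q a = c ∧ Q b ≠ 0 ∧ Q b = Q u * Q v * c ∧
      ∀ S : Submodule F V, u ∈ S → v ∈ S → a ∈ S ∧ b ∈ S := by
  obtain ⟨x, y, hxy⟩ := Orth.exists_sum_sq h2 hu hv c
  refine ⟨x • u + y • v, (-y * Q v) • u + (x * Q u) • v, ?_, ?_, ?_, ?_, fun S h1 h2 => ⟨?_, ?_⟩⟩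
  · rw [polar_add_left, polar_add_right, polar_add_right, polar_smul_left, polar_smul_left, polar_smul_left,
      polar_smul_left, polar_smul_right, polar_smul_right, polar_smul_right, polar_smul_right, polar_diag, polar_diag,
      huv, show polar Q v u = 0 by rw [polar_comm]; exact huv]
    simp only [smul_eq_mul]; ring
  · rw [q_comb, huv, ← hxy]; ring
  · rw [q_comb, huv]
    rw [show -y * Q v * (-y * Q v) * Q u + x * Q u * (x * Q u) * Q v + -y * Q v * (x * Q u) * 0 = Q u * Q v * c by
      rw [← hxy]; ring]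
    exact mul_ne_zero (mul_ne_zero hu hv) hc
  · rw [q_comb, huv, ← hxy]; ring
  · exact S.add_mem (S.smul_mem _ h1) (S.smul_mem _ h2)
  · exact S.add_mem (S.smul_mem _ h1) (S.smul_mem _ h2)

/-- An orthogonal family with square product can be normalised. -/
lemma exists_ones (h2 : (2 : F) ≠ 0) : ∀ (n : ℕ) (e : ℕ → V), OFam Q n e → IsSquare (∏ i ∈ Finset.range n, Q (e i)) →
    ∃ f : ℕ → V, OFam Q n f ∧ (∀ i < n, Q (f i) = 1) ∧
      ∀ S : Submodule F V, (∀ i < n, e i ∈ S) → ∀ i < n, f i ∈ S := by
  intro n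
  induction n with
  | zero => intro e he _; exact ⟨e, he, fun i hi => absurd hi (Nat.not_lt_zero i), fun S h => h⟩
  | succ n ih =>
    intro e he hsq
    rcases n with _ | n
    · obtain ⟨s, hs⟩ := hsq
      rw [Finset.prod_range_one] at hs
      have hs0 : s ≠ 0 := fun h => he.2 0 one_pos (by rw [hs, h, mul_zero])
      have h1 : Q (s⁻¹ • e 0) = 1 := by
        rw [QuadraticMap.map_smul, hs, smul_eq_mul]; field_simp
      refine ⟨fun _ => s⁻¹ • e 0, ⟨fun i hi j hj hij => by omega, fun i _ => by rw [h1]; exact one_ne_zero⟩,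
        fun i _ => h1, fun S hS i _ => S.smul_mem _ (hS 0 one_pos)⟩
    · obtain ⟨a, b, hab, ha, hb0, hb, hmem⟩ := plane_rep h2 (he.1 (n + 1) (by omega) n (by omega) (by omega))
        (he.2 (n + 1) (by omega)) (he.2 n (by omega)) (one_ne_zero (α := F))
      obtain ⟨e', he'⟩ : ∃ e' : ℕ → V, e' = fun i => if i = n then b else e i := ⟨_, rfl⟩
      have horth : ∀ i < n, polar Q (e i) a = 0 ∧ polar Q (e i) b = 0 := fun i hi => by
        have h := hmem (LinearMap.ker (polarBilin Q (e i))) (he.1 i (by omega) (n + 1) (by omega) (by omega))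
          (he.1 i (by omega) n (by omega) (by omega))
        exact h
      have hfam : OFam Q (n + 1) e' := by
        refine ⟨fun i hi j hj hij => ?_, fun i hi => ?_⟩
        · rw [he']; dsimp only
          split_ifs with h1 h3 h3
          · omega
          · rw [polar_comm]; exact (horth j (by omega)).2
          · exact (horth i (by omega)).2
          · exact he.1 i (by omega) j (by omega) hij
        · rw [he']; dsimp only
          split_ifs with h1
          · exact hb0
          · exact he.2 i (by omega)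
      obtain ⟨f, hf, hf1, hfS⟩ := ih e' hfam (by
        obtain ⟨s, hs⟩ := hsq
        refine ⟨s, ?_⟩
        rw [← hs, Finset.prod_range_succ, Finset.prod_range_succ, Finset.prod_range_succ, he']
        simp only [if_pos]
        rw [hb, Finset.prod_congr rfl fun i hi => by rw [if_neg (ne_of_lt (Finset.mem_range.1 hi))]]
        ring)
      have haf : ∀ i < n + 1, polar Q a (f i) = 0 := fun i hi =>
        hfS (LinearMap.ker (polarBilin Q a)) (fun j hj => by
          rw [he']; dsimp only
          split_ifs with h1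
          · exact hab
          · exact (show polar Q a (e j) = 0 by rw [polar_comm]; exact (horth j (by omega)).1)) i hi
      refine ⟨fun i => if i = n + 1 then a else f i, ⟨fun i hi j hj hij => ?_, fun i hi => ?_⟩, fun i hi => ?_,
        fun S hS i hi => ?_⟩ <;> dsimp only <;> split_ifs with h1 h3 h3
      · omega
      · exact haf j (by omega)
      · rw [polar_comm]; exact haf i (by omega)
      · exact hf.1 i (by omega) j (by omega) hij
      · rw [ha]; exact one_ne_zero
      · exact hf.2 i (by omega)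
      · exact ha
      · exact hf1 i (by omega)
      · exact (hmem S (hS _ (by omega)) (hS _ (by omega))).1
      · refine hfS S (fun j hj => ?_) i (by omega)
        rw [he']; dsimp only
        split_ifs with h3
        · exact (hmem S (hS _ (by omega)) (hS _ (by omega))).2
        · exact hS j (by omega)

/-- Half-dimensional totally singular subspaces from the discriminant. -/
lemma ts_of_square [FiniteDimensional F V] (h2 : (2 : F) ≠ 0) : ∀ (b : ℕ) (e : ℕ → V), OFam Q (2 * b) e →
    IsSquare ((-1) ^ b * ∏ i ∈ Finset.range (2 * b), Q (e i)) →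
    ∃ W : Submodule F V, (∀ w ∈ W, Q w = 0) ∧ finrank F W = b ∧
      ∀ S : Submodule F V, (∀ i < 2 * b, e i ∈ S) → W ≤ S := by
  intro b
  induction b with
  | zero =>
    intro e _ _
    exact ⟨⊥, fun w hw => by rw [(Submodule.mem_bot F).1 hw, map_zero], finrank_bot F V, fun S _ => bot_le⟩
  | succ b ih =>
    intro e he hsq
    -- a pair with opposite values
    obtain ⟨a, a', e', haa, hQ, he', hsq', ha0, hperp, hmem⟩ : ∃ a a' : V, ∃ e' : ℕ → V, polar Q a a' = 0 ∧
        Q a + Q a' = 0 ∧ OFam Q (2 * b) e' ∧ IsSquare ((-1) ^ b * ∏ i ∈ Finset.range (2 * b), Q (e' i)) ∧ Q a ≠ 0 ∧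
        (∀ i < 2 * b, polar Q a (e' i) = 0 ∧ polar Q a' (e' i) = 0) ∧
        ∀ S : Submodule F V, (∀ i < 2 * (b + 1), e i ∈ S) → a ∈ S ∧ a' ∈ S ∧ ∀ i < 2 * b, e' i ∈ S := by
      rcases b with _ | b
      · obtain ⟨s, hs⟩ := hsq
        rw [show 2 * (0 + 1) = 2 by rfl, Finset.prod_range_succ, Finset.prod_range_one] at hs
        have h00 := he.2 0 two_pos
        have h11 := he.2 1 one_lt_two
        have hs0 : s ≠ 0 := fun h => by
          rw [h, mul_zero] at hs
          simp [h00, h11] at hs
        refine ⟨(s / Q (e 0)) • e 0, e 1, e, ?_, ?_, ⟨fun i hi => absurd hi (by omega), fun i hi => absurd hi (by omega)⟩,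
          by simp, ?_, fun i hi => absurd hi (by omega),
          fun S hS => ⟨S.smul_mem _ (hS 0 (by omega)), hS 1 (by omega), fun i hi => absurd hi (by omega)⟩⟩
        · rw [polar_smul_left, he.1 0 two_pos 1 one_lt_two zero_ne_one, smul_zero]
        · rw [QuadraticMap.map_smul, smul_eq_mul]
          field_simp
          linear_combination -hs
        · rw [QuadraticMap.map_smul, smul_eq_mul]
          exact mul_ne_zero (mul_ne_zero (div_ne_zero hs0 h00) (div_ne_zero hs0 h00)) h00
      · obtain ⟨i, hi⟩ : ∃ i, i = 2 * (b + 1) := ⟨_, rfl⟩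
        rw [show 2 * (b + 1 + 1) = i + 2 by omega] at he hsq ⊢
        rw [← hi]
        obtain ⟨j, rfl⟩ : ∃ j, i = j + 1 := ⟨i - 1, by omega⟩
        obtain ⟨a, c, hac, ha, hc0, hc, hmem⟩ := plane_rep h2 (he.1 (j + 2) (by omega) (j + 1) (by omega) (by omega))
          (he.2 (j + 2) (by omega)) (he.2 (j + 1) (by omega)) (neg_ne_zero.2 (he.2 j (by omega)))
        have horth : ∀ k < j + 1, polar Q (e k) a = 0 ∧ polar Q (e k) c = 0 := fun k hk => by
          exact hmem (LinearMap.ker (polarBilin Q (e k))) (he.1 k (by omega) (j + 2) (by omega) (by omega))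
            (he.1 k (by omega) (j + 1) (by omega) (by omega))
        refine ⟨a, e j, fun k => if k = j then c else e k, by rw [polar_comm]; exact (horth j (by omega)).1,
          by rw [ha]; ring, ⟨fun k hk l hl hkl => ?_, fun k hk => ?_⟩, ?_,
          by rw [ha]; exact neg_ne_zero.2 (he.2 j (by omega)), fun k hk => ?_, fun S hS => ⟨?_, hS j (by omega), fun k hk => ?_⟩⟩
        · dsimp only
          split_ifs with h1 h3 h3
          · omega
          · rw [polar_comm]; exact (horth l (by omega)).2
          · exact (horth k (by omega)).2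
          · exact he.1 k (by omega) l (by omega) hkl
        · dsimp only
          split_ifs with h1
          · exact hc0
          · exact he.2 k (by omega)
        · obtain ⟨s, hs⟩ := hsq
          refine ⟨s, ?_⟩
          rw [← hs, Finset.prod_range_succ, Finset.prod_range_succ, Finset.prod_range_succ, Finset.prod_range_succ,
            pow_succ (-1 : F) (b + 1)]
          simp only [if_pos]
          rw [hc, Finset.prod_congr rfl fun k hk => by rw [if_neg (ne_of_lt (Finset.mem_range.1 hk))]]
          ring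
        · dsimp only
          split_ifs with h1
          · exact ⟨hac, (horth j (by omega)).2⟩
          · exact ⟨by rw [polar_comm]; exact (horth k (by omega)).1, he.1 j (by omega) k (by omega) (Ne.symm h1)⟩
        · exact (hmem S (hS _ (by omega)) (hS _ (by omega))).1
        · dsimp only
          split_ifs with h1
          · exact (hmem S (hS _ (by omega)) (hS _ (by omega))).2
          · exact hS k (by omega)
    obtain ⟨W, hW, hWd, hWS⟩ := ih e' he' hsq'
    have hWa : ∀ w ∈ W, polar Q a w = 0 ∧ polar Q a' w = 0 := fun w hw =>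
      ⟨hWS (LinearMap.ker (polarBilin Q a)) (fun i hi => (hperp i hi).1) hw,
        hWS (LinearMap.ker (polarBilin Q a')) (fun i hi => (hperp i hi).2) hw⟩
    refine ⟨Submodule.span F {a + a'} ⊔ W, fun w hw => ?_, ?_, fun S hS => ?_⟩
    · obtain ⟨u, hu, w', hw', rfl⟩ := Submodule.mem_sup.1 hw
      obtain ⟨c, rfl⟩ := Submodule.mem_span_singleton.1 hu
      rw [QuadraticMap.map_add Q, QuadraticMap.map_smul, QuadraticMap.map_add Q, haa, add_zero, hQ, hW w' hw',
        polar_smul_left, polar_add_left, (hWa w' hw').1, (hWa w' hw').2]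
      simp
    · have hne : a + a' ∉ W := fun h => by
        have := (hWa _ h).1
        rw [polar_add_right, haa, add_zero, polar_diag] at this
        exact mul_ne_zero h2 ha0 this
      have h := Submodule.finrank_sup_add_finrank_inf_eq (Submodule.span F {a + a'}) W
      rw [show Submodule.span F {a + a'} ⊓ W = ⊥ from (Submodule.disjoint_span_singleton.2 fun h => absurd h hne).symm.eq_bot,
        finrank_bot, add_zero, finrank_span_singleton (fun h0 => hne (by rw [h0]; exact W.zero_mem)), hWd] at h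
      omega
    · obtain ⟨h1, h2', h3⟩ := hmem S hS
      exact sup_le ((Submodule.span_singleton_le_iff_mem _ _).2 (S.add_mem h1 h2')) (hWS S h3)

variable [FiniteDimensional F V]

lemma OFam.indep {n : ℕ} {e : ℕ → V} (h2 : (2 : F) ≠ 0) (h : OFam Q n e) :
    LinearIndependent F (fun i : Fin n => e i) := by
  refine Fintype.linearIndependent_iff.2 fun c hc i => ?_
  have h1 := congrArg (fun x => polarBilin Q (e i) x) hc
  simp only [map_sum, map_smul, polarBilin_apply_apply, map_zero, smul_eq_mul] at h1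
  rw [Finset.sum_eq_single i (fun j _ hj => by rw [h.1 i i.2 j j.2 (fun e => hj (Fin.ext e.symm)), mul_zero])
    (fun h => absurd (Finset.mem_univ i) h), polar_diag] at h1
  exact (mul_eq_zero.1 h1).resolve_right (mul_ne_zero h2 (h.2 i i.2))

/-- A full family spans. -/
lemma OFam.span_eq {n : ℕ} {e : ℕ → V} (h2 : (2 : F) ≠ 0) (h : OFam Q n e) {S : Submodule F V}
    (hS : ∀ i < n, e i ∈ S) (hn : finrank F S = n) : Submodule.span F (Set.range fun i : Fin n => e i) = S := by
  refine Submodule.eq_of_le_of_finrank_eq (Submodule.span_le.2 (by rintro _ ⟨i, rfl⟩; exact hS i i.2)) ?_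
  rw [finrank_span_eq_card (h.indep h2), Fintype.card_fin, hn]

/-- Extending an orthogonal family. -/
lemma exists_extend {hQ : (polarBilin Q).Nondegenerate} (h2 : (2 : F) ≠ 0) {S : Submodule F V} (hS : (quadSF hQ).ND S)
    {n : ℕ} {e : ℕ → V} (he : OFam Q n e) (hmem : ∀ i < n, e i ∈ S) (hn : n < finrank F S) :
    ∃ w ∈ S, Q w ≠ 0 ∧ ∀ i < n, polar Q (e i) w = 0 := by
  let P : V →ₗ[F] V := LinearMap.id - ∑ i : Fin n, ((2 * Q (e i))⁻¹ • polarBilin Q (e i)).smulRight (e i)
  have hPo : ∀ v, ∀ i < n, polar Q (e i) (P v) = 0 := fun v i hi => by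
    show polarBilin Q (e i) (P v) = 0
    simp only [P, LinearMap.sub_apply, LinearMap.id_apply, LinearMap.sum_apply, LinearMap.smulRight_apply,
      LinearMap.smul_apply, map_sub, map_sum, map_smul, polarBilin_apply_apply, smul_eq_mul]
    rw [Finset.sum_eq_single (⟨i, hi⟩ : Fin n) (fun j _ hj => by
      rw [he.1 i hi j j.2 (fun h => hj (Fin.ext h.symm)), mul_zero]) (fun h => absurd (Finset.mem_univ _) h)]
    rw [polar_diag]
    field_simp [he.2 i hi]
    ring
  have hPS : ∀ v ∈ S, P v ∈ S ∧ v - P v ∈ Submodule.span F (Set.range fun i : Fin n => e i) := fun v hv => by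
    have h1 : v - P v ∈ Submodule.span F (Set.range fun i : Fin n => e i) := by
      simp only [P, LinearMap.sub_apply, LinearMap.id_apply, LinearMap.sum_apply, LinearMap.smulRight_apply, sub_sub_cancel]
      exact Submodule.sum_mem _ fun i _ => Submodule.smul_mem _ _ (Submodule.subset_span ⟨i, rfl⟩)
    refine ⟨?_, h1⟩
    have h3 := S.sub_mem hv ((Submodule.span_le.2 (by rintro _ ⟨i, rfl⟩; exact hmem i i.2) :
      Submodule.span F (Set.range fun i : Fin n => e i) ≤ S) h1)
    rwa [sub_sub_cancel] at h3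
  by_contra hcon
  push Not at hcon
  have hz : ∀ u ∈ S, (∀ i < n, polar Q (e i) u = 0) → Q u = 0 := fun u hu ho => by
    by_contra hq
    obtain ⟨i, hi, hne⟩ := hcon u hu hq
    exact hne (ho i hi)
  have hle : S ≤ Submodule.span F (Set.range fun i : Fin n => e i) := fun v hv => by
    obtain ⟨hu, hd⟩ := hPS v hv
    suffices P v = 0 by rwa [this, sub_zero] at hd
    refine hS _ hu fun w hw => ?_
    show polar Q (P v) w = 0
    obtain ⟨hw', hwd⟩ := hPS w hw
    have hsum : ∀ i < n, polar Q (e i) (P v + P w) = 0 := fun i hi => by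
      rw [polar_add_right, hPo v i hi, hPo w i hi, add_zero]
    have h0 : polar Q (P v) (P w) = 0 := by
      simp [polar, hz _ hu (hPo v), hz _ hw' (hPo w), hz _ (S.add_mem hu hw') hsum]
    have h1 : polar Q (P v) (w - P w) = 0 := by
      have : Submodule.span F (Set.range fun i : Fin n => e i) ≤ LinearMap.ker (polarBilin Q (P v)) :=
        Submodule.span_le.2 (by
          rintro _ ⟨i, rfl⟩
          show polar Q (P v) (e i) = 0
          rw [polar_comm]; exact hPo v i i.2)
      exact this hwd
    rw [polar_sub_right, h0, sub_zero] at h1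
    exact h1
  have := Submodule.finrank_mono hle
  rw [finrank_span_eq_card (he.indep h2), Fintype.card_fin] at this
  omega

/-- Orthogonal bases of non-degenerate subspaces. -/
lemma exists_ofam {hQ : (polarBilin Q).Nondegenerate} (h2 : (2 : F) ≠ 0) {S : Submodule F V} (hS : (quadSF hQ).ND S) :
    ∀ n ≤ finrank F S, ∃ e : ℕ → V, OFam Q n e ∧ ∀ i < n, e i ∈ S := by
  intro n
  induction n with
  | zero => exact fun _ => ⟨fun _ => 0, ⟨fun i hi => absurd hi (Nat.not_lt_zero i),
      fun i hi => absurd hi (Nat.not_lt_zero i)⟩, fun i hi => absurd hi (Nat.not_lt_zero i)⟩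
  | succ n ih =>
    intro hn
    obtain ⟨e, he, hm⟩ := ih (by omega)
    obtain ⟨w, hw, hw0, hwo⟩ := exists_extend h2 hS he hm (by omega)
    refine ⟨fun i => if i = n then w else e i, ⟨fun i hi j hj hij => ?_, fun i hi => ?_⟩, fun i hi => ?_⟩ <;>
      dsimp only <;> split_ifs with h1 h3 h3
    · omega
    · rw [polar_comm]; exact hwo j (by omega)
    · exact hwo i (by omega)
    · exact he.1 i (by omega) j (by omega) hij
    · exact hw0
    · exact he.2 i (by omega)
    · exact hw
    · exact hm i (by omega)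

end families

section spinor
variable {F : Type*} [Field F] [Fintype F] {ι : Type} [Fintype ι] [DecidableEq ι] {Q : QuadraticForm F (ι → F)}
  {χ : ↥(Cfsg.isometryGroup F (⇑Q)) →* Orth.SpinVal F}

local notation "act" g => Matrix.toLin' ((g : GL ι F) : Matrix ι ι F)

omit [Fintype F] in
lemma act_mul (g h : ↥(Cfsg.isometryGroup F (⇑Q))) (v : ι → F) :
    Matrix.toLin' (((g * h : ↥(Cfsg.isometryGroup F (⇑Q))) : GL ι F) : Matrix ι ι F) v =
      Matrix.toLin' (g : GL ι F).1 (Matrix.toLin' (h : GL ι F).1 v) := by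
  rw [Subgroup.coe_mul, Units.val_mul, Matrix.toLin'_mul, LinearMap.comp_apply]

variable (hχ : ∀ (g : ↥(Cfsg.isometryGroup F (⇑Q))) (v : ι → F), Q v ≠ 0 →
  ((g : GL ι F) : Matrix ι ι F) = Cfsg.reflectionMatrix (⇑Q) v → χ g = Orth.reflVal Q v)
include hχ

lemma exists_refl_elt {v : ι → F} (hv : Q v ≠ 0) : ∃ g : ↥(Cfsg.isometryGroup F (⇑Q)), χ g = Orth.reflVal Q v ∧
    (∀ x, polar Q x v = 0 → Matrix.toLin' (g : GL ι F).1 x = x) ∧
      ∀ x, Matrix.toLin' (g : GL ι F).1 x = x - (polar Q x v / Q v) • v := by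
  obtain ⟨g, hg, hg'⟩ := Orth.exists_reflection Q hv
  have h : ∀ x, Matrix.toLin' (g : GL ι F).1 x = x - (polar Q x v / Q v) • v := fun x => by
    rw [Matrix.toLin'_apply, ← Orth.isoEquiv_apply]; exact hg'.2 x
  exact ⟨g, hχ g v hv hg, fun x hx => by rw [h, hx, zero_div, zero_smul, sub_zero], h⟩

/-- Minus one on an orthogonal family. -/
lemma exists_sign : ∀ (n : ℕ) (e : ℕ → ι → F), OFam Q n e → ∃ g : ↥(Cfsg.isometryGroup F (⇑Q)),
    (∀ i < n, Matrix.toLin' (g : GL ι F).1 (e i) = -e i) ∧
    (∀ w, (∀ i < n, polar Q (e i) w = 0) → Matrix.toLin' (g : GL ι F).1 w = w) ∧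
    χ g = (Multiplicative.ofAdd (n : ZMod 2), Orth.sqc F (∏ i ∈ Finset.range n, Q (e i))) := by
  intro n
  induction n with
  | zero =>
    intro e _
    refine ⟨1, fun i hi => absurd hi (Nat.not_lt_zero i), fun w _ => by simp, ?_⟩
    rw [map_one, Finset.prod_range_zero, Orth.sqc_one, Nat.cast_zero]
    rfl
  | succ n ih =>
    intro e he
    have he' : OFam Q n e := ⟨fun i hi j hj => he.1 i (by omega) j (by omega), fun i hi => he.2 i (by omega)⟩
    obtain ⟨g, hg1, hg2, hg3⟩ := ih e he'
    obtain ⟨R, hR, hR1, hR2⟩ := exists_refl_elt hχ (he.2 n (by omega))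
    refine ⟨g * R, fun i hi => ?_, fun w hw => ?_, ?_⟩
    · rw [act_mul]
      rcases Nat.lt_succ_iff_lt_or_eq.1 hi with h | rfl
      · rw [hR1 _ (he.1 i hi n (by omega) (by omega)), hg1 i h]
      · rw [hR2, polar_diag, mul_div_assoc, div_self (he.2 i hi), mul_one, two_smul, map_sub, map_add,
          hg2 _ (fun j hj => he.1 j (by omega) i hi (by omega))]
        abel
    · rw [act_mul, hR1 _ (by rw [polar_comm]; exact hw n (by omega)), hg2 _ fun i hi => hw i (by omega)]
    · rw [map_mul, hg3, hR, Finset.prod_range_succ, Orth.sqc_mul he'.prod_ne (he.2 n (by omega)), Nat.cast_succ,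
        ofAdd_add]
      rfl

/-- Quarter turns on orthogonal planes. -/
lemma exists_turn (h2 : (2 : F) ≠ 0) : ∀ (n : ℕ) (u v : ℕ → ι → F),
    (∀ i < n, ∀ j < n, polar Q (u i) (v j) = 0) → (∀ i < n, ∀ j < n, i ≠ j → polar Q (u i) (u j) = 0 ∧ polar Q (v i) (v j) = 0) →
    (∀ i < n, Q (u i) ≠ 0 ∧ Q (v i) = Q (u i)) → ∃ g : ↥(Cfsg.isometryGroup F (⇑Q)),
    (∀ i < n, Matrix.toLin' (g : GL ι F).1 (u i) = v i ∧ Matrix.toLin' (g : GL ι F).1 (v i) = -u i) ∧
    (∀ w, (∀ i < n, polar Q (u i) w = 0 ∧ polar Q (v i) w = 0) → Matrix.toLin' (g : GL ι F).1 w = w) ∧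
    χ g = (1, Orth.sqc F (2 ^ n)) := by
  intro n
  induction n with
  | zero =>
    intro u v _ _ _
    refine ⟨1, fun i hi => absurd hi (Nat.not_lt_zero i), fun w _ => by simp, ?_⟩
    rw [map_one, pow_zero, Orth.sqc_one]
    rfl
  | succ n ih =>
    intro u v h1 h3 h4
    obtain ⟨g, hg1, hg2, hg3⟩ := ih u v (fun i hi j hj => h1 i (by omega) j (by omega))
      (fun i hi j hj => h3 i (by omega) j (by omega)) (fun i hi => h4 i (by omega))
    obtain ⟨hu, hv⟩ := h4 n (by omega)
    have huv := h1 n (by omega) n (by omega)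
    have hs : Q (u n + v n) = 2 * Q (u n) := by rw [QuadraticMap.map_add Q, hv, huv]; ring
    have hs0 : Q (u n + v n) ≠ 0 := hs ▸ mul_ne_zero h2 hu
    obtain ⟨A, hA, hA1, hA2⟩ := exists_refl_elt hχ hu
    obtain ⟨B, hB, hB1, hB2⟩ := exists_refl_elt hχ hs0
    have key : ∀ x, Matrix.toLin' ((g * (B * A) : ↥(Cfsg.isometryGroup F (⇑Q))) : GL ι F).1 x =
        Matrix.toLin' (g : GL ι F).1 (Matrix.toLin' (B : GL ι F).1 (Matrix.toLin' (A : GL ι F).1 x)) := fun x => by
      rw [act_mul, act_mul]
    have hgu : Matrix.toLin' (g : GL ι F).1 (u n) = u n := hg2 _ fun i hi =>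
      ⟨(h3 i (by omega) n (by omega) (by omega)).1, by rw [polar_comm]; exact h1 n (by omega) i (by omega)⟩
    have hgv : Matrix.toLin' (g : GL ι F).1 (v n) = v n := hg2 _ fun i hi =>
      ⟨h1 i (by omega) n (by omega), (h3 i (by omega) n (by omega) (by omega)).2⟩
    refine ⟨g * (B * A), fun i hi => ?_, fun w hw => ?_, ?_⟩
    · rw [key, key]
      rcases Nat.lt_succ_iff_lt_or_eq.1 hi with h | rfl
      · have e1 : polar Q (u i) (u n) = 0 := (h3 i hi n (by omega) (by omega)).1
        have e2 : polar Q (v i) (u n) = 0 := by rw [polar_comm]; exact h1 n (by omega) i hi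
        rw [hA1 _ e1, hB1 _ (by rw [polar_add_right, e1, h1 i hi n (by omega), add_zero]),
          hA1 _ e2, hB1 _ (by rw [polar_add_right, e2, (h3 i hi n (by omega) (by omega)).2, add_zero])]
        exact hg1 i h
      · have e1 : polar Q (v i) (u i) = 0 := by rw [polar_comm]; exact huv
        rw [hA1 _ e1, hA2, polar_diag, mul_div_assoc, div_self hu, mul_one, hB2, hB2, hs, polar_add_right,
          polar_add_right, polar_sub_left, polar_sub_left, polar_smul_left, polar_smul_left, huv, e1,
          polar_diag, polar_diag, hv]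
        refine ⟨?_, ?_⟩ <;>
        · simp only [smul_eq_mul, mul_zero, sub_zero, zero_add, add_zero,
            show (2 * Q (u i) - 2 * (2 * Q (u i))) / (2 * Q (u i)) = -1 by field_simp; ring,
            div_self (mul_ne_zero h2 hu), map_sub, map_smul, map_add, hgu, hgv]
          module
    · rw [key, hA1 _ (by rw [polar_comm]; exact (hw n (by omega)).1), hB1 _ (by
        rw [polar_comm, polar_add_left, (hw n (by omega)).1, (hw n (by omega)).2, add_zero]),
        hg2 _ fun i hi => hw i (by omega)]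
    · rw [map_mul, map_mul, hg3, hA, hB, Orth.reflVal, Orth.reflVal, hs, Prod.mk_mul_mk, Prod.mk_mul_mk, pow_succ,
        Orth.sqc_mul (pow_ne_zero _ h2) h2, Orth.sqc_mul h2 hu, mul_assoc (Orth.sqc F 2), Orth.sqc_mul_self hu, mul_one]
      exact Prod.ext (show (1 : Multiplicative (ZMod 2)) * (Multiplicative.ofAdd 1 * Multiplicative.ofAdd 1) = 1 by decide) rfl

end spinor

end Cfsg.Agent.Elusive
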