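import Cfsg.Agent.Lib.Elusive.OrthKer
import Cfsg.Agent.Lib.Elusive.OrthInvol

/-!
Non-degenerate subspaces of quadratic spaces and their types.
-/

set_option autoImplicit false
set_option linter.all false
set_option maxHeartbeats 1600000

namespace Cfsg.Agent.Elusive

open Module QuadraticMap

variable {F : Type*} [Field F] {V : Type*} [AddCommGroup V] [Module F V] {Q : QuadraticForm F V}

/-- The polar form is non-degenerate on a subspace. -/
def NDQ (Q : QuadraticForm F V) (W : Submodule F V) : Prop := ∀ u ∈ W, (∀ v ∈ W, polar Q u v = 0) → u = 0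

/-- Plus type. -/
def PlusOn (Q : QuadraticForm F V) (W : Submodule F V) : Prop :=
  ∃ U : Submodule F V, U ≤ W ∧ (∀ u ∈ U, Q u = 0) ∧ 2 * finrank F U = finrank F W

lemma polar_zero_of_sing {W : Submodule F V} (h : ∀ u ∈ W, Q u = 0) {a b : V} (ha : a ∈ W) (hb : b ∈ W) :
    polar Q a b = 0 := by simp [polar, h a ha, h b hb, h (a + b) (W.add_mem ha hb)]

/-- Restricting the form. -/
lemma restrict_nondeg {W : Submodule F V} (h : NDQ Q W) : (polarBilin (Q.comp W.subtype)).Nondegenerate :=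
  Orth.nondeg_of fun u hu => Subtype.ext (h u.1 u.2 fun v hv => by
    have := hu ⟨v, hv⟩
    simpa [polar] using this)

lemma polar_comp (W : Submodule F V) (u v : W) : polar (Q.comp W.subtype) u v = polar Q u.1 v.1 := by simp [polar]

lemma ndq_bot : NDQ Q (⊥ : Submodule F V) := fun u hu _ => (Submodule.mem_bot F).1 hu

lemma plus_bot [FiniteDimensional F V] : PlusOn Q (⊥ : Submodule F V) :=
  ⟨⊥, le_rfl, fun u hu => by rw [(Submodule.mem_bot F).1 hu, map_zero], by simp⟩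

section sums
variable [FiniteDimensional F V]

/-- Orthogonal sums. -/
lemma ndq_sup {X Y : Submodule F V} (hX : NDQ Q X) (hY : NDQ Q Y) (h : ∀ x ∈ X, ∀ y ∈ Y, polar Q x y = 0) :
    NDQ Q (X ⊔ Y) ∧ X ⊓ Y = ⊥ ∧ finrank F (X ⊔ Y : Submodule F V) = finrank F X + finrank F Y := by
  have hbot : X ⊓ Y = ⊥ := eq_bot_iff.2 fun u hu => (Submodule.mem_bot F).2 (hY u hu.2 fun v hv => h u hu.1 v hv)
  refine ⟨fun u hu hz => ?_, hbot, ?_⟩
  · obtain ⟨a, ha, b, hb, rfl⟩ := Submodule.mem_sup.1 hu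
    have e1 : a = 0 := hX a ha fun v hv => by
      have := hz v (Submodule.mem_sup_left hv)
      rwa [polar_add_left, polar_comm Q b v, h v hv b hb, add_zero] at this
    have e2 : b = 0 := hY b hb fun v hv => by
      have := hz v (Submodule.mem_sup_right hv)
      rwa [polar_add_left, h a ha v hv, zero_add] at this
    rw [e1, e2, add_zero]
  · have := Submodule.finrank_sup_add_finrank_inf_eq X Y
    rwa [hbot, finrank_bot, add_zero] at this

/-- Totally singular orthogonal pieces. -/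
lemma sing_sup {A B : Submodule F V} (hA : ∀ u ∈ A, Q u = 0) (hB : ∀ u ∈ B, Q u = 0)
    (h : ∀ x ∈ A, ∀ y ∈ B, polar Q x y = 0) : ∀ u ∈ A ⊔ B, Q u = 0 := fun u hu => by
  obtain ⟨a, ha, b, hb, rfl⟩ := Submodule.mem_sup.1 hu
  rw [QuadraticMap.map_add Q, hA a ha, hB b hb, h a ha b hb]
  simp

/-- The orthogonal inside a non-degenerate subspace. -/
lemma finrank_perp_in (hQ : (polarBilin Q).Nondegenerate) {U Y : Submodule F V} (hU : NDQ Q U) (hY : Y ≤ U) :
    finrank F Y + finrank F ((quadSF hQ).perp Y ⊓ U : Submodule F V) = finrank F U :=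
  (quadSF hQ).finrank_perp_inf hU hY

lemma mem_perp_q {hQ : (polarBilin Q).Nondegenerate} {X : Submodule F V} {v : V} :
    v ∈ (quadSF hQ).perp X ↔ ∀ x ∈ X, polar Q x v = 0 := Iff.rfl

/-- The complement inside a non-degenerate subspace. -/
lemma ndq_compl (hQ : (polarBilin Q).Nondegenerate) {S X : Submodule F V} (hS : NDQ Q S) (hX : NDQ Q X) (hXS : X ≤ S) :
    ∃ Y : Submodule F V, Y ≤ S ∧ NDQ Q Y ∧ (∀ x ∈ X, ∀ y ∈ Y, polar Q x y = 0) ∧ X ⊔ Y = S ∧
      finrank F X + finrank F Y = finrank F S ∧ Y = (quadSF hQ).perp X ⊓ S := by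
  have hd := finrank_perp_in hQ hS hXS
  have hperp : ∀ x ∈ X, ∀ y ∈ ((quadSF hQ).perp X ⊓ S), polar Q x y = 0 := fun x hx y hy => hy.1 x hx
  have hbot : X ⊓ ((quadSF hQ).perp X ⊓ S) = ⊥ :=
    eq_bot_iff.2 fun u hu => (Submodule.mem_bot F).2 (hX u hu.1 fun v hv => by rw [polar_comm]; exact hu.2.1 v hv)
  have hsum : X ⊔ ((quadSF hQ).perp X ⊓ S) = S := by
    refine Submodule.eq_of_le_of_finrank_eq (sup_le hXS inf_le_right) ?_
    have := Submodule.finrank_sup_add_finrank_inf_eq X ((quadSF hQ).perp X ⊓ S)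
    rw [hbot, finrank_bot, add_zero] at this
    rw [this, hd]
  refine ⟨_, inf_le_right, fun u hu hz => hS u hu.2 fun v hv => ?_, hperp, hsum, hd, rfl⟩
  rw [← hsum] at hv
  obtain ⟨a, ha, b, hb, rfl⟩ := Submodule.mem_sup.1 hv
  rw [polar_add_right, polar_comm Q u a, hperp a ha u hu, hz b hb, add_zero]

/-- A core shows that the type is minus. -/
lemma not_plus_of_core (hQ : (polarBilin Q).Nondegenerate) {X A P : Submodule F V} (hX : NDQ Q X) (hAX : A ≤ X) (hPX : P ≤ X)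
    (hA : ∀ u ∈ A, Q u = 0) (hP : ∀ u ∈ P, Q u = 0 → u = 0) (hP2 : finrank F P = 2) (hAd : 2 * finrank F A + 2 = finrank F X)
    (hAP : ∀ a ∈ A, ∀ p ∈ P, polar Q a p = 0) : ¬ PlusOn Q X := by
  rintro ⟨L, hLX, hL, hLd⟩
  have hA' : A ⊔ P ≤ (quadSF hQ).perp A ⊓ X :=
    sup_le (fun u hu => ⟨fun a ha => polar_zero_of_sing hA ha hu, hAX hu⟩) fun u hu => ⟨fun a ha => hAP a ha u hu, hPX hu⟩
  have hbot : A ⊓ P = ⊥ := eq_bot_iff.2 fun u hu => (Submodule.mem_bot F).2 (hP u hu.2 (hA u hu.1))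
  have hsum := Submodule.finrank_sup_add_finrank_inf_eq A P
  rw [hbot, finrank_bot, add_zero, hP2] at hsum
  have hdA := finrank_perp_in hQ hX hAX
  have heq : A ⊔ P = (quadSF hQ).perp A ⊓ X := Submodule.eq_of_le_of_finrank_eq hA' (by omega)
  have hLL : (quadSF hQ).perp L ⊓ X = L := by
    have hd := finrank_perp_in hQ hX hLX
    exact (Submodule.eq_of_le_of_finrank_eq (show L ≤ (quadSF hQ).perp L ⊓ X from
      fun u hu => ⟨fun a ha => polar_zero_of_sing hL ha hu, hLX hu⟩) (by omega)).symm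
  have hle : (quadSF hQ).perp (L ⊔ A) ⊓ X ≤ L ⊓ A := fun y hy => by
    have hyL : y ∈ L := hLL.le ⟨(quadSF hQ).perp_anti le_sup_left hy.1, hy.2⟩
    refine ⟨hyL, ?_⟩
    obtain ⟨a, ha, p, hp, rfl⟩ := Submodule.mem_sup.1 (heq.ge ⟨(quadSF hQ).perp_anti le_sup_right hy.1, hy.2⟩)
    have h0 := hL _ hyL
    rw [QuadraticMap.map_add Q, hA a ha, hAP a ha p hp, zero_add, add_zero] at h0
    rw [hP p hp h0, add_zero]
    exact ha
  have h1 := finrank_perp_in hQ hX (sup_le hLX hAX)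
  have h3 := Submodule.finrank_sup_add_finrank_inf_eq L A
  have h4 := Submodule.finrank_mono hle
  omega

variable [Fintype F]

lemma exists_sing_vec {S : Submodule F V} (h : 2 < finrank F S) : ∃ e ∈ S, e ≠ 0 ∧ Q e = 0 := by
  let b := Module.finBasis F V
  obtain ⟨v, hv, hv0, hv1⟩ := exists_common_zero (F := F) (κ := Unit) (fun _ => Q.toBilin b) S (by simpa using h)
  refine ⟨v, hv, hv0, ?_⟩
  have h1 := hv1 ()
  rwa [← LinearMap.BilinMap.toQuadraticMap_apply, QuadraticMap.toQuadraticMap_toBilin] at h1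

/-- A hyperbolic plane. -/
lemma exists_hyp {S : Submodule F V} (hS : NDQ Q S) {e : V} (he : e ∈ S) (he0 : e ≠ 0) (hQe : Q e = 0) :
    ∃ f ∈ S, Q f = 0 ∧ polar Q e f = 1 := by
  obtain ⟨w, hw, hew⟩ : ∃ w ∈ S, polar Q e w ≠ 0 := by
    by_contra h
    push Not at h
    exact he0 (hS e he h)
  refine ⟨(polar Q e w)⁻¹ • w + (-((polar Q e w)⁻¹ * (polar Q e w)⁻¹ * Q w)) • e,
    S.add_mem (S.smul_mem _ hw) (S.smul_mem _ he), ?_, ?_⟩
  · rw [q_comb, hQe, polar_comm Q w e]
    field_simp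
    ring
  · rw [polar_add_right, polar_smul_right, polar_smul_right, polar_diag, hQe, mul_zero, smul_zero, add_zero, smul_eq_mul,
      inv_mul_cancel₀ hew]

omit [Fintype F] in
/-- Planes from pairs. -/
lemma plane_span {u w : V} (huw : polar Q u w = 1) (hd : 4 * (Q u * Q w) ≠ 1) :
    NDQ Q (Submodule.span F {u, w}) ∧ finrank F (Submodule.span F {u, w}) = 2 := by
  have key : ∀ a b : F, 2 * Q u * a + b = 0 → a + 2 * Q w * b = 0 → a = 0 ∧ b = 0 := by
    intro a b h1 h2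
    have hb : (1 - 4 * (Q u * Q w)) * b = 0 := by linear_combination h1 - 2 * Q u * h2
    have hb0 : b = 0 := (mul_eq_zero.1 hb).resolve_left (sub_ne_zero.2 (Ne.symm hd))
    subst hb0
    exact ⟨by linear_combination h2, rfl⟩
  have hwu : polar Q w u = 1 := by rw [polar_comm]; exact huw
  refine ⟨fun x hx hz => ?_, ?_⟩
  · obtain ⟨a, b, rfl⟩ := Submodule.mem_span_pair.1 hx
    have h1 := hz u (Submodule.subset_span (Or.inl rfl))
    have h2 := hz w (Submodule.subset_span (Or.inr rfl))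
    rw [polar_add_left, polar_smul_left, polar_smul_left, polar_diag, hwu, smul_eq_mul, smul_eq_mul] at h1
    rw [polar_add_left, polar_smul_left, polar_smul_left, polar_diag, huw, smul_eq_mul, smul_eq_mul] at h2
    obtain ⟨rfl, rfl⟩ := key a b (by linear_combination h1) (by linear_combination h2)
    simp
  · have hli : LinearIndependent F ![u, w] := by
      refine LinearIndependent.pair_iff.2 fun a b hab => ?_
      have h1 := congrArg (fun x => polar Q x u) hab
      have h2 := congrArg (fun x => polar Q x w) hab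
      simp only [polar_add_left, polar_smul_left, polar_diag, hwu, huw, smul_eq_mul, polar_zero_left] at h1 h2
      exact key a b (by linear_combination h1) (by linear_combination h2)
    have h6 := finrank_span_eq_card hli
    rw [Matrix.range_cons, Matrix.range_cons, Matrix.range_empty, Set.union_empty, Set.singleton_union, Fintype.card_fin] at h6
    exact h6

/-- A hyperbolic plane in a subspace. -/
lemma exists_hyp_plane {S : Submodule F V} (hS : NDQ Q S) (hd : 2 < finrank F S) :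
    ∃ H : Submodule F V, H ≤ S ∧ NDQ Q H ∧ finrank F H = 2 ∧ PlusOn Q H := by
  obtain ⟨e, he, he0, hQe⟩ := exists_sing_vec (Q := Q) hd
  obtain ⟨f, hf, hQf, hef⟩ := exists_hyp hS he he0 hQe
  obtain ⟨h1, h2⟩ := plane_span hef (by rw [hQe, zero_mul, mul_zero]; exact zero_ne_one)
  refine ⟨_, Submodule.span_le.2 (Set.insert_subset he (Set.singleton_subset_iff.2 hf)), h1, h2,
    Submodule.span F {e}, Submodule.span_mono (by simp), fun u hu => ?_, by rw [finrank_span_singleton he0, h2]⟩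
  obtain ⟨c, rfl⟩ := Submodule.mem_span_singleton.1 hu
  rw [QuadraticMap.map_smul, hQe, smul_zero]

/-- An anisotropic plane in a subspace. -/
lemma exists_aniso_plane (hQ : (polarBilin Q).Nondegenerate) {S : Submodule F V} (hS : NDQ Q S) (hd : 2 < finrank F S) :
    ∃ P : Submodule F V, P ≤ S ∧ NDQ Q P ∧ finrank F P = 2 ∧ ∀ u ∈ P, Q u = 0 → u = 0 := by
  obtain ⟨e, he, he0, hQe⟩ := exists_sing_vec (Q := Q) hd
  obtain ⟨f, hf, hQf, hef⟩ := exists_hyp hS he he0 hQe
  obtain ⟨hH, hH2⟩ := plane_span hef (by rw [hQe, zero_mul, mul_zero]; exact zero_ne_one)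
  obtain ⟨Y, hYS, hY, hperp, -, hYd, -⟩ := ndq_compl hQ hS hH
    (Submodule.span_le.2 (Set.insert_subset he (Set.singleton_subset_iff.2 hf)))
  rw [hH2] at hYd
  obtain ⟨v, hv, hv0⟩ : ∃ v ∈ Y, Q v ≠ 0 := by
    by_contra h
    push Not at h
    have : Y = ⊥ := eq_bot_iff.2 fun y hy => (Submodule.mem_bot F).2 (hY y hy fun z hz => polar_zero_of_sing h hy hz)
    rw [this, finrank_bot] at hYd
    omega
  obtain ⟨ζ, hζ⟩ : ∃ ζ : F, ∀ t : F, t ^ 2 + t + ζ ≠ 0 := by
    let g : F → F := fun t => -(t ^ 2 + t)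
    have hns : ¬ Function.Surjective g := fun hs => by
      have hinj := (Finite.injective_iff_surjective).2 hs
      have : g 0 = g (-1) := by simp [g]
      exact zero_ne_one (α := F) (by linear_combination -(hinj this))
    obtain ⟨z, hz⟩ := not_forall.1 hns
    exact ⟨z, fun t ht => hz ⟨t, by show -(t ^ 2 + t) = z; linear_combination -ht⟩⟩
  obtain ⟨a, s, has⟩ : ∃ a s : F, a * (1 - a) + s ^ 2 * Q v = ζ := by
    by_cases h2 : (2 : F) = 0
    · haveI : CharP F 2 := CharTwo.of_one_ne_zero_of_two_eq_zero one_ne_zero h2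
      obtain ⟨s, hs⟩ := FiniteField.isSquare_of_char_two (ringChar.eq F 2) (ζ / Q v)
      exact ⟨0, s, by rw [zero_mul, zero_add, pow_two, ← hs, div_mul_cancel₀ _ hv0]⟩
    · obtain ⟨x, y, hxy⟩ := Orth.exists_sum_sq h2 (neg_ne_zero.2 one_ne_zero) hv0 (ζ - 1 / 4)
      refine ⟨x + 1 / 2, y, ?_⟩
      rw [show (4 : F) = 2 * 2 by norm_num] at hxy
      field_simp at hxy ⊢
      linear_combination hxy
  obtain ⟨w, hw⟩ : ∃ w, w = a • e + (1 - a) • f + s • v := ⟨_, rfl⟩
  have hev : polar Q e v = 0 := hperp e (Submodule.subset_span (Or.inl rfl)) v hv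
  have hfv : polar Q f v = 0 := hperp f (Submodule.subset_span (Or.inr rfl)) v hv
  have hu : Q (e + f) = 1 := by rw [QuadraticMap.map_add Q, hQe, hQf, hef]; ring
  have huw : polar Q (e + f) w = 1 := by
    rw [hw, polar_add_left, polar_add_right, polar_add_right, polar_add_right, polar_add_right, polar_smul_right,
      polar_smul_right, polar_smul_right, polar_smul_right, polar_smul_right, polar_smul_right, polar_diag, polar_diag,
      polar_comm Q f e, hQe, hQf, hef, hev, hfv]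
    simp
  have hQw : Q w = ζ := by
    rw [hw, QuadraticMap.map_add Q, q_comb, hQe, hQf, hef, QuadraticMap.map_smul, polar_add_left, polar_smul_left,
      polar_smul_left, polar_smul_right, polar_smul_right, hev, hfv, ← has]
    simp only [smul_eq_mul]
    ring
  have h4 : 4 * (Q (e + f) * Q w) ≠ 1 := by
    intro h4
    rw [hu, hQw, one_mul] at h4
    have h2 : (2 : F) ≠ 0 := fun h0 => zero_ne_one (α := F) (by linear_combination h4 - 2 * ζ * h0)
    refine hζ (-1 / 2) ?_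
    field_simp
    linear_combination h4
  obtain ⟨h1, h2'⟩ := plane_span huw h4
  refine ⟨_, Submodule.span_le.2 (Set.insert_subset (S.add_mem he hf) (Set.singleton_subset_iff.2 (by
    rw [hw]; exact S.add_mem (S.add_mem (S.smul_mem _ he) (S.smul_mem _ hf)) (S.smul_mem _ (hYS hv))))), h1, h2', ?_⟩
  intro x hx h0
  obtain ⟨c, b, rfl⟩ := Submodule.mem_span_pair.1 hx
  rw [q_comb, hu, hQw, huw] at h0
  by_cases hb : b = 0
  · subst hb
    have : c * c = 0 := by linear_combination h0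
    rw [mul_self_eq_zero.1 this, zero_smul, zero_smul, add_zero]
  · refine absurd ?_ (hζ (c / b))
    field_simp
    linear_combination h0

/-- A core of a space of minus type. -/
lemma exists_core_minus (hQ : (polarBilin Q).Nondegenerate) {X : Submodule F V} (hX : NDQ Q X) {e : ℕ}
    (hd : finrank F X = 2 * e) (hnp : ¬ PlusOn Q X) :
    ∃ A P : Submodule F V, A ≤ X ∧ P ≤ X ∧ (∀ u ∈ A, Q u = 0) ∧ finrank F A + 1 = e ∧ NDQ Q P ∧ finrank F P = 2 ∧
      (∀ u ∈ P, Q u = 0 → u = 0) ∧ ∀ a ∈ A, ∀ p ∈ P, polar Q a p = 0 := by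
  induction e generalizing X with
  | zero =>
    exfalso
    rw [Submodule.finrank_eq_zero.1 hd] at hnp
    exact hnp plus_bot
  | succ e ih =>
    rcases Nat.eq_zero_or_pos e with rfl | he
    · refine ⟨⊥, X, bot_le, le_rfl, fun u hu => by rw [(Submodule.mem_bot F).1 hu, map_zero], by simp, hX, hd,
        fun u hu h0 => ?_, fun a ha p _ => by rw [(Submodule.mem_bot F).1 ha]; simp⟩
      by_contra hu0
      refine hnp ⟨Submodule.span F {u}, (Submodule.span_singleton_le_iff_mem _ _).2 hu, fun w hw => ?_,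
        by rw [finrank_span_singleton hu0, hd]⟩
      obtain ⟨c, rfl⟩ := Submodule.mem_span_singleton.1 hw
      rw [QuadraticMap.map_smul, h0, smul_zero]
    obtain ⟨H, hHX, hH, hH2, L, hLH, hL, hLd⟩ := exists_hyp_plane hX (by omega)
    obtain ⟨Y, hYX, hY, hperp, hsum, hYd, -⟩ := ndq_compl hQ hX hH hHX
    obtain ⟨A, P, hA, hP, hAs, hAd, hPn, hP2, hPa, hAP⟩ := ih hY (by omega) (fun ⟨U, hU, hUs, hUd⟩ => hnp ⟨L ⊔ U,
      sup_le (hLH.trans hHX) (hU.trans hYX), sing_sup hL hUs fun x hx y hy => hperp x (hLH hx) y (hU hy), by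
        have h := Submodule.finrank_sup_add_finrank_inf_eq L U
        rw [show L ⊓ U = ⊥ from eq_bot_iff.2 fun u hu => (Submodule.mem_bot F).2
          (hH u (hLH hu.1) fun v hv => by rw [polar_comm]; exact hperp v hv u (hU hu.2)), finrank_bot, add_zero] at h
        omega⟩)
    refine ⟨L ⊔ A, P, sup_le (hLH.trans hHX) (hA.trans hYX), hP.trans hYX,
      sing_sup hL hAs fun x hx y hy => hperp x (hLH hx) y (hA hy), ?_, hPn, hP2, hPa, fun a ha p hp => ?_⟩
    · have h := Submodule.finrank_sup_add_finrank_inf_eq L A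
      rw [show L ⊓ A = ⊥ from eq_bot_iff.2 fun u hu => (Submodule.mem_bot F).2
        (hH u (hLH hu.1) fun v hv => by rw [polar_comm]; exact hperp v hv u (hA hu.2)), finrank_bot, add_zero] at h
      omega
    · obtain ⟨l, hl, a', ha', rfl⟩ := Submodule.mem_sup.1 ha
      rw [polar_add_left, hperp l (hLH hl) p (hP hp), hAP a' ha' p hp, add_zero]

/-- Two anisotropic planes make a space of plus type. -/
lemma plus_of_two_aniso {P P' : Submodule F V} (hP : NDQ Q P) (hP' : NDQ Q P') (h2 : finrank F P = 2) (h2' : finrank F P' = 2)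
    (hPa : ∀ u ∈ P, Q u = 0 → u = 0) (hPa' : ∀ u ∈ P', Q u = 0 → u = 0) (hperp : ∀ x ∈ P, ∀ y ∈ P', polar Q x y = 0) :
    ∃ L : Submodule F V, L ≤ P ⊔ P' ∧ (∀ u ∈ L, Q u = 0) ∧ finrank F L = 2 := by
  obtain ⟨R, hR⟩ : ∃ R : QuadraticForm F P', R = -(Q.comp P'.subtype) := ⟨_, rfl⟩
  have hRv : ∀ v, R v = -Q (v : V) := fun v => by rw [hR]; rfl
  have hRn : (polarBilin R).Nondegenerate := Orth.nondeg_of fun u hu => Subtype.ext (hP' u.1 u.2 fun v hv => by
    have h := hu ⟨v, hv⟩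
    simp only [polar, hRv, Submodule.coe_add] at h ⊢
    linear_combination -h)
  obtain ⟨ζ, hζ, g, hg⟩ := LBQuad.exists_bin (restrict_nondeg hP) h2 fun v hv => Subtype.ext (hPa v.1 v.2 hv)
  obtain ⟨ζ', hζ', g', hg'⟩ := LBQuad.exists_bin hRn h2' fun v hv => Subtype.ext (hPa' v.1 v.2 (by
    rw [hRv, neg_eq_zero] at hv; exact hv))
  obtain ⟨φ, hφ⟩ := LBEven.bin_iso hζ' hζ
  let ψ : P →ₗ[F] P' := g'.symm.toLinearMap.comp (φ.toLinearMap.comp g.toLinearMap)
  have hψ : ∀ v : P, Q (ψ v : V) = -Q (v : V) := fun v => by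
    have h1 : Q (v : V) = R (ψ v) := by
      rw [hg']
      show (Q.comp P.subtype) v = _
      rw [hg v, hφ]
      simp [ψ]
    rw [hRv] at h1
    rw [h1, neg_neg]
  let G : P →ₗ[F] V := P.subtype + P'.subtype.comp ψ
  have hG : ∀ v : P, G v = v.1 + (ψ v).1 := fun v => rfl
  have hinj : Function.Injective G := by
    rw [← LinearMap.ker_eq_bot, LinearMap.ker_eq_bot']
    intro v hv
    rw [hG] at hv
    refine Subtype.ext (hP v.1 v.2 fun w hw => ?_)
    rw [eq_neg_of_add_eq_zero_left hv, polar_neg_left, polar_comm, hperp w hw _ (ψ v).2, neg_zero]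
  refine ⟨LinearMap.range G, ?_, ?_, by rw [LinearMap.finrank_range_of_inj hinj, h2]⟩
  · rintro _ ⟨v, rfl⟩
    rw [hG]
    exact Submodule.add_mem_sup v.2 (ψ v).2
  · rintro _ ⟨v, rfl⟩
    rw [hG, QuadraticMap.map_add Q, hψ, hperp v.1 v.2 _ (ψ v).2]
    ring

/-- The type of an orthogonal sum. -/
lemma plus_sup (hQ : (polarBilin Q).Nondegenerate) {X Y : Submodule F V} (hX : NDQ Q X) (hY : NDQ Q Y) {a b : ℕ}
    (ha : finrank F X = 2 * a) (hb : finrank F Y = 2 * b) (h : ∀ x ∈ X, ∀ y ∈ Y, polar Q x y = 0) :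
    PlusOn Q (X ⊔ Y) ↔ (PlusOn Q X ↔ PlusOn Q Y) := by
  obtain ⟨hXY, hbot, hd⟩ := ndq_sup hX hY h
  have hinf : ∀ {A B : Submodule F V}, A ≤ X → B ≤ Y → finrank F (A ⊔ B : Submodule F V) = finrank F A + finrank F B := by
    intro A B hA hB
    have h := Submodule.finrank_sup_add_finrank_inf_eq A B
    rwa [show A ⊓ B = ⊥ from eq_bot_iff.2 ((inf_le_inf hA hB).trans hbot.le), finrank_bot, add_zero] at h
  by_cases hpX : PlusOn Q X <;> by_cases hpY : PlusOn Q Y
  · obtain ⟨U, hU, hUs, hUd⟩ := hpX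
    obtain ⟨U', hU', hUs', hUd'⟩ := hpY
    refine iff_of_true ⟨U ⊔ U', sup_le_sup hU hU', sing_sup hUs hUs' fun x hx y hy => h x (hU hx) y (hU' hy), ?_⟩
      (iff_of_true ⟨U, hU, hUs, hUd⟩ ⟨U', hU', hUs', hUd'⟩)
    rw [hinf hU hU']; omega
  · obtain ⟨U, hU, hUs, hUd⟩ := hpX
    obtain ⟨A, P, hA, hP, hAs, hAd, hPn, hP2, hPa, hAP⟩ := exists_core_minus hQ hY hb hpY
    refine iff_of_false (not_plus_of_core hQ hXY (sup_le_sup hU hA) (hP.trans le_sup_right)
      (sing_sup hUs hAs fun x hx y hy => h x (hU hx) y (hA hy)) hPa hP2 (by rw [hinf hU hA]; omega) fun u hu p hp => ?_)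
      fun e => hpY (e.1 ⟨U, hU, hUs, hUd⟩)
    obtain ⟨x, hx, y, hy, rfl⟩ := Submodule.mem_sup.1 hu
    rw [polar_add_left, h x (hU hx) p (hP hp), hAP y hy p hp, add_zero]
  · obtain ⟨U, hU, hUs, hUd⟩ := hpY
    obtain ⟨A, P, hA, hP, hAs, hAd, hPn, hP2, hPa, hAP⟩ := exists_core_minus hQ hX ha hpX
    refine iff_of_false (not_plus_of_core hQ hXY (sup_le_sup hA hU) (hP.trans le_sup_left)
      (sing_sup hAs hUs fun x hx y hy => h x (hA hx) y (hU hy)) hPa hP2 (by rw [hinf hA hU]; omega) fun u hu p hp => ?_)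
      fun e => hpX (e.2 ⟨U, hU, hUs, hUd⟩)
    obtain ⟨x, hx, y, hy, rfl⟩ := Submodule.mem_sup.1 hu
    rw [polar_add_left, hAP x hx p hp, polar_comm Q y p, h p (hP hp) y (hU hy), add_zero]
  · obtain ⟨A, P, hA, hP, hAs, hAd, hPn, hP2, hPa, hAP⟩ := exists_core_minus hQ hX ha hpX
    obtain ⟨A', P', hA', hP', hAs', hAd', hPn', hP2', hPa', hAP'⟩ := exists_core_minus hQ hY hb hpY
    obtain ⟨L, hL, hLs, hL2⟩ := plus_of_two_aniso hPn hPn' hP2 hP2' hPa hPa' fun x hx y hy => h x (hP hx) y (hP' hy)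
    refine iff_of_true ⟨(A ⊔ A') ⊔ L, sup_le (sup_le_sup hA hA') (hL.trans (sup_le_sup hP hP')), ?_, ?_⟩
      (iff_of_false hpX hpY)
    · refine sing_sup (sing_sup hAs hAs' fun x hx y hy => h x (hA hx) y (hA' hy)) hLs fun u hu l hl => ?_
      obtain ⟨x, hx, y, hy, rfl⟩ := Submodule.mem_sup.1 hu
      obtain ⟨p, hp, p', hp', rfl⟩ := Submodule.mem_sup.1 (hL hl)
      rw [polar_add_left, polar_add_right, polar_add_right, hAP x hx p hp, h x (hA hx) p' (hP' hp'), polar_comm Q y p,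
        h p (hP hp) y (hA' hy), hAP' y hy p' hp']
      simp
    · have h0 : (A ⊔ A') ⊓ L = ⊥ := eq_bot_iff.2 fun u hu => by
        obtain ⟨x, hx, y, hy, rfl⟩ := Submodule.mem_sup.1 hu.1
        obtain ⟨p, hp, p', hp', e⟩ := Submodule.mem_sup.1 (hL hu.2)
        have e1 : x - p = p' - y := by rw [sub_eq_sub_iff_add_eq_add, ← e, add_comm]
        have e2 : x - p = 0 := (Submodule.mem_bot F).1 (hbot.le ⟨X.sub_mem (hA hx) (hP hp), e1 ▸ Y.sub_mem (hP' hp') (hA' hy)⟩)
        have hx0 : x = p := sub_eq_zero.1 e2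
        have hy0 : p' = y := sub_eq_zero.1 (e1.symm.trans e2)
        have hp0 : p = 0 := hPa p hp (by rw [← hx0]; exact hAs x hx)
        have hp0' : p' = 0 := hPa' p' hp' (by rw [hy0]; exact hAs' y hy)
        rw [Submodule.mem_bot, hx0, hp0, ← hy0, hp0', add_zero]
      have h1 := Submodule.finrank_sup_add_finrank_inf_eq (A ⊔ A') L
      rw [h0, finrank_bot, add_zero, hinf hA hA', hL2] at h1
      omega

/-- Subspaces of both types, short of the whole. -/
lemma exists_plus_sub (hQ : (polarBilin Q).Nondegenerate) : ∀ (e : ℕ) (S : Submodule F V), NDQ Q S → 2 * e < finrank F S →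
    ∃ W : Submodule F V, W ≤ S ∧ NDQ Q W ∧ finrank F W = 2 * e ∧ PlusOn Q W := by
  intro e
  induction e with
  | zero => intro S _ _; exact ⟨⊥, bot_le, ndq_bot, finrank_bot F V, plus_bot⟩
  | succ e ih =>
    intro S hS hd
    obtain ⟨H, hHS, hH, hH2, hHp⟩ := exists_hyp_plane hS (by omega)
    obtain ⟨Y, hYS, hY, hperp, -, hYd, -⟩ := ndq_compl hQ hS hH hHS
    obtain ⟨W, hWY, hW, hWd, hWp⟩ := ih Y hY (by omega)
    have hp : ∀ x ∈ H, ∀ y ∈ W, polar Q x y = 0 := fun x hx y hy => hperp x hx y (hWY hy)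
    obtain ⟨h1, -, h3⟩ := ndq_sup hH hW hp
    exact ⟨H ⊔ W, sup_le hHS (hWY.trans hYS), h1, by omega,
      (plus_sup hQ hH hW (a := 1) hH2 hWd hp).2 (iff_of_true hHp hWp)⟩

/-- Subspaces of a given type, short of the whole. -/
lemma exists_typed_sub (hQ : (polarBilin Q).Nondegenerate) {S : Submodule F V} (hS : NDQ Q S) {e : ℕ} (he : 1 ≤ e)
    (hd : 2 * e < finrank F S) (s : Prop) :
    ∃ W : Submodule F V, W ≤ S ∧ NDQ Q W ∧ finrank F W = 2 * e ∧ (PlusOn Q W ↔ s) := by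
  by_cases hs : s
  · obtain ⟨W, a, b, c, d⟩ := exists_plus_sub hQ e S hS hd
    exact ⟨W, a, b, c, iff_of_true d hs⟩
  obtain ⟨P, hPS, hP, hP2, hPa⟩ := exists_aniso_plane hQ hS (by omega)
  obtain ⟨Y, hYS, hY, hperp, -, hYd, -⟩ := ndq_compl hQ hS hP hPS
  obtain ⟨W, hWY, hW, hWd, hWp⟩ := exists_plus_sub hQ (e - 1) Y hY (by omega)
  have hp : ∀ x ∈ P, ∀ y ∈ W, polar Q x y = 0 := fun x hx y hy => hperp x hx y (hWY hy)
  obtain ⟨h1, -, h3⟩ := ndq_sup hP hW hp
  refine ⟨P ⊔ W, sup_le hPS (hWY.trans hYS), h1, by omega, iff_of_false ?_ hs⟩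
  rw [plus_sup hQ hP hW (a := 1) hP2 hWd hp]
  refine fun e => ?_
  obtain ⟨U, hU, hUs, hUd⟩ := e.2 hWp
  have : U = ⊥ := eq_bot_iff.2 fun u hu => (Submodule.mem_bot F).2 (hPa u (hU hu) (hUs u hu))
  rw [this, finrank_bot, hP2] at hUd
  omega

end sums

end Cfsg.Agent.Elusive
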