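import Mathlib.Data.Nat.ModEq
import Mathlib.Algebra.Order.Ring.Nat
import Mathlib.Algebra.Ring.Parity
import Mathlib.Tactic.Ring
import Mathlib.Tactic.Linarith

/-!
Arithmetic of dimensions for invariant totally singular subspaces.
-/

set_option autoImplicit false

namespace Cfsg.Agent.Elusive

lemma mul_div_mod {n i : ℕ} (hi : 0 < i) {a b : ℕ} (hb : b < i) (h : n = i * a + b) : n / i = a ∧ n % i = b :=
  ⟨by rw [h, Nat.mul_add_div hi, Nat.div_eq_of_lt hb, add_zero],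
    by rw [h, Nat.mul_add_mod, Nat.mod_eq_of_lt hb]⟩

/-- The case analysis for even order: `a` half the fixed dimension, `N` blocks, `j` blocks used. -/
lemma even_case {n m i t a N : ℕ} (pl : Prop) (hi : 0 < i) (hn : n = 2 * a + N * i) (ht : 0 < t)
    (ha0 : a = 0 → (Even N ↔ pl)) (hA : t + 2 * (m / i) ≤ n / i)
    (hB : (2 * (m % i) ≤ i ∧ n % i = 0 ∧ (Odd (n / i) ↔ pl) ∧ t + 2 * (m / i) < n / i) ∨
      (2 * (m % i) ≤ n % i ∧ (Even (n / i) ↔ pl)) ∨ (2 * (m % i) < n % i ∧ (Odd (n / i) ↔ pl))) :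
    ∃ j, 2 * j ≤ N + 1 - t ∧ j * i ≤ m ∧ m - j * i ≤ a ∧ (m - j * i = a → a = 0 ∨ (Even N ↔ pl)) := by
  obtain ⟨n', hn'⟩ : ∃ n', n' = n / i := ⟨_, rfl⟩
  obtain ⟨k, hk⟩ : ∃ k, k = n % i := ⟨_, rfl⟩
  obtain ⟨m', hm'⟩ : ∃ m', m' = m / i := ⟨_, rfl⟩
  obtain ⟨l, hl⟩ : ∃ l, l = m % i := ⟨_, rfl⟩
  rw [← hn', ← hm'] at hA
  rw [← hn', ← hm', ← hk, ← hl] at hB
  have hdm : m = m' * i + l := by rw [hm', hl]; exact (Nat.div_add_mod' m i).symm
  have hdn : n = n' * i + k := by rw [hn', hk]; exact (Nat.div_add_mod' n i).symm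
  have hki : k < i := hk ▸ Nat.mod_lt n hi
  have hNn : N ≤ n' := by
    by_contra hlt
    have : (n' + 1) * i ≤ N * i := Nat.mul_le_mul_right i (by omega)
    rw [Nat.add_mul, Nat.one_mul] at this
    omega
  obtain ⟨u, hu⟩ : ∃ u, n' = N + u := ⟨n' - N, by omega⟩
  have hua : 2 * a = k + u * i := by
    rw [hu, Nat.add_mul] at hdn
    omega
  obtain ⟨j, hj, hjm, hD⟩ : ∃ j, 2 * j ≤ N + 1 - t ∧ j ≤ m' ∧ (j = m' ∨ N ≤ 2 * j + t) := by
    by_cases h : 2 * m' ≤ N + 1 - t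
    · exact ⟨m', h, le_rfl, Or.inl rfl⟩
    · exact ⟨(N + 1 - t) / 2, by omega, by omega, Or.inr (by omega)⟩
  have hji : j * i ≤ m' * i := Nat.mul_le_mul_right i hjm
  refine ⟨j, hj, by omega, ?_⟩
  -- the slack
  obtain ⟨v, hv⟩ : ∃ v, m' = j + v := ⟨m' - j, by omega⟩
  have hvu : 2 * v ≤ u := by omega
  obtain ⟨D, hDd⟩ : ∃ D, u = 2 * v + D := ⟨u - 2 * v, by omega⟩
  have hmj : m - j * i = v * i + l := by rw [hdm, hv, Nat.add_mul]; omega
  have hkey : 2 * a = k + D * i + 2 * (v * i) := by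
    rw [hua, hDd, Nat.add_mul, Nat.mul_assoc]; ring
  rw [hmj]
  have hD1 : ∀ e, e ≤ D → e * i ≤ D * i := fun e he => Nat.mul_le_mul_right i he
  rcases hB with ⟨h1, h2, h3, h4⟩ | ⟨h1, h2⟩ | ⟨h1, h2⟩
  · have hD0 : 1 ≤ D := by
      by_contra h0
      rcases hD with e | e
      · have hu0 : u = 0 := by omega
        rw [hu0, Nat.add_zero] at hu
        have ha' : a = 0 := by rw [hu0, Nat.zero_mul] at hua; omega
        have := ha0 ha'
        rw [← hu] at this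
        have h5 : Odd n' ↔ Even n' := h3.trans this.symm
        rcases Nat.even_or_odd n' with h | h
        · exact Nat.not_odd_iff_even.2 h (h5.2 h)
        · exact Nat.not_even_iff_odd.2 h (h5.1 h)
      · omega
    have := hD1 1 hD0
    rw [Nat.one_mul] at this
    refine ⟨by omega, fun he => Or.inr ?_⟩
    have hDi : D = 1 := by
      by_contra h5
      have := hD1 2 (by omega)
      omega
    rw [← h3, hu, hDd, hDi]
    simp [Nat.odd_add, parity_simps]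
  · refine ⟨by omega, fun he => Or.inr ?_⟩
    have hD0 : D = 0 := by
      by_contra h5
      have := hD1 1 (Nat.pos_of_ne_zero h5)
      omega
    rw [← h2, hu, hDd, hD0]
    simp [parity_simps]
  · exact ⟨by omega, fun he => absurd he (by omega)⟩

/-- Small `m`. -/
lemma small_fails {n m i J a δ : ℕ} (pl : Prop) (hi : 0 < i) (hmi : m < i) (hδ : δ ≤ 1) (hJm : J ≤ m)
    (hn : 2 * n = 2 * J + i * (2 * a + δ)) (h1 : (δ = 0 ↔ pl) → J < m) (h2 : ¬ (δ = 0 ↔ pl) → 0 < J) :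
    ¬ ((2 * (m % i) ≤ i ∧ 2 * n % i = 0 ∧ (Odd (2 * n / i) ↔ pl)) ∨
      (2 * (m % i) ≤ 2 * n % i ∧ (Even (2 * n / i) ↔ pl)) ∨ (2 * (m % i) < 2 * n % i ∧ (Odd (2 * n / i) ↔ pl))) := by
  rw [Nat.mod_eq_of_lt hmi]
  rcases Nat.lt_or_ge (2 * J) i with hlt | hge
  · obtain ⟨e1, e2⟩ := mul_div_mod hi hlt (n := 2 * n) (a := 2 * a + δ) (by omega)
    rw [e1, e2]
    rcases Nat.le_one_iff_eq_zero_or_eq_one.1 hδ with rfl | rfl <;> by_cases hp : pl <;>
      simp [hp, parity_simps] at h1 h2 ⊢ <;> omega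
  · obtain ⟨e1, e2⟩ := mul_div_mod hi (show 2 * J - i < i by omega) (n := 2 * n) (a := 2 * a + δ + 1)
      (by rw [Nat.mul_add i _ 1, Nat.mul_one]; omega)
    rw [e1, e2]
    rcases Nat.le_one_iff_eq_zero_or_eq_one.1 hδ with rfl | rfl <;> by_cases hp : pl <;>
      simp [hp, parity_simps] at h1 h2 ⊢ <;> omega

end Cfsg.Agent.Elusive
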