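import Cfsg.Agent.Lib.Elusive.OrthIso

/-!
Primes dividing the number of totally singular subspaces.
-/

set_option autoImplicit false
set_option linter.all false
set_option maxHeartbeats 1600000

universe v

namespace Cfsg.Agent.Elusive

open Module QuadraticMap

variable {F : Type*} [Field F] [Fintype F]

/-- Totally singular subspaces of a dimension. -/
def TSub {V : Type v} [AddCommGroup V] [Module F V] (Q : QuadraticForm F V) (m : ℕ) : Type v :=
  {W : Submodule F V // finrank F W = m ∧ ∀ w ∈ W, Q w = 0}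

/-- Transitivity on singular vectors. -/
theorem exists_map_singular {V : Type v} [AddCommGroup V] [Module F V] [FiniteDimensional F V] {Q : QuadraticForm F V}
    (hQ : (polarBilin Q).Nondegenerate) {e e' : V} (he0 : e ≠ 0) (he0' : e' ≠ 0) (he : Q e = 0) (he' : Q e' = 0) :
    ∃ g : V ≃ₗ[F] V, (∀ v, Q (g v) = Q v) ∧ g e = e' := by
  obtain ⟨g, hg, hgφ⟩ := Orth.witt_pair hQ
    ((LinearEquiv.toSpanNonzeroSingleton F V e he0).symm.trans (LinearEquiv.toSpanNonzeroSingleton F V e' he0')) (fun x => by
      obtain ⟨c, rfl⟩ := (LinearEquiv.toSpanNonzeroSingleton F V e he0).surjective x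
      rw [LinearEquiv.trans_apply, LinearEquiv.symm_apply_apply]
      show Q (c • e') = Q (c • e)
      rw [QuadraticMap.map_smul, QuadraticMap.map_smul, he, he'])
  refine ⟨g, hg, ?_⟩
  have h := hgφ ⟨e, Submodule.mem_span_singleton_self e⟩
  rw [LinearEquiv.trans_apply, show (⟨e, Submodule.mem_span_singleton_self e⟩ : F ∙ e) =
    LinearEquiv.toSpanNonzeroSingleton F V e he0 1 from Subtype.ext (one_smul _ _).symm, LinearEquiv.symm_apply_apply] at h
  simpa using h

/-- Subspaces through a point. -/
abbrev Fib {V : Type v} [AddCommGroup V] [Module F V] (Q : QuadraticForm F V) (m : ℕ) (e : V) : Type v :=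
  {W : TSub Q (m + 1) // e ∈ W.1}

/-- The subspaces through a point correspond to the subspaces of the middle part. -/
theorem fib_split {V : Type v} [AddCommGroup V] [Module F V] [FiniteDimensional F V] {Q : QuadraticForm F V}
    (hQ : (polarBilin Q).Nondegenerate) (m : ℕ) (e : {e : V // e ≠ 0 ∧ Q e = 0}) :
    ∃ H : Submodule F V, (polarBilin (Q.comp H.subtype)).Nondegenerate ∧ finrank F V = finrank F H + 2 ∧
      Nat.card {w : V // Q w = 0} =
        Nat.card F * Nat.card {w : H // (Q.comp H.subtype) w = 0} + (Nat.card F - 1) * Nat.card H ∧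
      Nat.card (Fib Q m e.1) = Nat.card (TSub (Q.comp H.subtype) m) := by
  haveI : Finite V := Module.finite_of_finite F
  obtain ⟨f, hef, hf⟩ := Orth.exists_partner hQ e.2.1 e.2.2
  obtain ⟨H, hH, L, hL, hR⟩ : ∃ H : Submodule F V, H = Orth.perp Q (Submodule.span F {e.1, f}) ∧
      ∃ L : V ≃ₗ[F] F × F × H, (∀ v, Orth.hyp (Q.comp H.subtype) (L v) = Q v) ∧
        (polarBilin (Q.comp H.subtype)).Nondegenerate := by
    obtain ⟨L, hL, hR⟩ := LBQuad.exists_split hQ e.2.2 hf hef
    exact ⟨_, rfl, L, hL, hR⟩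
  have hdim : finrank F V = finrank F H + 2 := by
    rw [L.finrank_eq, finrank_prod, finrank_prod, finrank_self]; ring
  haveI : Finite H := Module.finite_of_finite F
  have hcnt : Nat.card {w : V // Q w = 0} =
      Nat.card F * Nat.card {w : H // (Q.comp H.subtype) w = 0} + (Nat.card F - 1) * Nat.card H := by
    rw [← Orth.card_zeros_hyp (Q.comp H.subtype)]
    exact Nat.card_congr (Orth.zerosCongr L hL)
  have hcard : Nat.card (Fib Q m e.1) = Nat.card (TSub (Q.comp H.subtype) m) := by
    have hpe : ∀ W : Fib Q m e.1, ∀ w ∈ W.1.1, polar Q e.1 w = 0 := fun W w hw => by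
      simp [polar, W.1.2.2 e.1 W.2, W.1.2.2 w hw, W.1.2.2 (e.1 + w) (W.1.1.add_mem W.2 hw)]
    have hmemH : ∀ w, polar Q e.1 w = 0 → w - polar Q w f • e.1 ∈ H := fun w hw => by
      rw [hH, Orth.mem_perp_span]
      rintro b (rfl | rfl)
      · rw [polar_sub_right, polar_smul_right, hw, polar_self, e.2.2]; simp
      · rw [polar_sub_right, polar_smul_right, show polar Q b e.1 = 1 by rw [polar_comm]; exact hef, polar_comm Q b w]
        simp
    have hHe : ∀ u : H, polar Q e.1 (u : V) = 0 ∧ polar Q f (u : V) = 0 := fun u => by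
      have hu : (u : V) ∈ Orth.perp Q (Submodule.span F {e.1, f}) := hH ▸ u.2
      exact ⟨Orth.mem_perp_span.1 hu e.1 (by simp), Orth.mem_perp_span.1 hu f (by simp)⟩
    refine Nat.card_congr
      { toFun := fun W => ⟨W.1.1.comap H.subtype, ?_, fun u hu => W.1.2.2 _ hu⟩
        invFun := fun U => ⟨⟨F ∙ e.1 ⊔ U.1.map H.subtype, ?_, ?_⟩, Submodule.mem_sup_left (Submodule.mem_span_singleton_self _)⟩
        left_inv := fun W => Subtype.ext (Subtype.ext ?_)
        right_inv := fun U => Subtype.ext ?_ }
    · have hsplit : F ∙ e.1 ⊔ (W.1.1.comap H.subtype).map H.subtype = W.1.1 := by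
        refine le_antisymm (sup_le ((Submodule.span_singleton_le_iff_mem _ _).2 W.2) (Submodule.map_comap_le _ _))
          fun w hw => ?_
        rw [show w = polar Q w f • e.1 + (w - polar Q w f • e.1) by abel]
        exact Submodule.add_mem_sup (Submodule.smul_mem _ _ (Submodule.mem_span_singleton_self _))
          ⟨⟨_, hmemH w (hpe W w hw)⟩, W.1.1.sub_mem hw (W.1.1.smul_mem _ W.2), rfl⟩
      have h := Submodule.finrank_sup_add_finrank_inf_eq (F ∙ e.1) ((W.1.1.comap H.subtype).map H.subtype)
      have hbot : F ∙ e.1 ⊓ (W.1.1.comap H.subtype).map H.subtype = ⊥ := by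
        refine eq_bot_iff.2 ?_
        rintro v ⟨hv, u, -, rfl⟩
        obtain ⟨c, hc⟩ := Submodule.mem_span_singleton.1 hv
        have h1 : polar Q f (H.subtype u) = 0 := (hHe u).2
        rw [← hc, polar_smul_right, show polar Q f e.1 = 1 by rw [polar_comm]; exact hef] at h1
        rw [Submodule.mem_bot, ← hc, show c = 0 by simpa using h1, zero_smul]
      rw [hsplit, hbot, finrank_bot, finrank_span_singleton e.2.1, W.1.2.1,
        ← (Submodule.equivMapOfInjective H.subtype H.subtype_injective _).finrank_eq] at h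
      omega
    · have h := Submodule.finrank_sup_add_finrank_inf_eq (F ∙ e.1) (U.1.map H.subtype)
      have hbot : F ∙ e.1 ⊓ U.1.map H.subtype = ⊥ := by
        refine eq_bot_iff.2 ?_
        rintro v ⟨hv, u, -, rfl⟩
        obtain ⟨c, hc⟩ := Submodule.mem_span_singleton.1 hv
        have h1 : polar Q f (H.subtype u) = 0 := (hHe u).2
        rw [← hc, polar_smul_right, show polar Q f e.1 = 1 by rw [polar_comm]; exact hef] at h1
        rw [Submodule.mem_bot, ← hc, show c = 0 by simpa using h1, zero_smul]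
      rw [hbot, finrank_bot, finrank_span_singleton e.2.1,
        ← (Submodule.equivMapOfInjective H.subtype H.subtype_injective _).finrank_eq, U.2.1] at h
      omega
    · intro w hw
      obtain ⟨a, ha, b, hb, rfl⟩ := Submodule.mem_sup.1 hw
      obtain ⟨c, rfl⟩ := Submodule.mem_span_singleton.1 ha
      obtain ⟨u, hu, rfl⟩ := hb
      have h1 : Q (H.subtype u) = 0 := U.2.2 u hu
      rw [QuadraticMap.map_add Q, QuadraticMap.map_smul, e.2.2, h1, polar_smul_left,
        show polar Q e.1 (H.subtype u) = 0 from (hHe u).1]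
      simp
    · show F ∙ e.1 ⊔ (W.1.1.comap H.subtype).map H.subtype = W.1.1
      refine le_antisymm (sup_le ((Submodule.span_singleton_le_iff_mem _ _).2 W.2) (Submodule.map_comap_le _ _))
        fun w hw => ?_
      rw [show w = polar Q w f • e.1 + (w - polar Q w f • e.1) by abel]
      exact Submodule.add_mem_sup (Submodule.smul_mem _ _ (Submodule.mem_span_singleton_self _))
        ⟨⟨_, hmemH w (hpe W w hw)⟩, W.1.1.sub_mem hw (W.1.1.smul_mem _ W.2), rfl⟩
    · show (F ∙ e.1 ⊔ U.1.map H.subtype).comap H.subtype = U.1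
      refine le_antisymm (fun u hu => ?_) fun u hu => Submodule.mem_sup_right ⟨u, hu, rfl⟩
      obtain ⟨a, ha, b, hb, hab⟩ := Submodule.mem_sup.1 hu
      obtain ⟨c, rfl⟩ := Submodule.mem_span_singleton.1 ha
      obtain ⟨u', hu', rfl⟩ := hb
      have h1 : polar Q f (H.subtype u) = 0 := (hHe u).2
      rw [← hab, polar_add_right, polar_smul_right, show polar Q f (H.subtype u') = 0 from (hHe u').2,
        show polar Q f e.1 = 1 by rw [polar_comm]; exact hef] at h1
      have hc0 : c = 0 := by simpa using h1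
      rw [hc0, zero_smul, zero_add] at hab
      rwa [← H.subtype_injective hab]
  exact ⟨H, hR, hdim, hcnt, hcard⟩

/-- Double counting. -/
theorem sum_fib {V : Type v} [AddCommGroup V] [Module F V] [FiniteDimensional F V] {Q : QuadraticForm F V} (m : ℕ)
  [Fintype {e : V // e ≠ 0 ∧ Q e = 0}] [Fintype (TSub Q (m + 1))] :
  ∑ e : {e : V // e ≠ 0 ∧ Q e = 0}, Nat.card (Fib Q m e.1) =
    Nat.card (TSub Q (m + 1)) * (Fintype.card F ^ (m + 1) - 1) := by
  classical
  haveI : Finite V := Module.finite_of_finite F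
  haveI : Finite (Submodule F V) := Finite.of_injective _ SetLike.coe_injective
  rw [← Nat.card_sigma, Nat.card_congr (α := Σ e : {e : V // e ≠ 0 ∧ Q e = 0}, Fib Q m e.1)
    (β := Σ W : TSub Q (m + 1), {w : W.1 // w ≠ 0})
    { toFun := fun z => ⟨z.2.1, ⟨⟨z.1.1, z.2.2⟩, fun h => z.1.2.1 (congrArg Subtype.val h)⟩⟩
      invFun := fun z => ⟨⟨z.2.1.1, fun h => z.2.2 (Subtype.ext h), z.1.2.2 _ z.2.1.2⟩, ⟨z.1, z.2.1.2⟩⟩
      left_inv := fun z => rfl
      right_inv := fun z => rfl }, Nat.card_sigma]
  rw [Finset.sum_const_nat (m := Fintype.card F ^ (m + 1) - 1), Finset.card_univ, ← Nat.card_eq_fintype_card]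
  intro W _
  haveI : Fintype W.1 := Fintype.ofFinite _
  rw [Nat.card_eq_fintype_card, Fintype.card_subtype_compl, Fintype.card_subtype_eq,
    Module.card_eq_pow_finrank (K := F), W.2.1]

/-- All fibres agree. -/
theorem fib_congr {V : Type v} [AddCommGroup V] [Module F V] [FiniteDimensional F V] {Q : QuadraticForm F V}
  (hQ : (polarBilin Q).Nondegenerate) (m : ℕ) (e e' : {e : V // e ≠ 0 ∧ Q e = 0}) :
  Nat.card (Fib Q m e.1) = Nat.card (Fib Q m e'.1) := by
  obtain ⟨g, hg, hge⟩ := exists_map_singular hQ e.2.1 e'.2.1 e.2.2 e'.2.2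
  have hg' : ∀ v, Q (g.symm v) = Q v := fun v => by rw [← hg, g.apply_symm_apply]
  refine Nat.card_congr
    { toFun := fun W => ⟨⟨W.1.1.map g.toLinearMap, by rw [LinearEquiv.finrank_map_eq, W.1.2.1], by
        rintro _ ⟨w, hw, rfl⟩; exact (hg w).trans (W.1.2.2 w hw)⟩, ⟨e.1, W.2, hge⟩⟩
      invFun := fun W => ⟨⟨W.1.1.map g.symm.toLinearMap, by rw [LinearEquiv.finrank_map_eq, W.1.2.1], by
        rintro _ ⟨w, hw, rfl⟩; exact (hg' w).trans (W.1.2.2 w hw)⟩, ⟨e'.1, W.2, by
          show g.symm e'.1 = e.1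
          rw [← hge]; exact g.symm_apply_apply _⟩⟩
      left_inv := fun W => Subtype.ext (Subtype.ext (by
        show (W.1.1.map g.toLinearMap).map g.symm.toLinearMap = W.1.1
        rw [← Submodule.map_comp]; simp))
      right_inv := fun W => Subtype.ext (Subtype.ext (by
        show (W.1.1.map g.symm.toLinearMap).map g.toLinearMap = W.1.1
        rw [← Submodule.map_comp]; simp)) }

/-- Non-zero singular vectors. -/
theorem card_points {V : Type v} [AddCommGroup V] [Module F V] [FiniteDimensional F V] {r : ℕ} (Q : QuadraticForm F V) :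
  (Nat.card {e : V // e ≠ 0 ∧ Q e = 0} : ZMod r) + 1 = (Nat.card {w : V // Q w = 0} : ZMod r) := by
  classical
  haveI : Finite V := Module.finite_of_finite F
  haveI := Fintype.ofFinite {e : V // e ≠ 0 ∧ Q e = 0}
  haveI := Fintype.ofFinite {w : V // Q w = 0}
  have e1 : {e : V // e ≠ 0 ∧ Q e = 0} ≃ {w : {w : V // Q w = 0} // w ≠ ⟨0, map_zero Q⟩} :=
    { toFun := fun e => ⟨⟨e.1, e.2.2⟩, fun h => e.2.1 (congrArg Subtype.val h)⟩
      invFun := fun w => ⟨w.1.1, fun h => w.2 (Subtype.ext h), w.1.2⟩
      left_inv := fun e => rfl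
      right_inv := fun w => rfl }
  rw [Nat.card_congr e1, Nat.card_eq_fintype_card, Nat.card_eq_fintype_card, Fintype.card_subtype_compl,
    Fintype.card_subtype_eq]
  have : 1 ≤ Fintype.card {w : V // Q w = 0} := Fintype.card_pos_iff.2 ⟨⟨0, map_zero Q⟩⟩
  push_cast [Nat.cast_sub this]
  ring

/-- A prime dividing the number of totally singular subspaces. -/
theorem count_ts {r : ℕ} [Fact r.Prime] : ∀ (m : ℕ) {V : Type v} [AddCommGroup V] [Module F V] [FiniteDimensional F V]
    (Q : QuadraticForm F V), (polarBilin Q).Nondegenerate → ∀ δ : ZMod r,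
    (Fintype.card F : ZMod r) * (Nat.card {w : V // Q w = 0} : ZMod r) =
      (Fintype.card F : ZMod r) ^ finrank F V + δ * (Fintype.card F : ZMod r) →
    r ∣ Nat.card (TSub Q m) →
    ∃ j < m, (Fintype.card F : ZMod r) ^ finrank F V + δ * (Fintype.card F : ZMod r) ^ (j + 1) =
      (Fintype.card F : ZMod r) ^ (2 * j + 1) := by
  classical
  intro m
  induction m with
  | zero =>
    intro V _ _ _ Q hQ δ hz hd
    have h1 : Nat.card (TSub Q 0) = 1 := by
      refine Nat.card_eq_one_iff_unique.2 ⟨⟨fun a b => Subtype.ext ?_⟩,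
        ⟨⟨⊥, finrank_bot F V, fun w hw => by rw [(Submodule.mem_bot F).1 hw, map_zero]⟩⟩⟩
      rw [Submodule.finrank_eq_zero.1 a.2.1, Submodule.finrank_eq_zero.1 b.2.1]
    rw [h1, Nat.dvd_one] at hd
    exact absurd hd (Fact.out : r.Prime).ne_one
  | succ m ih =>
    intro V _ _ _ Q hQ δ hz hd
    set x := (Fintype.card F : ZMod r) with hx
    by_contra hno
    push Not at hno
    haveI : Finite V := Module.finite_of_finite F
    haveI : Finite (Submodule F V) := Finite.of_injective _ SetLike.coe_injective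
    haveI : Finite (TSub Q (m + 1)) := Subtype.finite
    haveI := Fintype.ofFinite (TSub Q (m + 1))
    haveI := Fintype.ofFinite {e : V // e ≠ 0 ∧ Q e = 0}
    -- the subspaces through a point
    let fib : {e : V // e ≠ 0 ∧ Q e = 0} → Type v := fun e => Fib Q m e.1
    have hfib : ∀ e, ∃ (H : Submodule F V) (δ' : ZMod r), (polarBilin (Q.comp H.subtype)).Nondegenerate ∧
        x * (Nat.card {w : H // (Q.comp H.subtype) w = 0} : ZMod r) = x ^ finrank F H + δ' * x ∧
        (x = 0 ∨ x * δ' = δ) ∧ finrank F V = finrank F H + 2 ∧ Nat.card (fib e) = Nat.card (TSub (Q.comp H.subtype) m) := by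
      intro e
      obtain ⟨H, hR, hdim, hcnt, hcard⟩ := fib_split hQ m e
      obtain ⟨δ', hδ'⟩ : ∃ δ', δ' * x = x * (Nat.card {w : H // (Q.comp H.subtype) w = 0} : ZMod r) - x ^ finrank F H ∨ x = 0 := by
        by_cases hx0 : x = 0
        · exact ⟨0, Or.inr hx0⟩
        · exact ⟨(x * (Nat.card {w : H // (Q.comp H.subtype) w = 0} : ZMod r) - x ^ finrank F H) / x,
            Or.inl (div_mul_cancel₀ _ hx0)⟩
      refine ⟨H, δ', hR, ?_, ?_, hdim, hcard⟩
      · rcases hδ' with h | h
        · rw [h]; ring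
        · rw [h, zero_mul, mul_zero, add_zero, zero_pow]
          intro h0
          rw [hdim, h0, h, mul_comm δ] at hz
          have h1 : (Nat.card {w : H // (Q.comp H.subtype) w = 0}) = 1 := by
            haveI : Subsingleton H := Module.finrank_zero_iff.1 h0
            exact Nat.card_eq_one_iff_unique.2 ⟨inferInstance, ⟨⟨0, map_zero _⟩⟩⟩
          have h2 : Nat.card H = 1 := by
            haveI : Subsingleton H := Module.finrank_zero_iff.1 h0
            exact Nat.card_eq_one_iff_unique.2 ⟨inferInstance, ⟨0⟩⟩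
          exact hno 0 (Nat.succ_pos m) (by rw [hdim, h0, h]; ring)
      · rcases hδ' with h | h
        · refine (eq_or_ne x 0).imp_right fun hx0 => ?_
          rw [hcnt, Nat.card_eq_fintype_card (α := F), Module.natCard_eq_pow_finrank (K := F) (V := H),
            Nat.card_eq_fintype_card (α := F), hdim] at hz
          push_cast [Nat.cast_sub Fintype.card_pos] at hz
          rw [← hx] at hz
          refine mul_right_cancel₀ hx0 ?_
          linear_combination hz + x * h
        · exact Or.inl h
    choose H δ' hH hzH hδ hdim hfc using hfib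
    by_cases hx0 : x = 0
    · refine hno 0 (Nat.succ_pos m) ?_
      rw [hx0]
      rcases Nat.eq_zero_or_pos (finrank F V) with h0 | h0
      · haveI : Subsingleton V := Module.finrank_zero_iff.1 h0
        have h1 : Nat.card {w : V // Q w = 0} = 1 :=
          Nat.card_eq_one_iff_unique.2 ⟨inferInstance, ⟨⟨0, map_zero _⟩⟩⟩
        rw [hx0, h0, h1] at hz
        simp at hz
      · rw [zero_pow h0.ne']; simp
    have hgood : ∀ e, ¬ r ∣ Nat.card (fib e) := fun e hdv => by
      rw [hfc e] at hdv
      obtain ⟨j, hj, hje⟩ := ih (Q.comp (H e).subtype) (hH e) (δ' e) (hzH e) hdv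
      refine hno (j + 1) (by omega) ?_
      rw [hdim e, ← (hδ e).resolve_left hx0, show 2 * (j + 1) + 1 = 2 * j + 1 + 2 by ring, pow_add x (2 * j + 1), ← hje]
      ring
    -- double counting
    have hsum := sum_fib (Q := Q) m
    -- all the fibres agree
    have hall := fib_congr hQ m
    have hpts := card_points (r := r) Q
    have h0 : (Nat.card {e : V // e ≠ 0 ∧ Q e = 0} : ZMod r) = 0 := by
      rcases isEmpty_or_nonempty {e : V // e ≠ 0 ∧ Q e = 0} with he | ⟨⟨e₀⟩⟩
      · rw [Nat.card_eq_zero.2 (Or.inl he), Nat.cast_zero]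
      · rw [Finset.sum_congr rfl (fun e _ => hall e e₀), Finset.sum_const, smul_eq_mul, Finset.card_univ,
          ← Nat.card_eq_fintype_card] at hsum
        have h1 := congrArg (Nat.cast : ℕ → ZMod r) hsum
        rw [Nat.cast_mul, Nat.cast_mul, (ZMod.natCast_eq_zero_iff _ _).2 hd, zero_mul] at h1
        exact (mul_eq_zero.1 h1).resolve_right fun h => hgood e₀ ((ZMod.natCast_eq_zero_iff _ _).1 h)
    rw [h0, zero_add] at hpts
    rw [← hpts, mul_one] at hz
    refine hno 0 (Nat.succ_pos m) ?_
    linear_combination -hz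

/-- Zeros of a quadratic form in more than two variables. -/
theorem dvd_zeros (p : ℕ) [Fact p.Prime] [CharP F p] {V : Type v} [AddCommGroup V] [Module F V] [FiniteDimensional F V]
    (Q : QuadraticForm F V) (h : 2 < finrank F V) : p ∣ Nat.card {w : V // Q w = 0} := by
  classical
  let b := Module.finBasis F V
  let β := Q.toBilin b
  let f : MvPolynomial (Fin (finrank F V)) F := ∑ i, ∑ j, MvPolynomial.C (β (b i) (b j)) * MvPolynomial.X i * MvPolynomial.X j
  have hdeg : f.totalDegree ≤ 2 := by
    refine (MvPolynomial.totalDegree_finset_sum _ _).trans (Finset.sup_le fun i _ => ?_)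
    refine (MvPolynomial.totalDegree_finset_sum _ _).trans (Finset.sup_le fun j _ => ?_)
    refine (MvPolynomial.totalDegree_mul _ _).trans ?_
    refine (Nat.add_le_add (MvPolynomial.totalDegree_mul _ _) le_rfl).trans ?_
    rw [MvPolynomial.totalDegree_C, MvPolynomial.totalDegree_X, MvPolynomial.totalDegree_X]
  have heval : ∀ x, MvPolynomial.eval x f = Q (b.equivFun.symm x) := fun x => by
    rw [← show β.toQuadraticMap = Q from QuadraticMap.toQuadraticMap_toBilin _ _, LinearMap.BilinMap.toQuadraticMap_apply,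
      Basis.equivFun_symm_apply]
    simp only [f, map_sum, map_mul, MvPolynomial.eval_C, MvPolynomial.eval_X, LinearMap.sum_apply, map_smul,
      LinearMap.smul_apply, smul_eq_mul, Finset.mul_sum]
    rw [Finset.sum_comm]
    refine Finset.sum_congr rfl fun i _ => Finset.sum_congr rfl fun j _ => ?_
    ring
  have hcw := char_dvd_card_solutions (K := F) p (f := f) (by rw [Fintype.card_fin]; omega)
  rw [← Nat.card_eq_fintype_card, Nat.card_congr (Equiv.subtypeEquiv b.equivFun.symm.toEquiv fun x => by
    rw [heval]; rfl : _ ≃ {w : V // Q w = 0})] at hcw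
  exact hcw

/-- The characteristic does not divide the number of totally singular subspaces of small dimension. -/
theorem not_dvd_ts (p : ℕ) [Fact p.Prime] [CharP F p] : ∀ (m : ℕ) {V : Type v} [AddCommGroup V] [Module F V]
    [FiniteDimensional F V] (Q : QuadraticForm F V), (polarBilin Q).Nondegenerate → 2 * m < finrank F V →
    ¬ p ∣ Nat.card (TSub Q m) := by
  classical
  intro m
  induction m with
  | zero =>
    intro V _ _ _ Q hQ _ hd
    have h1 : Nat.card (TSub Q 0) = 1 := by
      refine Nat.card_eq_one_iff_unique.2 ⟨⟨fun a b => Subtype.ext ?_⟩,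
        ⟨⟨⊥, finrank_bot F V, fun w hw => by rw [(Submodule.mem_bot F).1 hw, map_zero]⟩⟩⟩
      rw [Submodule.finrank_eq_zero.1 a.2.1, Submodule.finrank_eq_zero.1 b.2.1]
    rw [h1, Nat.dvd_one] at hd
    exact (Fact.out : p.Prime).ne_one hd
  | succ m ih =>
    intro V _ _ _ Q hQ hm hd
    haveI : Finite V := Module.finite_of_finite F
    haveI : Finite (Submodule F V) := Finite.of_injective _ SetLike.coe_injective
    haveI : Finite (TSub Q (m + 1)) := Subtype.finite
    haveI := Fintype.ofFinite (TSub Q (m + 1))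
    haveI := Fintype.ofFinite {e : V // e ≠ 0 ∧ Q e = 0}
    haveI := Fintype.ofFinite {w : V // Q w = 0}
    have hpts := card_points (r := p) Q
    have hZ : (Nat.card {w : V // Q w = 0} : ZMod p) = 0 := (ZMod.natCast_eq_zero_iff _ _).2 (dvd_zeros p Q (by omega))
    rw [hZ] at hpts
    have hsum := congrArg (Nat.cast : ℕ → ZMod p) (sum_fib (Q := Q) m)
    rw [Nat.cast_mul, (ZMod.natCast_eq_zero_iff _ _).2 hd, zero_mul] at hsum
    rcases isEmpty_or_nonempty {e : V // e ≠ 0 ∧ Q e = 0} with he | ⟨⟨e₀⟩⟩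
    · rw [Nat.card_eq_zero.2 (Or.inl he), Nat.cast_zero, zero_add] at hpts
      exact one_ne_zero hpts
    · obtain ⟨H, hH, hdim, -, hc⟩ := fib_split hQ m e₀
      rw [Finset.sum_congr rfl (fun e _ => fib_congr hQ m e e₀), Finset.sum_const, smul_eq_mul, Finset.card_univ,
        ← Nat.card_eq_fintype_card, Nat.cast_mul, mul_eq_zero] at hsum
      rcases hsum with h | h
      · rw [h, zero_add] at hpts; exact one_ne_zero hpts
      · rw [ZMod.natCast_eq_zero_iff, hc] at h
        exact ih _ hH (by omega) h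

end Cfsg.Agent.Elusive
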