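import Cfsg.Agent.Lib.Elusive.OrthKer
import Cfsg.Agent.Lib.Elusive.OrthCount
import Cfsg.Agent.Lib.Elusive.OrthArith

/-!
Elements of odd prime order of orthogonal groups fixing totally singular subspaces.
-/

set_option autoImplicit false
set_option linter.all false
set_option maxHeartbeats 1600000

namespace Cfsg.Agent.Elusive

open Module Polynomial QuadraticMap LBRootPoly LBRootTwist

/-- Every element of order `r` of the projective group fixes a totally singular `m`-space. -/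
def TSFix {F : Type*} [Field F] {ι : Type} [Fintype ι] [DecidableEq ι] (Q : (ι → F) → F) (m r : ℕ) : Prop :=
  ∀ x : GL ι F, x ∈ Cfsg.Geo.omegaGL Q →
    (∃ z : F, ((x ^ r : GL ι F) : Matrix ι ι F) = z • (1 : Matrix ι ι F)) →
    (∀ z : F, (x : Matrix ι ι F) ≠ z • (1 : Matrix ι ι F)) →
    ∃ W : Submodule F (ι → F), Module.finrank F ↥W = m ∧ (∀ w ∈ W, Q w = 0) ∧
      W.map (Matrix.toLin' (x : Matrix ι ι F)) ≤ W

section general
variable {F : Type*} [Field F] [Fintype F] {V : Type*} [AddCommGroup V] [Module F V] [FiniteDimensional F V]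
  {Q : QuadraticForm F V} {r : ℕ} {T : Module.End F V}

/-- Singular subspaces of the fixed space short of half its dimension. -/
lemma exists_fixed_sing (hQ : (polarBilin Q).Nondegenerate) (hT : T ^ r = 1) (hr : (r : F) ≠ 0)
    (e : ∀ v, Q (T v) = Q v) (k : ℕ) (hk : k = 0 ∨ 2 * k < finrank F (fixedSpace T)) :
    ∃ A : Submodule F V, A ≤ fixedSpace T ∧ (quadSF hQ).Iso A ∧ finrank F A = k := by
  obtain ⟨A, -, hA, hAiso, hAd⟩ := SForm.exists_iso_climb hT hr (quad_isom (hQ := hQ) e) (i := 1) (D := 2) k (fixedSpace T)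
    (SForm.nd_fixed hT hr (quad_isom e)) (inv_of_le_fixed le_rfl) (step_quad_line hQ _ T le_rfl)
    (by rcases Nat.eq_zero_or_pos k with h | h <;> [exact Or.inl h; exact Or.inr (by omega)])
  exact ⟨A, hA, hAiso, by rw [hAd, mul_one]⟩

/-- Scalar multiples of the identity have no irreducible factor of large degree. -/
lemma not_scalar_of_factor {ι : Type*} [Fintype ι] [DecidableEq ι] {M : Matrix ι ι F} {g : F[X]} (hgi : Irreducible g)
    (hdeg : 2 ≤ g.natDegree) (hd : g ∣ M.charpoly) (z : F) : M ≠ z • (1 : Matrix ι ι F) := by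
  intro hM
  have h1 : M.charpoly = (X - C z) ^ Fintype.card ι := by
    rw [hM, Matrix.smul_one_eq_diagonal, Matrix.charpoly_diagonal, Finset.prod_const, Finset.card_univ]
  rw [h1] at hd
  have h2 := natDegree_le_of_dvd (hgi.prime.dvd_of_dvd_pow hd) (X_sub_C_ne_zero z)
  rw [natDegree_X_sub_C] at h2
  omega

lemma good_mul {r : ℕ} {f g : F[X]} (hf : Good r f) (hg : Good r g) : Good r (f * g) :=
  ⟨hf.1.mul hg.1, fun u hu hui hd => (hui.prime.dvd_or_dvd hd).elim (hf.2 u hu hui) (hg.2 u hu hui)⟩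

lemma good_pow {r : ℕ} {f : F[X]} (hf : Good r f) (k : ℕ) : Good r (f ^ k) :=
  ⟨hf.1.pow k, fun u hu hui hd => hf.2 u hu hui (hui.prime.dvd_of_dvd_pow hd)⟩

lemma good_one {r : ℕ} : Good r (1 : F[X]) :=
  ⟨monic_one, fun u hu hui hd => absurd (isUnit_of_dvd_one hd) hui.not_isUnit⟩

lemma good_irred {r : ℕ} {g : F[X]} (hm : g.Monic) (hi : Irreducible g) (hd : g ∣ X ^ r - 1) : Good r g :=
  ⟨hm, fun u hu hui h => (eq_of_monic_of_associated hu hm (hui.associated_of_dvd hi h)) ▸ hd⟩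

lemma good_prod {r : ℕ} {S : Finset F[X]} (h : ∀ g ∈ S, Good r g) : Good r (∏ g ∈ S, g) :=
  Finset.prod_induction _ (Good r) (fun _ _ => good_mul) good_one h

end general

section group
variable {F : Type*} [Field F] [Fintype F] {ι : Type} [Fintype ι] [DecidableEq ι]
  {Q : QuadraticForm F (ι → F)} {r : ℕ} [Fact r.Prime] {m : ℕ}

omit [Fintype F] [Fact r.Prime] in
lemma mem_omega_preserves {x : GL ι F} (hx : x ∈ Cfsg.Geo.omegaGL (⇑Q)) : ∀ v, Q (Matrix.toLin' x.1 v) = Q v := by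
  obtain ⟨g, -, rfl⟩ := hx
  intro v
  rw [Matrix.toLin'_apply]
  exact Orth.mem_isometryGroup.1 g.2 v

/-- Normalisation. -/
lemma exists_normal (hQ : (polarBilin Q).Nondegenerate) (hn : 0 < Fintype.card ι) (hr2 : r ≠ 2) {x : GL ι F}
    (hx : x ∈ Cfsg.Geo.omegaGL (⇑Q)) (hz : ∃ z : F, ((x ^ r : GL ι F) : Matrix ι ι F) = z • (1 : Matrix ι ι F)) :
    ∃ T : Module.End F (ι → F), T ^ r = 1 ∧ (∀ v, Q (T v) = Q v) ∧ ∀ W, Inv T W → Inv (Matrix.toLin' x.1) W := by
  obtain ⟨z, hz⟩ := hz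
  have hp := mem_omega_preserves hx
  have hpk : ∀ (k : ℕ) v, Q ((Matrix.toLin' x.1 ^ k) v) = Q v := fun k => by
    induction k with
    | zero => simp
    | succ k ih => intro v; rw [pow_succ', Module.End.mul_apply, hp, ih]
  have hTr : Matrix.toLin' x.1 ^ r = z • 1 := by
    rw [← Matrix.toLin'_pow, ← Units.val_pow_eq_pow_val, hz, map_smul, Matrix.toLin'_one]; rfl
  obtain ⟨v, hv⟩ : ∃ v, Q v ≠ 0 := by
    by_contra h
    push Not at h
    obtain ⟨k⟩ := Fintype.card_pos_iff.1 hn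
    have := hQ.1 (Pi.single k 1) fun w => by simp [polarBilin, polar, h]
    simpa using congrFun this k
  have hz2 : z * z = 1 := by
    have := hpk r v
    rw [hTr, LinearMap.smul_apply, Module.End.one_apply, QuadraticMap.map_smul, smul_eq_mul] at this
    exact mul_right_cancel₀ hv (by rw [this, one_mul])
  refine ⟨z • Matrix.toLin' x.1, ?_, fun v => ?_, fun W hW w hw => ?_⟩
  · rw [_root_.smul_pow, hTr, smul_smul, ← pow_succ]
    obtain ⟨l, hl⟩ := (Fact.out : r.Prime).odd_of_ne_two hr2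
    rw [hl, show 2 * l + 1 + 1 = 2 * (l + 1) by ring, pow_mul, pow_two, hz2, one_pow, one_smul]
  · rw [LinearMap.smul_apply, QuadraticMap.map_smul, hp, hz2, one_smul]
  · have := W.smul_mem z (hW w hw)
    rwa [LinearMap.smul_apply, smul_smul, hz2, one_smul] at this

omit [Fintype F] in
/-- Joining a fixed and a moved part. -/
lemma fix_of_parts (hQ : (polarBilin Q).Nondegenerate) (hr : (r : F) ≠ 0) {x : GL ι F} {T : Module.End F (ι → F)}
    (e : ∀ v, Q (T v) = Q v) (hW : ∀ W, Inv T W → Inv (Matrix.toLin' x.1) W)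
    {A W : Submodule F (ι → F)} (hA : A ≤ fixedSpace T) (hAiso : (quadSF hQ).Iso A) (hWi : Inv T W)
    (hWM : W ≤ movedSpace T r) (hWiso : (quadSF hQ).Iso W) (hd : finrank F A + finrank F W = m) :
    ∃ W : Submodule F (ι → F), Module.finrank F ↥W = m ∧ (∀ w ∈ W, Q w = 0) ∧
      W.map (Matrix.toLin' (x : Matrix ι ι F)) ≤ W := by
  obtain ⟨h1, h2, h3⟩ := SForm.iso_join hr (quad_isom (hQ := hQ) e) hA hAiso hWi hWM hWiso
  exact ⟨A ⊔ W, h3.trans hd, h2.2, inv_map_iff.2 (hW _ h1)⟩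

/-- A derangement from a characteristic polynomial. -/
lemma not_fix_of_charpoly [DecidableEq F] (p : ℕ) [Fact p.Prime] [CharP F p] (hQ : (polarBilin Q).Nondegenerate)
    (hr2 : r ≠ 2) (hrp : r ≠ p) {f g : F[X]} (hG : Good r f) (A : ↥(Cfsg.isometryGroup F (⇑Q)))
    (hA : (A : GL ι F).1.charpoly = f) (hgi : Irreducible g) (hgdeg : 2 ≤ g.natDegree) (hgd : g ∣ f)
    (hno : ∀ T : Module.End F (ι → F), T ^ r = 1 → (∀ v, Q (T v) = Q v) → T.charpoly = f →
      ∀ W, Inv T W → (∀ w ∈ W, Q w = 0) → finrank F W = m → False) : ¬ TSFix (⇑Q) m r := by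
  intro hall
  obtain ⟨x, hx, hxr, hxQ, hT, hc⟩ := exists_omega_charpoly p hQ hr2 hrp hG A hA
  obtain ⟨W, hWd, hWQ, hWi⟩ := hall x hx ⟨1, by rw [hxr, one_smul]; rfl⟩
    (not_scalar_of_factor hgi hgdeg (by rwa [← Matrix.charpoly_toLin', hc]))
  exact hno _ hT hxQ hc W (inv_map_iff.1 hWi) hWQ hWd

end group

section even
variable {F : Type*} [Field F] [Fintype F] {ι : Type} [Fintype ι] [DecidableEq ι]
  {Q : QuadraticForm F (ι → F)} {r : ℕ} [Fact r.Prime] {d m i : ℕ} {pl : Prop} {ε : ZMod r}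

/-- The type of an even-dimensional space modulo `r`. -/
structure EvenData (Q : QuadraticForm F (ι → F)) (r d : ℕ) (pl : Prop) (ε : ZMod r) : Prop where
  nondeg : (polarBilin Q).Nondegenerate
  card : Fintype.card ι = 2 * d
  pos : 1 ≤ d
  eps : pl ∧ ε = 1 ∨ ¬ pl ∧ ε = -1
  zeros : (Nat.card {v : ι → F // Q v = 0} : ZMod r) = (Fintype.card F : ZMod r) ^ (2 * d - 1) +
      ε * ((Fintype.card F : ZMod r) ^ d - (Fintype.card F : ZMod r) ^ (d - 1))
  isPlus : LBEven.IsPlus d Q ↔ pl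

omit [Fact r.Prime] in
lemma EvenData.finrank (D : EvenData Q r d pl ε) : finrank F (ι → F) = 2 * d := by
  rw [finrank_fintype_fun_eq_card, D.card]

lemma card_ne (hr : (r : F) ≠ 0) : (Fintype.card F : ZMod r) ≠ 0 := fun h => by
  obtain ⟨p, _⟩ := CharP.exists F
  obtain ⟨e, hp, hqe⟩ := FiniteField.card F p
  rw [ZMod.natCast_eq_zero_iff, hqe] at h
  rw [(Nat.prime_dvd_prime_iff_eq Fact.out hp).1 ((Fact.out : r.Prime).dvd_of_dvd_pow h), CharP.cast_eq_zero] at hr
  exact hr rfl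

lemma card_ne_one (hi : i = orderOf (Fintype.card F : ZMod r)) (h : i ≠ 1) : (Fintype.card F : ZMod r) ≠ 1 :=
  fun e => h (by rw [hi, e, orderOf_one])

lemma pow_half {h : ℕ} (hr2 : r ≠ 2) (hh : 0 < h) (hi : h + h = orderOf (Fintype.card F : ZMod r)) :
    (Fintype.card F : ZMod r) ^ h = -1 := by
  have h2 : ((Fintype.card F : ZMod r) ^ h) ^ 2 = 1 := by
    rw [← pow_mul, show h * 2 = orderOf (Fintype.card F : ZMod r) by omega, pow_orderOf_eq_one]
  exact (sq_eq_one_iff.1 h2).resolve_left (pow_ne_one_of_lt_orderOf (by omega) (by omega))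

lemma eps_parity (hr2 : r ≠ 2) (he : pl ∧ ε = 1 ∨ ¬ pl ∧ ε = -1) (N : ℕ) :
    (ε * (-1) ^ N = 1 ↔ (Even N ↔ pl)) ∧ (¬ (Even N ↔ pl) → ε * (-1) ^ N = -1) := by
  haveI : Fact (2 < r) := ⟨lt_of_le_of_ne (Fact.out : r.Prime).two_le (Ne.symm hr2)⟩
  have hne : (-1 : ZMod r) ≠ 1 := ZMod.neg_one_ne_one
  rcases he with ⟨h, rfl⟩ | ⟨h, rfl⟩ <;> rcases Nat.even_or_odd N with hN | hN <;>
    simp [h, hN.neg_one_pow, hne, hne.symm, hN, Nat.not_even_iff_odd.2, Nat.not_odd_iff_even.2] <;>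
    simp_all [Nat.not_even_iff_odd.2]

variable (D : EvenData Q r d pl ε)
include D

/-- Positive direction, even order. -/
lemma tsFix_even (hr : (r : F) ≠ 0) (hr2 : r ≠ 2) (hi : i = orderOf (Fintype.card F : ZMod r)) (hev : Even i)
    (hA : (r - 1) / i + 2 * (m / i) ≤ 2 * d / i)
    (hB : (2 * (m % i) ≤ i ∧ 2 * d % i = 0 ∧ (Odd (2 * d / i) ↔ pl) ∧ (r - 1) / i + 2 * (m / i) < 2 * d / i) ∨
      (2 * (m % i) ≤ 2 * d % i ∧ (Even (2 * d / i) ↔ pl)) ∨ (2 * (m % i) < 2 * d % i ∧ (Odd (2 * d / i) ↔ pl))) :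
    TSFix (⇑Q) m r := by
  intro x hx hz _
  have hQ := D.nondeg
  obtain ⟨T, hT, e, hTW⟩ := exists_normal hQ (by rw [D.card]; have := D.pos; omega) hr2 hx hz
  have hI := quad_isom (hQ := hQ) e
  have hi0 : 0 < i := hi ▸ orderOf_card_pos hr
  obtain ⟨h, hh⟩ := hev
  have hxh := pow_half (F := F) (r := r) hr2 (h := h) (by omega) (by omega)
  obtain ⟨N, hN, hsum⟩ := exists_moved_eq hT hr
  rw [← hi] at hN hsum
  rw [D.finrank] at hsum
  obtain ⟨a, hae⟩ : ∃ a, finrank F (fixedSpace T) = 2 * a := ⟨d - N * h, by rw [hh, Nat.mul_add] at hsum; omega⟩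
  rw [hae] at hsum
  have hda : d - a = N * h := by rw [hh, Nat.mul_add] at hsum; omega
  have hq0 := card_ne (F := F) hr
  have hq1 := card_ne_one (F := F) (r := r) hi (by omega)
  have hc : ε * (Fintype.card F : ZMod r) ^ (d - a) = ε * (-1) ^ N := by rw [hda, mul_comm N h, pow_mul, hxh]
  have hM : (Fintype.card F : ZMod r) ^ (2 * (d - a)) = 1 := by
    rw [hda, show 2 * (N * h) = i * N by rw [hh]; ring, pow_mul, hi, pow_orderOf_eq_one, one_pow]
  obtain ⟨t0, t1, -⟩ := fixed_type hQ hT hr hr2 e hq0 hq1 D.finrank D.pos hae D.zeros hM hc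
  have htd : i ∣ r - 1 := hi ▸ orderOf_dvd_of_pow_eq_one (ZMod.pow_card_sub_one_eq_one hq0)
  obtain ⟨t, ht⟩ : ∃ t, t = (r - 1) / i := ⟨_, rfl⟩
  have hti : t * i = r - 1 := ht ▸ Nat.div_mul_cancel htd
  rw [← ht] at hA hB
  have ht0 : 0 < t := Nat.pos_of_ne_zero fun e => by
    rw [e, zero_mul] at hti; have := (Fact.out : r.Prime).two_le; omega
  obtain ⟨j, hj, hjm, hja, hfull⟩ := even_case pl hi0 (n := 2 * d) (m := m) (a := a) (N := N) (t := t)
    (by omega) ht0 (fun ha => ((eps_parity hr2 D.eps N).1).1 (t0 ha)) hA hB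
  obtain ⟨W, hWi, hWM, hWiso, hWd⟩ := SForm.exists_iso_climb hT hr hI j _ (SForm.nd_moved hT hr hI) inv_moved
    (hi ▸ step_quad hQ hT hr hr2 e) (by
      rcases Nat.eq_zero_or_pos j with rfl | hj0
      · exact Or.inl rfl
      · refine Or.inr ?_
        rw [hN, ← hti]
        have h3 : (2 * (j - 1) + t) * i < N * i := Nat.mul_lt_mul_of_pos_right (by omega) hi0
        rw [Nat.add_mul, Nat.mul_assoc] at h3
        omega)
  obtain ⟨A, hA', hAiso, hAd⟩ : ∃ A : Submodule F (ι → F), A ≤ fixedSpace T ∧ (quadSF hQ).Iso A ∧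
      finrank F A = m - j * i := by
    rcases eq_or_lt_of_le hja with he | hlt
    · rcases Nat.eq_zero_or_pos a with ha | ha
      · exact exists_fixed_sing hQ hT hr e _ (Or.inl (by omega))
      · obtain ⟨U, hU, hUQ, hUd⟩ := t1 ha ((eps_parity hr2 D.eps N).1.2 ((hfull he).resolve_left (by omega)))
        exact ⟨U, hU, quad_iso hUQ, hUd.trans he.symm⟩
    · exact exists_fixed_sing hQ hT hr e _ (Or.inr (by omega))
  exact fix_of_parts hQ hr e hTW hA' hAiso hWi hWM hWiso (by omega)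

/-- Positive direction, odd order. -/
lemma tsFix_odd (hr : (r : F) ≠ 0) (hr2 : r ≠ 2) (hi : i = orderOf (Fintype.card F : ZMod r)) (hodd : Odd i)
    (hmd : m < d) (h : pl ∧ 2 * (m % i) ≤ 2 * d % (2 * i) ∨
      ¬ pl ∧ (2 * d % (2 * i) = 0 ∨ 2 * (m % i) < 2 * d % (2 * i))) : TSFix (⇑Q) m r := by
  intro x hx hz _
  have hQ := D.nondeg
  obtain ⟨T, hT, e, hTW⟩ := exists_normal hQ (by rw [D.card]; have := D.pos; omega) hr2 hx hz
  have hI := quad_isom (hQ := hQ) e
  have hi0 : 0 < i := hi ▸ orderOf_card_pos hr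
  obtain ⟨N, hN, hsum⟩ := exists_moved_eq hT hr
  rw [← hi] at hN hsum
  rw [D.finrank] at hsum
  have hev : Even (N * i) := hN ▸ even_moved_nd hQ hT hr hr2 e inv_moved le_rfl (SForm.nd_moved hT hr hI)
  obtain ⟨N', rfl⟩ := (Nat.even_mul.1 hev).resolve_right (Nat.not_even_iff_odd.2 hodd)
  rw [Nat.add_mul] at hsum
  obtain ⟨a, hae⟩ : ∃ a, finrank F (fixedSpace T) = 2 * a := ⟨d - N' * i, by omega⟩
  rw [hae] at hsum
  have hk : 2 * d % (2 * i) = 2 * (a % i) := by
    rw [Nat.mul_mod_mul_left, show d = a + N' * i by omega, Nat.add_mul_mod_self_right]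
  rw [hk] at h
  have hda : d - a = N' * i := by omega
  have hx' : (Fintype.card F : ZMod r) ^ (d - a) = 1 := by
    rw [hda, mul_comm, pow_mul, hi, pow_orderOf_eq_one, one_pow]
  have htype : i ≠ 1 → (a = 0 → pl) ∧ (1 ≤ a → pl →
      ∃ U : Submodule F (ι → F), U ≤ fixedSpace T ∧ (∀ u ∈ U, Q u = 0) ∧ finrank F U = a) := fun hi1 => by
    obtain ⟨t0, t1, -⟩ := fixed_type hQ hT hr hr2 e (card_ne (F := F) hr) (card_ne_one (F := F) (r := r) hi hi1)
      D.finrank D.pos hae D.zeros (by rw [two_mul, pow_add, hx', one_mul]) (c := ε) (by rw [hx', mul_one])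
    haveI : Fact (2 < r) := ⟨lt_of_le_of_ne (Fact.out : r.Prime).two_le (Ne.symm hr2)⟩
    rcases D.eps with ⟨hp, he⟩ | ⟨hp, he⟩
    · exact ⟨fun _ => hp, fun ha _ => t1 ha he⟩
    · exact ⟨fun ha => absurd ((t0 ha).symm.trans he) ZMod.neg_one_ne_one.symm, fun _ hp' => absurd hp' hp⟩
  have hdm := Nat.div_add_mod' m i
  have hmi := Nat.mod_lt m hi0
  obtain ⟨j, hjN, hjm, hrest, hfull⟩ : ∃ j, j ≤ N' ∧ j * i ≤ m ∧ m - j * i ≤ a ∧
      (m - j * i = a → a = 0 ∨ (pl ∧ i ≠ 1)) := by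
    by_cases hle : N' ≤ m / i
    · have := Nat.mul_le_mul_right i hle
      exact ⟨N', le_rfl, by omega, by omega, fun he => by omega⟩
    · refine ⟨m / i, by omega, by omega, ?_, fun he => ?_⟩
      · have := Nat.mod_le a i
        rcases h with ⟨-, h⟩ | ⟨hp, h⟩
        · omega
        rcases Nat.eq_zero_or_pos a with ha | ha
        · rcases h with h | h
          · by_cases hi1 : i = 1
            · omega
            · exact absurd ((htype hi1).1 ha) hp
          · omega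
        · rcases h with h | h
          · have : i ≤ a := Nat.le_of_dvd ha (Nat.dvd_of_mod_eq_zero (by omega))
            omega
          · omega
      · rw [show m - m / i * i = m % i by omega] at he
        rcases Nat.eq_zero_or_pos a with ha | ha
        · exact Or.inl ha
        have := Nat.mod_le a i
        rw [show a % i = a from Nat.mod_eq_of_lt (by omega)] at h
        rcases h with ⟨hp, -⟩ | ⟨hp, h⟩
        · exact Or.inr ⟨hp, by omega⟩
        · omega
  obtain ⟨W, hWi, hWM, hWiso, hWd⟩ := SForm.exists_iso_climb hT hr hI j _ (SForm.nd_moved hT hr hI) inv_moved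
    (hi ▸ step_quad_odd hQ hT hr hr2 e (hi ▸ hodd)) (by
      rcases Nat.eq_zero_or_pos j with rfl | hj0
      · exact Or.inl rfl
      · refine Or.inr ?_
        rw [hN, Nat.add_mul]
        have h3 : (j - 1) * i < N' * i := Nat.mul_lt_mul_of_pos_right (by omega) hi0
        omega)
  obtain ⟨A, hA', hAiso, hAd⟩ : ∃ A : Submodule F (ι → F), A ≤ fixedSpace T ∧ (quadSF hQ).Iso A ∧
      finrank F A = m - j * i := by
    rcases eq_or_lt_of_le hrest with he | hlt
    · rcases Nat.eq_zero_or_pos a with ha | ha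
      · exact exists_fixed_sing hQ hT hr e _ (Or.inl (by omega))
      · obtain ⟨hp, hi1⟩ := (hfull he).resolve_left (by omega)
        obtain ⟨U, hU, hUQ, hUd⟩ := (htype hi1).2 ha hp
        exact ⟨U, hU, quad_iso hUQ, hUd.trans he.symm⟩
    · exact exists_fixed_sing hQ hT hr e _ (Or.inr (by omega))
  exact fix_of_parts hQ hr e hTW hA' hAiso hWi hWM hWiso (by omega)

/-- Witnesses, even order. -/
lemma witness_even [DecidableEq F] (p : ℕ) [Fact p.Prime] [CharP F p] (hrp : r ≠ p) (hr2 : r ≠ 2)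
    (hi : i = orderOf (Fintype.card F : ZMod r)) (hev : Even i) {s L f : ℕ} (hs : s < (r - 1) / i) (hL : 0 < L)
    (hn : 2 * d = f + (s + L) * i) (hf : 0 < f ∨ (Even (s + L) ↔ pl))
    (hno : ∀ c b, m = c + b * i → 2 * c ≤ f → (2 * c = f → f = 0 ∨ (Even (s + L) ↔ pl)) → 2 * b ≤ L → False) :
    ¬ TSFix (⇑Q) m r := by
  classical
  have hrP : r.Prime := Fact.out
  have hr : (r : F) ≠ 0 := fun h => hrp (by
    rw [CharP.cast_eq_zero_iff F p] at h
    exact ((Nat.prime_dvd_prime_iff_eq Fact.out hrP).1 h).symm)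
  have hQ := D.nondeg
  have hi0 : 0 < i := hi ▸ orderOf_card_pos hr
  obtain ⟨h, hh⟩ := hev
  have hxh := pow_half (F := F) (r := r) hr2 (h := h) (by omega) (by omega)
  have htc : (factors F r).card = (r - 1) / i := by
    rw [← card_factors (F := F) p hrP hrp, ← hi, Nat.mul_div_cancel _ hi0]
  obtain ⟨g₀, hg₀⟩ : (factors F r).Nonempty := Finset.card_pos.1 (by omega)
  obtain ⟨S, hSsub, hScard⟩ := Finset.exists_subset_card_eq (s := (factors F r).erase g₀) (n := s)
    (by rw [Finset.card_erase_of_mem hg₀, htc]; omega)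
  have hmem : ∀ g ∈ factors F r, g.Monic ∧ Irreducible g ∧ g ∣ X ^ r - 1 ∧ g ≠ X - C 1 ∧ g.natDegree = i ∧
      rc (RingHom.id F) g = g := fun g hg => by
    obtain ⟨h1, h2, h3, h4⟩ := (mem_factors hrP.ne_zero).1 hg
    exact ⟨h2, h3, h4, h1, hi ▸ natDegree_factor hrP h2 h3 h4 h1,
      (LBEvenRoot.rc_self_iff' p hrP hr2 hrp hg).2 (hi ▸ ⟨h, hh⟩)⟩
  have hSf : ∀ g ∈ S, g ∈ factors F r := fun g hg => Finset.mem_of_mem_erase (hSsub hg)
  obtain ⟨P, hP⟩ : ∃ P : F[X], P = (X - C 1) ^ f * (g₀ ^ L * ∏ g ∈ S, g) := ⟨_, rfl⟩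
  have hGX : Good r (X - C 1 : F[X]) :=
    good_irred (monic_X_sub_C 1) (irreducible_X_sub_C 1) (dvd_iff_isRoot.2 (by simp [IsRoot]))
  have hgood : ∀ g ∈ factors F r, Good r g := fun g hg => good_irred (hmem g hg).1 (hmem g hg).2.1 (hmem g hg).2.2.1
  have hG : Good r P := hP ▸ good_mul (good_pow hGX f)
    (good_mul (good_pow (hgood g₀ hg₀) L) (good_prod fun g hg => hgood g (hSf g hg)))
  have hdeg : P.natDegree = 2 * d := by
    have hm1 : (g₀ ^ L).Monic := (hmem g₀ hg₀).1.pow L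
    have hm2 : (∏ g ∈ S, g).Monic := monic_prod_of_monic _ _ fun g hg => (hmem g (hSf g hg)).1
    rw [hP, ((monic_X_sub_C (1 : F)).pow f).natDegree_mul (hm1.mul hm2), hm1.natDegree_mul hm2, natDegree_pow,
      natDegree_pow, natDegree_X_sub_C, (hmem g₀ hg₀).2.2.2.2.1,
      natDegree_prod_of_monic _ _ (fun g hg => (hmem g (hSf g hg)).1),
      Finset.sum_congr rfl (fun g hg => (hmem g (hSf g hg)).2.2.2.2.1), Finset.sum_const, hScard, smul_eq_mul, hn,
      Nat.add_mul]
    ring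
  have hrc : rc (RingHom.id F) P = P := by
    rw [hP, rc_mul, rc_mul, rc_pow, rc_pow, rc_prod, rc_X_sub_one, (hmem g₀ hg₀).2.2.2.2.2,
      Finset.prod_congr rfl fun g hg => (hmem g (hSf g hg)).2.2.2.2.2]
  obtain ⟨A, hA⟩ := LBEvenRoot.exists_model p hrP hr2 hrp hi D.pos D.card hQ ⟨⟨hdeg, hG⟩, hrc⟩ (by
    rcases Nat.eq_zero_or_pos f with h0 | h0
    · right
      rw [D.isPlus, LBEvenRoot.Typ, show 2 * d / i = s + L by
        rw [hn, h0, zero_add, Nat.mul_div_cancel _ hi0]]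
      have := hf.resolve_left (by omega)
      exact ⟨fun hp _ => this.2 hp, fun hh' => this.1 (hh' ⟨h, hh⟩)⟩
    · exact Or.inl (hP ▸ (dvd_pow_self _ h0.ne').trans (dvd_mul_right _ _)))
  refine not_fix_of_charpoly p hQ hr2 hrp hG A hA (hmem g₀ hg₀).2.1 (by rw [(hmem g₀ hg₀).2.2.2.2.1]; omega)
    (hP ▸ ((dvd_pow_self _ hL.ne').trans (dvd_mul_right _ _)).trans (dvd_mul_left _ _)) ?_
  intro T hT e hc W hWi hWQ hWd
  have hI := quad_isom (hQ := hQ) e
  have hg₀S : g₀ ∉ S := fun hh' => (Finset.mem_erase.1 (hSsub hh')).1 rfl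
  obtain ⟨b, hb, hbL⟩ := iso_bound p hT hr hr2 hI (hi ▸ ⟨h, hh⟩) (S := S) (fun g hg => hSf g hg) g₀
    (fun _ => ⟨hg₀, hg₀S⟩) (hc.trans hP) hWi (quad_iso (hQ := hQ) hWQ).1
  rw [← hi] at hb
  obtain ⟨hsplit, hfx, -⟩ := SForm.iso_parts hT hr hI hWi (quad_iso (hQ := hQ) hWQ)
  have hfd : finrank F (fixedSpace T) = f := by
    refine finrank_fixed_charpoly hT hr (hc.trans hP) fun hd => ?_
    have hX : Prime (X - C 1 : F[X]) := prime_X_sub_C 1
    have hne : ∀ g ∈ factors F r, ¬ (X - C 1 : F[X]) ∣ g := fun g hg hd' => (hmem g hg).2.2.2.1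
      (eq_of_monic_of_associated (monic_X_sub_C 1) (hmem g hg).1
        ((irreducible_X_sub_C 1).associated_of_dvd (hmem g hg).2.1 hd')).symm
    rcases hX.dvd_or_dvd hd with h1 | h1
    · exact hne g₀ hg₀ (hX.dvd_of_dvd_pow h1)
    · obtain ⟨g, hg, hd'⟩ := (hX.dvd_finsetProd_iff _).1 h1
      exact hne g (hSf g hg) hd'
  rw [hfd] at hfx
  refine hno (finrank F (W ⊓ fixedSpace T : Submodule F (ι → F))) b (by rw [← hWd, hsplit, hb, mul_comm]) hfx
    (fun hfull => or_iff_not_imp_left.2 fun hf0 => ?_) hbL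
  obtain ⟨a, ha⟩ : ∃ a, f = 2 * a := ⟨_, hfull.symm⟩
  have hda : d - a = (s + L) * h := by
    rw [hh, Nat.mul_add] at hn; omega
  by_contra hpar
  obtain ⟨-, -, t2⟩ := fixed_type hQ hT hr hr2 e (card_ne (F := F) hr) (card_ne_one (F := F) (r := r) hi (by omega))
    D.finrank D.pos (hfd.trans ha) D.zeros
    (by rw [hda, show 2 * ((s + L) * h) = i * (s + L) by rw [hh]; ring, pow_mul, hi, pow_orderOf_eq_one, one_pow])
    (c := ε * (-1) ^ (s + L)) (by rw [hda, mul_comm (s + L) h, pow_mul, hxh])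
  have := t2 (by omega) ((eps_parity hr2 D.eps _).2 hpar) _ inf_le_right (fun u hu => hWQ u hu.1)
  omega

/-- Witnesses, odd order. -/
lemma witness_odd [DecidableEq F] (p : ℕ) [Fact p.Prime] [CharP F p] (hrp : r ≠ p) (hr2 : r ≠ 2)
    (hi : i = orderOf (Fintype.card F : ZMod r)) (hodd : Odd i) (hmd : m < d)
    (h : (2 * d % (2 * i) < 2 * (m % i) ∧ (pl ∨ 2 * d % (2 * i) ≠ 0)) ∨
      (¬ pl ∧ 2 * d % (2 * i) ≠ 0 ∧ 2 * d % (2 * i) = 2 * (m % i))) : ¬ TSFix (⇑Q) m r := by
  classical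
  have hrP : r.Prime := Fact.out
  have hr : (r : F) ≠ 0 := fun h => hrp (by
    rw [CharP.cast_eq_zero_iff F p] at h
    exact ((Nat.prime_dvd_prime_iff_eq Fact.out hrP).1 h).symm)
  have hQ := D.nondeg
  have hi0 : 0 < i := hi ▸ orderOf_card_pos hr
  rw [Nat.mul_mod_mul_left] at h
  have hdm := Nat.div_add_mod' d i
  have hmi := Nat.mod_lt m hi0
  have hml := Nat.mod_le m i
  have hdi := Nat.mod_lt d hi0
  obtain ⟨n, hn⟩ : ∃ n, n = d / i := ⟨_, rfl⟩
  obtain ⟨k, hk⟩ : ∃ k, k = d % i := ⟨_, rfl⟩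
  rw [← hk] at h hdi
  rw [← hn, ← hk] at hdm
  have hn0 : 0 < n := Nat.pos_of_ne_zero fun e => by rw [e, zero_mul] at hdm; omega
  have htc : (factors F r).card * i = r - 1 := hi ▸ card_factors p hrP hrp
  obtain ⟨g, hg⟩ : (factors F r).Nonempty := Finset.card_pos.1 (Nat.pos_of_ne_zero fun e => by
    rw [e, zero_mul] at htc; have := hrP.two_le; omega)
  obtain ⟨hg1, hgm, hgi, hgd⟩ := (mem_factors hrP.ne_zero).1 hg
  have hid : ∀ x : F, RingHom.id F (RingHom.id F x) = x := fun _ => rfl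
  have hg0 := factor_coeff_zero hrP.ne_zero hgd
  obtain ⟨hg1', hgm', hgi', hgd'⟩ := (mem_factors hrP.ne_zero).1 (rc_mem_factors _ hid hrP hg)
  have hdg : g.natDegree = i := hi ▸ natDegree_factor hrP hgm hgi hgd hg1
  have hdg' : (rc (RingHom.id F) g).natDegree = i := hi ▸ natDegree_factor hrP hgm' hgi' hgd' hg1'
  obtain ⟨P, hP⟩ : ∃ P : F[X], P = (X - C 1) ^ (2 * k) * (g * rc (RingHom.id F) g) ^ n := ⟨_, rfl⟩
  have hGX : Good r (X - C 1 : F[X]) :=
    good_irred (monic_X_sub_C 1) (irreducible_X_sub_C 1) (dvd_iff_isRoot.2 (by simp [IsRoot]))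
  have hG : Good r P := hP ▸ good_mul (good_pow hGX _)
    (good_pow (good_mul (good_irred hgm hgi hgd) (good_irred hgm' hgi' hgd')) n)
  have hdeg : P.natDegree = 2 * d := by
    rw [hP, ((monic_X_sub_C (1 : F)).pow _).natDegree_mul ((hgm.mul hgm').pow _), natDegree_pow, natDegree_pow,
      natDegree_X_sub_C, hgm.natDegree_mul hgm', hdg, hdg', ← hdm]
    ring
  have hrc : rc (RingHom.id F) P = P := by
    rw [hP, rc_mul, rc_pow, rc_pow, rc_mul, rc_X_sub_one, rc_rc _ hid hgm hg0, mul_comm (rc _ g)]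
  obtain ⟨A, hA⟩ := LBEvenRoot.exists_model p hrP hr2 hrp hi D.pos D.card hQ ⟨⟨hdeg, hG⟩, hrc⟩ (by
    rcases Nat.eq_zero_or_pos k with h0 | h0
    · right
      rw [D.isPlus, LBEvenRoot.Typ]
      exact iff_of_true (by rcases h with ⟨-, hp | h⟩ | ⟨-, h, -⟩ <;> first | exact hp | omega)
        fun he => absurd he (Nat.not_even_iff_odd.2 hodd)
    · exact Or.inl (hP ▸ (dvd_pow_self _ (by omega : 2 * k ≠ 0)).trans (dvd_mul_right _ _)))
  refine not_fix_of_charpoly p hQ hr2 hrp hG A hA hgi (by rw [hdg]; omega)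
    (hP ▸ ((dvd_mul_right g _).trans (dvd_pow_self _ hn0.ne')).trans (dvd_mul_left _ _)) ?_
  intro T hT e hc W hWi hWQ hWd
  have hI := quad_isom (hQ := hQ) e
  obtain ⟨hsplit, hfx, -⟩ := SForm.iso_parts hT hr hI hWi (quad_iso (hQ := hQ) hWQ)
  obtain ⟨b, hb⟩ := dvd_finrank_moved hT hr (W := W ⊓ movedSpace T r)
    (fun v hv => ⟨hWi v hv.1, inv_moved v hv.2⟩) inf_le_right
  rw [← hi] at hb
  have hfd : finrank F (fixedSpace T) = 2 * k := by
    refine finrank_fixed_charpoly hT hr (hc.trans hP) fun hd => ?_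
    have hX : Prime (X - C 1 : F[X]) := prime_X_sub_C 1
    rcases hX.dvd_or_dvd (hX.dvd_of_dvd_pow hd) with h1 | h1
    · exact hg1 (eq_of_monic_of_associated (monic_X_sub_C 1) hgm ((irreducible_X_sub_C 1).associated_of_dvd hgi h1)).symm
    · exact hg1' (eq_of_monic_of_associated (monic_X_sub_C 1) hgm' ((irreducible_X_sub_C 1).associated_of_dvd hgi' h1)).symm
  rw [hfd] at hfx
  have hck : finrank F (W ⊓ fixedSpace T : Submodule F (ι → F)) = m % i := by
    rw [← hWd, hsplit, hb, Nat.add_mul_mod_self_left, Nat.mod_eq_of_lt (by omega)]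
  rcases h with ⟨h, -⟩ | ⟨hp, h0, h⟩
  · omega
  have hda : d - k = n * i := by omega
  obtain ⟨-, -, t2⟩ := fixed_type hQ hT hr hr2 e (card_ne (F := F) hr) (card_ne_one (F := F) (r := r) hi (by omega))
    D.finrank D.pos hfd D.zeros
    (by rw [hda, show 2 * (n * i) = i * (2 * n) by ring, pow_mul, hi, pow_orderOf_eq_one, one_pow])
    (c := -1) (by rw [hda, mul_comm, mul_comm n i, pow_mul, hi, pow_orderOf_eq_one, one_pow, one_mul]
                  exact D.eps.elim (fun hh => absurd hh.1 hp) And.right)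
  have := t2 (by omega) rfl _ inf_le_right (fun u hu => hWQ u hu.1)
  omega

/-- The criterion for odd primes. -/
theorem tsFix_iff_odd [DecidableEq F] (p : ℕ) [Fact p.Prime] [CharP F p] (hrp : r ≠ p) (hr2 : r ≠ 2)
    (hi : i = orderOf (Fintype.card F : ZMod r)) (hm : 1 ≤ m) (hmd : m < d) (hdvd : r ∣ Nat.card (TSub Q m)) :
    TSFix (⇑Q) m r ↔
      (Odd i ∧ i ≤ m ∧ (pl ∧ 2 * (m % i) ≤ 2 * d % (2 * i) ∨
          ¬ pl ∧ (2 * d % (2 * i) = 0 ∨ 2 * (m % i) < 2 * d % (2 * i)))) ∨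
      (Even i ∧ i ≤ m ∧ (r - 1) / i + 2 * (m / i) ≤ 2 * d / i ∧
        ((2 * (m % i) ≤ i ∧ 2 * d % i = 0 ∧ (Odd (2 * d / i) ↔ pl) ∧ (r - 1) / i + 2 * (m / i) < 2 * d / i) ∨
          (2 * (m % i) ≤ 2 * d % i ∧ (Even (2 * d / i) ↔ pl)) ∨
          (2 * (m % i) < 2 * d % i ∧ (Odd (2 * d / i) ↔ pl)))) := by
  have hrP : r.Prime := Fact.out
  have hr : (r : F) ≠ 0 := fun h => hrp (by
    rw [CharP.cast_eq_zero_iff F p] at h
    exact ((Nat.prime_dvd_prime_iff_eq Fact.out hrP).1 h).symm)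
  have hi0 : 0 < i := hi ▸ orderOf_card_pos hr
  have htd : i ∣ r - 1 := hi ▸ orderOf_dvd_of_pow_eq_one (ZMod.pow_card_sub_one_eq_one (card_ne (F := F) hr))
  have ht0 : 0 < (r - 1) / i := Nat.div_pos (Nat.le_of_dvd (by have := hrP.two_le; omega) htd) hi0
  obtain ⟨x, hx⟩ : ∃ x, x = (Fintype.card F : ZMod r) := ⟨_, rfl⟩
  have hx0 : x ≠ 0 := hx ▸ card_ne (F := F) hr
  -- the count
  obtain ⟨j, hjm, hje⟩ : ∃ j < m, (x ^ (d - j) = 1 ∨ x ^ (d - 1 - j) = -1) ∧ pl ∨
      (x ^ (d - j) = -1 ∨ x ^ (d - 1 - j) = 1) ∧ ¬ pl := by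
    obtain ⟨j, hjm, hj⟩ := count_ts m Q D.nondeg (ε * (x ^ d - x ^ (d - 1))) (by
      rw [D.finrank, D.zeros, ← hx, mul_add, ← pow_succ', show 2 * d - 1 + 1 = 2 * d by have := D.pos; omega]
      ring) hdvd
    refine ⟨j, hjm, ?_⟩
    rw [D.finrank, ← hx] at hj
    obtain ⟨e, he⟩ : ∃ e, d = j + 1 + e := ⟨d - j - 1, by omega⟩
    rw [he, show j + 1 + e - j = e + 1 by omega, show j + 1 + e - 1 - j = e by omega]
    rw [he, show 2 * (j + 1 + e) = 2 * j + 1 + (2 * e + 1) by ring, pow_add x (2 * j + 1),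
      show j + 1 + e - 1 = j + e by omega] at hj
    rcases D.eps with ⟨hp, h1⟩ | ⟨hp, h1⟩ <;> rw [h1] at hj
    · refine Or.inl ⟨?_, hp⟩
      have h2 : x ^ (2 * j + 1) * ((x ^ (e + 1) - 1) * (x ^ e + 1)) = 0 := by linear_combination hj
      exact (mul_eq_zero.1 ((mul_eq_zero.1 h2).resolve_left (pow_ne_zero _ hx0))).imp sub_eq_zero.1 eq_neg_of_add_eq_zero_left
    · refine Or.inr ⟨?_, hp⟩
      have h2 : x ^ (2 * j + 1) * ((x ^ (e + 1) + 1) * (x ^ e - 1)) = 0 := by linear_combination hj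
      exact (mul_eq_zero.1 ((mul_eq_zero.1 h2).resolve_left (pow_ne_zero _ hx0))).imp eq_neg_of_add_eq_zero_left sub_eq_zero.1
  have hone : ∀ e : ℕ, x ^ e = 1 → i ∣ e := fun e he => by rw [hi]; exact orderOf_dvd_of_pow_eq_one (hx ▸ he)
  rcases Nat.even_or_odd i with hev | hodd
  · constructor
    · intro hall
      obtain ⟨h, hh⟩ := hev
      have hneg : ∀ e : ℕ, x ^ e = -1 → ∃ u, 2 * e = i * (2 * u + 1) := fun e he => by
        obtain ⟨u, hu⟩ := hone (e + h) (by rw [pow_add, he, hx, pow_half hr2 (by omega) (by omega)]; ring)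
        refine ⟨u - 1, ?_⟩
        obtain ⟨u, rfl⟩ : ∃ v, u = v + 1 := ⟨u - 1, by
          rcases u with _ | v
          · omega
          · omega⟩
        rw [Nat.mul_add] at hu
        rw [Nat.add_sub_cancel, Nat.mul_add, Nat.mul_left_comm]
        omega
      obtain ⟨k, hk⟩ : ∃ k, k = 2 * d % i := ⟨_, rfl⟩
      obtain ⟨n, hn⟩ : ∃ n, n = 2 * d / i := ⟨_, rfl⟩
      obtain ⟨t, ht⟩ : ∃ t, t = (r - 1) / i := ⟨_, rfl⟩
      have hdn : 2 * d = n * i + k := by rw [hn, hk]; exact (Nat.div_add_mod' _ i).symm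
      have hki : k < i := hk ▸ Nat.mod_lt _ hi0
      have hdm := Nat.div_add_mod' m i
      have hmi := Nat.mod_lt m hi0
      have hke : k % 2 = 0 := by
        rw [hk, Nat.mod_mod_of_dvd _ (⟨h, by omega⟩ : 2 ∣ i), Nat.mul_mod_right]
      rw [← hn, ← hk, ← ht]
      rw [← ht] at ht0
      have hBfail : ∀ {s L f : ℕ}, s < t → 0 < L → 2 * d = f + (s + L) * i → (0 < f ∨ (Even (s + L) ↔ pl)) →
          (∀ c b, m = c + b * i → 2 * c ≤ f → (2 * c = f → f = 0 ∨ (Even (s + L) ↔ pl)) → 2 * b ≤ L → False) → False :=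
        fun hs hL hn' hf hno => witness_even D p hrp hr2 hi ⟨h, hh⟩ (ht ▸ hs) hL hn' hf hno hall
      have hmodc : ∀ {c b}, m = c + b * i → c < i → c = m % i := fun {c b} e hc => by
        rw [e, Nat.add_mul_mod_self_right, Nat.mod_eq_of_lt hc]
      -- the weak condition
      have hB' : (2 * (m % i) ≤ i ∧ k = 0 ∧ (Odd n ↔ pl)) ∨ (2 * (m % i) ≤ k ∧ (Even n ↔ pl)) ∨
          (2 * (m % i) < k ∧ (Odd n ↔ pl)) := by
        have hpar : (Even n ↔ pl) ∨ (Odd n ↔ pl) := by
          rw [← Nat.not_even_iff_odd]; by_cases hp : pl <;> by_cases he : Even n <;> simp [hp, he]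
        rcases Nat.eq_zero_or_pos n with hn0 | hn0
        · have hlt : m < k := by rw [hn0, zero_mul] at hdn; omega
          have : m % i ≤ m := Nat.mod_le _ _
          rw [hn0, zero_mul] at hdn
          rcases hpar with hp | hp
          · exact Or.inr (Or.inl ⟨by omega, hp⟩)
          · exact Or.inr (Or.inr ⟨by omega, hp⟩)
        by_contra hcon
        rw [not_or, not_or, not_and_or, not_and_or, not_and_or, not_and_or] at hcon
        obtain ⟨c1, c2, c3⟩ := hcon
        rcases Nat.eq_zero_or_pos k with hk0 | hk0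
        · rcases hpar with hp | hp
          · refine hBfail (s := 0) (L := n) (f := 0) ht0 hn0 (by simp only [Nat.zero_add]; omega) (Or.inr (by rwa [zero_add])) fun c b hcb hc _ _ => ?_
            have := hmodc hcb (by omega)
            rcases c2 with c | c
            · omega
            · exact c hp
          · have hl : i < 2 * (m % i) := by
              rcases c1 with c | c | c
              · omega
              · exact absurd hk0 c
              · exact absurd hp c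
            have hn2 : 2 ≤ n := by
              by_contra hlt
              rw [show n = 1 by omega, one_mul] at hdn
              have := Nat.mod_le m i
              omega
            refine hBfail (s := 0) (L := n - 1) (f := i) ht0 (by omega) ?_ (Or.inl hi0) fun c b hcb hc _ _ => ?_
            · rw [zero_add, Nat.sub_mul, one_mul]
              have : i ≤ n * i := Nat.le_mul_of_pos_left i hn0
              omega
            · have := hmodc hcb (by omega)
              omega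
        · refine hBfail (s := 0) (L := n) (f := k) ht0 hn0 (by simp only [Nat.zero_add]; omega) (Or.inl hk0) fun c b hcb hc hfull _ => ?_
          have := hmodc hcb (by omega)
          rcases hpar with hp | hp
          · rcases c2 with c | c
            · omega
            · exact c hp
          · rcases c3 with c | c
            · rcases (hfull (by omega)) with h' | h'
              · omega
              · rw [zero_add] at h'
                rcases c2 with c' | c'
                · omega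
                · exact c' h'
            · exact c hp
      have him : i ≤ m := by
        by_contra hlt
        rw [hk, hn] at hB'
        obtain ⟨J, δ, u, hδ, hJ, hJd, h1, h2⟩ : ∃ J δ u, δ ≤ 1 ∧ J ≤ m ∧ 2 * d = 2 * J + i * (2 * u + δ) ∧
            ((δ = 0 ↔ pl) → J < m) ∧ (¬ (δ = 0 ↔ pl) → 0 < J) := by
          rcases hje with ⟨he | he, hp⟩ | ⟨he | he, hp⟩
          · obtain ⟨u, hu⟩ := hone _ he
            exact ⟨j, 0, u, by omega, by omega, by rw [show i * (2 * u + 0) = 2 * (i * u) by ring]; omega, fun _ => hjm, fun h => absurd (iff_of_true rfl hp) h⟩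
          · obtain ⟨u, hu⟩ := hneg _ he
            exact ⟨j + 1, 1, u, le_rfl, by omega, by omega, fun h => absurd (h.2 hp) (by omega), fun _ => by omega⟩
          · obtain ⟨u, hu⟩ := hneg _ he
            exact ⟨j, 1, u, le_rfl, by omega, by omega, fun _ => hjm, fun h => absurd (iff_of_false (by omega) hp) h⟩
          · obtain ⟨u, hu⟩ := hone _ he
            exact ⟨j + 1, 0, u, by omega, by omega, by rw [show i * (2 * u + 0) = 2 * (i * u) by ring]; omega, fun h => absurd (h.1 rfl) hp, fun _ => by omega⟩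
        exact small_fails (n := d) pl hi0 (by omega) hδ hJ hJd h1 h2 hB'
      have hm' : 1 ≤ m / i := Nat.div_pos him hi0
      have hAc : t + 2 * (m / i) ≤ n := by
        by_contra hA
        obtain ⟨N, hN, hN1, f, hf, hfN⟩ : ∃ N, N ≤ n ∧ 0 < N ∧ ∃ f, 0 < f ∧ 2 * d = f + N * i ∧
            (f = k ∨ (f = i ∧ k = 0)) := by
          rcases Nat.eq_zero_or_pos k with hk0 | hk0
          · have hn2 : 2 ≤ n := by
              by_contra hlt
              have : n * i ≤ 1 * i := Nat.mul_le_mul_right i (by omega)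
              omega
            refine ⟨n - 1, by omega, by omega, i, hi0, ?_, Or.inr ⟨rfl, hk0⟩⟩
            rw [Nat.sub_mul, one_mul]
            have : i ≤ n * i := Nat.le_mul_of_pos_left i (by omega)
            omega
          · refine ⟨n, le_rfl, Nat.pos_of_ne_zero fun e => ?_, k, hk0, by omega, Or.inl rfl⟩
            rw [e, zero_mul] at hdn
            omega
        obtain ⟨hd', hfk⟩ := hfN
        rcases Nat.lt_or_ge N t with hlt | hge
        · refine hBfail (s := N - 1) (L := 1) (f := f) (by omega) one_pos ?_ (Or.inl hf) fun c b hcb hc _ hb => ?_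
          · rw [show N - 1 + 1 = N by omega]; exact hd'
          · obtain rfl : b = 0 := by omega
            omega
        · obtain ⟨J, hJ⟩ : ∃ J, J = (N - t) / 2 := ⟨_, rfl⟩
          have hle : (t + 2 * J) * i ≤ N * i := Nat.mul_le_mul_right i (by omega)
          refine hBfail (s := t - 1) (L := 2 * J + 1) (f := 2 * d - (t + 2 * J) * i) (by omega) (by omega) ?_
            (Or.inl (by omega)) fun c b hcb hc _ hb => ?_
          · rw [show t - 1 + (2 * J + 1) = t + 2 * J by omega]; omega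
          · have h1 : b * i ≤ J * i := Nat.mul_le_mul_right i (by omega)
            have h2 : (n + 1) * i ≤ (t + 2 * (m / i)) * i := Nat.mul_le_mul_right i (by omega)
            simp only [Nat.add_mul, one_mul, Nat.mul_assoc] at h2 hc hle
            omega
      refine Or.inr ⟨⟨h, hh⟩, him, hAc, ?_⟩
      by_cases h2 : (2 * (m % i) ≤ k ∧ (Even n ↔ pl)) ∨ (2 * (m % i) < k ∧ (Odd n ↔ pl))
      · exact Or.inr h2
      obtain ⟨c1, c2, c3⟩ := hB'.resolve_right h2
      refine Or.inl ⟨c1, c2, c3, ?_⟩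
      by_contra hnlt
      have hne : t + 2 * (m / i) = n := by omega
      refine hBfail (s := t - 1) (L := 2 * (m / i) - 1) (f := 2 * i) (by omega) (by omega) ?_ (Or.inl (by omega))
        fun c b hcb hc hfull hb => ?_
      · rw [show t - 1 + (2 * (m / i) - 1) = n - 2 by omega, Nat.sub_mul]
        have : 2 * i ≤ n * i := Nat.mul_le_mul_right i (by omega)
        omega
      · have h1 : (b + 1) * i ≤ m / i * i := Nat.mul_le_mul_right i (by omega)
        rw [Nat.add_mul, one_mul] at h1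
        rcases hfull (by omega) with h' | h'
        · omega
        rw [show t - 1 + (2 * (m / i) - 1) = n - 2 by omega, Nat.even_sub (by omega)] at h'
        have : (Odd n ↔ Even n) := c3.trans (by simpa using h'.symm)
        rw [← Nat.not_even_iff_odd] at this
        tauto
    · rintro (⟨ho, -⟩ | ⟨-, -, hA, hB⟩)
      · exact absurd hev (Nat.not_even_iff_odd.2 ho)
      · exact tsFix_even D hr hr2 hi hev hA hB
  · constructor
    · intro hall
      obtain ⟨k, hk⟩ : ∃ k, k = 2 * d % (2 * i) := ⟨_, rfl⟩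
      obtain ⟨l, hl⟩ : ∃ l, l = m % i := ⟨_, rfl⟩
      have hw := fun h => witness_odd D p hrp hr2 hi hodd hmd h hall
      rw [← hk, ← hl] at hw ⊢
      have hcond : pl ∧ 2 * l ≤ k ∨ ¬ pl ∧ (k = 0 ∨ 2 * l < k) := by
        by_cases hp : pl
        · exact Or.inl ⟨hp, not_lt.1 fun hlt => hw (Or.inl ⟨hlt, Or.inl hp⟩)⟩
        · refine Or.inr ⟨hp, or_iff_not_imp_left.2 fun h0 => ?_⟩
          rcases lt_trichotomy (2 * l) k with h' | h' | h'
          · exact h'
          · exact (hw (Or.inr ⟨hp, h0, h'.symm⟩)).elim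
          · exact (hw (Or.inl ⟨h', Or.inr h0⟩)).elim
      refine Or.inl ⟨hodd, ?_, hcond⟩
      by_contra hlt
      rw [Nat.mod_eq_of_lt (show m < i by omega)] at hl
      rw [Nat.mul_mod_mul_left] at hk
      have hdvd2 : ∀ e : ℕ, x ^ e = -1 → False := fun e he => by
        haveI : Fact (2 < r) := ⟨lt_of_le_of_ne hrP.two_le (Ne.symm hr2)⟩
        have h1 : i ∣ 2 * e := hone _ (by rw [mul_comm, pow_mul, he, neg_one_sq])
        obtain ⟨u, rfl⟩ := (Nat.coprime_two_right.2 hodd).dvd_of_dvd_mul_left h1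
        rw [pow_mul, hx, hi, pow_orderOf_eq_one, one_pow] at he
        exact ZMod.neg_one_ne_one he.symm
      rcases hje with ⟨he | he, hp⟩ | ⟨he | he, hp⟩
      · obtain ⟨u, hu⟩ := hone _ he
        have : d % i = j := by
          rw [show d = j + i * u by omega, Nat.add_mul_mod_self_left, Nat.mod_eq_of_lt (by omega)]
        rcases hcond with ⟨-, h'⟩ | ⟨hp', -⟩
        · omega
        · exact hp' hp
      · exact hdvd2 _ he
      · exact hdvd2 _ he
      · obtain ⟨u, hu⟩ := hone _ he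
        have : d % i = j + 1 := by
          rw [show d = j + 1 + i * u by omega, Nat.add_mul_mod_self_left, Nat.mod_eq_of_lt (by omega)]
        rcases hcond with ⟨hp', -⟩ | ⟨-, h'⟩
        · exact hp hp'
        · omega
    · rintro (⟨-, -, h⟩ | ⟨he, -⟩)
      · exact tsFix_odd D hr hr2 hi hodd hmd h
      · exact absurd he (Nat.not_even_iff_odd.2 hodd)

end even

end Cfsg.Agent.Elusive
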