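import Cfsg.Agent.Lib.Elusive.NdClass
import Cfsg.Agent.Lib.Elusive.OrthTI

/-!
Elements of odd prime order prime to the characteristic fixing non-degenerate subspaces of a given class.
-/

set_option autoImplicit false
set_option linter.all false
set_option maxHeartbeats 1600000

namespace Cfsg.Agent.Elusive

open Module QuadraticMap

/-- Every element of order `r` of the projective group fixes a member of the class of a subspace. -/
def NdFix {F : Type*} [Field F] {ι : Type} [Fintype ι] [DecidableEq ι] (Q : QuadraticForm F (ι → F))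
    (W₀ : Submodule F (ι → F)) (r : ℕ) : Prop :=
  ∀ x : GL ι F, x ∈ Cfsg.Geo.omegaGL (⇑Q) →
    (∃ z : F, ((x ^ r : GL ι F) : Matrix ι ι F) = z • (1 : Matrix ι ι F)) →
    (∀ z : F, (x : Matrix ι ι F) ≠ z • (1 : Matrix ι ι F)) →
    ∃ W : Submodule F (ι → F), IsoQ Q W W₀ ∧ W.map (Matrix.toLin' (x : Matrix ι ι F)) ≤ W

lemma type_nec {pl σ A W B D : Prop} (h1 : pl ↔ (σ ↔ A)) (h2 : W ↔ (σ ↔ B)) (h3 : A ↔ (D ↔ B)) : D ↔ (W ↔ pl) := by
  by_cases σ <;> by_cases A <;> by_cases B <;> simp_all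

lemma type_suff {pl σ A B D s : Prop} (h1 : pl ↔ (σ ↔ A)) (h3 : A ↔ (D ↔ B)) (h2 : D ↔ (s ↔ pl)) :
    (σ ↔ B) ↔ s := by
  by_cases σ <;> by_cases A <;> by_cases B <;> by_cases s <;> simp_all

lemma type_drop {pl σ A A' B B' U s : Prop} (h1 : pl ↔ (σ ↔ A)) (h2 : A' ↔ (A ↔ U)) (h3 : B' ↔ (B ↔ U))
    (h4 : ¬ (A' ↔ pl)) (h5 : ¬ (B' ↔ s)) : (σ ↔ B) ↔ s := by
  by_cases σ <;> by_cases A <;> by_cases B <;> by_cases U <;> by_cases s <;> simp_all

section parts
variable {F : Type*} [Field F] [Fintype F] {V : Type*} [AddCommGroup V] [Module F V] [FiniteDimensional F V]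
  {Q : QuadraticForm F V} {r : ℕ} [Fact r.Prime] {T : Module.End F V}

/-- The type of the whole. -/
lemma whole_type (p : ℕ) [Fact p.Prime] [CharP F p] (hQ : (polarBilin Q).Nondegenerate) (hT : T ^ r = 1)
    (hr : (r : F) ≠ 0) (hr2 : r ≠ 2) (e : ∀ v, Q (T v) = Q v) {N a : ℕ}
    (hN : finrank F (movedSpace T r) = blockDim (orderOf (Fintype.card F : ZMod r)) * N)
    (ha : finrank F (fixedSpace T) = 2 * a) :
    PlusOn Q ⊤ ↔ (PlusOn Q (fixedSpace T) ↔ Tau (orderOf (Fintype.card F : ZMod r)) N) := by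
  have hI := quad_isom (hQ := hQ) e
  have hM : NDQ Q (movedSpace T r) := SForm.nd_moved (Φ := quadSF hQ) hT hr hI
  have hS : NDQ Q (fixedSpace T) := SForm.nd_fixed (Φ := quadSF hQ) hT hr hI
  obtain ⟨b, hb⟩ := blockDim_even (orderOf (Fintype.card F : ZMod r))
  have h := split_inv hT hr (W := ⊤) fun _ _ => trivial
  rw [top_inf_eq, top_inf_eq] at h
  rw [← h, plus_sup hQ hS hM ha (b := b * N) (by rw [hN, hb]; ring)
    (fun x hx y hy => SForm.fixed_perp_moved (Φ := quadSF hQ) hr hI hx hy),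
    moved_type p hT hr hr2 e inv_moved le_rfl hM hN]

end parts

section main
variable {F : Type*} [Field F] [Fintype F] {ι : Type} [Fintype ι] [DecidableEq ι] {Q : QuadraticForm F (ι → F)}
  {r : ℕ} [Fact r.Prime] {n m i c : ℕ} {pl : Prop}

/-- The criterion. -/
theorem ndFix_iff (p : ℕ) [Fact p.Prime] [CharP F p] (hQ : (polarBilin Q).Nondegenerate) (hrp : r ≠ p) (hr2 : r ≠ 2)
    (hi : i = orderOf (Fintype.card F : ZMod r)) (hc : c = blockDim i) (hn : Fintype.card ι = n)
    {W₀ : Submodule F (ι → F)} (hW₀ : NDQ Q W₀) (hm : finrank F W₀ = m) (hm1 : 1 ≤ m) (hmn : m < n)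
    (hpar : Even m ∨ Even n) (hpl : Even n → (PlusOn Q ⊤ ↔ pl))
    (hwit : c ≤ n → (0 < n % c ∨ (Tau i (n / c) ↔ pl)) → ∃ x : GL ι F, x ∈ Cfsg.Geo.omegaGL (⇑Q) ∧ x ^ r = 1 ∧
      Matrix.toLin' x.1 ^ r = 1 ∧ finrank F (fixedSpace (Matrix.toLin' x.1)) = n % c)
    (hdvd : r ∣ Nat.card {W : Submodule F (ι → F) // IsoQ Q W W₀}) :
    NdFix Q W₀ r ↔
      (n % c = 0 ∧ ¬ (Tau i (n / c) ↔ pl)) ∨
      (c ≤ m ∧ ((0 < m % c ∧ m % c < n % c) ∨ (m % c = 0 ∧ (Tau i (m / c) ↔ PlusOn Q W₀)) ∨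
        (m % c = n % c ∧ 0 < n % c ∧ (Tau i (n / c - m / c) ↔ (PlusOn Q W₀ ↔ pl))))) := by
  have hrP : r.Prime := Fact.out
  have hr : (r : F) ≠ 0 := fun h => hrp (by
    rw [CharP.cast_eq_zero_iff F p] at h
    exact ((Nat.prime_dvd_prime_iff_eq Fact.out hrP).1 h).symm)
  have hc0 : 0 < c := hc ▸ blockDim_pos (hi ▸ orderOf_card_pos hr)
  have hce : c % 2 = 0 := Nat.even_iff.1 (hc ▸ blockDim_even i)
  have hcord : c = blockDim (orderOf (Fintype.card F : ZMod r)) := hi ▸ hc
  have hV : finrank F (ι → F) = n := by rw [finrank_fintype_fun_eq_card, hn]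
  have hkc := Nat.mod_lt n hc0
  have hlc := Nat.mod_lt m hc0
  have hk2 : n % c % 2 = n % 2 := Nat.mod_mod_of_dvd _ (Nat.dvd_of_mod_eq_zero hce)
  have hl2 : m % c % 2 = m % 2 := Nat.mod_mod_of_dvd _ (Nat.dvd_of_mod_eq_zero hce)
  have hnd := Nat.div_add_mod n c
  have hmd := Nat.div_add_mod m c
  have hcn : c ≤ n := by
    by_contra hlt
    refine no_fix_small (T := 1) hQ (one_pow r) hr hr2 (fun v => rfl) hW₀ (by omega) ?_ hdvd (IsoQ.refl W₀)
      fun w hw => hw
    have := Submodule.finrank_le (fixedSpace (1 : Module.End F (ι → F)))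
    omega
  constructor
  · intro hall
    by_cases ha : n % c = 0 ∧ ¬ (Tau i (n / c) ↔ pl)
    · exact Or.inl ha
    refine Or.inr ?_
    obtain ⟨x, hx, hxr, hT, hf⟩ := hwit hcn (by
      rcases Nat.eq_zero_or_pos (n % c) with h | h
      · exact Or.inr (not_not.1 fun hh => ha ⟨h, hh⟩)
      · exact Or.inl h)
    have e := mem_omega_preserves hx
    obtain ⟨W, hW, hWi⟩ := hall x hx ⟨1, by rw [hxr, one_smul]; rfl⟩ (fun z hz => by
      have hTz : Matrix.toLin' x.1 = z • 1 := by rw [hz, map_smul, Matrix.toLin'_one]; rfl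
      have hfull : fixedSpace (Matrix.toLin' x.1) = ⊤ := by
        obtain ⟨v, hv⟩ : ∃ v, Q v ≠ 0 := by
          by_contra h
          push Not at h
          obtain ⟨k⟩ : Nonempty ι := Fintype.card_pos_iff.1 (by omega)
          have := hQ.1 (Pi.single k 1) fun w => by simp [polarBilin, polar, h]
          simpa using congrFun this k
        have h1 := e v
        rw [hTz, LinearMap.smul_apply, Module.End.one_apply, QuadraticMap.map_smul, smul_eq_mul] at h1
        have hz2 : z * z = 1 := mul_right_cancel₀ hv (by rw [h1, one_mul])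
        obtain ⟨w, hw⟩ : ∃ w : ι → F, w ≠ 0 := ⟨v, fun h => hv (by rw [h, map_zero])⟩
        have h2 := LinearMap.congr_fun hT w
        rw [hTz, _root_.smul_pow, one_pow, LinearMap.smul_apply, Module.End.one_apply] at h2
        have hz1 : z = 1 := by
          have hzr : z ^ r = 1 := smul_left_injective F hw (show z ^ r • w = (1 : F) • w by rw [one_smul, h2])
          obtain ⟨l, hl⟩ := hrP.odd_of_ne_two hr2
          rwa [hl, pow_succ, pow_mul, pow_two, hz2, one_pow, one_mul] at hzr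
        exact eq_top_iff.2 fun u _ => mem_fixedSpace.2 (by rw [hTz, hz1, one_smul]; rfl)
      rw [hfull, finrank_top, hV] at hf
      omega)
    have hWi' := inv_map_iff.1 hWi
    have hcm : c ≤ m := by
      by_contra hlt
      exact no_fix_small hQ hT hr hr2 e hW₀ (by omega) (by omega) hdvd hW hWi'
    refine ⟨hcm, ?_⟩
    obtain ⟨hA, hB, hBi, hAB, hsum⟩ := nd_parts hQ hT hr e hWi' (hW.symm.ndq hW₀)
    obtain ⟨j, hj⟩ := dvd_moved hQ hT hr hr2 e hBi inf_le_right hB
    rw [← hcord] at hj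
    obtain ⟨-, -, hd⟩ := ndq_sup hA hB hAB
    rw [hsum, hW.finrank, hm, hj] at hd
    have hA' := Submodule.finrank_mono (inf_le_right : W ⊓ fixedSpace (Matrix.toLin' x.1) ≤ _)
    rw [hf] at hA'
    obtain ⟨hjm, hcl⟩ : j = m / c ∧
        finrank F (W ⊓ fixedSpace (Matrix.toLin' x.1) : Submodule F (ι → F)) = m % c := by
      constructor
      · rw [hd, add_comm, Nat.mul_add_div hc0, Nat.div_eq_of_lt (by omega), add_zero]
      · rw [hd, Nat.add_mul_mod_self_left, Nat.mod_eq_of_lt (by omega)]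
    have hBt := moved_type p hT hr hr2 e hBi inf_le_right hB (j := j) (hcord ▸ hj)
    rw [← hi, hjm] at hBt
    rcases Nat.eq_zero_or_pos (m % c) with hl0 | hl0
    · refine Or.inr (Or.inl ⟨hl0, ?_⟩)
      rw [← hW.plus, ← hBt]
      rw [show W ⊓ fixedSpace (Matrix.toLin' x.1) = ⊥ from Submodule.finrank_eq_zero.1 (hcl.trans hl0), bot_sup_eq] at hsum
      rw [hsum]
    · rcases Nat.lt_or_ge (m % c) (n % c) with h | h
      · exact Or.inl ⟨hl0, h⟩
      · have heq : m % c = n % c := by omega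
        refine Or.inr (Or.inr ⟨heq, by omega, ?_⟩)
        have hev : Even n := by
          rcases hpar with h | h
          · rw [Nat.even_iff] at h ⊢; omega
          · exact h
        obtain ⟨a, ha⟩ : ∃ a, finrank F (fixedSpace (Matrix.toLin' x.1)) = 2 * a := ⟨n % c / 2, by
          rw [Nat.even_iff] at hev; omega⟩
        have hFx : W ⊓ fixedSpace (Matrix.toLin' x.1) = fixedSpace (Matrix.toLin' x.1) :=
          Submodule.eq_of_le_of_finrank_eq inf_le_right (by omega)
        have hN : finrank F (movedSpace (Matrix.toLin' x.1) r) = c * (n / c) := by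
          have := SForm.finrank_fixed_add hT hr (V := ι → F)
          omega
        have hw := whole_type p hQ hT hr hr2 e (N := n / c) (by rw [← hcord]; exact hN) ha
        rw [hpl hev, ← hi] at hw
        obtain ⟨b, hb⟩ := blockDim_even i
        have hWt := plus_sup hQ hA hB (a := a) (by rw [hFx, ha]) (b := b * j) (by rw [hj, hc, hb]; ring) hAB
        rw [hsum, hW.plus, hFx, hBt] at hWt
        have hτ := tau_add i (n / c - m / c) (m / c)
        rw [Nat.sub_add_cancel (Nat.div_le_div_right (by omega))] at hτ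
        exact type_nec hw hWt hτ
  · intro hR x hx hz _
    obtain ⟨T, hT, e, hTW⟩ := exists_normal hQ (by omega) hr2 hx hz
    have hI := quad_isom (hQ := hQ) e
    have hM : NDQ Q (movedSpace T r) := SForm.nd_moved (Φ := quadSF hQ) hT hr hI
    have hS : NDQ Q (fixedSpace T) := SForm.nd_fixed (Φ := quadSF hQ) hT hr hI
    obtain ⟨N, hN⟩ := dvd_moved hQ hT hr hr2 e inv_moved le_rfl hM
    rw [← hcord] at hN
    obtain ⟨f, hf⟩ : ∃ f, finrank F (fixedSpace T) = f := ⟨_, rfl⟩
    have hnf : n = f + c * N := by rw [← hV, ← SForm.finrank_fixed_add hT hr (V := ι → F), hf, hN]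
    have hfk : f % c = n % c := by rw [hnf, Nat.add_mul_mod_self_left]
    have hNn : N ≤ n / c := (Nat.le_div_iff_mul_le hc0).2 (by rw [mul_comm]; omega)
    have hperp : ∀ a ∈ fixedSpace T, ∀ b ∈ movedSpace T r, polar Q a b = 0 := fun a ha b hb =>
      SForm.fixed_perp_moved (Φ := quadSF hQ) hr hI ha hb
    obtain ⟨b, hb⟩ := blockDim_even i
    have hjoin : ∀ A W₁ : Submodule F (ι → F), A ≤ fixedSpace T → Inv T W₁ → IsoQ Q (A ⊔ W₁) W₀ →
        ∃ W : Submodule F (ι → F), IsoQ Q W W₀ ∧ W.map (Matrix.toLin' (x : Matrix ι ι F)) ≤ W := by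
      intro A W₁ hA hW₁ hiso
      refine ⟨_, hiso, inv_map_iff.2 (hTW _ fun v hv => ?_)⟩
      obtain ⟨a, ha, w, hw, rfl⟩ := Submodule.mem_sup.1 hv
      rw [map_add, mem_fixedSpace.1 (hA ha)]
      exact Submodule.add_mem_sup ha (hW₁ w hw)
    have hsub : ∀ j, j ≤ N → ∃ W₁ : Submodule F (ι → F), Inv T W₁ ∧ W₁ ≤ movedSpace T r ∧ NDQ Q W₁ ∧
        finrank F W₁ = 2 * (b * j) ∧ (PlusOn Q W₁ ↔ Tau i j) := fun j hj => by
      obtain ⟨W₁, h1, h2, h3, h4⟩ := exists_moved_sub p hQ hT hr hr2 e j _ inv_moved le_rfl hM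
        (by rw [← hcord, hN]; exact Nat.mul_le_mul_left c hj)
      exact ⟨W₁, h1, h2, h3, by rw [h4, ← hi, hb]; ring, hi ▸ moved_type p hT hr hr2 e h1 h2 h3 h4⟩
    have hcb : ∀ j, c * j = 2 * (b * j) := fun j => by rw [hc, hb]; ring
    have fix0 : ∀ j, j ≤ N → c * j = m → (Tau i j ↔ PlusOn Q W₀) →
        ∃ W : Submodule F (ι → F), IsoQ Q W W₀ ∧ W.map (Matrix.toLin' (x : Matrix ι ι F)) ≤ W := fun j hj hjm ht => by
      obtain ⟨W₁, h1, -, h3, h4, h5⟩ := hsub j hj
      have := hcb j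
      refine hjoin ⊥ W₁ bot_le h1 ?_
      rw [bot_sup_eq]
      exact isoQ_of_type h3 hW₀ h4 (by omega) (h5.trans ht)
    have fixlt : ∀ j, j ≤ N → c * j < m → m < f + c * j →
        ∃ W : Submodule F (ι → F), IsoQ Q W W₀ ∧ W.map (Matrix.toLin' (x : Matrix ι ι F)) ≤ W := fun j hj h hlt => by
      obtain ⟨W₁, h1, h2, h3, h4, -⟩ := hsub j hj
      have := hcb j
      obtain ⟨A, hA, hiso⟩ := exists_complete hQ hW₀ h3 hS (fun u hu v hv => hperp u hu v (h2 hv)) h4
        (c₀ := m - c * j) (by omega) (by omega) (by omega)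
      exact hjoin A W₁ hA h1 hiso
    have fixeq : ∀ j, j ≤ N → m = f + c * j → Even n → ((PlusOn Q (fixedSpace T) ↔ Tau i j) ↔ PlusOn Q W₀) →
        ∃ W : Submodule F (ι → F), IsoQ Q W W₀ ∧ W.map (Matrix.toLin' (x : Matrix ι ι F)) ≤ W := fun j hj h hev ht => by
      obtain ⟨W₁, h1, h2, h3, h4, h5⟩ := hsub j hj
      have := hcb j
      have := hcb N
      rw [Nat.even_iff] at hev
      have hp : ∀ u ∈ fixedSpace T, ∀ v ∈ W₁, polar Q u v = 0 := fun u hu v hv => hperp u hu v (h2 hv)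
      obtain ⟨g1, -, g3⟩ := ndq_sup hS h3 hp
      refine hjoin (fixedSpace T) W₁ le_rfl h1 (isoQ_of_type g1 hW₀ (a := f / 2 + b * j) (by omega) (by omega) ?_)
      rw [plus_sup hQ hS h3 (a := f / 2) (by omega) h4 hp, h5]
      exact ht
    have hwhole : Even n → (pl ↔ (PlusOn Q (fixedSpace T) ↔ Tau i N)) := fun hev => by
      have hcN := hcb N
      have := whole_type p hQ hT hr hr2 e (N := N) (by rw [← hcord]; exact hN) (a := f / 2) (by rw [Nat.even_iff] at hev; omega)
      rwa [hpl hev, ← hi] at this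
    have hno0 : n % c = 0 → ¬ (Tau i (n / c) ↔ pl) → f ≠ 0 := fun h0 hmis hf0 => hmis (by
      have hev : Even n := by rw [Nat.even_iff]; omega
      have hbot : fixedSpace T = ⊥ := Submodule.finrank_eq_zero.1 (hf.trans hf0)
      have hw := hwhole hev
      rw [hbot, show n / c = N by rw [hnf, hf0, zero_add, Nat.mul_div_cancel_left _ hc0]] at *
      have hp : PlusOn Q (⊥ : Submodule F (ι → F)) := plus_bot
      exact (hw.trans (iff_iff_implies_and_implies.2 ⟨fun h => h.1 hp, fun h => iff_of_true hp h⟩)).symm)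
    rcases Nat.lt_or_ge N (m / c) with hlt | hge
    · have h1 : c * (N + 1) ≤ c * (m / c) := Nat.mul_le_mul_left c hlt
      rw [Nat.mul_add, mul_one] at h1
      exact fixlt N le_rfl (by omega) (by omega)
    have hNe : f < c → N = n / c ∧ f = n % c := fun hfc => by
      rw [Nat.mod_eq_of_lt hfc] at hfk
      exact ⟨(Nat.eq_of_mul_eq_mul_left hc0 (show c * (n / c) = c * N by omega)).symm, hfk⟩
    rcases Nat.eq_zero_or_pos (m % c) with hl0 | hl0
    · by_cases ht : Tau i (m / c) ↔ PlusOn Q W₀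
      · exact fix0 _ hge (by omega) ht
      obtain ⟨hk0, hmis⟩ : n % c = 0 ∧ ¬ (Tau i (n / c) ↔ pl) := by
        rcases hR with h | ⟨-, ⟨h, -⟩ | ⟨-, h⟩ | ⟨h, h', -⟩⟩
        · exact h
        · omega
        · exact absurd h ht
        · omega
      have hf0 := hno0 hk0 hmis
      obtain ⟨u, hu⟩ : ∃ u, m / c = u + 1 := ⟨m / c - 1, by
        rcases Nat.eq_zero_or_pos (m / c) with h | h
        · rw [h, mul_zero] at hmd; omega
        · omega⟩
      have hcu : c * (m / c) = c * u + c := by rw [hu, Nat.mul_add, mul_one]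
      have hfc : c ≤ f := Nat.le_of_dvd (Nat.pos_of_ne_zero hf0) (Nat.dvd_of_mod_eq_zero (hfk.trans hk0))
      rcases Nat.eq_or_lt_of_le hfc with hfe | hfl
      · have hev : Even n := by rw [Nat.even_iff]; omega
        refine fixeq u (by omega) (by omega) hev ?_
        have hw := hwhole hev
        have hnN : n / c = N + 1 := by
          rw [hnf, ← hfe, show c + c * N = c * (N + 1) by ring, Nat.mul_div_cancel_left _ hc0]
        have t1 := tau_add i N 1
        have t2 := tau_add i u 1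
        rw [← hnN] at t1
        rw [← hu] at t2
        exact type_drop hw t1 t2 hmis ht
      · exact fixlt u (by omega) (by omega) (by omega)
    · rcases Nat.lt_or_ge (m % c) f with h | h
      · exact fixlt _ hge (by omega) (by omega)
      obtain ⟨hNn', hfk'⟩ := hNe (by omega)
      rcases hR with ⟨h0, hmis⟩ | ⟨-, ⟨-, h'⟩ | ⟨h', -⟩ | ⟨heq, hk, ht⟩⟩
      · exact absurd (hfk'.trans h0) (hno0 h0 hmis)
      · omega
      · omega
      · have hev : Even n := by
          rcases hpar with h | h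
          · rw [Nat.even_iff] at h ⊢; omega
          · exact h
        refine fixeq _ hge (by omega) hev ?_
        have hw := hwhole hev
        have hτ := tau_add i (n / c - m / c) (m / c)
        rw [Nat.sub_add_cancel (Nat.div_le_div_right (by omega)), ← hNn'] at hτ
        rw [← hNn'] at ht
        exact type_suff hw hτ ht

end main

end Cfsg.Agent.Elusive
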