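import Cfsg.Agent.Lib.Elusive.NdKit

/-!
Non-degenerate invariant subspaces without fixed vectors of isometries of odd prime order: dimensions and types.
-/

set_option autoImplicit false
set_option linter.all false
set_option maxHeartbeats 1600000

namespace Cfsg.Agent.Elusive

open Module Polynomial QuadraticMap

/-- The type attached to a dimension. -/
def Tau (i N : ℕ) : Prop := Odd i ∨ Even N

/-- The dimension of a block. -/
def blockDim (i : ℕ) : ℕ := if Even i then i else 2 * i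

lemma tau_add (i a b : ℕ) : Tau i (a + b) ↔ (Tau i a ↔ Tau i b) := by
  unfold Tau
  rw [Nat.even_add]
  tauto

lemma tau_succ (i a : ℕ) (h : Even i) : Tau i (a + 1) ↔ ¬ Tau i a := by
  simp [Tau, Nat.even_add_one, Nat.not_odd_iff_even.2 h]

lemma blockDim_even (i : ℕ) : Even (blockDim i) := by
  unfold blockDim; split_ifs with h
  · exact h
  · exact even_two_mul i

lemma blockDim_pos {i : ℕ} (h : 0 < i) : 0 < blockDim i := by unfold blockDim; split_ifs <;> omega

variable {F : Type*} [Field F] [Fintype F] {V : Type*} [AddCommGroup V] [Module F V] [FiniteDimensional F V]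
  {Q : QuadraticForm F V}

/-- The type and the model. -/
lemma plusOn_iff {Z : Type*} [AddCommGroup Z] [Module F Z] [FiniteDimensional F Z] (L : Z →ₗ[F] V)
    (hL : Function.Injective L) (hnd : NDQ Q (LinearMap.range L)) {a : ℕ} (hZ : finrank F Z = 2 * a) :
    PlusOn Q (LinearMap.range L) ↔ LBEven.IsPlus a (Q.comp L) := by
  have hR : (polarBilin (Q.comp L)).Nondegenerate := Orth.nondeg_of fun u hu => hL (by
    rw [map_zero]
    refine hnd _ ⟨u, rfl⟩ ?_
    rintro _ ⟨v, rfl⟩
    simpa [polar] using hu v)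
  have hW : finrank F (LinearMap.range L) = 2 * a := by rw [LinearMap.finrank_range_of_inj hL, hZ]
  constructor
  · rintro ⟨U, hU, hUs, hUd⟩
    rcases LBQuad.classify_even hR hZ with ⟨g, hg⟩ | ⟨ζ, hζ, g, hg⟩
    · exact ⟨g, hg⟩
    · exfalso
      have hb := (LBQuad.singular_bound (Orth.qBin_nondeg (LBQuad.bin_aniso hζ))
        (fun w hw => LBQuad.qBin_eq_zero (LBQuad.bin_aniso hζ) hw) (a - 1)).2
        ((U.comap L).map g.toLinearMap) (by
          rintro _ ⟨w, hw, rfl⟩
          exact (hg w).symm.trans (hUs _ hw))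
      have h1 : finrank F (U.comap L) = finrank F U := by
        rw [(Submodule.equivMapOfInjective L hL (U.comap L)).finrank_eq, Submodule.map_comap_eq_self hU]
      rw [LinearEquiv.finrank_map_eq, h1] at hb
      have h2 := g.finrank_eq
      simp at h2
      omega
  · rintro ⟨g, hg⟩
    obtain ⟨U, hU, hUd⟩ := qPlus_half g hg
    refine ⟨U.map L, LinearMap.map_le_range, ?_, ?_⟩
    · rintro _ ⟨u, hu, rfl⟩
      exact hU u hu
    · rw [← (Submodule.equivMapOfInjective L hL U).finrank_eq, hUd, hW]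

variable {r : ℕ} [Fact r.Prime] {T : Module.End F V}

local notation "ord" => orderOf (Fintype.card F : ZMod r)

/-- Dimensions of moved non-degenerate invariant subspaces. -/
lemma dvd_moved (hQ : (polarBilin Q).Nondegenerate) (hT : T ^ r = 1) (hr : (r : F) ≠ 0) (hr2 : r ≠ 2)
    (e : ∀ v, Q (T v) = Q v) {X : Submodule F V} (hXi : Inv T X) (hXM : X ≤ movedSpace T r) (hX : NDQ Q X) :
    ∃ j, finrank F X = blockDim ord * j := by
  obtain ⟨a, ha⟩ := dvd_finrank_moved hT hr hXi hXM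
  obtain ⟨b, hb⟩ := even_moved_nd hQ hT hr hr2 e hXi hXM hX
  unfold blockDim
  split_ifs with h
  · exact ⟨a, ha⟩
  · rw [ha, ← two_mul] at hb
    obtain ⟨j, rfl⟩ : 2 ∣ a := (Nat.coprime_two_left.2 (Nat.not_even_iff_odd.1 h)).dvd_of_dvd_mul_left ⟨b, hb⟩
    exact ⟨j, by rw [ha]; ring⟩

/-- Types of moved non-degenerate invariant subspaces. -/
lemma moved_type (p : ℕ) [Fact p.Prime] [CharP F p] (hT : T ^ r = 1) (hr : (r : F) ≠ 0)
    (hr2 : r ≠ 2) (e : ∀ v, Q (T v) = Q v) {X : Submodule F V} (hXi : Inv T X) (hXM : X ≤ movedSpace T r) (hX : NDQ Q X)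
    {j : ℕ} (hj : finrank F X = blockDim ord * j) : PlusOn Q X ↔ Tau ord j := by
  classical
  have hrp : r ≠ p := fun h => hr (h ▸ CharP.cast_eq_zero F p)
  rcases Nat.eq_zero_or_pos j with rfl | hj0
  · rw [mul_zero] at hj
    rw [Submodule.finrank_eq_zero.1 hj]
    exact iff_of_true plus_bot (Or.inr ⟨0, rfl⟩)
  obtain ⟨b', hb'⟩ := blockDim_even ord
  obtain ⟨a, ha⟩ : ∃ a, a = b' * j := ⟨_, rfl⟩
  have hXa : finrank F X = 2 * a := by rw [hj, hb', ha]; ring
  have hi0 := blockDim_pos (orderOf_card_pos (F := F) (r := r) hr)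
  have ha1 : 1 ≤ a := ha ▸ Nat.mul_pos (by omega) hj0
  obtain ⟨b⟩ : Nonempty ((Fin a ⊕ Fin a → F) ≃ₗ[F] X) := ⟨LinearEquiv.ofFinrankEq _ _ (by simp [hXa, two_mul])⟩
  obtain ⟨L, hL⟩ : ∃ L, L = X.subtype.comp b.toLinearMap := ⟨_, rfl⟩
  have hLi : Function.Injective L := hL ▸ X.subtype_injective.comp b.injective
  have hLr : LinearMap.range L = X := by
    rw [hL, LinearMap.range_comp, LinearEquiv.range, Submodule.map_top, Submodule.range_subtype]
  rw [← hLr] at hX
  conv_lhs => rw [← hLr]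
  rw [plusOn_iff L hLi hX (a := a) (by simp [two_mul])]
  obtain ⟨S, hS⟩ : ∃ S : Module.End F (Fin a ⊕ Fin a → F), S = b.symm.conj (T.restrict hXi) := ⟨_, rfl⟩
  have hLS : ∀ w, L (S w) = T (L w) := fun w => by
    rw [hL, hS, LinearMap.comp_apply, LinearEquiv.conj_apply_apply, LinearEquiv.symm_symm]
    show ((b (b.symm ((T.restrict hXi) (b w)))) : V) = T (b w : V)
    rw [LinearEquiv.apply_symm_apply]; rfl
  have hLk : ∀ (k : ℕ) w, L ((S ^ k) w) = (T ^ k) (L w) := fun k => by
    induction k with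
    | zero => simp
    | succ k ih => intro w; rw [pow_succ', pow_succ', Module.End.mul_apply, Module.End.mul_apply, hLS, ih]
  have hR : (polarBilin (Q.comp L)).Nondegenerate := Orth.nondeg_of fun u hu => hLi (by
    rw [map_zero]
    refine hX _ ⟨u, rfl⟩ ?_
    rintro _ ⟨v, rfl⟩
    simpa [polar] using hu v)
  rw [LBEvenRoot.type_iff p (Fact.out : r.Prime) hr2 hrp rfl ha1 (by simp [two_mul]) hR (M := LinearMap.toMatrix' S)
    (fun v => by rw [LinearMap.toMatrix'_mulVec]; show Q (L (S v)) = Q (L v); rw [hLS, e])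
    (by
      have : S ^ r = 1 := LinearMap.ext fun w => hLi (by rw [hLk, hT]; rfl)
      apply Matrix.toLin'.injective
      rw [Matrix.toLin'_pow, Matrix.toLin'_toMatrix', this, Matrix.toLin'_one]; rfl)
    (fun hd => ?_)]
  · unfold LBEvenRoot.Typ Tau
    by_cases hi : Even ord
    · have hc : blockDim ord = ord := if_pos hi
      rw [← hXa, hj, hc, Nat.mul_div_cancel_left _ (orderOf_card_pos (F := F) (r := r) hr)]
      simp [hi, Nat.not_odd_iff_even.2 hi]
    · simp [hi, Nat.not_even_iff_odd.1 hi]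
  · rw [← Matrix.charpoly_toLin', Matrix.toLin'_toMatrix', dvd_iff_isRoot, ← Module.End.hasEigenvalue_iff_isRoot_charpoly] at hd
    obtain ⟨w, hw⟩ := hd.exists_hasEigenvector
    refine hw.2 (hLi ?_)
    rw [map_zero]
    refine eq_zero_of_fixed_moved hr (mem_fixedSpace.2 ?_) (hXM (hLr.le ⟨w, rfl⟩))
    rw [← hLS, hw.apply_eq_smul, one_smul]

/-- A block. -/
lemma exists_block (p : ℕ) [Fact p.Prime] [CharP F p] (hQ : (polarBilin Q).Nondegenerate) (hT : T ^ r = 1)
    (hr : (r : F) ≠ 0) (hr2 : r ≠ 2) (e : ∀ v, Q (T v) = Q v) {U : Submodule F V} (hUi : Inv T U)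
    (hUM : U ≤ movedSpace T r) (hU : NDQ Q U) (hne : U ≠ ⊥) :
    ∃ X : Submodule F V, Inv T X ∧ X ≤ U ∧ NDQ Q X ∧ finrank F X = blockDim ord := by
  have hI := quad_isom (hQ := hQ) e
  have hi0 := orderOf_card_pos (F := F) (r := r) hr
  have hdim : 0 < finrank F U := Nat.pos_of_ne_zero fun h => hne (Submodule.finrank_eq_zero.1 h)
  rcases Nat.even_or_odd ord with hev | hodd
  · rw [show blockDim ord = ord from if_pos hev]
    by_contra hno
    obtain ⟨u, hu, hu0⟩ := Submodule.exists_mem_ne_zero_of_ne_bot hne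
    have hne' : (Polynomial.X ^ r - 1 : Polynomial F) ≠ 0 :=
      (Polynomial.monic_X_pow_sub_C (1 : F) (Fact.out : r.Prime).ne_zero).ne_zero
    obtain ⟨g, hgm, hgi, hgd, v₀, hv₀U, hv₀, hgv₀⟩ := exists_irreducible_vec (W := ⊥) hUi _ hne' u hu
      (by rwa [Submodule.mem_bot]) (by simp [hT])
    have hdvd : r ∣ Fintype.card F ^ ord - 1 := by
      rw [← ZMod.natCast_eq_zero_iff, Nat.cast_sub (Nat.one_le_pow _ _ Fintype.card_pos), Nat.cast_pow,
        pow_orderOf_eq_one, Nat.cast_one, sub_self]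
    obtain ⟨K, hK⟩ : ∃ K, K = LinearMap.ker (aeval T g) ⊓ U := ⟨_, rfl⟩
    have hcomm : ∀ (P : F[X]) w, aeval T P (T w) = T (aeval T P w) := fun P w => by
      rw [← Module.End.mul_apply, ← Module.End.mul_apply]
      exact LinearMap.congr_fun (by simpa only [map_mul, aeval_X] using congrArg (aeval T) (mul_comm P (X : F[X]))) w
    have hKi : Inv T K := fun w hw => by
      rw [hK] at hw ⊢
      exact ⟨LinearMap.mem_ker.2 (by rw [hcomm, LinearMap.mem_ker.1 hw.1, map_zero]), hUi w hw.2⟩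
    have hKnd : NDQ Q K := fun w hw hz => by
      rw [hK] at hw
      refine nd_ker (Φ := quadSF hQ) p hT hr hr2 hI hev hgd w hw.1 fun x hx => ?_
      obtain ⟨a, ha, b, hb, rfl⟩ := Submodule.mem_sup.1
        (((quadSF hQ).isCompl_perp hU).sup_eq_top ▸ Submodule.mem_top (x := x))
      have h0 : aeval T g a + aeval T g b = 0 := by rw [← map_add]; exact hx
      have hA : aeval T g a = 0 := (Submodule.mem_bot F).1 (((quadSF hQ).isCompl_perp hU).disjoint.le_bot
        ⟨hUi.aeval g ha, by rw [eq_neg_of_add_eq_zero_left h0]; exact neg_mem ((hI.inv_perp hUi).aeval g hb)⟩)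
      show polar Q w (a + b) = 0
      rw [polar_add_right, hz a (hK ▸ ⟨hA, ha⟩), zero_add]
      exact hb w hw.2
    have hiso : ∀ v ∈ K, polar Q (T v) v = 0 := by
      intro v hv
      by_cases hv0 : v = 0
      · simp [hv0]
      rw [hK] at hv
      have hinv : Inv T (⊥ ⊔ cyc T v g.natDegree) :=
        inv_sup_cyc (fun w hw => by simp_all) hgm (by rw [Submodule.mem_bot]; exact hv.1)
      rw [bot_sup_eq] at hinv
      obtain ⟨Z, hZ⟩ : ∃ Z, Z = cyc T v g.natDegree := ⟨_, rfl⟩
      rw [← hZ] at hinv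
      have hvZ : v ∈ Z := hZ ▸ mem_cyc T v hgi.natDegree_pos
      have hZU : Z ≤ U := hZ ▸ cyc_le hUi hv.2 _
      have hZd : finrank F Z ≤ ord :=
        hZ ▸ (finrank_cyc_le T v g.natDegree).trans (natDegree_le_of_dvd_pow_sub_one hi0 hdvd hgi hgd)
      have heq : ∀ Y : Submodule F V, Inv T Y → Y ≤ Z → Y ≠ ⊥ → finrank F Y = ord := fun Y hY hYZ hY0 => by
        obtain ⟨a, ha⟩ := dvd_finrank_moved hT hr hY (hYZ.trans (hZU.trans hUM))
        have := Submodule.finrank_mono hYZ
        rcases a with _ | _ | a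
        · exact absurd (Submodule.finrank_eq_zero.1 (by rw [ha, mul_zero])) hY0
        · simpa using ha
        · rw [Nat.mul_add, Nat.mul_one, Nat.mul_add, Nat.mul_one] at ha; omega
      have hZi := heq Z hinv le_rfl fun h => hv0 (by simpa [h] using hvZ)
      by_cases hrad : Z ⊓ (quadSF hQ).perp Z = ⊥
      · exact absurd ⟨Z, hinv, hZU, (quadSF hQ).nd_of_inf_perp hrad, hZi⟩ hno
      · have hd := heq (Z ⊓ (quadSF hQ).perp Z) (fun w hw => ⟨hinv w hw.1, hI.inv_perp hinv w hw.2⟩) inf_le_left hrad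
        have := (Submodule.eq_of_le_of_finrank_eq (inf_le_left : Z ⊓ (quadSF hQ).perp Z ≤ Z) (hd.trans hZi.symm)).ge hvZ
        exact this.2 _ (hinv v hvZ)
    have hrot : ∀ v ∈ K, T v + (T ^ (r - 1)) v = 0 := fun v hv => by
      have hm := hKi.pow (r - 1) v hv
      refine hKnd _ (K.add_mem (hKi v hv) hm) fun w hw => ?_
      have h1 := hiso _ (K.add_mem hv hw)
      rw [map_add, polar_add_left, polar_add_right, polar_add_right, hiso v hv, hiso w hw, zero_add, add_zero] at h1
      have h2 : polar Q (T w) v = polar Q ((T ^ (r - 1)) v) w := by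
        conv_lhs => rw [show v = T ((T ^ (r - 1)) v) by
          rw [← Module.End.mul_apply, ← pow_succ', Nat.sub_add_cancel (Fact.out : r.Prime).one_lt.le, hT, Module.End.one_apply]]
        rw [show polar Q (T w) (T ((T ^ (r - 1)) v)) = polar Q w ((T ^ (r - 1)) v) from hI.pres _ _, polar_comm]
      rw [polar_add_left, ← h2, h1]
    have hfix : ∀ v ∈ K, T v = v := fun v hv => by
      have h2 : T (T v) = -v := by
        have := congrArg T (hrot v hv)
        rw [map_add, map_zero, ← Module.End.mul_apply T (T ^ (r - 1)), ← pow_succ',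
          Nat.sub_add_cancel (Fact.out : r.Prime).one_lt.le, hT, Module.End.one_apply] at this
        exact eq_neg_of_add_eq_zero_left this
      have h4 : (T ^ 4) v = v := by
        show T (T (T (T v))) = v
        rw [h2, map_neg, map_neg, h2, neg_neg]
      have h4k : ∀ k, (T ^ (4 * k)) v = v := fun k => by
        induction k with
        | zero => simp
        | succ k ih => rw [Nat.mul_succ, pow_add, Module.End.mul_apply, h4, ih]
      obtain ⟨l, hl⟩ := (Fact.out : r.Prime).odd_of_ne_two hr2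
      obtain ⟨u, k, hk⟩ : ∃ u k, 4 * k = r * u + 1 := by
        rcases Nat.even_or_odd l with ⟨s, hs⟩ | ⟨s, hs⟩
        · exact ⟨3, 3 * s + 1, by omega⟩
        · exact ⟨1, s + 1, by omega⟩
      have := h4k k
      rwa [hk, pow_succ, pow_mul, hT, one_pow, one_mul] at this
    rw [Submodule.mem_bot] at hv₀ hgv₀
    exact hv₀ (eq_zero_of_fixed_moved hr (mem_fixedSpace.2 (hfix v₀ (hK ▸ ⟨hgv₀, hv₀U⟩))) (hUM hv₀U))
  · rw [show blockDim ord = 2 * ord from if_neg (Nat.not_even_iff_odd.2 hodd)]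
    obtain ⟨X, hXi, hXU, hXiso, hXd⟩ := step_quad_odd hQ hT hr hr2 e hodd U hUi hUM hU hdim
    obtain ⟨A, hA⟩ : ∃ A, A = (quadSF hQ).perp X ⊓ U := ⟨_, rfl⟩
    have hAi : Inv T A := fun w hw => by
      rw [hA] at hw ⊢
      exact ⟨hI.inv_perp hXi w hw.1, hUi w hw.2⟩
    obtain ⟨C, hC, hCi⟩ := exists_inv_compl (c := 1) (by rw [hT, one_smul]) one_ne_zero hr hAi
    have hsplit : A ⊔ C ⊓ U = U := by
      refine le_antisymm (sup_le (hA ▸ inf_le_right) inf_le_right) fun w hw => ?_
      obtain ⟨a, ha, b, hb, rfl⟩ := Submodule.mem_sup.1 (hC.sup_eq_top ▸ Submodule.mem_top (x := w))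
      refine Submodule.add_mem_sup ha ⟨hb, ?_⟩
      simpa using U.sub_mem hw ((hA ▸ inf_le_right : A ≤ U) ha)
    have hdisj : A ⊓ (C ⊓ U) = ⊥ := eq_bot_iff.2 fun w hw => hC.disjoint.le_bot ⟨hw.1, hw.2.1⟩
    have hXA : X ≤ A := fun w hw => hA ▸ ⟨fun x hx => hXiso.1 x hx w hw, hXU hw⟩
    refine ⟨X ⊔ (C ⊓ U), fun w hw => ?_, sup_le hXU inf_le_right, fun w hw hz => ?_, ?_⟩
    · obtain ⟨a, ha, b, hb, rfl⟩ := Submodule.mem_sup.1 hw
      rw [map_add]
      exact Submodule.add_mem_sup (hXi a ha) ⟨hCi b hb.1, hUi b hb.2⟩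
    · obtain ⟨a, ha, b, hb, rfl⟩ := Submodule.mem_sup.1 hw
      have hb0 : b = 0 := by
        refine (Submodule.mem_bot F).1 (hdisj.le ⟨?_, hb⟩)
        rw [hA]
        refine ⟨fun x hx => ?_, hb.2⟩
        have := hz x (Submodule.mem_sup_left hx)
        rw [polar_add_left, show polar Q a x = 0 from hXiso.1 a ha x hx, zero_add, polar_comm] at this
        exact this
      subst hb0
      rw [add_zero] at hz ⊢
      refine hU a (hXU ha) fun x hx => ?_
      rw [← hsplit] at hx
      obtain ⟨a', ha', b', hb', rfl⟩ := Submodule.mem_sup.1 hx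
      rw [hA] at ha'
      rw [polar_add_right, hz b' (Submodule.mem_sup_right hb'), show polar Q a a' = 0 from ha'.1 a ha, add_zero]
    · have h1 := finrank_perp_in hQ hU hXU
      rw [← hA] at h1
      have h2 := Submodule.finrank_sup_add_finrank_inf_eq A (C ⊓ U)
      rw [hsplit, hdisj, finrank_bot, add_zero] at h2
      have h3 := Submodule.finrank_sup_add_finrank_inf_eq X (C ⊓ U)
      rw [show X ⊓ (C ⊓ U) = ⊥ from eq_bot_iff.2 ((inf_le_inf_right _ hXA).trans hdisj.le), finrank_bot, add_zero] at h3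
      omega

/-- Smaller moved subspaces. -/
lemma exists_moved_sub (p : ℕ) [Fact p.Prime] [CharP F p] (hQ : (polarBilin Q).Nondegenerate) (hT : T ^ r = 1)
    (hr : (r : F) ≠ 0) (hr2 : r ≠ 2) (e : ∀ v, Q (T v) = Q v) : ∀ (j : ℕ) (U : Submodule F V), Inv T U →
    U ≤ movedSpace T r → NDQ Q U → blockDim ord * j ≤ finrank F U →
    ∃ W : Submodule F V, Inv T W ∧ W ≤ U ∧ NDQ Q W ∧ finrank F W = blockDim ord * j := by
  intro j
  induction j with
  | zero => intro U _ _ _ _; exact ⟨⊥, fun w hw => by simp_all, bot_le, ndq_bot, by simp⟩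
  | succ j ih =>
    intro U hUi hUM hU hd
    have hi0 := blockDim_pos (orderOf_card_pos (F := F) (r := r) hr)
    have hne : U ≠ ⊥ := fun h => by
      rw [h, finrank_bot, Nat.mul_succ] at hd
      omega
    obtain ⟨X, hXi, hXU, hX, hXd⟩ := exists_block p hQ hT hr hr2 e hUi hUM hU hne
    obtain ⟨Y, hYU, hY, hperp, -, hYd, hYe⟩ := ndq_compl hQ hU hX hXU
    have hYi : Inv T Y := fun w hw => by
      rw [hYe] at hw ⊢
      exact ⟨(quad_isom (hQ := hQ) e).inv_perp hXi w hw.1, hUi w hw.2⟩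
    rw [Nat.mul_succ] at hd
    obtain ⟨W, hWi, hWY, hW, hWd⟩ := ih Y hYi (hYU.trans hUM) hY (by omega)
    obtain ⟨h1, -, h3⟩ := ndq_sup hX hW fun x hx y hy => hperp x hx y (hWY hy)
    refine ⟨X ⊔ W, fun w hw => ?_, sup_le hXU (hWY.trans hYU), h1, by rw [h3, Nat.mul_succ]; omega⟩
    obtain ⟨a, ha, b, hb, rfl⟩ := Submodule.mem_sup.1 hw
    rw [map_add]
    exact Submodule.add_mem_sup (hXi a ha) (hWi b hb)

end Cfsg.Agent.Elusive
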