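import Cfsg.Agent.Lib.Elusive.NdClass
import Cfsg.Agent.Lib.Orthogonal.Siegel
import Cfsg.Agent.Lib.Orthogonal.Matrix

/-!
Unipotent elements built from commuting Siegel transformations, and how they split non-degenerate invariant subspaces.
-/

set_option autoImplicit false
set_option linter.all false
set_option maxHeartbeats 1600000

namespace Cfsg.Agent.Elusive

open Module QuadraticMap

section split
variable {F : Type*} [Field F] {V : Type*} [AddCommGroup V] [Module F V] [FiniteDimensional F V]
  {Q : QuadraticForm F V} {N : Module.End F V}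

/-- The rank of a map with vanishing diagonal on a non-degenerate invariant subspace is even. -/
lemma even_rank (hsk : ∀ u, polar Q (N u) u = 0) {W : Submodule F V} (hWi : Inv N W) (hW : NDQ Q W) :
    Even (finrank F W - finrank F (W ⊓ LinearMap.ker N : Submodule F V)) := by
  obtain ⟨C, hC⟩ := Submodule.exists_isCompl ((LinearMap.ker N).comap W.subtype)
  have hd := Submodule.finrank_add_eq_of_isCompl hC
  rw [show finrank F ((LinearMap.ker N).comap W.subtype) = finrank F (W ⊓ LinearMap.ker N : Submodule F V) by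
    rw [← (Submodule.equivMapOfInjective _ W.subtype_injective ((LinearMap.ker N).comap W.subtype)).symm.finrank_eq,
      Submodule.map_comap_subtype]] at hd
  let B : LinearMap.BilinForm F C :=
    LinearMap.BilinForm.comp (polarBilin Q) (N.comp (W.subtype.comp C.subtype)) (W.subtype.comp C.subtype)
  have hB : ∀ u v, B u v = polar Q (N ((u : W) : V)) ((v : W) : V) := fun u v => rfl
  have hA : B.IsAlt := fun u => hsk _
  have hleft : ∀ u, (∀ v, B u v = 0) → u = 0 := fun u hu => by
    have hz : ∀ w ∈ W, polar Q (N ((u : W) : V)) w = 0 := fun w hw => by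
      obtain ⟨a, ha, b, hb, hab⟩ := Submodule.mem_sup.1 (hC.sup_eq_top ▸ Submodule.mem_top (x := (⟨w, hw⟩ : W)))
      have hka : N ((a : W) : V) = 0 := ha
      have hab' : (a : V) + (b : V) = w := congrArg Subtype.val hab
      rw [← hab', polar_add_right, show polar Q (N ((u : W) : V)) (b : V) = 0 from hu ⟨b, hb⟩, add_zero]
      have h1 := hsk (((u : W) : V) + (a : V))
      rw [map_add, hka, add_zero, polar_add_right, hsk, zero_add] at h1
      exact h1
    have h0 : N ((u : W) : V) = 0 := hW _ (hWi _ (u : W).2) hz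
    have : (u : W) = 0 := (Submodule.mem_bot F).1 (hC.disjoint.le_bot ⟨h0, u.2⟩)
    exact Subtype.ext this
  obtain ⟨k, hk⟩ := AltForm.exists_finrank_eq hA ⟨hleft, fun u hu => hleft u fun v => by
    rw [← LinearMap.BilinForm.IsAlt.neg_eq hA, hu, neg_zero]⟩
  exact ⟨k, by omega⟩

/-- An invariant non-degenerate subspace and its orthogonal split kernel and image. -/
lemma unip_split (hQ : (polarBilin Q).Nondegenerate) {T : Module.End F V} (hN : N = T - 1) (e : ∀ v, Q (T v) = Q v)
    {W : Submodule F V} (hWi : Inv T W) (hW : NDQ Q W) :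
    ∃ W' : Submodule F V, NDQ Q W' ∧ Inv T W' ∧ W' = (quadSF hQ).perp W ∧ W ⊔ W' = ⊤ ∧
      finrank F W + finrank F W' = finrank F V ∧ (∀ x ∈ W, ∀ y ∈ W', polar Q x y = 0) ∧
      Inv N W ∧ Inv N W' ∧
      finrank F (W ⊓ LinearMap.ker N : Submodule F V) + finrank F (W' ⊓ LinearMap.ker N : Submodule F V) =
        finrank F (LinearMap.ker N) ∧
      finrank F (W ⊓ (LinearMap.ker N ⊓ LinearMap.range N) : Submodule F V) +
        finrank F (W' ⊓ (LinearMap.ker N ⊓ LinearMap.range N) : Submodule F V) =
        finrank F (LinearMap.ker N ⊓ LinearMap.range N : Submodule F V) ∧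
      finrank F W ≤ finrank F (W ⊓ LinearMap.ker N : Submodule F V) + finrank F (W ⊓ LinearMap.range N : Submodule F V) ∧
      finrank F W' ≤ finrank F (W' ⊓ LinearMap.ker N : Submodule F V) + finrank F (W' ⊓ LinearMap.range N : Submodule F V) := by
  have hI := quad_isom (hQ := hQ) e
  have hc := (quadSF hQ).isCompl_perp hW
  have hW'i := hI.inv_perp hWi
  have hNW : ∀ {U : Submodule F V}, Inv T U → Inv N U := fun hU v hv => by
    rw [hN, LinearMap.sub_apply, Module.End.one_apply]; exact Submodule.sub_mem _ (hU v hv) hv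
  have hsplit : ∀ {K : Submodule F V}, (∀ a ∈ W, ∀ b ∈ (quadSF hQ).perp W, a + b ∈ K → a ∈ K ∧ b ∈ K) →
      finrank F (W ⊓ K : Submodule F V) + finrank F ((quadSF hQ).perp W ⊓ K : Submodule F V) = finrank F K := by
    intro K hK
    have h := Submodule.finrank_sup_add_finrank_inf_eq (W ⊓ K) ((quadSF hQ).perp W ⊓ K)
    rw [show (W ⊓ K) ⊓ ((quadSF hQ).perp W ⊓ K) = ⊥ from eq_bot_iff.2 fun v hv => hc.disjoint.le_bot ⟨hv.1.1, hv.2.1⟩,
      finrank_bot, add_zero] at h
    suffices he : (W ⊓ K) ⊔ ((quadSF hQ).perp W ⊓ K) = K by rw [he] at h; exact h.symm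
    refine le_antisymm (sup_le inf_le_right inf_le_right) fun v hv => ?_
    obtain ⟨a, ha, b, hb, rfl⟩ := Submodule.mem_sup.1 (hc.sup_eq_top ▸ Submodule.mem_top (x := v))
    obtain ⟨h1, h2⟩ := hK a ha b hb hv
    exact Submodule.add_mem_sup ⟨ha, h1⟩ ⟨hb, h2⟩
  have hker : ∀ a ∈ W, ∀ b ∈ (quadSF hQ).perp W, a + b ∈ LinearMap.ker N → a ∈ LinearMap.ker N ∧ b ∈ LinearMap.ker N := by
    intro a ha b hb h
    rw [LinearMap.mem_ker, map_add] at h
    have h1 : N a = 0 := (Submodule.mem_bot F).1 (hc.disjoint.le_bot ⟨hNW hWi a ha, by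
      rw [eq_neg_of_add_eq_zero_left h]; exact neg_mem (hNW hW'i b hb)⟩)
    rw [h1, zero_add] at h
    exact ⟨h1, h⟩
  have hran : ∀ a ∈ W, ∀ b ∈ (quadSF hQ).perp W, a + b ∈ LinearMap.range N → a ∈ LinearMap.range N ∧ b ∈ LinearMap.range N := by
    intro a ha b hb h
    obtain ⟨v, hv⟩ := h
    obtain ⟨x, hx, y, hy, rfl⟩ := Submodule.mem_sup.1 (hc.sup_eq_top ▸ Submodule.mem_top (x := v))
    rw [map_add] at hv
    have h1 : N x - a = b - N y := by rw [sub_eq_sub_iff_add_eq_add, hv, add_comm]
    have h2 : N x - a = 0 := (Submodule.mem_bot F).1 (hc.disjoint.le_bot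
      ⟨W.sub_mem (hNW hWi x hx) ha, h1 ▸ Submodule.sub_mem _ hb (hNW hW'i y hy)⟩)
    exact ⟨⟨x, sub_eq_zero.1 h2⟩, ⟨y, (sub_eq_zero.1 (h1.symm.trans h2)).symm⟩⟩
  have hrn : ∀ {U : Submodule F V}, Inv T U → finrank F U ≤
      finrank F (U ⊓ LinearMap.ker N : Submodule F V) + finrank F (U ⊓ LinearMap.range N : Submodule F V) := by
    intro U hU
    have h := LinearMap.finrank_range_add_finrank_ker (N.comp U.subtype)
    have h1 : finrank F (LinearMap.ker (N.comp U.subtype)) = finrank F (U ⊓ LinearMap.ker N : Submodule F V) := by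
      rw [LinearMap.ker_comp, ← (Submodule.equivMapOfInjective _ U.subtype_injective ((LinearMap.ker N).comap U.subtype)).symm.finrank_eq,
        Submodule.map_comap_subtype]
    have h2 : finrank F (LinearMap.range (N.comp U.subtype)) ≤ finrank F (U ⊓ LinearMap.range N : Submodule F V) := by
      refine Submodule.finrank_mono ?_
      rintro _ ⟨w, rfl⟩
      exact ⟨hNW hU _ w.2, ⟨_, rfl⟩⟩
    omega
  refine ⟨_, (quadSF hQ).nd_perp hW, hW'i, rfl, hc.sup_eq_top, (quadSF hQ).finrank_perp W, fun x hx y hy => hy x hx,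
    hNW hWi, hNW hW'i, hsplit hker, hsplit fun a ha b hb h => ?_, hrn hWi, hrn hW'i⟩
  exact ⟨⟨(hker a ha b hb h.1).1, (hran a ha b hb h.2).1⟩, ⟨(hker a ha b hb h.1).2, (hran a ha b hb h.2).2⟩⟩

/-- Half the dimension bounds singular subspaces. -/
lemma sing_le {W U : Submodule F V} (hQ : (polarBilin Q).Nondegenerate) (hW : NDQ Q W) (hU : U ≤ W) (h : ∀ u ∈ U, Q u = 0) :
    2 * finrank F U ≤ finrank F W :=
  (quadSF hQ).two_finrank_le hW hU fun u hu v hv => polar_zero_of_sing h hu hv

end split

section build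
variable {F : Type*} [Field F] [Fintype F] {ι : Type} [Fintype ι] [DecidableEq ι] {Q : QuadraticForm F (ι → F)}

/-- The displacement of a Siegel transformation. -/
def eich (Q : QuadraticForm F (ι → F)) (u y : ι → F) : Module.End F (ι → F) where
  toFun v := polar Q v u • y - (polar Q v y + Q y * polar Q v u) • u
  map_add' v w := by
    simp only [polar_add_left]
    module
  map_smul' c v := by
    simp only [polar_smul_left, RingHom.id_apply, smul_eq_mul]
    module

lemma eich_apply (u y v : ι → F) : eich Q u y v = polar Q v u • y - (polar Q v y + Q y * polar Q v u) • u := rfl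

/-- Products of commuting Siegel transformations lie in the derived subgroup. -/
lemma exists_omega_eich (hQ : (polarBilin Q).Nondegenerate) (hn : 5 ≤ Fintype.card ι) :
    ∀ (s : ℕ) (e a : Fin s → ι → F), (∀ j, Q (e j) = 0) → (∀ i j, polar Q (e i) (e j) = 0) →
      (∀ i j, polar Q (e i) (a j) = 0) → (∀ i j, i ≠ j → polar Q (a i) (a j) = 0) →
      ∃ x : GL ι F, x ∈ Cfsg.Geo.omegaGL (⇑Q) ∧ Matrix.toLin' x.1 = 1 + ∑ j, eich Q (e j) (a j) := by
  intro s
  induction s with
  | zero => exact fun e a _ _ _ _ => ⟨1, one_mem _, by rw [Units.val_one, Matrix.toLin'_one]; simp; rfl⟩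
  | succ s ih =>
    intro e a he hee hea haa
    obtain ⟨x, hx, hxe⟩ := ih (e ∘ Fin.succ) (a ∘ Fin.succ) (fun j => he _) (fun i j => hee _ _) (fun i j => hea _ _)
      fun i j hij => haa _ _ fun h => hij (Fin.succ_injective _ h)
    obtain ⟨g, hg, hgs⟩ := Orth.exists_siegel (Q := Q) (he 0) (hea 0 0)
    obtain ⟨g', hg'⟩ : ∃ g', g' = (Orth.isoEquiv Q).symm ⟨g, hg⟩ := ⟨_, rfl⟩
    have hgl : Matrix.toLin' (g' : GL ι F).1 = 1 + eich Q (e 0) (a 0) := LinearMap.ext fun v => by
      rw [Matrix.toLin'_apply, ← Orth.isoEquiv_apply, hg', MulEquiv.apply_symm_apply, hgs, LinearMap.add_apply,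
        Module.End.one_apply, eich_apply, add_sub_assoc]
    have hgm : (g' : GL ι F) ∈ Cfsg.Geo.omegaGL (⇑Q) := by
      have hd : 5 ≤ finrank F (ι → F) := by rwa [finrank_fintype_fun_eq_card]
      have h1 := Orth.siegelGroup_le hQ hd (Orth.siegel_mem hQ hd (g := ⟨g, hg⟩) (he 0) (hea 0 0) hgs)
      refine ⟨g', ?_, rfl⟩
      have hc : (commutator ↥(Cfsg.isometryGroup F (⇑Q))).map (Orth.isoEquiv Q).toMonoidHom = commutator _ := by
        rw [commutator_def, Subgroup.map_commutator, Subgroup.map_top_of_surjective _ (Orth.isoEquiv Q).surjective,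
          ← commutator_def]
      rw [← hc] at h1
      obtain ⟨b, hb, hbe⟩ := h1
      have : b = g' := by rw [hg']; exact ((Orth.isoEquiv Q).symm_apply_apply b).symm.trans (congrArg _ hbe)
      exact this ▸ hb
    refine ⟨(g' : GL ι F) * x, mul_mem hgm hx, ?_⟩
    rw [Units.val_mul, Matrix.toLin'_mul, ← Module.End.mul_eq_comp, hgl, hxe, Fin.sum_univ_succ, add_mul, one_mul, mul_add,
      mul_one, Finset.mul_sum, Finset.sum_eq_zero (f := fun i => eich Q (e 0) (a 0) * eich Q ((e ∘ Fin.succ) i) ((a ∘ Fin.succ) i))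
        (fun i _ => LinearMap.ext fun v => ?_), add_zero]
    · simp only [Function.comp_apply]
      abel
    · simp only [Function.comp_apply, Module.End.mul_apply, eich_apply, LinearMap.zero_apply, polar_sub_left, polar_smul_left,
        hee i.succ 0, hea i.succ 0, show polar Q (a i.succ) (e 0) = 0 by rw [polar_comm]; exact hea _ _,
        haa i.succ 0 (Fin.succ_ne_zero i), smul_zero, sub_zero, mul_zero, add_zero, zero_smul]

/-- A unipotent element from a singular subspace and orthogonal non-singular vectors. -/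
lemma exists_unip (p : ℕ) [Fact p.Prime] [CharP F p] (hQ : (polarBilin Q).Nondegenerate) (hn : 5 ≤ Fintype.card ι)
    {L : Submodule F (ι → F)} (hL : ∀ u ∈ L, Q u = 0) {g t : ℕ} (hd : finrank F L = t + (g + g)) (h1 : 0 < g + t)
    (b : Fin t → ι → F) (hb : ∀ j, Q (b j) ≠ 0) (hbb : ∀ i j, i ≠ j → polar Q (b i) (b j) = 0)
    (hbL : ∀ j, ∀ u ∈ L, polar Q u (b j) = 0) (hp : 0 < t → p ≠ 2) :
    ∃ (x : GL ι F) (N : Module.End F (ι → F)), x ∈ Cfsg.Geo.omegaGL (⇑Q) ∧ x ^ p = 1 ∧
      (∀ z : F, (x : Matrix ι ι F) ≠ z • (1 : Matrix ι ι F)) ∧ N = Matrix.toLin' x.1 - 1 ∧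
      LinearMap.range N = L ⊔ Submodule.span F (Set.range b) ∧
      LinearMap.ker N = (quadSF hQ).perp (L ⊔ Submodule.span F (Set.range b)) ∧
      LinearMap.ker N ⊓ LinearMap.range N = L ∧
      finrank F (LinearMap.range N) = finrank F L + t ∧ (t = 0 → ∀ u, polar Q (N u) u = 0) := by
  classical
  have h2 : 0 < t → (2 : F) ≠ 0 := fun ht h => hp ht (by
    have h' : ((2 : ℕ) : F) = 0 := by exact_mod_cast h
    rw [CharP.cast_eq_zero_iff F p] at h'
    exact (Nat.prime_dvd_prime_iff_eq Fact.out Nat.prime_two).1 h')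
  let v := Module.finBasisOfFinrankEq F L hd
  obtain ⟨e, he⟩ : ∃ e : Fin (t + g) → ι → F, ∀ j, e j = (v (Fin.cast (by omega) (Fin.castAdd g j)) : ι → F) :=
    ⟨_, fun j => rfl⟩
  obtain ⟨a, ha⟩ : ∃ a : Fin (t + g) → ι → F,
      (∀ k, a (Fin.castAdd g k) = b k) ∧ ∀ k, a (Fin.natAdd t k) = (v (Fin.natAdd t (Fin.natAdd g k)) : ι → F) :=
    ⟨Fin.addCases b fun k => (v (Fin.natAdd t (Fin.natAdd g k)) : ι → F), fun k => Fin.addCases_left k,
      fun k => Fin.addCases_right k⟩
  obtain ⟨ha1, ha2⟩ := ha
  have heL : ∀ j, e j ∈ L := fun j => he j ▸ Subtype.prop _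
  have haL : ∀ k, a (Fin.natAdd t k) ∈ L := fun k => ha2 k ▸ Subtype.prop _
  have hee : ∀ i j, polar Q (e i) (e j) = 0 := fun i j => polar_zero_of_sing hL (heL i) (heL j)
  have hea : ∀ i j, polar Q (e i) (a j) = 0 := fun i j => by
    refine Fin.addCases (fun k => ?_) (fun k => ?_) j
    · rw [ha1]; exact hbL k _ (heL i)
    · exact polar_zero_of_sing hL (heL i) (haL k)
  have haa : ∀ i j, i ≠ j → polar Q (a i) (a j) = 0 := fun i j => by
    refine Fin.addCases (fun k => ?_) (fun k => ?_) j <;> refine Fin.addCases (fun l => ?_) (fun l => ?_) i <;> intro hne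
    · rw [ha1, ha1]; exact hbb _ _ fun h => hne (by rw [h])
    · rw [ha1]; exact hbL k _ (haL l)
    · rw [ha1, polar_comm]; exact hbL l _ (haL k)
    · exact polar_zero_of_sing hL (haL l) (haL k)
  obtain ⟨x, hx, hxe⟩ := exists_omega_eich hQ hn (t + g) e a (fun j => hL _ (heL j)) hee hea haa
  obtain ⟨N, hN⟩ : ∃ N, N = Matrix.toLin' x.1 - 1 := ⟨_, rfl⟩
  have hNe : ∀ w, N w = ∑ j, eich Q (e j) (a j) w := fun w => by
    rw [hN, hxe, add_sub_cancel_left, LinearMap.sum_apply]
  obtain ⟨P, hP⟩ : ∃ P, P = L ⊔ Submodule.span F (Set.range b) := ⟨_, rfl⟩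
  have heP : ∀ j, e j ∈ P := fun j => hP ▸ Submodule.mem_sup_left (heL j)
  have haP : ∀ j, a j ∈ P := fun j => by
    refine Fin.addCases (fun k => ?_) (fun k => ?_) j
    · rw [ha1, hP]; exact Submodule.mem_sup_right (Submodule.subset_span ⟨k, rfl⟩)
    · rw [hP]; exact Submodule.mem_sup_left (haL k)
  -- the families are independent
  have hli : LinearIndependent F (Sum.elim (fun k : Fin (t + (g + g)) => (v k : ι → F)) b) := by
    have hbli : LinearIndependent F b := by
      refine Fintype.linearIndependent_iff.2 fun c hc j => ?_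
      have h := congrArg (fun w => polar Q w (b j)) hc
      simp only [polar_zero_left] at h
      rw [show polar Q (∑ i, c i • b i) (b j) = ∑ i, c i * polar Q (b i) (b j) by
        rw [← polarBilin_apply_apply, map_sum, LinearMap.sum_apply]
        simp] at h
      rw [Finset.sum_eq_single j (fun i _ hij => by rw [hbb i j hij, mul_zero]) (by simp), polar_diag] at h
      exact (mul_eq_zero.1 h).resolve_right (mul_ne_zero (h2 (by have := j.2; omega)) (hb j))
    refine (v.linearIndependent.map' L.subtype L.ker_subtype).sum_type hbli ?_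
    refine Submodule.disjoint_def.2 fun w hw hw' => ?_
    have hwL : w ∈ L := Submodule.span_le.2 (by rintro _ ⟨k, rfl⟩; exact (v k).2) hw
    obtain ⟨c, rfl⟩ := (Submodule.mem_span_range_iff_exists_fun F).1 hw'
    refine Finset.sum_eq_zero fun j _ => ?_
    have h := hbL j _ hwL
    rw [show polar Q (∑ i, c i • b i) (b j) = ∑ i, c i * polar Q (b i) (b j) by
        rw [← polarBilin_apply_apply, map_sum, LinearMap.sum_apply]
        simp,
      Finset.sum_eq_single j (fun i _ hij => by rw [hbb i j hij, mul_zero]) (by simp), polar_diag] at h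
    rw [(mul_eq_zero.1 h).resolve_right (mul_ne_zero (h2 (by have := j.2; omega)) (hb j)), zero_smul]
  have hPd : finrank F P = t + (g + g) + t := by
    have h := finrank_span_eq_card hli
    rw [Set.Sum.elim_range, Submodule.span_union, Fintype.card_sum, Fintype.card_fin, Fintype.card_fin] at h
    have hspan := congrArg (Submodule.map L.subtype) v.span_eq
    rw [Submodule.map_span, Submodule.map_top, Submodule.range_subtype, ← Set.range_comp] at hspan
    rw [hP, ← h]
    exact congrArg (fun A : Submodule F (ι → F) => finrank F (A ⊔ Submodule.span F (Set.range b) : Submodule F (ι → F))) hspan.symm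
  have hker : LinearMap.ker N = (quadSF hQ).perp P := by
    have hii : Function.Injective (Sum.elim
        (fun j : Fin (t + g) => (Sum.inl (Fin.cast (by omega) (Fin.castAdd g j)) : Fin (t + (g + g)) ⊕ Fin t))
        (Fin.addCases (fun k : Fin t => (Sum.inr k : Fin (t + (g + g)) ⊕ Fin t))
          fun k : Fin g => Sum.inl (Fin.natAdd t (Fin.natAdd g k)))) := by
      refine Function.Injective.sumElim (fun i j h => ?_) (fun i j => ?_) fun i j => ?_
      · simpa [Fin.ext_iff] using h
      · refine Fin.addCases (fun k => ?_) (fun k => ?_) i <;> refine Fin.addCases (fun l => ?_) (fun l => ?_) j <;>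
          simp [Fin.ext_iff]
      · refine Fin.addCases (fun k => ?_) (fun k => ?_) j <;> simp [Fin.ext_iff]
        omega
    have hea' : LinearIndependent F (Sum.elim e a) := by
      convert hli.comp _ hii using 1
      funext j
      rcases j with j | j
      · exact he j
      · refine Fin.addCases (fun k => ?_) (fun k => ?_) j <;> simp [ha1, ha2]
    ext w
    rw [LinearMap.mem_ker, hNe]
    constructor
    · intro hw
      have h := Fintype.linearIndependent_iff.1 hea'
        (Sum.elim (fun j => -(polar Q w (a j) + Q (a j) * polar Q w (e j))) fun j => polar Q w (e j)) (by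
          rw [Fintype.sum_sum_type, ← Finset.sum_add_distrib, ← hw]
          refine Finset.sum_congr rfl fun j _ => ?_
          simp only [Sum.elim_inl, Sum.elim_inr, eich_apply]
          module)
      have h1 : ∀ j, polar Q w (e j) = 0 := fun j => h (.inr j)
      have h3 : ∀ j, polar Q w (a j) = 0 := fun j => by
        have := h (.inl j)
        simpa [h1 j] using this
      intro y hy
      show polar Q y w = 0
      have hle : P ≤ LinearMap.ker ((polarBilin Q).flip w) := by
        rw [hP]
        refine sup_le ?_ (Submodule.span_le.2 ?_)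
        · have hspan := congrArg (Submodule.map L.subtype) v.span_eq
          rw [Submodule.map_span, Submodule.map_top, Submodule.range_subtype, ← Set.range_comp] at hspan
          rw [← hspan]
          refine Submodule.span_le.2 ?_
          rintro _ ⟨k, rfl⟩
          show polar Q (v k : ι → F) w = 0
          rw [polar_comm]
          refine Fin.addCases (fun k₁ => ?_) (fun k₂ => ?_) k
          · have := h1 (Fin.castAdd g k₁)
            rwa [he, show (Fin.cast (by omega) (Fin.castAdd g (Fin.castAdd g k₁)) : Fin (t + (g + g))) =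
              Fin.castAdd (g + g) k₁ from Fin.ext rfl] at this
          · refine Fin.addCases (fun k₃ => ?_) (fun k₃ => ?_) k₂
            · have := h1 (Fin.natAdd t k₃)
              rwa [he, show (Fin.cast (by omega) (Fin.castAdd g (Fin.natAdd t k₃)) : Fin (t + (g + g))) =
                Fin.natAdd t (Fin.castAdd g k₃) from Fin.ext rfl] at this
            · have := h3 (Fin.natAdd t k₃)
              rwa [ha2] at this
        · rintro _ ⟨k, rfl⟩
          show polar Q (b k) w = 0
          rw [polar_comm, ← ha1]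
          exact h3 _
      exact hle hy
    · intro hw
      refine Finset.sum_eq_zero fun j _ => ?_
      rw [eich_apply, show polar Q w (e j) = 0 by rw [polar_comm]; exact hw _ (heP j),
        show polar Q w (a j) = 0 by rw [polar_comm]; exact hw _ (haP j)]
      simp
  have hran : LinearMap.range N = P := by
    refine Submodule.eq_of_le_of_finrank_eq ?_ ?_
    · rintro _ ⟨w, rfl⟩
      rw [hNe]
      exact sum_mem fun j _ => P.sub_mem (P.smul_mem _ (haP j)) (P.smul_mem _ (heP j))
    · have h3 := LinearMap.finrank_range_add_finrank_ker N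
      have h4 := (quadSF hQ).finrank_perp P
      rw [hker] at h3
      omega
  have hR0 : LinearMap.ker N ⊓ LinearMap.range N = L := by
    rw [hker, hran]
    refine le_antisymm ?_ (le_inf (fun u hu y hy => ?_) (hP ▸ le_sup_left))
    · rintro u ⟨hu, hu'⟩
      rw [hP] at hu'
      obtain ⟨l, hl, s, hs, rfl⟩ := Submodule.mem_sup.1 hu'
      obtain ⟨c, rfl⟩ := (Submodule.mem_span_range_iff_exists_fun F).1 hs
      rw [Finset.sum_eq_zero fun j _ => ?_, add_zero]
      · exact hl
      · have h := hu (b j) (hP ▸ Submodule.mem_sup_right (Submodule.subset_span ⟨j, rfl⟩))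
        rw [quadSF_B, polar_add_right, polar_comm Q (b j) l, hbL j l hl, zero_add, ← polarBilin_apply_apply, map_sum,
          Finset.sum_eq_single j (fun i _ hij => by simp [hbb j i (Ne.symm hij)]) (by simp), map_smul,
          polarBilin_apply_apply, polar_diag, smul_eq_mul] at h
        rw [(mul_eq_zero.1 h).resolve_right (mul_ne_zero (h2 (by have := j.2; omega)) (hb j)), zero_smul]
    · show polar Q y u = 0
      rw [hP] at hy
      obtain ⟨l, hl, s, hs, rfl⟩ := Submodule.mem_sup.1 hy
      obtain ⟨c, rfl⟩ := (Submodule.mem_span_range_iff_exists_fun F).1 hs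
      rw [polar_add_left, polar_zero_of_sing hL hl hu, zero_add, ← polarBilin_apply_apply, map_sum, LinearMap.sum_apply]
      refine Finset.sum_eq_zero fun i _ => ?_
      simp [polar_comm Q (b i) u, hbL i u hu]
  have hNP : ∀ w ∈ LinearMap.ker N ⊓ LinearMap.range N, N w = 0 := fun w hw => hw.1
  have hN3 : ∀ w, N (N (N w)) = 0 := fun w => by
    refine hNP _ ?_
    rw [hR0]
    have hw : N w ∈ P := hran.le ⟨w, rfl⟩
    rw [hP] at hw
    obtain ⟨l, hl, s, hs, hls⟩ := Submodule.mem_sup.1 hw
    rw [← hls, map_add, show N l = 0 from (hR0.ge hl).1, zero_add]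
    obtain ⟨c, rfl⟩ := (Submodule.mem_span_range_iff_exists_fun F).1 hs
    rw [map_sum]
    refine sum_mem fun i _ => ?_
    rw [map_smul, hNe]
    refine L.smul_mem _ (sum_mem fun j _ => ?_)
    rw [eich_apply, show polar Q (b i) (e j) = 0 by rw [polar_comm]; exact hbL i _ (heL j), zero_smul, zero_sub, mul_zero,
      add_zero]
    exact neg_mem (L.smul_mem _ (heL j))
  have hsk : t = 0 → ∀ u, polar Q (N u) u = 0 := fun ht u => by
    subst ht
    rw [hNe, ← polarBilin_apply_apply, map_sum, LinearMap.sum_apply]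
    refine Finset.sum_eq_zero fun j _ => ?_
    have hQa : Q (a j) = 0 := Fin.addCases (fun k => k.elim0) (fun k => hL _ (haL k)) j
    rw [polarBilin_apply_apply, eich_apply, polar_sub_left, polar_smul_left, polar_smul_left, hQa, zero_mul, add_zero,
      polar_comm Q (a j) u, polar_comm Q (e j) u]
    simp only [smul_eq_mul]
    ring
  have hxp : x ^ p = 1 := by
    haveI : Nontrivial (ι → F) := Module.nontrivial_of_finrank_pos (R := F) (by rw [finrank_fintype_fun_eq_card]; omega)
    haveI : CharP (Module.End F (ι → F)) p :=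
      charP_of_injective_algebraMap (FaithfulSMul.algebraMap_injective F _) p
    refine Units.ext (Matrix.toLin'.injective ?_)
    rw [Units.val_pow_eq_pow_val, Matrix.toLin'_pow, Units.val_one, Matrix.toLin'_one,
      show Matrix.toLin' x.1 = 1 + N by rw [hN]; abel, add_pow_char_of_commute _ (Commute.one_left N), one_pow]
    have : N ^ p = 0 := by
      rcases Nat.eq_zero_or_pos t with ht | ht
      · have hN2 : N ^ 2 = 0 := LinearMap.ext fun w => by
          rw [pow_two, Module.End.mul_apply, LinearMap.zero_apply]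
          refine hNP _ ⟨?_, ⟨w, rfl⟩⟩
          refine (hR0.ge ?_).1
          have hw : N w ∈ P := hran.le ⟨w, rfl⟩
          subst ht
          rwa [hP, show Set.range b = ∅ from Set.range_eq_empty b, Submodule.span_empty, sup_bot_eq] at hw
        obtain ⟨k, hk⟩ : ∃ k, p = 2 + k := ⟨p - 2, by have := (Fact.out : p.Prime).two_le; omega⟩
        rw [hk, pow_add, hN2, zero_mul]
      · obtain ⟨k, hk⟩ : ∃ k, p = 3 + k := ⟨p - 3, by
          have := (Fact.out : p.Prime).two_le; have := hp ht; omega⟩
        rw [hk, pow_add, show N ^ 3 = 0 from LinearMap.ext fun w => by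
          rw [pow_succ, pow_two, Module.End.mul_apply, Module.End.mul_apply, hN3, LinearMap.zero_apply], zero_mul]
    rw [this, add_zero]
    rfl
  refine ⟨x, N, hx, hxp, fun z hz => ?_, hN, hran.trans hP, hker.trans (by rw [hP]), hR0, by rw [hran, hPd, hd], hsk⟩
  · have hz1 : (z - 1) • (1 : Module.End F (ι → F)) = N := by
      rw [hN, hz, map_smul, Matrix.toLin'_one]; exact LinearMap.ext fun u => by simp [sub_smul]
    by_cases h : z - 1 = 0
    · rw [h, zero_smul] at hz1
      rw [← hz1, LinearMap.range_zero] at hran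
      rw [← hran, finrank_bot] at hPd
      omega
    · obtain ⟨u, hu, hu0⟩ := Submodule.exists_mem_ne_zero_of_ne_bot (p := L) (fun h' => by
        rw [h', finrank_bot] at hd; omega)
      have h4 : N u = 0 := (hR0.ge hu).1
      rw [← hz1, LinearMap.smul_apply, Module.End.one_apply] at h4
      exact hu0 ((smul_eq_zero.1 h4).resolve_left h)

end build

end Cfsg.Agent.Elusive
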