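import Cfsg.Agent.Lib.Elusive.OrthTIOdd
import Cfsg.Agent.Lib.Elusive.OrthTwoMain

/-!
The three families of orthogonal groups on totally singular subspaces.
-/

set_option autoImplicit false
set_option linter.all false
set_option maxHeartbeats 1600000

namespace Cfsg.Agent.Elusive

open Module QuadraticMap

variable {F : Type*} [Field F] [Fintype F] {d m r : ℕ}

/-- Data of the plus type. -/
lemma plus_data [Fact r.Prime] (hd : 1 ≤ d) : EvenData (Orth.qPlus F d) r d True 1 := by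
  refine ⟨Orth.qPlus_nondeg d, by simp; omega, hd, Or.inl ⟨trivial, rfl⟩, ?_,
    iff_true_intro ⟨LinearEquiv.refl F _, fun v => rfl⟩⟩
  obtain ⟨j, rfl⟩ : ∃ j, d = j + 1 := ⟨d - 1, by omega⟩
  have h := congrArg (Nat.cast : ℕ → ZMod r) (Orth.zeros_qPlus (F := F) j)
  simp only [Nat.cast_add, Nat.cast_pow, Nat.card_eq_fintype_card (α := F)] at h
  rw [show 2 * (j + 1) - 1 = 2 * j + 1 by omega, Nat.add_sub_cancel]
  linear_combination h

/-- Data of the minus type. -/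
lemma minus_data [Fact r.Prime] (hd : 1 ≤ d) {a b : F} (hab : ∀ x y : F, x ^ 2 + a * x * y + b * y ^ 2 = 0 → x = 0 ∧ y = 0) :
    EvenData (Orth.qMinus F (d - 1) a b) r d False (-1) := by
  refine ⟨Orth.qMinus_nondeg (F := F) (a := a) (b := b) hab (d - 1), by simp; omega, hd, Or.inr ⟨not_false, rfl⟩, ?_,
    iff_false_intro (LBEven.minus_not_plus hd hab (LinearEquiv.refl F _) fun v => rfl)⟩
  obtain ⟨j, rfl⟩ : ∃ j, d = j + 1 := ⟨d - 1, by omega⟩
  have h := congrArg (Nat.cast : ℕ → ZMod r) (Orth.zeros_qMinus (F := F) hab (j + 1 - 1))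
  simp only [Nat.cast_add, Nat.cast_pow, Nat.card_eq_fintype_card (α := F)] at h
  simp only [Nat.add_sub_cancel] at h
  rw [show 2 * (j + 1) - 1 = 2 * j + 1 by omega,
    show (Fintype.card F : ZMod r) ^ (j + 1 - 1) = (Fintype.card F : ZMod r) ^ j by rw [Nat.add_sub_cancel]]
  linear_combination h

/-- The characteristic is excluded. -/
lemma ne_char {ι : Type} [Fintype ι] [DecidableEq ι] (p : ℕ) [Fact p.Prime] [CharP F p] {Q : QuadraticForm F (ι → F)}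
    (hQ : (polarBilin Q).Nondegenerate) (hm : 2 * m < Fintype.card ι) (h : r ∣ Nat.card (TSub Q m)) : r ≠ p := fun e =>
  not_dvd_ts p m Q hQ (by rwa [finrank_fintype_fun_eq_card]) (e ▸ h)

lemma two_ne (p : ℕ) [Fact p.Prime] [CharP F p] (hp : p ≠ 2) : (2 : F) ≠ 0 := fun h => by
  have h' : ((2 : ℕ) : F) = 0 := by exact_mod_cast h
  rw [CharP.cast_eq_zero_iff F p] at h'
  exact hp ((Nat.prime_dvd_prime_iff_eq Fact.out Nat.prime_two).1 h')

/-- Plus type. -/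
theorem plus_main [Fact r.Prime] (p : ℕ) [Fact p.Prime] [CharP F p] (hd : 4 ≤ d) (hm : 1 ≤ m) (hmd : m < d)
    {i c : ℕ} (hi : i = orderOf (Fintype.card F : ZMod r)) (hc : c = if Even i then i else 2 * i)
    (hdvd : r ∣ Nat.card (TSub (Orth.qPlus F d) m)) :
    TSFix (⇑(Orth.qPlus F d)) m r ↔
    ((r = 2 ∧ p ≠ 2 ∧ (Fintype.card F % 4 = 1 ∨ (Fintype.card F % 4 = 3 ∧ m + 2 ≤ d ∧ (Even m ∨ (2 * d) % 4 = 2)))) ∨
     (r ≠ p ∧ 2 < r ∧ Odd i ∧ i ≤ m ∧ 2 * (m % i) ≤ (2 * d) % c) ∨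
     (r ≠ p ∧ 2 < r ∧ Even i ∧ i ≤ m ∧ (r - 1) / i + 2 * (m / i) ≤ (2 * d) / i ∧
       ((2 * (m % i) ≤ i ∧ (2 * d) % c = 0 ∧ Odd ((2 * d) / i) ∧ (r - 1) / i + 2 * (m / i) < (2 * d) / i) ∨
        (2 * (m % i) ≤ (2 * d) % c ∧ Even ((2 * d) / i)) ∨
        (2 * (m % i) < (2 * d) % c ∧ Odd ((2 * d) / i))))) := by
  classical
  have hrp := ne_char p (Orth.qPlus_nondeg d) (by simp; omega) hdvd
  rcases eq_or_ne r 2 with rfl | hr2
  · rw [tsFix_two_plus (two_ne p (Ne.symm hrp)) hd hm hmd]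
    simp [Ne.symm hrp]
  · have h3 : 2 < r := lt_of_le_of_ne (Fact.out : r.Prime).two_le (Ne.symm hr2)
    rw [tsFix_iff_odd (plus_data (by omega)) p hrp hr2 hi hm hmd hdvd]
    rcases Nat.even_or_odd i with h | h
    · rw [if_pos h] at hc
      subst hc
      simp [h, hr2, h3, hrp, Nat.not_odd_iff_even.2 h]
    · rw [if_neg (Nat.not_even_iff_odd.2 h)] at hc
      subst hc
      simp [h, hr2, h3, hrp, Nat.not_even_iff_odd.2 h]

/-- Minus type. -/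
theorem minus_main [Fact r.Prime] (p : ℕ) [Fact p.Prime] [CharP F p] (hd : 4 ≤ d) (hm : 1 ≤ m) (hmd : m + 1 ≤ d)
    {a b : F} (hab : ∀ x y : F, x ^ 2 + a * x * y + b * y ^ 2 = 0 → x = 0 ∧ y = 0)
    {i c : ℕ} (hi : i = orderOf (Fintype.card F : ZMod r)) (hc : c = if Even i then i else 2 * i)
    (hdvd : r ∣ Nat.card (TSub (Orth.qMinus F (d - 1) a b) m)) :
    TSFix (⇑(Orth.qMinus F (d - 1) a b)) m r ↔
    ((r = 2 ∧ p ≠ 2 ∧ (Even d ∨ Even m ∨ Fintype.card F % 8 ≠ 7)) ∨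
     (r ≠ p ∧ 2 < r ∧ Odd i ∧ i ≤ m ∧ ((2 * d) % c = 0 ∨ 2 * (m % i) < (2 * d) % c)) ∨
     (r ≠ p ∧ 2 < r ∧ Even i ∧ i ≤ m ∧ (r - 1) / i + 2 * (m / i) ≤ (2 * d) / i ∧
       ((2 * (m % i) ≤ i ∧ (2 * d) % c = 0 ∧ Even ((2 * d) / i) ∧ (r - 1) / i + 2 * (m / i) < (2 * d) / i) ∨
        (2 * (m % i) ≤ (2 * d) % c ∧ Odd ((2 * d) / i)) ∨
        (2 * (m % i) < (2 * d) % c ∧ Even ((2 * d) / i))))) := by
  classical
  have hrp := ne_char p (Orth.qMinus_nondeg (F := F) (a := a) (b := b) hab (d - 1)) (by simp; omega) hdvd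
  rcases eq_or_ne r 2 with rfl | hr2
  · rw [tsFix_two_minus hab (two_ne p (Ne.symm hrp)) hd hm hmd]
    simp [Ne.symm hrp]
  · have h3 : 2 < r := lt_of_le_of_ne (Fact.out : r.Prime).two_le (Ne.symm hr2)
    rw [tsFix_iff_odd (minus_data (by omega) hab) p hrp hr2 hi hm (by omega) hdvd]
    rcases Nat.even_or_odd i with h | h
    · rw [if_pos h] at hc
      subst hc
      simp [h, hr2, h3, hrp, Nat.not_odd_iff_even.2 h, Nat.not_odd_iff_even, Nat.not_even_iff_odd]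
    · rw [if_neg (Nat.not_even_iff_odd.2 h)] at hc
      subst hc
      simp [h, hr2, h3, hrp, Nat.not_even_iff_odd.2 h]

/-- Odd dimension. -/
theorem odd_main [Fact r.Prime] (p : ℕ) [Fact p.Prime] [CharP F p] (hodd : Odd (Fintype.card F)) (hd : 3 ≤ d) (hm : 1 ≤ m) (hmd : m ≤ d)
    {i c : ℕ} (hi : i = orderOf (Fintype.card F : ZMod r)) (hc : c = if Even i then i else 2 * i)
    (hdvd : r ∣ Nat.card (TSub (Orth.qOdd F d) m)) :
    TSFix (⇑(Orth.qOdd F d)) m r ↔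
    ((r = 2 ∧ (m < d ∨ Fintype.card F % 4 = 1)) ∨
     (r ≠ p ∧ 2 < r ∧ i ≤ m ∧ 2 * (m % i) < (2 * d + 1) % c ∧ (Odd i ∨ (r - 1) / i + 2 * (m / i) ≤ (2 * d + 1) / i))) := by
  classical
  have h2 := Orth.two_ne_zero_of_odd hodd
  have hrp := ne_char p (Orth.qOdd_nondeg h2 d) (by simp; omega) hdvd
  rcases eq_or_ne r 2 with rfl | hr2
  · rw [tsFix_two_odd h2 (by omega) hmd]
    simp
  · have h3 : 2 < r := lt_of_le_of_ne (Fact.out : r.Prime).two_le (Ne.symm hr2)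
    rw [tsFix_iff_odd_dim p h2 hrp hr2 hi hc hm hmd hdvd]
    simp [hr2, h3, hrp]

/-- Elements of order `r` in odd dimension. -/
theorem odd_order_iff [Fact r.Prime] (hodd : Odd (Fintype.card F)) :
    (∀ x : GL (Unit ⊕ (Fin d ⊕ Fin d)) F, x ∈ Cfsg.Geo.omegaGL (⇑(Orth.qOdd F d)) → orderOf x = r →
      ∃ W : Submodule F (Unit ⊕ (Fin d ⊕ Fin d) → F), Module.finrank F ↥W = m ∧ (∀ w ∈ W, Orth.qOdd F d w = 0) ∧
        W.map (Matrix.toLin' (x : Matrix (Unit ⊕ (Fin d ⊕ Fin d)) (Unit ⊕ (Fin d ⊕ Fin d)) F)) ≤ W) ↔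
    TSFix (⇑(Orth.qOdd F d)) m r := by
  classical
  have h2 := Orth.two_ne_zero_of_odd hodd
  have hrP : r.Prime := Fact.out
  have hQ := Orth.qOdd_nondeg (F := F) h2 d
  have hι : Fintype.card (Unit ⊕ (Fin d ⊕ Fin d)) = 2 * d + 1 := by simp; omega
  have hone : ∀ {x : GL (Unit ⊕ (Fin d ⊕ Fin d)) F}, x ∈ Cfsg.Geo.omegaGL (⇑(Orth.qOdd F d)) → ∀ z : F,
      (x : Matrix (Unit ⊕ (Fin d ⊕ Fin d)) (Unit ⊕ (Fin d ⊕ Fin d)) F) = z • (1 : Matrix (Unit ⊕ (Fin d ⊕ Fin d)) (Unit ⊕ (Fin d ⊕ Fin d)) F) → z = 1 := fun {x} hx z hz => by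
    obtain ⟨v, hv⟩ : ∃ v, Orth.qOdd F d v ≠ 0 := ⟨Pi.single (.inl ()) 1, by simp [Orth.coe_qOdd, Cfsg.quadFormOdd]⟩
    have h1 := mem_omega_preserves hx v
    rw [hz, map_smul, Matrix.toLin'_one, LinearMap.smul_apply, LinearMap.id_apply, QuadraticMap.map_smul, smul_eq_mul] at h1
    have hzz : z * z = 1 := mul_right_cancel₀ hv (by rw [h1, one_mul])
    have hd' := det_omega hx
    rw [hz, Matrix.det_smul, Matrix.det_one, mul_one, hι, pow_succ, pow_mul, pow_two, hzz, one_pow, one_mul] at hd'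
    exact hd'
  constructor
  · intro hall x hx ⟨z, hz⟩ hns
    refine hall x hx (orderOf_eq_prime ?_ fun h => hns 1 (by rw [h, Units.val_one, one_smul]))
    have := hone (Subgroup.pow_mem _ hx r) z hz
    rw [this, one_smul] at hz
    exact Units.ext hz
  · intro hall x hx hord
    refine hall x hx ⟨1, by rw [← hord, pow_orderOf_eq_one, one_smul]; rfl⟩ fun z hz => ?_
    have := hone hx z hz
    rw [this, one_smul] at hz
    rw [show x = 1 from Units.ext hz, orderOf_one] at hord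
    exact hrP.ne_one hord.symm

end Cfsg.Agent.Elusive
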