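import Cfsg.Agent.Lib.Elusive.NdMain
import Cfsg.Agent.Lib.Elusive.OrthMain

/-!
Elements with the smallest possible fixed space, and the criteria for the three families.
-/

set_option autoImplicit false
set_option linter.all false
set_option maxHeartbeats 1600000

namespace Cfsg.Agent.Elusive

open Module Polynomial QuadraticMap LBRootPoly LBRootTwist

section witness
variable {F : Type*} [Field F] [Fintype F] [DecidableEq F] {r : ℕ} [Fact r.Prime] {i c n : ℕ}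

/-- The characteristic polynomial. -/
lemma exists_min_fixed_poly (p : ℕ) [Fact p.Prime] [CharP F p] (hrp : r ≠ p) (hr2 : r ≠ 2)
    (hi : i = orderOf (Fintype.card F : ZMod r)) (hc : c = blockDim i) :
    ∃ P : F[X], P.natDegree = n ∧ Good r P ∧ rc (RingHom.id F) P = P ∧ (0 < n % c → X - C 1 ∣ P) ∧
      ∀ {V : Type*} [AddCommGroup V] [Module F V] [FiniteDimensional F V] (T : Module.End F V),
        T ^ r = 1 → T.charpoly = P → finrank F (fixedSpace T) = n % c := by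
  classical
  have hrP : r.Prime := Fact.out
  have hr : (r : F) ≠ 0 := fun h => hrp (by
    rw [CharP.cast_eq_zero_iff F p] at h
    exact ((Nat.prime_dvd_prime_iff_eq Fact.out hrP).1 h).symm)
  have htc : (factors F r).card * i = r - 1 := hi ▸ card_factors p hrP hrp
  obtain ⟨g, hg⟩ : (factors F r).Nonempty := Finset.card_pos.1 (Nat.pos_of_ne_zero fun e => by
    rw [e, zero_mul] at htc; have := hrP.two_le; omega)
  obtain ⟨hg1, hgm, hgi, hgd⟩ := (mem_factors hrP.ne_zero).1 hg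
  have hid : ∀ x : F, RingHom.id F (RingHom.id F x) = x := fun _ => rfl
  have hX : Prime (X - C 1 : F[X]) := prime_X_sub_C 1
  have hne : ∀ {h : F[X]}, h.Monic → Irreducible h → h ≠ X - C 1 → ¬ (X - C 1 : F[X]) ∣ h := fun hm hirr h1 hd =>
    h1 (eq_of_monic_of_associated (monic_X_sub_C 1) hm ((irreducible_X_sub_C 1).associated_of_dvd hirr hd)).symm
  obtain ⟨u, hum, hud, huG, hur, hu1⟩ : ∃ u : F[X], u.Monic ∧ u.natDegree = c ∧ Good r u ∧ rc (RingHom.id F) u = u ∧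
      ¬ (X - C 1 : F[X]) ∣ u := by
    rcases Nat.even_or_odd i with h | h
    · exact ⟨g, hgm, by rw [natDegree_factor hrP hgm hgi hgd hg1, ← hi, hc, blockDim, if_pos h],
        good_irred hgm hgi hgd, (LBEvenRoot.rc_self_iff' p hrP hr2 hrp hg).2 (hi ▸ h), hne hgm hgi hg1⟩
    · obtain ⟨hg1', hgm', hgi', hgd'⟩ := (mem_factors hrP.ne_zero).1 (rc_mem_factors _ hid hrP hg)
      refine ⟨g * rc (RingHom.id F) g, hgm.mul hgm', ?_, good_mul (good_irred hgm hgi hgd) (good_irred hgm' hgi' hgd'), ?_,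
        fun hd => (hX.dvd_or_dvd hd).elim (hne hgm hgi hg1) (hne hgm' hgi' hg1')⟩
      · rw [hgm.natDegree_mul hgm', natDegree_factor hrP hgm hgi hgd hg1, natDegree_factor hrP hgm' hgi' hgd' hg1', ← hi,
          hc, blockDim, if_neg (Nat.not_even_iff_odd.2 h), two_mul]
      · rw [rc_mul, rc_rc _ hid hgm (factor_coeff_zero hrP.ne_zero hgd), mul_comm]
  have hGX : Good r (X - C 1 : F[X]) :=
    good_irred (monic_X_sub_C 1) (irreducible_X_sub_C 1) (dvd_iff_isRoot.2 (by simp [IsRoot]))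
  refine ⟨(X - C 1) ^ (n % c) * u ^ (n / c), ?_, good_mul (good_pow hGX _) (good_pow huG _), ?_, ?_, ?_⟩
  · rw [((monic_X_sub_C (1 : F)).pow _).natDegree_mul (hum.pow _), natDegree_pow, natDegree_pow, natDegree_X_sub_C,
      hud, mul_one, mul_comm (n / c)]
    exact Nat.mod_add_div n c
  · rw [rc_mul, rc_pow, rc_pow, rc_X_sub_one, hur]
  · exact fun h => (dvd_pow_self _ h.ne').trans (dvd_mul_right _ _)
  · intro V _ _ _ T hT hP
    exact finrank_fixed_charpoly hT hr hP fun hd => hu1 (hX.dvd_of_dvd_pow hd)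

end witness

section families
variable {F : Type*} [Field F] [Fintype F] {ι : Type} [Fintype ι] [DecidableEq ι] {Q : QuadraticForm F (ι → F)}
  {r : ℕ} [Fact r.Prime] {d m i c : ℕ} {pl : Prop} {ε : ZMod r}

/-- The whole space. -/
lemma plus_top_iff (D : EvenData Q r d pl ε) : PlusOn Q ⊤ ↔ pl := by
  have h := plusOn_iff (Q := Q) (LinearMap.id : (ι → F) →ₗ[F] (ι → F)) Function.injective_id
    (by rw [LinearMap.range_id]; intro u _ hz; exact D.nondeg.1 u fun v => hz v trivial) D.finrank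
  rw [LinearMap.range_id, show Q.comp LinearMap.id = Q from QuadraticMap.ext fun v => rfl] at h
  exact h.trans D.isPlus

/-- Even dimension. -/
theorem ndFix_even (D : EvenData Q r d pl ε) (p : ℕ) [Fact p.Prime] [CharP F p] (hrp : r ≠ p) (hr2 : r ≠ 2)
    (hi : i = orderOf (Fintype.card F : ZMod r)) (hc : c = blockDim i) {W₀ : Submodule F (ι → F)} (hW₀ : NDQ Q W₀)
    (hm : finrank F W₀ = m) (hm1 : 1 ≤ m) (hmn : m < 2 * d)
    (hdvd : r ∣ Nat.card {W : Submodule F (ι → F) // IsoQ Q W W₀}) :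
    NdFix Q W₀ r ↔
      (2 * d % c = 0 ∧ ¬ (Tau i (2 * d / c) ↔ pl)) ∨
      (c ≤ m ∧ ((0 < m % c ∧ m % c < 2 * d % c) ∨ (m % c = 0 ∧ (Tau i (m / c) ↔ PlusOn Q W₀)) ∨
        (m % c = 2 * d % c ∧ 0 < 2 * d % c ∧ (Tau i (2 * d / c - m / c) ↔ (PlusOn Q W₀ ↔ pl))))) := by
  classical
  refine ndFix_iff p D.nondeg hrp hr2 hi hc D.card hW₀ hm hm1 hmn (Or.inr (even_two_mul d))
    (fun _ => plus_top_iff D) ?_ hdvd
  intro hcn h
  obtain ⟨P, hdeg, hG, hrc, hX, hfix⟩ := exists_min_fixed_poly (F := F) (n := 2 * d) p hrp hr2 hi hc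
  obtain ⟨A, hA⟩ := LBEvenRoot.exists_model p (Fact.out : r.Prime) hr2 hrp hi D.pos D.card D.nondeg ⟨⟨hdeg, hG⟩, hrc⟩ (by
    rcases Nat.eq_zero_or_pos (2 * d % c) with h0 | h0
    · refine Or.inr ?_
      have h1 := h.resolve_left (by omega)
      rw [D.isPlus, ← h1, LBEvenRoot.Typ, Tau, hc, blockDim]
      by_cases he : Even i
      · simp [he, Nat.not_odd_iff_even.2 he]
      · simp [he, Nat.not_even_iff_odd.1 he]
    · exact Or.inl (hX h0))
  obtain ⟨x, hx, hxr, -, hT, hch⟩ := exists_omega_charpoly p D.nondeg hr2 hrp hG A hA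
  exact ⟨x, hx, hxr, hT, hfix _ hT hch⟩

/-- Odd dimension, even-dimensional subspaces. -/
theorem ndFix_odd (p : ℕ) [Fact p.Prime] [CharP F p] (h2 : (2 : F) ≠ 0) (hrp : r ≠ p) (hr2 : r ≠ 2)
    (hi : i = orderOf (Fintype.card F : ZMod r)) (hc : c = blockDim i) {W₀ : Submodule F (Unit ⊕ (Fin d ⊕ Fin d) → F)}
    (hW₀ : NDQ (Orth.qOdd F d) W₀) (hm : finrank F W₀ = m) (hm1 : 1 ≤ m) (hmn : m < 2 * d + 1) (hme : Even m)
    (hdvd : r ∣ Nat.card {W : Submodule F (Unit ⊕ (Fin d ⊕ Fin d) → F) // IsoQ (Orth.qOdd F d) W W₀}) :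
    NdFix (Orth.qOdd F d) W₀ r ↔
      c ≤ m ∧ ((0 < m % c ∧ m % c < (2 * d + 1) % c) ∨ (m % c = 0 ∧ (Tau i (m / c) ↔ PlusOn (Orth.qOdd F d) W₀))) := by
  classical
  have hce : c % 2 = 0 := Nat.even_iff.1 (hc ▸ blockDim_even i)
  have hk2 : (2 * d + 1) % c % 2 = 1 := by
    rw [Nat.mod_mod_of_dvd _ (Nat.dvd_of_mod_eq_zero hce)]; omega
  have hl2 : m % c % 2 = 0 := by
    rw [Nat.mod_mod_of_dvd _ (Nat.dvd_of_mod_eq_zero hce)]; exact Nat.even_iff.1 hme
  rw [ndFix_iff (pl := True) (n := 2 * d + 1) p (Orth.qOdd_nondeg h2 d) hrp hr2 hi hc (by simp; omega) hW₀ hm hm1 hmn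
    (Or.inl hme) (fun h => absurd h (by simp [Nat.even_add_one])) ?_ hdvd]
  · constructor
    · rintro (⟨h, -⟩ | ⟨h1, h | h | ⟨h, -⟩⟩)
      · omega
      · exact ⟨h1, Or.inl h⟩
      · exact ⟨h1, Or.inr h⟩
      · omega
    · rintro ⟨h1, h | h⟩
      · exact Or.inr ⟨h1, Or.inl h⟩
      · exact Or.inr ⟨h1, Or.inr (Or.inl h)⟩
  intro hcn _
  obtain ⟨P, hdeg, hG, hrc, hX, hfix⟩ := exists_min_fixed_poly (F := F) (n := 2 * d + 1) p hrp hr2 hi hc
  obtain ⟨A, hA⟩ := LBRootOrth.exists_model h2 (Fact.out : r.Prime) hr2 p d hdeg hG hrc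
  obtain ⟨x, hx, hxr, -, hT, hch⟩ := exists_omega_charpoly p (Orth.qOdd_nondeg h2 d) hr2 hrp hG A hA
  exact ⟨x, hx, hxr, hT, hfix _ hT hch⟩

end families

end Cfsg.Agent.Elusive
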