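import Cfsg.Agent.Lib.Elusive.OrthExtRoot
import Cfsg.Agent.Lib.LinearBlock.OrthTypeElem

/-!
Self-adjoint square roots of a non-square are conjugate under the orthogonal group.
-/

set_option autoImplicit false
set_option linter.all false
set_option maxHeartbeats 1600000

namespace Cfsg.Agent.Elusive

open Module QuadraticMap

variable {F : Type*} [Field F] [Fintype F] {κ : Type} [Fintype κ] [DecidableEq κ] {Q : QuadraticForm F (κ → F)} {δ : F}

/-- The orthogonal frame of an adapted family. -/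
noncomputable def rootFrame (Q : QuadraticForm F (κ → F)) (J : Module.End F (κ → F)) {n : ℕ} (e : ℕ → κ → F) :
    Fin n × Fin 2 → κ → F := fun x =>
  if x.2 = 0 then e x.1 else J (e x.1) - (polar Q (e x.1) (J (e x.1)) / polar Q (e x.1) (e x.1)) • e x.1

omit [Fintype F] in
lemma rootFrame_spec (h2 : (2 : F) ≠ 0) (hδ : ¬ IsSquare δ) {J : Module.End F (κ → F)} (hJ : SARoot Q δ ⊤ J) {n : ℕ}
    {e : ℕ → κ → F} (horth : ∀ i < n, ∀ j < n, i ≠ j → polar Q (e i) (e j) = 0 ∧ polar Q (e i) (J (e j)) = 0)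
    (hne : ∀ j < n, Q (e j) ≠ 0) :
    Orth.IsFrame Q (rootFrame Q J (n := n) e) ∧ ∀ j : Fin n,
      Q (e j) * Q (rootFrame Q J (n := n) e (j, 1)) =
        (δ * polar Q (e j) (e j) ^ 2 - polar Q (e j) (J (e j)) ^ 2) / 4 := by
  have sa : ∀ u v, polar Q (J u) v = polar Q u (J v) := fun u v => hJ.sa u trivial v trivial
  have sq : ∀ u, J (J u) = δ • u := fun u => hJ.sq u trivial
  have hα : ∀ j : Fin n, polar Q (e j) (e j) ≠ 0 := fun j => by rw [polar_diag]; exact mul_ne_zero h2 (hne j j.2)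
  have hw : ∀ j : Fin n, 2 * Q (rootFrame Q J (n := n) e (j, 1)) * polar Q (e j) (e j) =
      δ * polar Q (e j) (e j) ^ 2 - polar Q (e j) (J (e j)) ^ 2 := fun j => by
    rw [← polar_diag, show rootFrame Q J (n := n) e (j, 1) =
      J (e j) - (polar Q (e j) (J (e j)) / polar Q (e j) (e j)) • e j from if_neg (by simp)]
    simp only [polar_sub_left, polar_sub_right, polar_smul_left, polar_smul_right, smul_eq_mul]
    rw [sa (e j) (J (e j)), sq, sa (e j) (e j), polar_smul_right, smul_eq_mul]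
    have hA := hα j
    generalize polar Q (e j) (e j) = A at hA ⊢
    generalize polar Q (e j) (J (e j)) = B
    field_simp
    ring
  refine ⟨⟨fun x y hxy => ?_, fun x => ?_⟩, fun j => ?_⟩
  · obtain ⟨i, a⟩ := x
    obtain ⟨j, b⟩ := y
    rcases eq_or_ne i j with rfl | hij
    · fin_cases a <;> fin_cases b <;> simp at hxy
      · simp only [rootFrame, Fin.zero_eta, Fin.mk_one, if_true, show (1 : Fin 2) ≠ 0 by decide, if_false, polar_sub_right,
          polar_smul_right, smul_eq_mul]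
        rw [div_mul_cancel₀ _ (hα i), sub_self]
      · simp only [rootFrame, Fin.zero_eta, Fin.mk_one, if_true, show (1 : Fin 2) ≠ 0 by decide, if_false, polar_sub_left,
          polar_smul_left, smul_eq_mul]
        rw [sa, div_mul_cancel₀ _ (hα i), sub_self]
    · obtain ⟨h1, h3⟩ := horth i i.2 j j.2 fun h => hij (Fin.ext h)
      have h4 : polar Q (J (e i)) (J (e j)) = 0 := by rw [sa, sq, polar_smul_right, h1, smul_zero]
      have h5 : polar Q (J (e i)) (e j) = 0 := by rw [sa, h3]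
      fin_cases a <;> fin_cases b <;>
        simp only [rootFrame, Fin.zero_eta, Fin.mk_one, if_true, show (1 : Fin 2) ≠ 0 by decide, if_false, polar_sub_left,
          polar_sub_right, polar_smul_left, polar_smul_right, smul_eq_mul, h1, h3, h4, h5, mul_zero, sub_zero]
  · obtain ⟨i, a⟩ := x
    fin_cases a
    · exact hne i i.2
    · intro h0
      refine root_norm_ne hδ (Or.inl (hα i)) (a := polar Q (e i) (e i)) (b := polar Q (e i) (J (e i))) ?_
      rw [← hw i, show Q (rootFrame Q J (n := n) e (i, 1)) = 0 from h0, mul_zero, zero_mul]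
  · rw [← hw j, polar_diag, show (4 : F) = 2 * 2 by norm_num]
    field_simp

/-- Two roots are conjugate. -/
theorem exists_conj_root (hQ : (polarBilin Q).Nondegenerate) (h2 : (2 : F) ≠ 0) (hδ : ¬ IsSquare δ) {k : ℕ}
    (hκ : Fintype.card κ = 2 * (k + 1)) {J₁ J₂ : Module.End F (κ → F)} (h₁ : SARoot Q δ ⊤ J₁) (h₂ : SARoot Q δ ⊤ J₂) :
    ∃ g : (κ → F) ≃ₗ[F] (κ → F), (∀ v, Q (g v) = Q v) ∧ ∀ v, g (J₁ v) = J₂ (g v) := by
  classical
  have htop : NDQ Q (⊤ : Submodule F (κ → F)) := fun u _ hz => hQ.1 u fun v => hz v trivial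
  have hd : finrank F (⊤ : Submodule F (κ → F)) = 2 * (k + 1) := by
    rw [finrank_top, Module.finrank_fintype_fun_eq_card, hκ]
  obtain ⟨e, -, ho, hn, h0⟩ := h₁.exists_frame hQ h2 hδ k ⊤ htop hd
  obtain ⟨f, -, ho', hn', h0'⟩ := h₂.exists_frame hQ h2 hδ k ⊤ htop hd
  have hall : ∀ {J : Module.End F (κ → F)} {e : ℕ → κ → F},
      (∀ j ≤ k, 0 < j → polar Q (e j) (e j) = 1 ∧ polar Q (e j) (J (e j)) = 0) → Q (e 0) ≠ 0 → ∀ j < k + 1, Q (e j) ≠ 0 :=
    fun {J e} hn h0 j hj hz => by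
      rcases Nat.eq_zero_or_pos j with rfl | hpos
      · exact h0 hz
      · have := (hn j (by omega) hpos).1
        rw [polar_diag, hz, mul_zero] at this
        exact zero_ne_one this
  obtain ⟨hF, hFv⟩ := rootFrame_spec h2 hδ h₁ (n := k + 1) (fun i hi j hj => ho i (by omega) j (by omega)) (hall hn h0)
  obtain ⟨hF', hFv'⟩ := rootFrame_spec h2 hδ h₂ (n := k + 1) (fun i hi j hj => ho' i (by omega) j (by omega)) (hall hn' h0')
  obtain ⟨E0, hE0⟩ : ∃ x : Fin (k + 1) × Fin 2 ≃ κ, x = Fintype.equivOfCardEq (by simp [hκ, mul_comm]) := ⟨_, rfl⟩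
  obtain ⟨α, β, hαβ⟩ : ∃ α β, α = polar Q (e 0) (e 0) ∧ β = polar Q (e 0) (J₁ (e 0)) := ⟨_, _, rfl, rfl⟩
  obtain ⟨α', β', hαβ'⟩ : ∃ α β, α = polar Q (f 0) (f 0) ∧ β = polar Q (f 0) (J₂ (f 0)) := ⟨_, _, rfl, rfl⟩
  have hsq : IsSquare ((δ * α ^ 2 - β ^ 2) * (δ * α' ^ 2 - β' ^ 2)) := by
    have hprod : ∀ {J : Module.End F (κ → F)} {e : ℕ → κ → F},
        (∀ j ≤ k, 0 < j → polar Q (e j) (e j) = 1 ∧ polar Q (e j) (J (e j)) = 0) →
        (∀ j : Fin (k + 1), Q (e j) * Q (rootFrame Q J (n := k + 1) e (j, 1)) =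
          (δ * polar Q (e j) (e j) ^ 2 - polar Q (e j) (J (e j)) ^ 2) / 4) →
        ∏ i, Q ((rootFrame Q J (n := k + 1) e ∘ E0.symm) i) =
          (δ * polar Q (e 0) (e 0) ^ 2 - polar Q (e 0) (J (e 0)) ^ 2) / 4 * (δ / 4) ^ k := by
      intro J e hn hv
      rw [← Equiv.prod_comp E0 (fun i => Q ((rootFrame Q J (n := k + 1) e ∘ E0.symm) i))]
      simp only [Function.comp, Equiv.symm_apply_apply]
      rw [Fintype.prod_prod_type, Finset.prod_congr rfl fun j _ => Fin.prod_univ_two _]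
      have hj : ∀ j : Fin (k + 1), Q (rootFrame Q J (n := k + 1) e (j, 0)) * Q (rootFrame Q J (n := k + 1) e (j, 1)) =
          (δ * polar Q (e j) (e j) ^ 2 - polar Q (e j) (J (e j)) ^ 2) / 4 := hv
      rw [Finset.prod_congr rfl fun j _ => hj j, Fin.prod_univ_succ]
      congr 1
      rw [Finset.prod_congr rfl (g := fun _ : Fin k => δ / 4), Finset.prod_const, Finset.card_univ, Fintype.card_fin]
      intro j _
      obtain ⟨a, b⟩ := hn (j.succ : ℕ) (by have := j.2; simp) (by simp)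
      rw [a, b]; ring
    obtain ⟨w, -, hw⟩ := LBType.frame_gram h2 (e := rootFrame Q J₁ (n := k + 1) e ∘ E0.symm)
      ⟨fun i j hij => hF.1 _ _ fun h => hij (E0.symm.injective h), fun i => hF.2 _⟩
    obtain ⟨w', -, hw'⟩ := LBType.frame_gram h2 (e := rootFrame Q J₂ (n := k + 1) f ∘ E0.symm)
      ⟨fun i j hij => hF'.1 _ _ fun h => hij (E0.symm.injective h), fun i => hF'.2 _⟩
    rw [hprod hn hFv, ← hαβ.1, ← hαβ.2] at hw
    rw [hprod hn' hFv', ← hαβ'.1, ← hαβ'.2] at hw'
    have h4 : (4 : F) ≠ 0 := by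
      rw [show (4 : F) = 2 * 2 by norm_num]; exact mul_ne_zero h2 h2
    obtain ⟨c, hc, hc0⟩ : ∃ c : F, c = 2 ^ Fintype.card κ * (δ / 4) ^ k / 4 ∧ c ≠ 0 :=
      ⟨_, rfl, div_ne_zero (mul_ne_zero (pow_ne_zero _ h2) (pow_ne_zero _ (div_ne_zero (fun h => hδ (h ▸ IsSquare.zero)) h4))) h4⟩
    refine ⟨w * w' * (LinearMap.toMatrix₂' F (polarBilin Q)).det / c, ?_⟩
    have e1 : c * (δ * α ^ 2 - β ^ 2) = w * w * (LinearMap.toMatrix₂' F (polarBilin Q)).det := by
      rw [← hw, hc]; ring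
    have e2 : c * (δ * α' ^ 2 - β' ^ 2) = w' * w' * (LinearMap.toMatrix₂' F (polarBilin Q)).det := by
      rw [← hw', hc]; ring
    field_simp
    linear_combination c * (δ * α' ^ 2 - β' ^ 2) * e1 + w * w * (LinearMap.toMatrix₂' F (polarBilin Q)).det * e2
  have hα0 : α ≠ 0 := by rw [hαβ.1, polar_diag]; exact mul_ne_zero h2 h0
  have hα0' : α' ≠ 0 := by rw [hαβ'.1, polar_diag]; exact mul_ne_zero h2 h0'
  have hN' := root_norm_ne hδ (a := α') (b := β') (Or.inl hα0')
  obtain ⟨W, hW⟩ := hsq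
  obtain ⟨x, y, hxy, hxy2⟩ := exists_sq_root h2 hδ (s := (δ * α * α' - β * β') / (δ * α' ^ 2 - β' ^ 2))
    (t := (β * α' - α * β') / (δ * α' ^ 2 - β' ^ 2)) (w := W / (δ * α' ^ 2 - β' ^ 2)) (by
      rw [div_pow, div_pow, div_pow, ← mul_div_assoc, ← sub_div]
      congr 1
      linear_combination hW)
  obtain ⟨f', hf'⟩ : ∃ f' : ℕ → κ → F, f' = fun j => if j = 0 then x • f 0 + y • J₂ (f 0) else f j := ⟨_, rfl⟩
  obtain ⟨c1, c2, c3⟩ := h₂.comb (e := f 0) trivial x y
  rw [← hαβ'.1, ← hαβ'.2, hxy, hxy2] at c1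
  rw [← hαβ'.1, ← hαβ'.2, hxy, hxy2] at c2
  have hval : ∀ j < k + 1, polar Q (f' j) (f' j) = polar Q (e j) (e j) ∧
      polar Q (f' j) (J₂ (f' j)) = polar Q (e j) (J₁ (e j)) := fun j hj => by
    rcases Nat.eq_zero_or_pos j with rfl | hpos
    · rw [hf']; dsimp only
      rw [if_pos rfl, ← hαβ.1, ← hαβ.2, c1, c2]
      constructor
      · field_simp; ring
      · field_simp; ring
    · rw [hf']; dsimp only
      rw [if_neg (by omega)]
      obtain ⟨a, b⟩ := hn j (by omega) hpos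
      obtain ⟨a', b'⟩ := hn' j (by omega) hpos
      exact ⟨a'.trans a.symm, b'.trans b.symm⟩
  have hzero : ∀ j ≤ k, 0 < j → polar Q (x • f 0 + y • J₂ (f 0)) (f j) = 0 ∧
      polar Q (x • f 0 + y • J₂ (f 0)) (J₂ (f j)) = 0 := fun j hj hpos => by
    obtain ⟨a, b⟩ := ho' 0 (Nat.zero_le k) j hj (by omega)
    have b' : polar Q (J₂ (f 0)) (f j) = 0 := by rw [h₂.sa _ trivial _ trivial, b]
    have a' : polar Q (J₂ (f 0)) (J₂ (f j)) = 0 := by
      rw [h₂.sa _ trivial _ trivial, h₂.sq _ trivial, polar_smul_right, a, smul_zero]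
    constructor <;> simp only [polar_add_left, polar_smul_left, a, b, a', b', smul_zero, add_zero]
  obtain ⟨hG, -⟩ := rootFrame_spec h2 hδ h₂ (n := k + 1) (e := f') (fun i hi j hj hij => by
      rw [hf']; dsimp only
      split_ifs with h1 h3 h3
      · omega
      · exact hzero j (by omega) (by omega)
      · obtain ⟨a, b⟩ := hzero i (by omega) (by omega)
        refine ⟨by rw [polar_comm]; exact a, ?_⟩
        rw [← h₂.sa _ trivial _ trivial, polar_comm]; exact b
      · exact ho' i (by omega) j (by omega) hij)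
    (fun j hj hz => by
      have h := (hval j hj).1
      rw [polar_diag, hz, mul_zero, polar_diag] at h
      exact mul_ne_zero h2 (hall hn h0 j hj) h.symm)
  have hcard : Fintype.card (Fin (k + 1) × Fin 2) = finrank F (κ → F) := by
    rw [Module.finrank_fintype_fun_eq_card, hκ]; simp [mul_comm]
  let b₁ := basisOfLinearIndependentOfCardEqFinrank (hF.indep h2) hcard
  let b₂ := basisOfLinearIndependentOfCardEqFinrank (hG.indep h2) hcard
  have hb₁ : ∀ i, b₁ i = rootFrame Q J₁ (n := k + 1) e i := fun i => by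
    simp [b₁, coe_basisOfLinearIndependentOfCardEqFinrank]
  have hb₂ : ∀ i, b₂ i = rootFrame Q J₂ (n := k + 1) f' i := fun i => by
    simp [b₂, coe_basisOfLinearIndependentOfCardEqFinrank]
  obtain ⟨g, hg⟩ : ∃ g, g = b₁.equiv b₂ (Equiv.refl _) := ⟨_, rfl⟩
  have hgi : ∀ i, g (rootFrame Q J₁ (n := k + 1) e i) = rootFrame Q J₂ (n := k + 1) f' i := fun i => by
    rw [← hb₁, hg, Basis.equiv_apply, Equiv.refl_apply, hb₂]
  refine ⟨g, ?_, ?_⟩
  · have hB : (polarBilin Q).compl₁₂ g.toLinearMap g.toLinearMap = polarBilin Q := LinearMap.ext_basis b₁ b₁ fun i j => by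
      rw [LinearMap.compl₁₂_apply, LinearEquiv.coe_coe, hb₁, hb₁, hgi, hgi, polarBilin_apply_apply, polarBilin_apply_apply]
      rcases eq_or_ne i j with rfl | hij
      · obtain ⟨m, a⟩ := i
        obtain ⟨v1, v2⟩ := hval m m.2
        fin_cases a
        · exact v1
        · simp only [rootFrame, Fin.mk_one, show (1 : Fin 2) ≠ 0 by decide, if_false]
          simp only [polar_sub_left, polar_sub_right, polar_smul_left, polar_smul_right, smul_eq_mul]
          rw [h₁.sa _ trivial _ trivial, h₁.sq _ trivial, h₁.sa _ trivial _ trivial, h₂.sa _ trivial _ trivial,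
            h₂.sq _ trivial, h₂.sa _ trivial _ trivial, polar_smul_right, polar_smul_right, v1, v2]
      · rw [hG.1 i j hij, hF.1 i j hij]
    intro v
    have := LinearMap.congr_fun (LinearMap.congr_fun hB v) v
    rw [LinearMap.compl₁₂_apply, LinearEquiv.coe_coe, polarBilin_apply_apply, polarBilin_apply_apply, polar_diag, polar_diag] at this
    exact mul_left_cancel₀ h2 this
  · have he : ∀ j : Fin (k + 1), g (e j) = f' j := fun j => by
      have := hgi (j, 0); simpa [rootFrame] using this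
    have hJe : ∀ j : Fin (k + 1), g (J₁ (e j)) = J₂ (f' j) := fun j => by
      have := hgi (j, 1)
      simp only [rootFrame, show (1 : Fin 2) ≠ 0 by decide, if_false, map_sub, map_smul, he, (hval j j.2).1, (hval j j.2).2] at this
      exact sub_left_inj.1 this
    have : g.toLinearMap ∘ₗ J₁ = J₂ ∘ₗ g.toLinearMap := b₁.ext fun i => by
      obtain ⟨m, a⟩ := i
      rw [hb₁]
      simp only [LinearMap.comp_apply, LinearEquiv.coe_coe]
      rw [hgi]
      fin_cases a
      · simp only [rootFrame, Fin.zero_eta, if_true]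
        exact hJe m
      · simp only [rootFrame, Fin.mk_one, show (1 : Fin 2) ≠ 0 by decide, if_false, map_sub, map_smul]
        rw [hJe, (hval m m.2).1, (hval m m.2).2, h₁.sq _ trivial, h₂.sq _ trivial, map_smul, he]
    exact fun v => LinearMap.congr_fun this v

end Cfsg.Agent.Elusive
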