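import Cfsg.Agent.Lib.Elusive.OrthExtConj

/-!
Involutions normalise quadratic field subgroups of orthogonal groups.
-/

set_option autoImplicit false
set_option linter.all false
set_option maxHeartbeats 1600000

namespace Cfsg.Agent.Elusive

open Module QuadraticMap Matrix

variable {F : Type*} [Field F] [Fintype F] {κ : Type} [Fintype κ] [DecidableEq κ] {Q : QuadraticForm F (κ → F)} {δ : F}
  {K : Subalgebra F (Matrix κ κ F)}

/-- A self-adjoint quadratic field is generated by a root of a non-square. -/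
lemma exists_field_root (h2 : (2 : F) ≠ 0) (hK : Cfsg.Geo.IsFieldSubalgebra 2 K)
    (hKf : Cfsg.Geo.IsSelfAdjointFor (QuadraticMap.polar Q) K) :
    ∃ (J₀ : Matrix κ κ F) (δ : F), J₀ ∈ K ∧ ¬ IsSquare δ ∧ J₀ * J₀ = δ • 1 ∧
      SARoot Q δ ⊤ (Matrix.toLin' J₀) ∧ ∀ k ∈ K, ∃ a b : F, k = a • 1 + b • J₀ := by
  classical
  obtain ⟨k, hk, hns⟩ : ∃ k ∈ K, ∀ z : F, k ≠ z • 1 := by
    by_contra hc
    push Not at hc
    have hle : Subalgebra.toSubmodule K ≤ Submodule.span F {(1 : Matrix κ κ F)} := fun k hk => by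
      obtain ⟨z, rfl⟩ := hc k hk
      exact Submodule.smul_mem _ _ (Submodule.mem_span_singleton_self _)
    have h1 := Submodule.finrank_mono hle
    rw [Subalgebra.finrank_toSubmodule, hK.finrank_eq] at h1
    have h3 := finrank_span_le_card (R := F) ({1} : Set (Matrix κ κ F))
    simp at h3
    omega
  have hone : (1 : Matrix κ κ F) ≠ 0 := fun h => hns 0 (by rw [zero_smul, ← mul_one k, h, mul_zero])
  let v : Fin 2 → ↥(Subalgebra.toSubmodule K) := ![⟨1, K.one_mem⟩, ⟨k, hk⟩]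
  have hli : LinearIndependent F v := by
    rw [LinearIndependent.pair_iff]
    intro a b hab
    have h' : a • (1 : Matrix κ κ F) + b • k = 0 := congrArg Subtype.val hab
    by_cases hb : b = 0
    · rw [hb, zero_smul, add_zero, smul_eq_zero] at h'
      exact ⟨h'.resolve_right hone, hb⟩
    · refine absurd ?_ (hns (-(b⁻¹ * a)))
      have := congrArg (fun M => b⁻¹ • M) h'
      simp only [smul_add, smul_smul, inv_mul_cancel₀ hb, one_smul, smul_zero] at this
      rw [neg_smul, eq_neg_iff_add_eq_zero, add_comm]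
      exact this
  have hgen : ∀ x ∈ K, ∃ a b : F, x = a • 1 + b • k := by
    intro x hx
    have hsp := hli.span_eq_top_of_card_eq_finrank (by
      rw [Fintype.card_fin, Subalgebra.finrank_toSubmodule, hK.finrank_eq])
    obtain ⟨c, hc⟩ := (Submodule.mem_span_range_iff_exists_fun F).1
      (hsp ▸ Submodule.mem_top : (⟨x, hx⟩ : ↥(Subalgebra.toSubmodule K)) ∈ Submodule.span F (Set.range v))
    rw [Fin.sum_univ_two] at hc
    exact ⟨c 0, c 1, (congrArg Subtype.val hc).symm⟩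
  obtain ⟨a, b, hab⟩ := hgen _ (mul_mem hk hk)
  obtain ⟨J₀, hJd⟩ : ∃ J₀, J₀ = k - (b / 2) • 1 := ⟨_, rfl⟩
  have hJ : J₀ ∈ K := hJd ▸ sub_mem hk (K.smul_mem K.one_mem _)
  have hJJ : J₀ * J₀ = (a + b * b / 4) • 1 := by
    rw [hJd]
    simp only [sub_mul, mul_sub, mul_smul_comm, smul_mul_assoc, one_mul, mul_one, hab, smul_sub, smul_smul]
    rw [show (4 : F) = 2 * 2 by norm_num]
    match_scalars <;> field_simp <;> ring
  have hJns : ∀ z : F, J₀ ≠ z • 1 := fun z hz => hns (z + b / 2) (by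
    rw [add_smul, ← hz, hJd, sub_add_cancel])
  refine ⟨J₀, _, hJ, fun hsq => ?_, hJJ, ⟨fun _ _ => trivial, fun u _ => ?_, fun u _ v _ => ?_⟩, fun x hx => ?_⟩
  · obtain ⟨c, hc⟩ := hsq
    have h1 : (J₀ - c • 1) * (J₀ + c • 1) = 0 := by
      simp only [sub_mul, mul_add, mul_smul_comm, smul_mul_assoc, hJJ, hc, mul_one, one_mul, smul_smul, smul_add, smul_sub]
      abel
    obtain ⟨y, -, hy⟩ := hK.inv _ (sub_mem hJ (K.smul_mem K.one_mem c)) (sub_ne_zero.2 (hJns c))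
    refine hJns (-c) ?_
    rw [neg_smul, eq_neg_iff_add_eq_zero]
    calc J₀ + c • 1 = (y * (J₀ - c • 1)) * (J₀ + c • 1) := by rw [mul_eq_one_comm.1 hy, one_mul]
      _ = 0 := by rw [mul_assoc, h1, mul_zero]
  · rw [Matrix.toLin'_apply, Matrix.toLin'_apply, Matrix.mulVec_mulVec, hJJ, Matrix.smul_mulVec, Matrix.one_mulVec]
  · rw [Matrix.toLin'_apply, Matrix.toLin'_apply]
    exact hKf J₀ hJ u v
  · obtain ⟨s, t, rfl⟩ := hgen x hx
    exact ⟨s + t * (b / 2), t, by rw [hJd]; module⟩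

/-- Elements commuting or anticommuting with the root normalise the field. -/
lemma mem_normalizer_of_twist {J₀ : Matrix κ κ F} (hJ : J₀ ∈ K) (hgen : ∀ k ∈ K, ∃ a b : F, k = a • 1 + b • J₀) {ε : F}
    (hε : ε * ε = 1) {y : GL κ F} (h : y.1 * J₀ = ε • (J₀ * y.1)) : y ∈ Cfsg.Geo.subalgebraNormalizer K := by
  have hinv : y.1 * (y⁻¹ : GL κ F).1 = 1 := by rw [← Units.val_mul, mul_inv_cancel]; rfl
  have hinv' : (y⁻¹ : GL κ F).1 * y.1 = 1 := by rw [← Units.val_mul, inv_mul_cancel]; rfl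
  have key : ∀ a b : F, y.1 * (a • 1 + b • J₀) * (y⁻¹ : GL κ F).1 = a • 1 + (b * ε) • J₀ := fun a b => by
    simp only [mul_add, add_mul, mul_smul_comm, smul_mul_assoc, mul_one, hinv, h, mul_assoc, smul_smul]
  intro k
  constructor
  · intro hk
    obtain ⟨a, b, rfl⟩ := hgen k hk
    rw [key]
    exact add_mem (K.smul_mem K.one_mem _) (K.smul_mem hJ _)
  · intro hk
    obtain ⟨a, b, hab⟩ := hgen _ hk
    have h1 : k = (y⁻¹ : GL κ F).1 * (a • 1 + b • J₀) * y.1 := by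
      rw [← hab]
      simp only [← mul_assoc, hinv', one_mul]
      rw [mul_assoc, hinv', mul_one]
    have h3 : k = a • 1 + (b * ε) • J₀ := by
      rw [h1, show a • (1 : Matrix κ κ F) + b • J₀ = y.1 * (a • 1 + (b * ε) • J₀) * (y⁻¹ : GL κ F).1 by
        rw [key, mul_assoc b, hε, mul_one]]
      simp only [← mul_assoc, hinv', one_mul]
      rw [mul_assoc, hinv', mul_one]
    rw [h3]
    exact add_mem (K.smul_mem K.one_mem _) (K.smul_mem hJ _)

/-- Elements of the normaliser. -/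
lemma twist_of_mem {J₀ : Matrix κ κ F} (hJ : J₀ ∈ K) (hδ : ¬ IsSquare δ) (hJJ : J₀ * J₀ = δ • 1)
    (hgen : ∀ k ∈ K, ∃ a b : F, k = a • 1 + b • J₀) {y : GL κ F} (hy : y ∈ Cfsg.Geo.subalgebraNormalizer K)
    [Nonempty κ] : ∃ ε : F, ε * ε = 1 ∧ y.1 * J₀ = ε • (J₀ * y.1) := by
  have hinv' : (y⁻¹ : GL κ F).1 * y.1 = 1 := by rw [← Units.val_mul, inv_mul_cancel]; rfl
  obtain ⟨a, b, hab⟩ := hgen _ ((hy J₀).1 hJ)
  have h1 : y.1 * J₀ = (a • 1 + b • J₀) * y.1 := by rw [← hab, mul_assoc, hinv', mul_one]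
  have hsq : (a • (1 : Matrix κ κ F) + b • J₀) * (a • 1 + b • J₀) = δ • 1 := by
    rw [← hab, show y.1 * J₀ * (y⁻¹ : GL κ F).1 * (y.1 * J₀ * (y⁻¹ : GL κ F).1) =
      y.1 * J₀ * ((y⁻¹ : GL κ F).1 * y.1) * J₀ * (y⁻¹ : GL κ F).1 by simp only [mul_assoc], hinv', mul_one,
      mul_assoc y.1, hJJ, mul_smul_comm, mul_one, smul_mul_assoc, ← Units.val_mul, mul_inv_cancel, Units.val_one]
  have h3 : (a * a + b * b * δ - δ) • (1 : Matrix κ κ F) + (2 * a * b) • J₀ = 0 := by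
    rw [← sub_eq_zero.2 hsq]
    simp only [mul_add, add_mul, mul_smul_comm, smul_mul_assoc, mul_one, one_mul, hJJ, smul_smul, smul_add]
    module
  have hne : ∀ z : F, J₀ ≠ z • 1 := fun z hz => hδ ⟨z, by
    have e := hJJ
    rw [hz, smul_mul_assoc, one_mul, smul_smul] at e
    obtain ⟨i⟩ := ‹Nonempty κ›
    simpa using (congrFun (congrFun e i) i).symm⟩
  have hab0 : 2 * a * b = 0 := by
    by_contra h0
    refine hne (-((2 * a * b)⁻¹ * (a * a + b * b * δ - δ))) ?_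
    rw [neg_smul, eq_neg_iff_add_eq_zero, ← smul_right_inj h0, smul_zero, smul_add, smul_smul, ← mul_assoc,
      mul_inv_cancel₀ h0, one_mul, add_comm]
    exact h3
  rw [hab0, zero_smul, add_zero] at h3
  have h4 : a * a + b * b * δ - δ = 0 := (smul_eq_zero.1 h3).resolve_right one_ne_zero
  rcases mul_eq_zero.1 hab0 with h | hb
  · rcases mul_eq_zero.1 h with h2 | ha
    · exact absurd ((FiniteField.isSquare_of_char_two
        (ringChar.eq_iff.2 (CharTwo.of_one_ne_zero_of_two_eq_zero one_ne_zero h2)) δ)) hδ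
    · have hδ0 : δ ≠ 0 := fun h => hδ (h ▸ IsSquare.zero)
      refine ⟨b, mul_right_cancel₀ hδ0 (by rw [ha] at h4; linear_combination h4), ?_⟩
      rw [h1, ha, zero_smul, zero_add, smul_mul_assoc]
  · exact absurd ⟨a, by rw [hb] at h4; linear_combination -h4⟩ hδ

variable {χ : ↥(Cfsg.isometryGroup F (⇑Q)) →* Orth.SpinVal F}

local notation "act" g => Matrix.toLin' ((g : GL κ F) : Matrix κ κ F)

lemma act_inv (g : ↥(Cfsg.isometryGroup F (⇑Q))) (v : κ → F) :
    (act (g⁻¹ : ↥(Cfsg.isometryGroup F (⇑Q)))) ((act g) v) = v := by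
  rw [← act_mul, inv_mul_cancel]; simp

lemma act_inv' (g : ↥(Cfsg.isometryGroup F (⇑Q))) (v : κ → F) :
    (act g) ((act (g⁻¹ : ↥(Cfsg.isometryGroup F (⇑Q)))) v) = v := by
  rw [← act_mul, mul_inv_cancel]; simp

lemma act_q (g : ↥(Cfsg.isometryGroup F (⇑Q))) (v : κ → F) : Q ((act g) v) = Q v := by
  rw [Matrix.toLin'_apply]; exact Orth.mem_isometryGroup.1 g.2 v

lemma act_polar (g : ↥(Cfsg.isometryGroup F (⇑Q))) (u v : κ → F) : polar Q ((act g) u) ((act g) v) = polar Q u v := by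
  simp only [polar, ← map_add, act_q]

/-- Isometries from linear equivalences. -/
lemma exists_act (g : (κ → F) ≃ₗ[F] (κ → F)) (hg : ∀ v, Q (g v) = Q v) :
    ∃ c : ↥(Cfsg.isometryGroup F (⇑Q)), ∀ v, (act c) v = g v := by
  refine ⟨(Orth.isoEquiv Q).symm ⟨g, hg⟩, fun v => ?_⟩
  rw [Matrix.toLin'_apply, ← Orth.isoEquiv_apply, MulEquiv.apply_symm_apply]

/-- The root transported by an isometry. -/
lemma SARoot.transport (c : ↥(Cfsg.isometryGroup F (⇑Q))) {J : Module.End F (κ → F)} (hJ : SARoot Q δ ⊤ J) :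
    SARoot Q δ ⊤ ((act c) ∘ₗ J ∘ₗ (act (c⁻¹ : ↥(Cfsg.isometryGroup F (⇑Q))))) :=
  ⟨fun _ _ => trivial, fun u _ => by
    simp only [LinearMap.comp_apply, act_inv, hJ.sq _ trivial, map_smul, act_inv'],
   fun u _ v _ => by
    simp only [LinearMap.comp_apply]
    rw [← act_inv' c v, act_polar, hJ.sa _ trivial _ trivial]
    simp only [act_inv]
    rw [← act_inv' c u, act_polar]
    simp only [act_inv]⟩

/-- Adjusting a conjugating element into the derived group by means of a piece. -/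
lemma ext_fix_of_parts (hQ : (polarBilin Q).Nondegenerate) (h2 : (2 : F) ≠ 0) (hker : χ.ker = Cfsg.Omega F (⇑Q))
    (hχ : ∀ (g : ↥(Cfsg.isometryGroup F (⇑Q))) (v : κ → F), Q v ≠ 0 →
      ((g : GL κ F) : Matrix κ κ F) = Cfsg.reflectionMatrix (⇑Q) v → χ g = Orth.reflVal Q v)
    {J₀ : Matrix κ κ F} (hJ₀ : J₀ ∈ K) (hδ : ¬ IsSquare δ) (hroot : SARoot Q δ ⊤ (Matrix.toLin' J₀))
    (hgen : ∀ k ∈ K, ∃ a b : F, k = a • 1 + b • J₀) {k : ℕ} (hκ : Fintype.card κ = 2 * (k + 1))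
    (x : ↥(Cfsg.isometryGroup F (⇑Q))) {ε : F} (hε : ε * ε = 1) {P : Submodule F (κ → F)} (hP : NDQ Q P)
    (hPd : 2 ≤ finrank F P) (hxP : Inv (act x) P) {J : Module.End F (κ → F)} (hJ : SARoot Q δ ⊤ J) (hJP : Inv J P)
    (hrest : ∀ v, (∀ u ∈ P, polar Q u v = 0) → J ((act x) v) = ε • (act x) (J v))
    (hany : ∀ J' : Module.End F (κ → F), SARoot Q δ P J' → ∀ u ∈ P, J' ((act x) u) = ε • (act x) (J' u)) :
    ∃ g ∈ Cfsg.Geo.omegaGL (⇑Q), g⁻¹ * (x : GL κ F) * g ∈ Cfsg.Geo.subalgebraNormalizer K := by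
  obtain ⟨g₁, hg₁, hg₁J⟩ := exists_conj_root hQ h2 hδ hκ hroot hJ
  obtain ⟨g₀, hg₀⟩ := exists_act g₁ hg₁
  -- an element of the piece with a given value
  have hval : ∀ t : F, ∃ u ∈ P, Q u = t := fun t => by
    obtain ⟨u, hu⟩ := Orth.exists_value (restrict_nondeg hP) hPd t
    exact ⟨u.1, u.2, hu⟩
  have hgood : ∀ u ∈ P, Q u ≠ 0 → ∃ R : ↥(Cfsg.isometryGroup F (⇑Q)), χ R = Orth.reflVal Q u ∧
      (∀ v ∈ P, (act R) v ∈ P) ∧ ∀ v, (∀ w ∈ P, polar Q w v = 0) → (act R) v = v := fun u hu hu0 => by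
    obtain ⟨R, hR, hR1, hR2⟩ := exists_refl_elt hχ hu0
    exact ⟨R, hR, fun v hv => by rw [hR2]; exact P.sub_mem hv (P.smul_mem _ hu),
      fun v hv => hR1 v (by rw [polar_comm]; exact hv u hu)⟩
  obtain ⟨c, hc, hcP, hcfix⟩ : ∃ c : ↥(Cfsg.isometryGroup F (⇑Q)), χ c = (χ g₀)⁻¹ ∧ (∀ v ∈ P, (act c) v ∈ P) ∧
      ∀ v, (∀ w ∈ P, polar Q w v = 0) → (act c) v = v := by
    obtain ⟨t, ht⟩ := QuotientGroup.mk_surjective ((χ g₀)⁻¹).2
    obtain ⟨u, hu, hut⟩ := hval (t : F)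
    obtain ⟨R, hR, hRP, hRf⟩ := hgood u hu (by rw [hut]; exact t.ne_zero)
    have ht' : Orth.sqc F (t : F) = ((χ g₀)⁻¹).2 := by rw [← ht, Orth.sqc_unit]
    rcases (show ∀ a : Multiplicative (ZMod 2), a = 1 ∨ a = Multiplicative.ofAdd 1 by decide) ((χ g₀)⁻¹).1 with h | h
    · obtain ⟨w, hw, hw1⟩ := hval 1
      obtain ⟨R', hR', hR'P, hR'f⟩ := hgood w hw (by rw [hw1]; exact one_ne_zero)
      refine ⟨R * R', ?_, fun v hv => by rw [act_mul]; exact hRP _ (hR'P v hv),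
        fun v hv => by rw [act_mul, hR'f v hv, hRf v hv]⟩
      rw [map_mul, hR, hR', Orth.reflVal, Orth.reflVal, hut, hw1, Orth.sqc_one, Prod.mk_mul_mk, mul_one, ht']
      exact Prod.ext (((show Multiplicative.ofAdd (1 : ZMod 2) * Multiplicative.ofAdd 1 = 1 by decide)).trans h.symm) rfl
    · exact ⟨R, by rw [hR, Orth.reflVal, hut, ht']; exact Prod.ext h.symm rfl, hRP, hRf⟩
  have hgΩ : c * g₀ ∈ Cfsg.Omega F (⇑Q) := by
    rw [← hker, MonoidHom.mem_ker, map_mul, hc, inv_mul_cancel]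
  refine ⟨_, ⟨c * g₀, hgΩ, rfl⟩, mem_normalizer_of_twist hJ₀ hgen hε (ε := ε) ?_⟩
  -- the transported root
  obtain ⟨J', hJ'⟩ : ∃ J', J' = (act c) ∘ₗ J ∘ₗ (act (c⁻¹ : ↥(Cfsg.isometryGroup F (⇑Q)))) := ⟨_, rfl⟩
  have hJ'r := hJ' ▸ hJ.transport c
  have hcfix' : ∀ v, (∀ w ∈ P, polar Q w v = 0) → (act (c⁻¹ : ↥(Cfsg.isometryGroup F (⇑Q)))) v = v := fun v hv => by
    conv_lhs => rw [← hcfix v hv]
    rw [act_inv]
  have hcP' : ∀ v ∈ P, (act (c⁻¹ : ↥(Cfsg.isometryGroup F (⇑Q)))) v ∈ P := fun v hv => by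
    obtain ⟨a, ha, b, hb, hab⟩ := Submodule.mem_sup.1
      (((quadSF hQ).isCompl_perp hP).sup_eq_top ▸ Submodule.mem_top (x := (act (c⁻¹ : ↥(Cfsg.isometryGroup F (⇑Q)))) v))
    have h1 := congrArg (act c) hab
    rw [map_add, act_inv', hcfix b hb] at h1
    have hb0 : b = 0 := Submodule.disjoint_def.1 ((quadSF hQ).isCompl_perp hP).disjoint b
      (by rw [eq_sub_of_add_eq' h1]; exact P.sub_mem hv (hcP a ha)) hb
    rwa [← hab, hb0, add_zero]
  have hJ'P : Inv J' P := fun v hv => by rw [hJ']; exact hcP _ (hJP _ (hcP' v hv))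
  have hxp : ∀ v, (∀ w ∈ P, polar Q w v = 0) → ∀ w ∈ P, polar Q w ((act x) v) = 0 := fun v hv =>
    (quad_isom (hQ := hQ) (act_q x)).inv_perp hxP v hv
  have hJp : ∀ v, (∀ w ∈ P, polar Q w v = 0) → ∀ w ∈ P, polar Q w (J v) = 0 := fun v hv w hw => by
    rw [← hJ.sa w trivial v trivial]; exact hv _ (hJP w hw)
  have hcomm : ∀ v, J' ((act x) v) = ε • (act x) (J' v) := fun v => by
    obtain ⟨a, ha, b, hb, rfl⟩ := Submodule.mem_sup.1
      (((quadSF hQ).isCompl_perp hP).sup_eq_top ▸ Submodule.mem_top (x := v))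
    simp only [map_add, smul_add]
    rw [hany J' ⟨hJ'P, fun u _ => hJ'r.sq u trivial, fun u _ w _ => hJ'r.sa u trivial w trivial⟩ a ha]
    congr 1
    have e1 : ∀ w, (∀ u ∈ P, polar Q u w = 0) → J' w = J w := fun w hw => by
      rw [hJ']; simp only [LinearMap.comp_apply]
      rw [hcfix' w hw, hcfix _ (hJp w hw)]
    rw [e1 b hb, e1 _ (hxp b hb), hrest b hb]
  have hg : ∀ v, (act ((c * g₀ : ↥(Cfsg.isometryGroup F (⇑Q))))) (Matrix.toLin' J₀ v) =
      J' ((act ((c * g₀ : ↥(Cfsg.isometryGroup F (⇑Q))))) v) := fun v => by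
    rw [act_mul, act_mul, hJ']
    simp only [LinearMap.comp_apply, act_inv]
    rw [hg₀, hg₀, hg₁J]
  refine Matrix.toLin'.injective (LinearMap.ext fun v => ?_)
  simp only [Subgroup.coe_subtype, ← Subgroup.coe_inv, ← Subgroup.coe_mul, map_smul, Matrix.toLin'_mul,
    LinearMap.comp_apply, LinearMap.smul_apply]
  generalize (c * g₀ : ↥(Cfsg.isometryGroup F (⇑Q))) = g at hg ⊢
  rw [act_mul, act_mul, hg, act_mul, act_mul]
  have e2 : ∀ w, Matrix.toLin' J₀ ((act (g⁻¹ : ↥(Cfsg.isometryGroup F (⇑Q)))) w) =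
      (act (g⁻¹ : ↥(Cfsg.isometryGroup F (⇑Q)))) (J' w) := fun w => by
    conv_rhs => rw [← act_inv' g w, ← hg, act_inv]
  rw [e2, hcomm, map_smul, smul_smul, hε, one_smul]

/-- Roots on turn planes anticommute with the turn. -/
lemma anti_on_plane (h2 : (2 : F) ≠ 0) (hδ : ¬ IsSquare δ) {X : Module.End F (κ → F)} (hX : ∀ v, Q (X v) = Q v)
    (hXX : ∀ v, X (X v) = -v) {u : κ → F} (hu : Q u ≠ 0) {J : Module.End F (κ → F)}
    (hJ : SARoot Q δ (Submodule.span F {u, X u}) J) :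
    ∀ v ∈ Submodule.span F {u, X u}, J (X v) = (-1 : F) • X (J v) := by
  have hux : polar Q u (X u) = 0 := by
    have h : polar Q (X u) (X (X u)) = polar Q u (X u) := by simp only [polar, ← map_add, hX]
    rw [hXX, polar_neg_right, polar_comm Q (X u) u] at h
    exact (mul_eq_zero.1 (show (2 : F) * polar Q u (X u) = 0 by linear_combination -h)).resolve_left h2
  have hα : polar Q u u ≠ 0 := by rw [polar_diag]; exact mul_ne_zero h2 hu
  have hα' : polar Q (X u) (X u) = polar Q u u := by rw [polar_diag, polar_diag, hX]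
  have hmu : u ∈ Submodule.span F {u, X u} := Submodule.subset_span (Or.inl rfl)
  have hmx : X u ∈ Submodule.span F {u, X u} := Submodule.subset_span (Or.inr rfl)
  obtain ⟨s, t, hst⟩ := Submodule.mem_span_pair.1 (hJ.inv u hmu)
  obtain ⟨t', s', hst'⟩ := Submodule.mem_span_pair.1 (hJ.inv _ hmx)
  have htt : t' = t := by
    have := hJ.sa u hmu _ hmx
    rw [← hst, ← hst'] at this
    simp only [polar_add_left, polar_add_right, polar_smul_left, polar_smul_right, hux, hα', smul_eq_mul] at this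
    exact mul_right_cancel₀ hα (by linear_combination -this)
  subst htt
  have hsq := hJ.sq u hmu
  rw [← hst, map_add, map_smul, map_smul, ← hst, ← hst'] at hsq
  have hk1 := congrArg (fun w => polar Q w (X u)) hsq
  have hk2 := congrArg (fun w => polar Q w u) hsq
  simp only [polar_add_left, polar_smul_left, polar_comm Q (X u) u, hux, hα', smul_eq_mul] at hk1 hk2
  have hss : s' = -s := by
    by_contra hne
    have h1 : t' * (s + s') = 0 := mul_right_cancel₀ hα (by linear_combination hk1)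
    have ht0 : t' = 0 := (mul_eq_zero.1 h1).resolve_right fun h => hne (by linear_combination h)
    refine hδ ⟨s, mul_right_cancel₀ hα ?_⟩
    rw [ht0] at hk2
    linear_combination -hk2
  intro v hv
  obtain ⟨a, b, rfl⟩ := Submodule.mem_span_pair.1 hv
  simp only [map_add, map_smul, hXX, map_neg, ← hst, ← hst']
  rw [hss]
  module

/-- A root anticommuting with a turn. -/
lemma exists_anti_root (hQ : (polarBilin Q).Nondegenerate) (h2 : (2 : F) ≠ 0) (hδ : ¬ IsSquare δ)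
    {X : Module.End F (κ → F)} (hX : ∀ v, Q (X v) = Q v) (hXX : ∀ v, X (X v) = -v) :
    ∀ (n : ℕ) (U : Submodule F (κ → F)), finrank F U = n → NDQ Q U → Inv X U →
      ∃ J, SARoot Q δ U J ∧ ∀ v ∈ U, J (X v) = (-1 : F) • X (J v) := by
  intro n
  induction n using Nat.strong_induction_on with
  | _ n ih =>
  intro U hUd hU hUi
  by_cases hb : U = ⊥
  · subst hb
    exact ⟨0, ⟨fun u hu => by simp_all, fun u hu => by simp_all, fun u hu v _ => by simp_all⟩, fun v hv => by simp_all⟩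
  obtain ⟨u, hu, hu0⟩ := exists_ne_zero_in hU (Submodule.one_le_finrank_iff.2 hb)
  have hux : polar Q u (X u) = 0 := by
    have h : polar Q (X u) (X (X u)) = polar Q u (X u) := by simp only [polar, ← map_add, hX]
    rw [hXX, polar_neg_right, polar_comm Q (X u) u] at h
    exact (mul_eq_zero.1 (show (2 : F) * polar Q u (X u) = 0 by linear_combination -h)).resolve_left h2
  obtain ⟨hP, hPd⟩ := pair_nd h2 hux hu0 (by rw [hX]; exact hu0)
  have hPU : Submodule.span F {u, X u} ≤ U :=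
    Submodule.span_le.2 (Set.insert_subset hu (Set.singleton_subset_iff.2 (hUi u hu)))
  have hPi : Inv X (Submodule.span F {u, X u}) := fun v hv => by
    obtain ⟨a, b, rfl⟩ := Submodule.mem_span_pair.1 hv
    rw [map_add, map_smul, map_smul, hXX]
    exact Submodule.mem_span_pair.2 ⟨-b, a, by module⟩
  obtain ⟨J₁, hJ₁⟩ := exists_saroot hQ h2 (δ := δ) (fun h => hδ (h ▸ IsSquare.zero)) 1 _ hP (by rw [hPd])
  obtain ⟨Y, hYU, hY, hperp, hsum, hYd, rfl⟩ := ndq_compl hQ hU hP hPU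
  have hYi : Inv X ((quadSF hQ).perp (Submodule.span F {u, X u}) ⊓ U) :=
    fun v hv => ⟨(quad_isom (hQ := hQ) hX).inv_perp hPi v hv.1, hUi v hv.2⟩
  obtain ⟨J₂, hJ₂, hJ₂a⟩ := ih _ (by omega) _ rfl hY hYi
  obtain ⟨J, hJ, hJA, hJB⟩ := root_join hQ hP hperp hsum hJ₁ hJ₂
  refine ⟨J, hJ, fun v hv => ?_⟩
  rw [← hsum] at hv
  obtain ⟨a, ha, b, hb', rfl⟩ := Submodule.mem_sup.1 hv
  simp only [map_add]
  rw [hJA _ (hPi a ha), hJB _ (hYi b hb'), hJA a ha, hJB b hb', anti_on_plane h2 hδ hX hXX hu0 hJ₁ a ha, hJ₂a b hb', smul_add]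

/-- Every element squaring to a scalar normalises a conjugate of the field. -/
theorem ext_fix_two (hQ : (polarBilin Q).Nondegenerate) (h2 : (2 : F) ≠ 0) {k : ℕ} (hκ : Fintype.card κ = 2 * (k + 1))
    (hk : 1 ≤ k) (hK : Cfsg.Geo.IsFieldSubalgebra 2 K) (hKf : Cfsg.Geo.IsSelfAdjointFor (QuadraticMap.polar Q) K)
    (x : GL κ F) (hx : x ∈ Cfsg.Geo.omegaGL (⇑Q)) (hz : ∃ z : F, ((x ^ 2 : GL κ F) : Matrix κ κ F) = z • 1)
    (hns : ∀ z : F, (x : Matrix κ κ F) ≠ z • 1) :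
    ∃ g ∈ Cfsg.Geo.omegaGL (⇑Q), g⁻¹ * x * g ∈ Cfsg.Geo.subalgebraNormalizer K := by
  classical
  obtain ⟨X, hXΩ, rfl⟩ := hx
  obtain ⟨z, hz⟩ := hz
  haveI : Nonempty κ := Fintype.card_pos_iff.1 (by omega)
  obtain ⟨J₀, δ, hJ₀, hδ, hJJ, hroot, hgen⟩ := exists_field_root h2 hK hKf
  have hq : Fintype.card F ≠ 2 ∨ Fintype.card κ ≠ 4 := Or.inl fun hc => h2 (by
    have h := Nat.cast_card_eq_zero F; rw [hc] at h; exact_mod_cast h)
  obtain ⟨χ, hker, -, hχ⟩ := Orth.exists_matrix_spinor Q hQ (by omega) hq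
  have hXq := act_q (Q := Q) X
  have hxx : ∀ v, (act X) ((act X) v) = z • v := fun v => by
    rw [Matrix.toLin'_apply, Matrix.toLin'_apply, Matrix.mulVec_mulVec]
    simp only [Subgroup.coe_subtype, pow_two, Units.val_mul] at hz
    rw [hz, Matrix.smul_mulVec, Matrix.one_mulVec]
  have htop : NDQ Q (⊤ : Submodule F (κ → F)) := fun u _ h => hQ.1 u fun v => h v trivial
  have htd : finrank F (⊤ : Submodule F (κ → F)) = 2 * (k + 1) := by
    rw [finrank_top, Module.finrank_fintype_fun_eq_card, hκ]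
  have hzz : z * z = 1 := by
    obtain ⟨v, -, hv⟩ := exists_ne_zero_in htop (by omega)
    have h := hXq ((act X) v)
    rw [hxx, QuadraticMap.map_smul, hXq, smul_eq_mul] at h
    exact mul_right_cancel₀ hv (by rw [h, one_mul])
  rcases mul_self_eq_one_iff.1 hzz with rfl | rfl
  · simp only [one_smul] at hxx
    obtain ⟨T, hT⟩ : ∃ T, T = (act X) := ⟨_, rfl⟩
    rw [← hT] at hXq hxx
    have hr : ((2 : ℕ) : F) ≠ 0 := by exact_mod_cast h2
    haveI : Fact (Nat.Prime 2) := ⟨Nat.prime_two⟩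
    have hTT : T ^ 2 = 1 := LinearMap.ext fun v => by rw [pow_two, Module.End.mul_apply]; exact hxx v
    have hI := quad_isom (hQ := hQ) hXq
    have hA : NDQ Q (fixedSpace T) := SForm.nd_fixed (Φ := quadSF hQ) hTT hr hI
    have hB : NDQ Q (movedSpace T 2) := SForm.nd_moved (Φ := quadSF hQ) hTT hr hI
    have hperp : ∀ a ∈ fixedSpace T, ∀ b ∈ movedSpace T 2, polar Q a b = 0 := fun a ha b hb =>
      SForm.fixed_perp_moved (Φ := quadSF hQ) hr hI ha hb
    have hsum := SForm.finrank_fixed_add hTT hr (V := κ → F)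
    rw [Module.finrank_fintype_fun_eq_card, hκ] at hsum
    have hsup : fixedSpace T ⊔ movedSpace T 2 = ⊤ := by
      refine eq_top_iff.2 ?_
      have := (split_inv hTT hr (W := (⊤ : Submodule F (κ → F))) fun _ _ => trivial).ge
      rwa [top_inf_eq, top_inf_eq] at this
    obtain ⟨e, he, hm⟩ := exists_ofam (hQ := hQ) h2 (S := movedSpace T 2) hB _ le_rfl
    obtain ⟨g, hg1, hg2, hg3⟩ := exists_sign hχ _ e he
    have hXg : X = g := by
      refine Subtype.ext (Units.ext (Matrix.toLin'.injective (LinearMap.ext fun v => ?_)))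
      obtain ⟨a, ha, b, hb, rfl⟩ := Submodule.mem_sup.1 (hsup ▸ Submodule.mem_top (x := v))
      rw [← hT, map_add, map_add, mem_fixedSpace.1 ha, mem_moved_two.1 hb,
        hg2 a fun i hi => by rw [polar_comm]; exact hperp a ha _ (hm i hi)]
      congr 1
      have hle : movedSpace T 2 ≤ LinearMap.ker ((act g) + (1 : Module.End F (κ → F))) := by
        rw [← OFam.span_eq h2 he hm rfl, Submodule.span_le]
        rintro _ ⟨i, rfl⟩
        simp [hg1 i i.2]
      exact (eq_neg_of_add_eq_zero_left (by simpa using hle hb)).symm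
    have hbe : Even (finrank F (movedSpace T 2)) := by
      have h := hg3
      rw [← hXg, MonoidHom.mem_ker.1 (hker ▸ hXΩ)] at h
      have h' := congrArg (fun p : Orth.SpinVal F => Multiplicative.toAdd p.1) h
      simp at h'
      exact (ZMod.natCast_eq_zero_iff_even).1 h'.symm
    obtain ⟨b', hb'⟩ := hbe
    have hAd : 2 ≤ finrank F (fixedSpace T) := by
      by_contra hlt
      refine hns (-1) (Matrix.toLin'.injective (LinearMap.ext fun v => ?_))
      have hbot : fixedSpace T = ⊥ := Submodule.finrank_eq_zero.1 (by omega)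
      rw [hbot, bot_sup_eq] at hsup
      simp only [Subgroup.coe_subtype]
      rw [← hT, mem_moved_two.1 (hsup ▸ Submodule.mem_top : v ∈ movedSpace T 2)]
      simp
    obtain ⟨JA, hJA⟩ := exists_saroot hQ h2 (δ := δ) (fun h => hδ (h ▸ IsSquare.zero)) (k + 1 - b') _ hA (by omega)
    obtain ⟨JB, hJB⟩ := exists_saroot hQ h2 (δ := δ) (fun h => hδ (h ▸ IsSquare.zero)) b' _ hB (by omega)
    obtain ⟨J, hJ, hJa, hJb⟩ := root_join hQ hA hperp hsup hJA hJB
    refine ext_fix_of_parts hQ h2 hker hχ hJ₀ hδ hroot hgen hκ X (one_mul 1) hA hAd ?_ hJ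
      (fun a ha => by rw [hJa a ha]; exact hJA.inv a ha) (fun v hv => ?_) fun J' hJ' u hu => ?_
    · rw [← hT]; exact fun v hv => by rwa [mem_fixedSpace.1 hv]
    · have hvB : v ∈ movedSpace T 2 := by
        obtain ⟨a, ha, b, hb, rfl⟩ := Submodule.mem_sup.1 (hsup ▸ Submodule.mem_top (x := v))
        have : a = 0 := hA a ha fun w hw => by
          have h := hv w hw
          rw [polar_add_right, hperp w hw b hb, add_zero, polar_comm] at h
          exact h
        rwa [this, zero_add]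
      rw [← hT, mem_moved_two.1 hvB, map_neg, hJb v hvB, mem_moved_two.1 (hJB.inv v hvB), one_smul]
    · rw [← hT, mem_fixedSpace.1 hu, mem_fixedSpace.1 (hJ'.inv u hu), one_smul]
  · simp only [neg_one_smul] at hxx
    obtain ⟨u, -, hu0⟩ := exists_ne_zero_in htop (by omega)
    have hux : polar Q u ((act X) u) = 0 := by
      have h : polar Q ((act X) u) ((act X) ((act X) u)) = polar Q u ((act X) u) := act_polar X _ _
      rw [hxx, polar_neg_right, polar_comm Q ((act X) u) u] at h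
      exact (mul_eq_zero.1 (show (2 : F) * polar Q u ((act X) u) = 0 by linear_combination -h)).resolve_left h2
    obtain ⟨hP, hPd⟩ := pair_nd h2 hux hu0 (by rw [hXq]; exact hu0)
    have hPi : Inv (act X) (Submodule.span F {u, (act X) u}) := fun v hv => by
      obtain ⟨a, b, rfl⟩ := Submodule.mem_span_pair.1 hv
      rw [map_add, map_smul, map_smul, hxx]
      exact Submodule.mem_span_pair.2 ⟨-b, a, by module⟩
    obtain ⟨Y, -, hY, hperp, hsum, -, rfl⟩ := ndq_compl hQ htop hP le_top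
    have hYi : Inv (act X) ((quadSF hQ).perp (Submodule.span F {u, (act X) u}) ⊓ ⊤) :=
      fun v hv => ⟨(quad_isom (hQ := hQ) hXq).inv_perp hPi v hv.1, trivial⟩
    obtain ⟨J₁, hJ₁⟩ := exists_saroot hQ h2 (δ := δ) (fun h => hδ (h ▸ IsSquare.zero)) 1 _ hP (by rw [hPd])
    obtain ⟨J₂, hJ₂, hJ₂a⟩ := exists_anti_root hQ h2 hδ hXq hxx _ _ rfl hY hYi
    obtain ⟨J, hJ, hJA, hJB⟩ := root_join hQ hP hperp hsum hJ₁ hJ₂
    refine ext_fix_of_parts hQ h2 hker hχ hJ₀ hδ hroot hgen hκ X (ε := -1) (by ring) hP (by omega) hPi hJ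
      (fun a ha => by rw [hJA a ha]; exact hJ₁.inv a ha) (fun v hv => ?_) fun J' hJ' w hw => anti_on_plane h2 hδ hXq hxx hu0 hJ' w hw
    rw [hJB _ (hYi v ⟨hv, trivial⟩), hJB v ⟨hv, trivial⟩, hJ₂a v ⟨hv, trivial⟩]

end Cfsg.Agent.Elusive
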