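import Cfsg.Agent.Lib.Elusive.OrthExtSylow

/-!
Quadratic field extension subgroups of orthogonal groups and elements of prime order.
-/

set_option autoImplicit false
set_option linter.all false
set_option maxHeartbeats 1600000

namespace Cfsg.Agent.Elusive

open Module QuadraticMap

variable {F : Type*} [Field F] [Fintype F] {κ : Type} [Fintype κ] [DecidableEq κ] {Q : QuadraticForm F (κ → F)}
  {K : Subalgebra F (Matrix κ κ F)}

local notation "act" g => Matrix.toLin' ((g : GL κ F) : Matrix κ κ F)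

/-- The criterion. -/
theorem orth_ext_main (p : ℕ) [Fact p.Prime] [CharP F p] (hodd : Odd (Fintype.card F)) (hQ : (polarBilin Q).Nondegenerate)
    {k : ℕ} (hκ : Fintype.card κ = 2 * (k + 1)) (hk : 1 ≤ k)
    (hK : Cfsg.Geo.IsFieldSubalgebra 2 K) (hKf : Cfsg.Geo.IsSelfAdjointFor (QuadraticMap.polar Q) K)
    (r : ℕ) [Fact r.Prime] (hΩ : r ∣ (Cfsg.Geo.subalgebraNormalizer K).relIndex (Cfsg.Geo.omegaGL (⇑Q))) :
    (∀ x ∈ Cfsg.Geo.omegaGL (⇑Q), (∃ z : F, ((x ^ r : GL κ F) : Matrix κ κ F) = z • (1 : Matrix κ κ F)) →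
      (∀ z : F, (x : Matrix κ κ F) ≠ z • (1 : Matrix κ κ F)) →
      ∃ g ∈ Cfsg.Geo.omegaGL (⇑Q), g⁻¹ * x * g ∈ Cfsg.Geo.subalgebraNormalizer K) ↔ r = 2 := by
  classical
  have h2 : (2 : F) ≠ 0 := Orth.two_ne_zero_of_odd hodd
  constructor
  swap
  · rintro rfl x hx hz hns
    exact ext_fix_two hQ h2 hκ hk hK hKf x hx hz hns
  intro hall
  by_contra hr2
  have hrP : r.Prime := Fact.out
  haveI : Nonempty κ := Fintype.card_pos_iff.1 (by omega)
  haveI : Finite ↥(Cfsg.isometryGroup F (⇑Q)) := inferInstance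
  obtain ⟨J₀, δ, hJ₀, hδ, hJJ, hroot, hgen⟩ := exists_field_root h2 hK hKf
  obtain ⟨S, hSΩ, hSr, hS1, hno⟩ : ∃ S : ↥(Cfsg.isometryGroup F (⇑Q)), (S : GL κ F) ∈ Cfsg.Geo.omegaGL (⇑Q) ∧ S ^ r = 1 ∧
      S ≠ 1 ∧ NoRoot Q (act S) := by
    by_cases hrp : r = p
    · subst hrp
      exact exists_noRoot_p r h2 hr2 hQ (by omega)
    obtain ⟨H, hH⟩ : ∃ H, H = (Cfsg.Geo.subalgebraNormalizer K).comap (Cfsg.isometryGroup F (⇑Q)).subtype := ⟨_, rfl⟩
    have hrel : r ∣ H.relIndex (Cfsg.Omega F (⇑Q)) := by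
      rw [hH, Subgroup.relIndex_comap]; exact hΩ
    by_cases h4 : 4 ∣ orderOf (Fintype.card F : ZMod r)
    · exfalso
      have hq : Fintype.card F ≠ 2 ∨ Fintype.card κ ≠ 4 := Or.inl fun hc => h2 (by
        have h := Nat.cast_card_eq_zero F; rw [hc] at h; exact_mod_cast h)
      obtain ⟨χ, hker, hsurj, -⟩ := Orth.exists_matrix_spinor Q hQ (by omega) hq
      haveI : (Cfsg.Omega F (⇑Q)).Normal := hker ▸ χ.normal_ker
      have hOm : (Cfsg.Omega F (⇑Q)).index = 4 := by
        rw [← hker, Subgroup.index_ker, MonoidHom.range_eq_top.2 hsurj, Nat.card_congr Subgroup.topEquiv.toEquiv,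
          (Orth.card_spinVal).1 h2]
      have hHi : r ∣ H.index := by
        have e1 := Subgroup.relIndex_mul_index (H := H ⊓ Cfsg.Omega F (⇑Q)) (K := Cfsg.Omega F (⇑Q)) inf_le_right
        have e2 := Subgroup.relIndex_mul_index (H := H ⊓ Cfsg.Omega F (⇑Q)) (K := H) inf_le_left
        rw [Subgroup.inf_relIndex_right] at e1
        rw [Subgroup.inf_relIndex_left, ← e1] at e2
        have h1 : r ∣ (Cfsg.Omega F (⇑Q)).relIndex H * H.index := e2 ▸ dvd_mul_of_dvd_left hrel _
        refine (hrP.dvd_mul.1 h1).resolve_left fun hd => hr2 ?_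
        have h3 := hd.trans (Subgroup.relIndex_dvd_index_of_normal _ _)
        rw [hOm, show 4 = 2 * 2 by rfl] at h3
        exact (Nat.prime_dvd_prime_iff_eq hrP Nat.prime_two).1 ((hrP.dvd_mul.1 h3).elim id id)
      obtain ⟨P⟩ : Nonempty (Sylow r ↥(Cfsg.isometryGroup F (⇑Q))) := inferInstance
      have htop : NDQ Q (⊤ : Submodule F (κ → F)) := fun u _ h => hQ.1 u fun v => h v trivial
      obtain ⟨J, hJ, hJc⟩ := exists_root_pgroup (δ := δ) p h2 hrp hr2 hQ hδ h4 P P.isPGroup' _ ⊤ rfl htop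
        ⟨k + 1, by rw [finrank_top, Module.finrank_fintype_fun_eq_card, hκ]; omega⟩ fun _ _ _ _ => trivial
      obtain ⟨g₁, hg₁, hg₁J⟩ := exists_conj_root hQ h2 hδ hκ hroot hJ
      obtain ⟨γ, hγ⟩ := exists_act g₁ hg₁
      have hle : (P : Subgroup ↥(Cfsg.isometryGroup F (⇑Q))).map (MulAut.conj γ⁻¹).toMonoidHom ≤ H := by
        rintro _ ⟨a, ha, rfl⟩
        rw [hH, Subgroup.mem_comap]
        refine mem_normalizer_of_twist hJ₀ hgen (ε := 1) (one_mul 1) (Matrix.toLin'.injective (LinearMap.ext fun v => ?_))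
        simp only [MulEquiv.coe_toMonoidHom, MulAut.conj_apply, inv_inv, Subgroup.coe_subtype, one_smul, Matrix.toLin'_mul,
          LinearMap.comp_apply]
        rw [act_mul, act_mul, act_mul, act_mul]
        have e : ∀ w, Matrix.toLin' J₀ ((act (γ⁻¹ : ↥(Cfsg.isometryGroup F (⇑Q)))) w) =
            (act (γ⁻¹ : ↥(Cfsg.isometryGroup F (⇑Q)))) (J w) := fun w => by
          conv_rhs => rw [← act_inv' γ w, hγ, ← hg₁J, ← hγ, act_inv]
        rw [hγ, hg₁J, ← hγ, e, hJc a ha _ trivial]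
      have h5 := hHi.trans (Subgroup.index_dvd_of_le hle)
      rw [Subgroup.index_map_of_bijective (MulAut.conj γ⁻¹).bijective] at h5
      exact P.not_dvd_index h5
    · have hcard : r ∣ Nat.card ↥(Cfsg.isometryGroup F (⇑Q)) :=
        (hrel.trans (Subgroup.index_dvd_card _)).trans (Subgroup.card_subgroup_dvd_card _)
      obtain ⟨y, hy⟩ := exists_prime_orderOf_dvd_card' r hcard
      have hyr : (act y) ^ r = 1 := by
        rw [← act_pow, ← hy, pow_orderOf_eq_one]
        simp [Module.End.one_eq_id]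
      have hr : (r : F) ≠ 0 := fun h => hrp (by
        rw [CharP.cast_eq_zero_iff F p] at h
        exact ((Nat.prime_dvd_prime_iff_eq Fact.out Fact.out).1 h).symm)
      refine exists_noRoot p h2 hrp hr2 hQ hyr (act_q y) (fun hb => ?_) fun h => h4 (Nat.dvd_of_mod_eq_zero h)
      have hy1 : y = 1 := by
        refine Subtype.ext (Units.ext (Matrix.toLin'.injective (LinearMap.ext fun v => ?_)))
        have hs := split_inv hyr hr (W := (⊤ : Submodule F (κ → F))) fun _ _ => trivial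
        rw [top_inf_eq, top_inf_eq, hb, sup_bot_eq] at hs
        rw [mem_fixedSpace.1 (hs.ge (Submodule.mem_top (x := v)))]
        simp
      rw [hy1, orderOf_one] at hy
      exact hrP.one_lt.ne hy
  have hodd' : Odd r := hrP.odd_of_ne_two hr2
  have hns : ∀ z : F, ((S : GL κ F) : Matrix κ κ F) ≠ z • (1 : Matrix κ κ F) := fun z hz => hS1 (by
    have hact : ∀ v, (act S) v = z • v := fun v => by
      rw [Matrix.toLin'_apply, hz, Matrix.smul_mulVec, Matrix.one_mulVec]
    obtain ⟨v, -, hv⟩ := exists_ne_zero_in (Q := Q) (S := (⊤ : Submodule F (κ → F))) (fun u _ h => hQ.1 u fun v => h v trivial)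
      (by rw [finrank_top, Module.finrank_fintype_fun_eq_card]; omega)
    have hzz : z * z = 1 := by
      have h := act_q S v
      rw [hact, QuadraticMap.map_smul, smul_eq_mul] at h
      exact mul_right_cancel₀ hv (by rw [h, one_mul])
    have hzr : z ^ r = 1 := by
      have h : ∀ m : ℕ, ((act S) ^ m) v = z ^ m • v := fun m => by
        induction m with
        | zero => simp
        | succ m ih => rw [pow_succ', Module.End.mul_apply, ih, map_smul, hact, smul_smul, ← pow_succ]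
      have h3 := h r
      rw [← act_pow, hSr] at h3
      simp at h3
      have hv0 : v ≠ 0 := fun e => hv (by rw [e, map_zero])
      exact (smul_left_injective F hv0 (show (1 : F) • v = z ^ r • v by rw [one_smul]; exact h3)).symm
    obtain ⟨m, rfl⟩ := hodd'
    rw [pow_succ, pow_mul, pow_two, hzz, one_pow, one_mul] at hzr
    refine Subtype.ext (Units.ext ?_)
    rw [hz, hzr, one_smul]
    rfl)
  obtain ⟨g, ⟨γ, -, rfl⟩, hgN⟩ := hall S hSΩ ⟨1, by rw [← SubmonoidClass.coe_pow, hSr, one_smul]; rfl⟩ hns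
  obtain ⟨ε, hε, htw⟩ := twist_of_mem hJ₀ hδ hJJ hgen hgN
  simp only [Subgroup.coe_subtype, ← Subgroup.coe_inv, ← Subgroup.coe_mul] at htw
  obtain ⟨y, hy⟩ : ∃ y, y = (γ⁻¹ * S * γ : ↥(Cfsg.isometryGroup F (⇑Q))) := ⟨_, rfl⟩
  rw [← hy] at htw
  have hyr : y ^ r = 1 := by
    have := conj_pow (i := r) (a := γ⁻¹) (b := S)
    rw [inv_inv] at this
    rw [hy, this, hSr, mul_one, inv_mul_cancel]
  have hpow : ∀ m : ℕ, ((y ^ m : ↥(Cfsg.isometryGroup F (⇑Q))) : GL κ F).1 * J₀ =
      ε ^ m • (J₀ * ((y ^ m : ↥(Cfsg.isometryGroup F (⇑Q))) : GL κ F).1) := fun m => by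
    induction m with
    | zero => simp
    | succ m ih =>
      rw [pow_succ, pow_succ, Subgroup.coe_mul, Units.val_mul, mul_assoc, htw, mul_smul_comm, ← mul_assoc, ih,
        smul_mul_assoc, smul_smul, mul_assoc, mul_comm (ε ^ m)]
  have hε1 : ε = 1 := by
    have h := hpow r
    rw [hyr] at h
    simp only [OneMemClass.coe_one, Units.val_one, one_mul, mul_one] at h
    have hJ0 : J₀ ≠ 0 := fun e => hδ (by
      rw [e, mul_zero, eq_comm, smul_eq_zero] at hJJ
      rw [hJJ.resolve_right one_ne_zero]; exact IsSquare.zero)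
    have hεr : ε ^ r = 1 := by
      have h3 : (ε ^ r - 1) • J₀ = 0 := by rw [sub_smul, one_smul, ← h, sub_self]
      exact sub_eq_zero.1 ((smul_eq_zero.1 h3).resolve_right hJ0)
    obtain ⟨m, rfl⟩ := hodd'
    rwa [pow_succ, pow_mul, pow_two, hε, one_pow, one_mul] at hεr
  rw [hε1, one_smul] at htw
  refine hno δ _ hδ (hroot.transport γ) fun v => ?_
  simp only [LinearMap.comp_apply]
  have hcomm : ∀ w, (act y) (Matrix.toLin' J₀ w) = Matrix.toLin' J₀ ((act y) w) := fun w => by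
    rw [← LinearMap.comp_apply, ← Matrix.toLin'_mul, htw, Matrix.toLin'_mul, LinearMap.comp_apply]
  have h1 : ∀ w, (act (γ⁻¹ : ↥(Cfsg.isometryGroup F (⇑Q)))) ((act S) w) =
      (act y) ((act (γ⁻¹ : ↥(Cfsg.isometryGroup F (⇑Q)))) w) := fun w => by
    rw [hy, act_mul, act_mul, act_inv']
  have h3 : ∀ w, (act γ) ((act y) w) = (act S) ((act γ) w) := fun w => by
    rw [hy, act_mul, act_mul, act_inv']
  rw [h1, ← hcomm, h3]

end Cfsg.Agent.Elusive
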