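import Cfsg.Agent.Lib.Elusive.NdKit
import Cfsg.Agent.Lib.Elusive.NdInvol

/-!
Self-adjoint square roots of a non-square on quadratic spaces: existence and conjugacy.
-/

set_option autoImplicit false
set_option linter.all false
set_option maxHeartbeats 1600000

namespace Cfsg.Agent.Elusive

open Module QuadraticMap

variable {F : Type*} [Field F] {V : Type*} [AddCommGroup V] [Module F V] [FiniteDimensional F V]
  {Q : QuadraticForm F V} {δ : F}

/-- A self-adjoint square root of `δ` on a subspace. -/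
structure SARoot (Q : QuadraticForm F V) (δ : F) (U : Submodule F V) (J : Module.End F V) : Prop where
  inv : Inv J U
  sq : ∀ u ∈ U, J (J u) = δ • u
  sa : ∀ u ∈ U, ∀ v ∈ U, polar Q (J u) v = polar Q u (J v)

/-- The norm form of `F(√δ)` is anisotropic. -/
lemma root_norm_ne (hδ : ¬ IsSquare δ) {a b : F} (h : a ≠ 0 ∨ b ≠ 0) : δ * a ^ 2 - b ^ 2 ≠ 0 := by
  intro e
  by_cases ha : a = 0
  · subst ha
    exact h.resolve_left (not_not.2 rfl) (pow_eq_zero_iff two_ne_zero |>.1 (by linear_combination -e))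
  · exact hδ ⟨b / a, by field_simp; linear_combination e⟩

omit [FiniteDimensional F V] in
/-- The values on a scaled vector. -/
lemma SARoot.comb {U : Submodule F V} {J : Module.End F V} (hJ : SARoot Q δ U J) {e : V} (he : e ∈ U) (x y : F) :
    polar Q (x • e + y • J e) (x • e + y • J e) =
        (x ^ 2 + δ * y ^ 2) * polar Q e e + 2 * x * y * polar Q e (J e) ∧
      polar Q (x • e + y • J e) (J (x • e + y • J e)) =
        (x ^ 2 + δ * y ^ 2) * polar Q e (J e) + 2 * x * y * δ * polar Q e e ∧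
      J (x • e + y • J e) = (y * δ) • e + x • J e := by
  have h1 : J (x • e + y • J e) = (y * δ) • e + x • J e := by
    rw [map_add, map_smul, map_smul, hJ.sq e he, smul_smul, add_comm]
  have h2 : polar Q (J e) (J e) = δ * polar Q e e := by
    rw [hJ.sa e he _ (hJ.inv e he), hJ.sq e he, polar_smul_right, smul_eq_mul]
  have h3 : polar Q (J e) e = polar Q e (J e) := polar_comm _ _ _
  refine ⟨?_, ?_, h1⟩
  · simp only [polar_add_left, polar_add_right, polar_smul_left, polar_smul_right, smul_eq_mul, h2, h3]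
    ring
  · rw [h1]
    simp only [polar_add_left, polar_add_right, polar_smul_left, polar_smul_right, smul_eq_mul, h2, h3]
    ring

/-- The plane of a vector. -/
lemma SARoot.plane {U : Submodule F V} {J : Module.End F V} (hJ : SARoot Q δ U J) (hδ : ¬ IsSquare δ) {e : V} (he : e ∈ U)
    (hne : polar Q e e ≠ 0 ∨ polar Q e (J e) ≠ 0) :
    NDQ Q (Submodule.span F {e, J e}) ∧ finrank F (Submodule.span F {e, J e}) = 2 ∧ Inv J (Submodule.span F {e, J e}) := by
  have hN := root_norm_ne hδ hne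
  have h2 : polar Q (J e) (J e) = δ * polar Q e e := by
    rw [hJ.sa e he _ (hJ.inv e he), hJ.sq e he, polar_smul_right, smul_eq_mul]
  have key : ∀ a b : F, polar Q (a • e + b • J e) e = 0 → polar Q (a • e + b • J e) (J e) = 0 → a = 0 ∧ b = 0 := by
    intro a b e1 e2
    rw [polar_add_left, polar_smul_left, polar_smul_left, polar_comm Q (J e) e, smul_eq_mul, smul_eq_mul] at e1
    rw [polar_add_left, polar_smul_left, polar_smul_left, h2, smul_eq_mul, smul_eq_mul] at e2
    constructor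
    · exact (mul_eq_zero.1 (show a * (δ * polar Q e e ^ 2 - polar Q e (J e) ^ 2) = 0 by
        linear_combination δ * polar Q e e * e1 - polar Q e (J e) * e2)).resolve_right hN
    · exact (mul_eq_zero.1 (show b * (δ * polar Q e e ^ 2 - polar Q e (J e) ^ 2) = 0 by
        linear_combination polar Q e e * e2 - polar Q e (J e) * e1)).resolve_right hN
  refine ⟨fun x hx hz => ?_, ?_, fun x hx => ?_⟩
  · obtain ⟨a, b, rfl⟩ := Submodule.mem_span_pair.1 hx
    obtain ⟨rfl, rfl⟩ := key a b (hz e (Submodule.subset_span (Or.inl rfl))) (hz _ (Submodule.subset_span (Or.inr rfl)))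
    simp
  · have hli : LinearIndependent F ![e, J e] := LinearIndependent.pair_iff.2 fun a b hab =>
      key a b (by rw [hab, polar_zero_left]) (by rw [hab, polar_zero_left])
    have h6 := finrank_span_eq_card hli
    rw [Matrix.range_cons, Matrix.range_cons, Matrix.range_empty, Set.union_empty, Set.singleton_union, Fintype.card_fin] at h6
    exact h6
  · obtain ⟨a, b, rfl⟩ := Submodule.mem_span_pair.1 hx
    rw [(hJ.comb he a b).2.2]
    exact Submodule.mem_span_pair.2 ⟨_, _, rfl⟩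

/-- The complement of an invariant piece. -/
lemma SARoot.compl {hQ : (polarBilin Q).Nondegenerate} {U X : Submodule F V} {J : Module.End F V} (hJ : SARoot Q δ U J)
    (hXU : X ≤ U) (hX : Inv J X) : SARoot Q δ ((quadSF hQ).perp X ⊓ U) J :=
  ⟨fun v hv => ⟨fun x hx => by
      show polar Q x (J v) = 0
      rw [← hJ.sa x (hXU hx) v hv.2]
      exact hv.1 _ (hX x hx), hJ.inv v hv.2⟩,
    fun u hu => hJ.sq u hu.2, fun u hu v hv => hJ.sa u hu.2 v hv.2⟩

/-- Gluing roots on orthogonal pieces. -/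
lemma root_join (hQ : (polarBilin Q).Nondegenerate) {U A B : Submodule F V} (hA : NDQ Q A)
    (hperp : ∀ a ∈ A, ∀ b ∈ B, polar Q a b = 0) (hsum : A ⊔ B = U) {JA JB : Module.End F V}
    (hJA : SARoot Q δ A JA) (hJB : SARoot Q δ B JB) :
    ∃ J, SARoot Q δ U J ∧ (∀ a ∈ A, J a = JA a) ∧ ∀ b ∈ B, J b = JB b := by
  have hc : IsCompl A ((quadSF hQ).perp A) := (quadSF hQ).isCompl_perp hA
  obtain ⟨J, hJdef⟩ : ∃ J, J = LinearMap.ofIsCompl hc (JA ∘ₗ A.subtype) (JB ∘ₗ ((quadSF hQ).perp A).subtype) := ⟨_, rfl⟩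
  have hJa : ∀ a ∈ A, J a = JA a := fun a ha => by
    rw [hJdef]; exact LinearMap.ofIsCompl_left_apply hc ⟨a, ha⟩
  have hJb : ∀ b ∈ B, J b = JB b := fun b hb => by
    rw [hJdef]; exact LinearMap.ofIsCompl_right_apply hc ⟨b, fun a ha => hperp a ha b hb⟩
  refine ⟨J, ⟨?_, ?_, ?_⟩, hJa, hJb⟩
  · intro u hu
    rw [← hsum] at hu ⊢
    obtain ⟨a, ha, b, hb, rfl⟩ := Submodule.mem_sup.1 hu
    rw [map_add, hJa a ha, hJb b hb]
    exact Submodule.add_mem_sup (hJA.inv a ha) (hJB.inv b hb)
  · intro u hu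
    rw [← hsum] at hu
    obtain ⟨a, ha, b, hb, rfl⟩ := Submodule.mem_sup.1 hu
    rw [map_add, hJa a ha, hJb b hb, map_add, hJa _ (hJA.inv a ha), hJb _ (hJB.inv b hb), hJA.sq a ha, hJB.sq b hb, smul_add]
  · intro u hu v hv
    rw [← hsum] at hu hv
    obtain ⟨a, ha, b, hb, rfl⟩ := Submodule.mem_sup.1 hu
    obtain ⟨a', ha', b', hb', rfl⟩ := Submodule.mem_sup.1 hv
    rw [map_add, map_add, hJa a ha, hJb b hb, hJa a' ha', hJb b' hb']
    simp only [polar_add_left, polar_add_right]
    rw [hJA.sa a ha a' ha', hJB.sa b hb b' hb', hperp _ (hJA.inv a ha) b' hb', hperp a ha _ (hJB.inv b' hb'),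
      polar_comm Q (JB b) a', hperp a' ha' _ (hJB.inv b hb), polar_comm Q b (JA a'), hperp _ (hJA.inv a' ha') b hb]

variable [Fintype F]

/-- A root on a plane with an orthogonal basis. -/
lemma exists_root_pair (h2 : (2 : F) ≠ 0) (hδ : δ ≠ 0) {u w : V} (huw : polar Q u w = 0) (hu : Q u ≠ 0) (hw : Q w ≠ 0) :
    ∃ (J : Module.End F V) (s z : F), SARoot Q δ (Submodule.span F {u, w}) J ∧
      J u = s • u + (polar Q u u * z) • w ∧ J w = (polar Q w w * z) • u - s • w := by
  have hA : polar Q u u ≠ 0 := by rw [polar_diag]; exact mul_ne_zero h2 hu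
  have hB : polar Q w w ≠ 0 := by rw [polar_diag]; exact mul_ne_zero h2 hw
  obtain ⟨s, z, hsz⟩ := Orth.exists_sum_sq h2 one_ne_zero (mul_ne_zero hA hB) δ
  obtain ⟨J, hJ⟩ : ∃ J : Module.End F V, J =
      ((polar Q u u)⁻¹ • polarBilin Q u).smulRight (s • u + (polar Q u u * z) • w) +
        ((polar Q w w)⁻¹ • polarBilin Q w).smulRight ((polar Q w w * z) • u - s • w) := ⟨_, rfl⟩
  have hwu : polar Q w u = 0 := by rw [polar_comm]; exact huw
  have hJu : J u = s • u + (polar Q u u * z) • w := by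
    rw [hJ, LinearMap.add_apply, LinearMap.smulRight_apply, LinearMap.smulRight_apply, LinearMap.smul_apply,
      LinearMap.smul_apply, polarBilin_apply_apply, polarBilin_apply_apply, hwu, smul_eq_mul, smul_eq_mul,
      inv_mul_cancel₀ hA, one_smul, mul_zero, zero_smul, add_zero]
  have hJw : J w = (polar Q w w * z) • u - s • w := by
    rw [hJ, LinearMap.add_apply, LinearMap.smulRight_apply, LinearMap.smulRight_apply, LinearMap.smul_apply,
      LinearMap.smul_apply, polarBilin_apply_apply, polarBilin_apply_apply, huw, smul_eq_mul, smul_eq_mul,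
      inv_mul_cancel₀ hB, one_smul, mul_zero, zero_smul, zero_add]
  refine ⟨J, s, z, ⟨fun x hx => ?_, fun x hx => ?_, fun x hx y hy => ?_⟩, hJu, hJw⟩
  · obtain ⟨a, b, rfl⟩ := Submodule.mem_span_pair.1 hx
    rw [map_add, map_smul, map_smul, hJu, hJw]
    exact Submodule.mem_span_pair.2 ⟨a * s + b * (polar Q w w * z), a * (polar Q u u * z) - b * s, by module⟩
  · obtain ⟨a, b, rfl⟩ := Submodule.mem_span_pair.1 hx
    simp only [map_add, map_smul, map_sub, hJu, hJw]
    rw [← hsz]
    module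
  · obtain ⟨a, b, rfl⟩ := Submodule.mem_span_pair.1 hx
    obtain ⟨c, d, rfl⟩ := Submodule.mem_span_pair.1 hy
    simp only [map_add, map_smul, hJu, hJw, polar_add_left, polar_add_right, polar_sub_left, polar_sub_right,
      polar_smul_left, polar_smul_right, huw, hwu, smul_eq_mul]
    ring

omit [Fintype F] in
/-- An orthogonal pair spans a non-degenerate plane. -/
lemma pair_nd (h2 : (2 : F) ≠ 0) {u w : V} (huw : polar Q u w = 0) (hu : Q u ≠ 0) (hw : Q w ≠ 0) :
    NDQ Q (Submodule.span F {u, w}) ∧ finrank F (Submodule.span F {u, w}) = 2 := by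
  obtain ⟨l1, d1⟩ := ndq_line h2 hu
  obtain ⟨l2, d2⟩ := ndq_line h2 hw
  obtain ⟨h1, -, h3⟩ := ndq_sup l1 l2 fun x hx y hy => by
    obtain ⟨a, rfl⟩ := Submodule.mem_span_singleton.1 hx
    obtain ⟨b, rfl⟩ := Submodule.mem_span_singleton.1 hy
    rw [polar_smul_left, polar_smul_right, huw, smul_zero, smul_zero]
  rw [Submodule.span_insert]
  exact ⟨h1, by rw [h3, d1, d2]⟩

/-- Roots exist on every non-degenerate subspace of even dimension. -/
lemma exists_saroot (hQ : (polarBilin Q).Nondegenerate) (h2 : (2 : F) ≠ 0) (hδ : δ ≠ 0) :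
    ∀ (k : ℕ) (U : Submodule F V), NDQ Q U → finrank F U = 2 * k → ∃ J, SARoot Q δ U J := by
  intro k
  induction k with
  | zero =>
    intro U _ hd
    rw [Submodule.finrank_eq_zero.1 (by omega : finrank F U = 0)]
    exact ⟨0, fun u hu => by simp_all, fun u hu => by simp_all, fun u hu v _ => by simp_all⟩
  | succ k ih =>
    intro U hU hd
    obtain ⟨e, he, hm⟩ := exists_ofam (hQ := hQ) h2 (S := U) hU 2 (by omega)
    obtain ⟨hP, hPd⟩ := pair_nd h2 (he.1 0 (by omega) 1 (by omega) (by omega)) (he.2 0 (by omega)) (he.2 1 (by omega))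
    have hPU : Submodule.span F {e 0, e 1} ≤ U :=
      Submodule.span_le.2 (Set.insert_subset (hm 0 (by omega)) (Set.singleton_subset_iff.2 (hm 1 (by omega))))
    obtain ⟨J₁, -, -, hJ₁, -, -⟩ := exists_root_pair (δ := δ) h2 hδ (he.1 0 (by omega) 1 (by omega) (by omega))
      (he.2 0 (by omega)) (he.2 1 (by omega))
    obtain ⟨Y, hYU, hY, hperp, hsum, hYd, -⟩ := ndq_compl hQ hU hP hPU
    obtain ⟨J₂, hJ₂⟩ := ih Y hY (by omega)
    obtain ⟨J, hJ, -, -⟩ := root_join hQ hP hperp hsum hJ₁ hJ₂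
    exact ⟨J, hJ⟩

/-- Prescribed values in dimension at least four. -/
lemma SARoot.represent {U : Submodule F V} {J : Module.End F V} (hJ : SARoot Q δ U J) (h2 : (2 : F) ≠ 0) (hδ : ¬ IsSquare δ)
    (hU : NDQ Q U) (hd : 4 ≤ finrank F U) (α β : F) :
    ∃ e ∈ U, polar Q e e = α ∧ polar Q e (J e) = β := by
  let fst := LinearMap.fst F V F
  let snd := LinearMap.snd F V F
  let sq : (V × F) →ₗ[F] (V × F) →ₗ[F] F := (LinearMap.mul F F).compl₁₂ snd snd
  let g : Bool → (V × F) →ₗ[F] (V × F) →ₗ[F] F := fun k => bif k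
    then (polarBilin Q).compl₁₂ fst fst - α • sq
    else (polarBilin Q).compl₁₂ fst (J ∘ₗ fst) - β • sq
  have hdim : 2 * Fintype.card Bool < finrank F (U.prod (⊤ : Submodule F F)) := by
    have e : (U.prod (⊤ : Submodule F F)) = LinearMap.range (U.subtype.prodMap (LinearMap.id : F →ₗ[F] F)) := by
      rw [LinearMap.range_prodMap, Submodule.range_subtype, LinearMap.range_id]
    rw [Fintype.card_bool, e, LinearMap.finrank_range_of_inj (Prod.map_injective.2 ⟨U.subtype_injective, Function.injective_id⟩),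
      Module.finrank_prod, Module.finrank_self]
    omega
  obtain ⟨⟨v, t⟩, hv, hv0, hk⟩ := exists_common_zero g (U.prod ⊤) hdim
  have hv' : v ∈ U := hv.1
  have h1 : polar Q v v = α * t ^ 2 := by
    have := hk true
    simp [g, fst, snd, sq] at this
    rw [polar_diag]
    linear_combination this
  have h3 : polar Q v (J v) = β * t ^ 2 := by
    have := hk false
    simp [g, fst, snd, sq] at this
    linear_combination this
  rcases eq_or_ne t 0 with rfl | ht
  · rw [zero_pow two_ne_zero, mul_zero] at h1 h3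
    have hv0' : v ≠ 0 := fun h => hv0 (by rw [h]; rfl)
    obtain ⟨w, hw, hvw⟩ : ∃ w ∈ U, polar Q v w ≠ 0 := by
      by_contra h
      push Not at h
      exact hv0' (hU v hv' h)
    obtain ⟨a, b, hb⟩ : ∃ a b : F, a = polar Q v w ∧ b = polar Q v (J w) := ⟨_, _, rfl, rfl⟩
    have hN : δ * a ^ 2 - b ^ 2 ≠ 0 := root_norm_ne hδ (Or.inl (hb.1 ▸ hvw))
    have h4 : polar Q (J v) (J v) = 0 := by
      rw [hJ.sa v hv' _ (hJ.inv v hv'), hJ.sq v hv', polar_smul_right, h1, smul_zero]
    have h5 : polar Q w v = a := by rw [polar_comm, hb.1]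
    have h6 : polar Q w (J v) = b := by rw [← hJ.sa w hw v hv', polar_comm, hb.2]
    have h7 : polar Q (J v) w = b := by rw [polar_comm, h6]
    have h8 : polar Q (J v) (J w) = δ * a := by
      rw [hJ.sa v hv' _ (hJ.inv w hw), hJ.sq w hw, polar_smul_right, hb.1]; rfl
    obtain ⟨p, hp⟩ : ∃ p, p = α - polar Q w w := ⟨_, rfl⟩
    obtain ⟨o, ho⟩ : ∃ o, o = β - polar Q w (J w) := ⟨_, rfl⟩
    obtain ⟨x, hx⟩ : ∃ x, x = (δ * a * p - b * o) / (2 * (δ * a ^ 2 - b ^ 2)) := ⟨_, rfl⟩
    obtain ⟨y, hy⟩ : ∃ y, y = (a * o - b * p) / (2 * (δ * a ^ 2 - b ^ 2)) := ⟨_, rfl⟩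
    have hJv : J (x • v + y • J v) = x • J v + (y * δ) • v := by
      rw [map_add, map_smul, map_smul, hJ.sq v hv', smul_smul]
    have h7' : polar Q (J v) v = 0 := by rw [polar_comm, h3]
    refine ⟨w + (x • v + y • J v), U.add_mem hw (U.add_mem (U.smul_mem _ hv') (U.smul_mem _ (hJ.inv v hv'))), ?_, ?_⟩
    · simp only [polar_add_left, polar_add_right, polar_smul_left, polar_smul_right, smul_eq_mul, h1, h3, h4, h5, h6,
        h7, h7', ← hb.1]
      have key : 2 * (x * a + y * b) = p := by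
        rw [hx, hy, div_mul_eq_mul_div, div_mul_eq_mul_div, ← add_div, mul_div_assoc', div_eq_iff (mul_ne_zero h2 hN)]
        ring
      linear_combination key + hp
    · rw [map_add, hJv]
      simp only [polar_add_left, polar_add_right, polar_smul_left, polar_smul_right, smul_eq_mul, h1, h3, h4, h5, h6,
        h7, h7', h8, ← hb.1, ← hb.2]
      have key : 2 * (x * b + y * (δ * a)) = o := by
        rw [hx, hy, div_mul_eq_mul_div, div_mul_eq_mul_div, ← add_div, mul_div_assoc', div_eq_iff (mul_ne_zero h2 hN)]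
        ring
      linear_combination key + ho
  · obtain ⟨c1, c2, -⟩ := hJ.comb hv' t⁻¹ 0
    simp only [zero_smul, add_zero, mul_zero, zero_mul, zero_pow two_ne_zero] at c1 c2
    refine ⟨t⁻¹ • v, U.smul_mem _ hv', ?_, ?_⟩
    · rw [c1, h1]; field_simp
    · rw [c2, h3]; field_simp

/-- Frames adapted to a root: all planes normal but the first. -/
lemma SARoot.exists_frame (hQ : (polarBilin Q).Nondegenerate) (h2 : (2 : F) ≠ 0) (hδ : ¬ IsSquare δ) {J : Module.End F V} :
    ∀ (k : ℕ) (U : Submodule F V), SARoot Q δ U J → NDQ Q U → finrank F U = 2 * (k + 1) →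
      ∃ e : ℕ → V, (∀ j ≤ k, e j ∈ U) ∧
        (∀ i ≤ k, ∀ j ≤ k, i ≠ j → polar Q (e i) (e j) = 0 ∧ polar Q (e i) (J (e j)) = 0) ∧
        (∀ j ≤ k, 0 < j → polar Q (e j) (e j) = 1 ∧ polar Q (e j) (J (e j)) = 0) ∧ Q (e 0) ≠ 0 := by
  intro k
  induction k with
  | zero =>
    intro U hJ hU hd
    obtain ⟨v, hv, hv0⟩ := exists_ne_zero_in hU (by omega)
    exact ⟨fun _ => v, fun j _ => hv, fun i hi j hj hij => by omega, fun j hj h0 => by omega, hv0⟩
  | succ k ih =>
    intro U hJ hU hd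
    obtain ⟨v, hv, hva, hvb⟩ := hJ.represent h2 hδ hU (by omega) 1 0
    obtain ⟨hP, hPd, hPi⟩ := hJ.plane hδ hv (Or.inl (by rw [hva]; exact one_ne_zero))
    have hPU : Submodule.span F {v, J v} ≤ U :=
      Submodule.span_le.2 (Set.insert_subset hv (Set.singleton_subset_iff.2 (hJ.inv v hv)))
    obtain ⟨Y, hYU, hY, hperp, -, hYd, rfl⟩ := ndq_compl hQ hU hP hPU
    have hJY := hJ.compl (hQ := hQ) hPU hPi
    obtain ⟨e, hm, horth, hnorm, h0⟩ := ih _ hJY hY (by omega)
    refine ⟨fun j => if j = k + 1 then v else e j, fun j hj => ?_, fun i hi j hj hij => ?_, fun j hj hj0 => ?_, ?_⟩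
    · dsimp only
      split_ifs with h
      · exact hv
      · exact hYU (hm j (by omega))
    · dsimp only
      split_ifs with h1 h3 h3
      · omega
      · have hmem := hm j (by omega)
        exact ⟨hperp v (Submodule.subset_span (Or.inl rfl)) _ hmem,
          hperp v (Submodule.subset_span (Or.inl rfl)) _ (hJY.inv _ hmem)⟩
      · have hmem := hm i (by omega)
        refine ⟨?_, ?_⟩
        · rw [polar_comm]; exact hperp v (Submodule.subset_span (Or.inl rfl)) _ hmem
        · rw [polar_comm]; exact hperp (J v) (Submodule.subset_span (Or.inr rfl)) _ hmem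
      · exact horth i (by omega) j (by omega) hij
    · dsimp only
      split_ifs with h
      · exact ⟨hva, hvb⟩
      · exact hnorm j (by omega) hj0
    · dsimp only
      rw [if_neg (by omega)]
      exact h0

/-- Square roots in `F(√δ)`. -/
lemma exists_sq_root (h2 : (2 : F) ≠ 0) (hδ : ¬ IsSquare δ) {s t w : F} (hw : s ^ 2 - δ * t ^ 2 = w ^ 2) :
    ∃ x y : F, x ^ 2 + δ * y ^ 2 = s ∧ 2 * x * y = t := by
  classical
  have hδ0 : δ ≠ 0 := fun h => hδ (h ▸ IsSquare.zero)
  have hchar : ringChar F ≠ 2 := fun h => h2 (by haveI := ringChar.of_eq h; exact CharTwo.two_eq_zero)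
  have hns : ∀ {a : F}, a ≠ 0 → ¬ IsSquare a → ∀ {b : F}, b ≠ 0 → ¬ IsSquare b → IsSquare (a * b) := fun ha ha' b hb hb' => by
    rw [← quadraticChar_one_iff_isSquare (mul_ne_zero ha hb), map_mul, quadraticChar_neg_one_iff_not_isSquare.2 ha',
      quadraticChar_neg_one_iff_not_isSquare.2 hb']
    norm_num
  rcases eq_or_ne t 0 with rfl | ht
  · rcases eq_or_ne s 0 with rfl | hs
    · exact ⟨0, 0, by ring, by ring⟩
    by_cases hsq : IsSquare s
    · obtain ⟨x, hx⟩ := hsq
      exact ⟨x, 0, by rw [hx]; ring, by ring⟩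
    · obtain ⟨c, hc⟩ := hns hs hsq hδ0 hδ
      exact ⟨0, c / δ, by field_simp; linear_combination -hc, by ring⟩
  obtain ⟨a, ha⟩ : ∃ a, a = (s + w) / 2 := ⟨_, rfl⟩
  obtain ⟨b, hb⟩ : ∃ b, b = (s - w) / 2 := ⟨_, rfl⟩
  have hab : a * b = δ * (t / 2) ^ 2 := by
    rw [ha, hb]; field_simp; linear_combination hw
  have hne : a * b ≠ 0 := by rw [hab]; exact mul_ne_zero hδ0 (pow_ne_zero _ (div_ne_zero ht h2))
  have hnot : ¬ (IsSquare a ↔ IsSquare b) := fun h => by
    have hsq : IsSquare (a * b) := by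
      by_cases hA : IsSquare a
      · exact hA.mul (h.1 hA)
      · exact hns (left_ne_zero_of_mul hne) hA (right_ne_zero_of_mul hne) fun hB => hA (h.2 hB)
    obtain ⟨c, hc⟩ := hsq
    exact hδ ⟨c / (t / 2), by
      rw [div_mul_div_comm, ← hc, hab, pow_two, mul_div_assoc,
        div_self (mul_ne_zero (div_ne_zero ht h2) (div_ne_zero ht h2)), mul_one]⟩
  obtain ⟨a', ha', hroot⟩ : ∃ a', IsSquare a' ∧ a' * (s - a') = δ * (t / 2) ^ 2 := by
    by_cases hA : IsSquare a
    · exact ⟨a, hA, by rw [show s - a = b by rw [ha, hb]; field_simp; ring]; exact hab⟩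
    · exact ⟨b, by by_contra hB; exact hnot (iff_of_false hA hB),
        by rw [show s - b = a by rw [ha, hb]; field_simp; ring, mul_comm]; exact hab⟩
  obtain ⟨x, hx⟩ := ha'
  have hx0 : x ≠ 0 := fun h => hne (by
    rw [h] at hx
    rw [hx, mul_zero, zero_mul] at hroot
    rw [hab, ← hroot])
  refine ⟨x, t / (2 * x), ?_, by field_simp⟩
  rw [hx] at hroot
  field_simp at hroot ⊢
  linear_combination -hroot

end Cfsg.Agent.Elusive
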