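import Cfsg.Agent.Lib.Elusive.OrthExtWitness

/-!
An `r`-group of isometries commutes with a self-adjoint root when four divides the order of `q` modulo `r`.
-/

set_option autoImplicit false
set_option linter.all false
set_option maxHeartbeats 1600000

namespace Cfsg.Agent.Elusive

open Module QuadraticMap Polynomial

variable {F : Type*} [Field F] [Fintype F] {κ : Type} [Fintype κ] [DecidableEq κ] {Q : QuadraticForm F (κ → F)} {δ : F}
  {r : ℕ} [Fact r.Prime]

local notation "act" g => Matrix.toLin' ((g : GL κ F) : Matrix κ κ F)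

/-- One step: a piece with a commuting root. -/
lemma exists_root_step (p : ℕ) [Fact p.Prime] [CharP F p] (h2 : (2 : F) ≠ 0) (hrp : r ≠ p) (hr2 : r ≠ 2)
    (hQ : (polarBilin Q).Nondegenerate) (hδ : ¬ IsSquare δ) (h4 : 4 ∣ orderOf (Fintype.card F : ZMod r))
    (G : Subgroup ↥(Cfsg.isometryGroup F (⇑Q))) (hG : IsPGroup r G) {U : Submodule F (κ → F)} (hU : NDQ Q U)
    (hUi : ∀ g ∈ G, Inv (act g) U) (hnt : ∃ g ∈ G, ∃ u ∈ U, (act g) u ≠ u) :
    ∃ (W : Submodule F (κ → F)) (J : Module.End F (κ → F)), W ≤ U ∧ W ≠ ⊥ ∧ Even (finrank F W) ∧ NDQ Q W ∧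
      SARoot Q δ W J ∧ (∀ g ∈ G, Inv (act g) W) ∧ ∀ g ∈ G, ∀ u ∈ W, J ((act g) u) = (act g) (J u) := by
  classical
  have hr : (r : F) ≠ 0 := fun h => hrp (by
    rw [CharP.cast_eq_zero_iff F p] at h
    exact ((Nat.prime_dvd_prime_iff_eq Fact.out Fact.out).1 h).symm)
  haveI : Finite ↥(Cfsg.isometryGroup F (⇑Q)) := inferInstance
  let φ₀ : ↥G →* Module.End F U :=
    { toFun := fun g => (act (g : ↥(Cfsg.isometryGroup F (⇑Q)))).restrict (hUi g.1 g.2)
      map_one' := LinearMap.ext fun u => Subtype.ext (by simp)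
      map_mul' := fun g h => LinearMap.ext fun u => Subtype.ext (by
        show (act ((g * h : ↥G) : ↥(Cfsg.isometryGroup F (⇑Q)))) u.1 = _
        rw [Subgroup.coe_mul, act_mul]; rfl) }
  obtain ⟨R, hR⟩ : ∃ R, R = φ₀.toHomUnits.range := ⟨_, rfl⟩
  haveI : Finite (Module.End F U) := Module.finite_of_finite F
  haveI : Nontrivial R := by
    obtain ⟨g, hg, u, hu, hne⟩ := hnt
    refine ⟨⟨⟨φ₀.toHomUnits ⟨g, hg⟩, hR ▸ ⟨_, rfl⟩⟩, 1, fun h => hne ?_⟩⟩
    have h1 := LinearMap.congr_fun (congrArg (fun x : R => ((x : (Module.End F U)ˣ) : Module.End F U)) h) ⟨u, hu⟩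
    exact congrArg Subtype.val h1
  have hRp : IsPGroup r R := by
    subst hR
    exact hG.of_surjective φ₀.toHomUnits.rangeRestrict φ₀.toHomUnits.rangeRestrict_surjective
  haveI : Nontrivial (Subgroup.center R) := hRp.center_nontrivial
  obtain ⟨n, hn⟩ := (hRp.to_subgroup (Subgroup.center R)).exists_card_eq
  have hdvd : r ∣ Nat.card (Subgroup.center R) := by
    rcases Nat.eq_zero_or_pos n with rfl | hn0
    · rw [pow_zero] at hn
      exact absurd hn (Finite.one_lt_card.ne')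
    · rw [hn]; exact dvd_pow_self r hn0.ne'
  obtain ⟨z, hz⟩ := exists_prime_orderOf_dvd_card' (G := Subgroup.center R) r hdvd
  obtain ⟨g₀, hg₀⟩ : ∃ g₀ : ↥G, φ₀.toHomUnits g₀ = ((z : R) : (Module.End F U)ˣ) := by
    obtain ⟨g₀, hg₀⟩ := MonoidHom.mem_range.1 (hR.le (z : R).2)
    exact ⟨g₀, hg₀⟩
  obtain ⟨Z, hZ⟩ : ∃ Z, Z = (act (g₀ : ↥(Cfsg.isometryGroup F (⇑Q)))) := ⟨_, rfl⟩
  have hzU : ∀ u : U, ((((z : R) : (Module.End F U)ˣ) : Module.End F U) u : κ → F) = Z u.1 := fun u => by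
    rw [← hg₀, hZ]; rfl
  have hZU : Inv Z U := hZ ▸ hUi g₀.1 g₀.2
  have hzpow : ∀ (k : ℕ) (u : U), (((((z : R) : (Module.End F U)ˣ) : Module.End F U) ^ k) u : κ → F) = (Z ^ k) u.1 := by
    intro k
    induction k with
    | zero => simp
    | succ k ih => intro u; rw [pow_succ', pow_succ', Module.End.mul_apply, Module.End.mul_apply, hzU, ih]
  have hZr : ∀ u ∈ U, (Z ^ r) u = u := fun u hu => by
    have h1 : z ^ r = 1 := hz ▸ pow_orderOf_eq_one z
    have h3 := congrArg (fun x : Subgroup.center R => (((x : R) : (Module.End F U)ˣ) : Module.End F U)) h1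
    simp only [SubmonoidClass.coe_pow, Units.val_pow_eq_pow_val, OneMemClass.coe_one, Units.val_one] at h3
    have h4 := congrArg Subtype.val (LinearMap.congr_fun h3 ⟨u, hu⟩)
    rw [hzpow] at h4
    exact h4
  have hZc : ∀ g ∈ G, ∀ u ∈ U, Z ((act g) u) = (act g) (Z u) := fun g hg u hu => by
    have h1 := Subgroup.mem_center_iff.1 z.2 ⟨φ₀.toHomUnits ⟨g, hg⟩, hR ▸ ⟨_, rfl⟩⟩
    have h3 := congrArg Subtype.val (LinearMap.congr_fun
      (congrArg (fun x : R => ((x : (Module.End F U)ˣ) : Module.End F U)) h1) ⟨u, hu⟩)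
    simp only [Subgroup.coe_mul, Units.val_mul, Module.End.mul_apply] at h3
    rw [hzU] at h3
    refine Eq.trans ?_ (h3.symm.trans ?_)
    · rfl
    · show (act g) ((((z : R) : (Module.End F U)ˣ) : Module.End F U) ⟨u, hu⟩ : κ → F) = _
      rw [hzU]
  obtain ⟨u₀, hu₀, hu₀ne⟩ : ∃ u ∈ U, Z u ≠ u := by
    by_contra hall
    push Not at hall
    have : z = 1 := Subtype.ext (Subtype.ext (Units.ext (LinearMap.ext fun u => Subtype.ext (by
      rw [hzU, hall u.1 u.2]; rfl))))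
    rw [this, orderOf_one] at hz
    exact (Fact.out : r.Prime).one_lt.ne hz
  -- extend trivially
  have hc : IsCompl U ((quadSF hQ).perp U) := (quadSF hQ).isCompl_perp hU
  obtain ⟨T, hTdef⟩ : ∃ T, T = LinearMap.ofIsCompl hc (Z ∘ₗ U.subtype) ((quadSF hQ).perp U).subtype := ⟨_, rfl⟩
  have hTa : ∀ a ∈ U, T a = Z a := fun a ha => by rw [hTdef]; exact LinearMap.ofIsCompl_left_apply hc ⟨a, ha⟩
  have hTb : ∀ b, b ∈ (quadSF hQ).perp U → T b = b := fun b hb => by
    rw [hTdef]; exact LinearMap.ofIsCompl_right_apply hc ⟨b, hb⟩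
  have hdec : ∀ v, ∃ a ∈ U, ∃ b, b ∈ (quadSF hQ).perp U ∧ a + b = v := fun v =>
    Submodule.mem_sup.1 (hc.sup_eq_top ▸ Submodule.mem_top (x := v))
  have hTk : ∀ k : ℕ, (∀ a ∈ U, (T ^ k) a = (Z ^ k) a) ∧ ∀ b, b ∈ (quadSF hQ).perp U → (T ^ k) b = b := by
    intro k
    induction k with
    | zero => simp
    | succ k ih =>
      refine ⟨fun a ha => ?_, fun b hb => ?_⟩
      · rw [pow_succ', pow_succ', Module.End.mul_apply, Module.End.mul_apply, ih.1 a ha, hTa _ (hZU.pow k a ha)]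
      · rw [pow_succ', Module.End.mul_apply, ih.2 b hb, hTb b hb]
  have hTU : Inv T U := fun a ha => by rw [hTa a ha]; exact hZU a ha
  have hTq : ∀ v, Q (T v) = Q v := fun v => by
    obtain ⟨a, ha, b, hb, rfl⟩ := hdec v
    rw [map_add, hTa a ha, hTb b hb, QuadraticMap.map_add Q, QuadraticMap.map_add Q,
      show polar Q (Z a) b = 0 from hb _ (hZU a ha), show polar Q a b = 0 from hb a ha, hZ, act_q]
  have hTr : T ^ r = 1 := LinearMap.ext fun v => by
    obtain ⟨a, ha, b, hb, rfl⟩ := hdec v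
    rw [map_add, (hTk r).1 a ha, (hTk r).2 b hb, hZr a ha]; simp
  have hM : Inv T (U ⊓ movedSpace T r) := fun v hv => ⟨hTU v hv.1, inv_moved v hv.2⟩
  obtain ⟨m, hm, hm0⟩ : ∃ m ∈ U ⊓ movedSpace T r, m ≠ 0 := by
    by_contra hall
    push Not at hall
    have hsplit := split_inv hTr hr (W := U) hTU
    rw [show U ⊓ movedSpace T r = ⊥ from eq_bot_iff.2 fun v hv => (Submodule.mem_bot F).2 (hall v hv), sup_bot_eq] at hsplit
    have h3 : T u₀ = u₀ := mem_fixedSpace.1 (hsplit.ge hu₀).2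
    rw [hTa u₀ hu₀] at h3
    exact hu₀ne h3
  have hne' : (Polynomial.X ^ r - 1 : F[X]) ≠ 0 := (monic_X_pow_sub_C (1 : F) (Fact.out : r.Prime).ne_zero).ne_zero
  obtain ⟨g, hgm, hgi, hgd, v₀, hv₀M, hv₀, hgv₀⟩ := exists_irreducible_vec (W := ⊥) hM _ hne' m hm
    (by rwa [Submodule.mem_bot]) (by simp [hTr])
  rw [Submodule.mem_bot] at hgv₀ hv₀
  have hg1 : g ≠ X - C 1 := fun hg => hv₀ (by
    rw [hg] at hgv₀
    simp [sub_eq_zero] at hgv₀
    exact eq_zero_of_fixed_moved hr (mem_fixedSpace.2 hgv₀) hv₀M.2)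
  obtain ⟨i, hi⟩ : ∃ i, i = orderOf (Fintype.card F : ZMod r) := ⟨_, rfl⟩
  have hi0 : 0 < i := hi ▸ orderOf_card_pos hr
  have hgdeg : g.natDegree = i := hi ▸ LBRootPoly.natDegree_factor Fact.out hgm hgi hgd hg1
  rw [← hi] at h4
  obtain ⟨h, hh⟩ : ∃ h, i = h + h := ⟨i / 2, by omega⟩
  have hhe : Even h := Nat.even_iff.2 (by omega)
  have hI := quad_isom (hQ := hQ) hTq
  have hKM : LinearMap.ker (aeval T g) ≤ movedSpace T r := fun w hw => by
    have hdvd : g ∣ (∑ k ∈ Finset.range r, X ^ k) := by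
      refine (hgi.prime.dvd_or_dvd (show g ∣ (∑ k ∈ Finset.range r, X ^ k) * (X - 1) by rwa [geom_sum_mul])).resolve_right
        fun hd => hg1 (eq_of_monic_of_associated hgm (monic_X_sub_C 1)
          (hgi.associated_of_dvd (irreducible_X_sub_C 1) (by rwa [C_1])))
    obtain ⟨t, ht⟩ := hdvd
    rw [movedSpace, LinearMap.mem_ker, show (∑ k ∈ Finset.range r, T ^ k) = aeval T (∑ k ∈ Finset.range r, (X : F[X]) ^ k) by simp,
      ht, mul_comm, map_mul, Module.End.mul_apply, LinearMap.mem_ker.1 hw, map_zero]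
  obtain ⟨W, hWdef⟩ : ∃ W, W = LinearMap.ker (aeval T g) ⊓ U := ⟨_, rfl⟩
  have hK : NDQ Q (LinearMap.ker (aeval T g)) := nd_ker p hTr hr hr2 hI (hi ▸ ⟨h, hh⟩) hgd
  have hW : NDQ Q W := fun x hx hz => by
    rw [hWdef] at hx hz
    refine hK x hx.1 fun w hw => ?_
    obtain ⟨a, ha, b, hb, rfl⟩ := hdec w
    have hga : aeval T g a = 0 := by
      rw [LinearMap.mem_ker, map_add] at hw
      exact Submodule.disjoint_def.1 hc.disjoint _ (hTU.aeval g ha) (by
        rw [eq_neg_of_add_eq_zero_left hw]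
        exact Submodule.neg_mem _ (Inv.aeval (fun v hv => by rwa [hTb v hv]) g hb))
    rw [polar_add_right, show polar Q x b = 0 from hb x hx.2, add_zero]
    exact hz a ⟨hga, ha⟩
  have hcomm : ∀ (f : F[X]), ∀ γ ∈ G, ∀ u ∈ U, aeval T f ((act γ) u) = (act γ) (aeval T f u) := fun f γ hγ u hu => by
    induction f using Polynomial.induction_on' with
    | add a b ha hb => simp only [map_add, LinearMap.add_apply, ha, hb]
    | monomial n c =>
      rw [aeval_monomial, Module.End.mul_apply, Module.End.mul_apply, Module.algebraMap_end_apply,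
        Module.algebraMap_end_apply, map_smul]
      congr 1
      induction n with
      | zero => simp
      | succ n ih =>
        rw [pow_succ', Module.End.mul_apply, Module.End.mul_apply, ih, hTa _ (hUi γ hγ _ (hTU.pow n u hu)),
          hTa _ (hTU.pow n u hu), hZc γ hγ _ (hTU.pow n u hu)]
  -- a root of the non-square in the field of the factor
  haveI : Fact (Irreducible g) := ⟨hgi⟩
  have hδ0 : δ ≠ 0 := fun h => hδ (h ▸ IsSquare.zero)
  haveI : Module.Finite F (AdjoinRoot g) := hgm.finite_adjoinRoot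
  haveI : Finite (AdjoinRoot g) := Module.finite_of_finite F
  letI : Fintype (AdjoinRoot g) := Fintype.ofFinite _
  have hEc : Fintype.card (AdjoinRoot g) = Fintype.card F ^ i := by
    rw [← Nat.card_eq_fintype_card, Module.natCard_eq_pow_finrank (K := F), Nat.card_eq_fintype_card,
      (AdjoinRoot.powerBasis hgi.ne_zero).finrank, AdjoinRoot.powerBasis_dim, hgdeg]
  have hchar : ringChar F ≠ 2 := fun h => h2 (by haveI := ringChar.of_eq h; exact CharTwo.two_eq_zero)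
  have hEchar : ringChar (AdjoinRoot g) ≠ 2 := fun h => h2 ((algebraMap F (AdjoinRoot g)).injective (by
    haveI := ringChar.of_eq h
    rw [map_ofNat, map_zero]; exact CharTwo.two_eq_zero))
  have hsqδ : IsSquare (algebraMap F (AdjoinRoot g) δ) := by
    refine (FiniteField.isSquare_iff hEchar ((_root_.map_ne_zero _).2 hδ0)).2 ?_
    rw [hEc, ← map_pow]
    have hoddi : Fintype.card F ^ i % 2 = 1 :=
      Nat.odd_iff.1 ((Nat.odd_iff.2 (FiniteField.odd_card_of_char_ne_two hchar)).pow)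
    rw [show Fintype.card F ^ i / 2 = (Fintype.card F ^ i - 1) / 2 by omega, half_pow h2 hδ,
      Even.neg_one_pow (Nat.even_iff.2 (by omega)), map_one]
  obtain ⟨ρ, hρ⟩ := hsqδ
  obtain ⟨R', rfl⟩ := AdjoinRoot.mk_surjective (g := g) ρ
  rw [AdjoinRoot.algebraMap_eq, ← AdjoinRoot.mk_C, ← map_mul, AdjoinRoot.mk_eq_mk] at hρ
  obtain ⟨w, hw⟩ := hρ
  have hWT : ∀ u ∈ W, aeval T R' u ∈ W := fun u hu => by
    rw [hWdef] at hu ⊢
    refine ⟨?_, hTU.aeval R' hu.2⟩
    show aeval T g (aeval T R' u) = 0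
    rw [← Module.End.mul_apply, ← map_mul, mul_comm, map_mul, Module.End.mul_apply,
      show aeval T g u = 0 from hu.1, map_zero]
  have hsq : ∀ u ∈ W, aeval T R' (aeval T R' u) = δ • u := fun u hu => by
    have hu' : aeval T g u = 0 := (hWdef ▸ hu).1
    rw [← Module.End.mul_apply, ← map_mul, show R' * R' = C δ - w * g by linear_combination -hw, map_sub,
      map_mul, aeval_C, LinearMap.sub_apply, Module.End.mul_apply, hu', map_zero, sub_zero, Module.algebraMap_end_apply]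
  have hinvP := aeval_inv_root h2 hδ hr2 hTr (h := h) (by omega) (by omega) hWT hsq
  refine ⟨W, aeval T R', hWdef ▸ inf_le_right, fun hb => hv₀ ?_, ?_, hW, ⟨hWT, hsq, fun u hu v hv => ?_⟩, fun γ hγ u hu => ?_,
    fun γ hγ u hu => hcomm R' γ hγ u (hWdef ▸ hu).2⟩
  · have : v₀ ∈ W := hWdef ▸ ⟨hgv₀, hv₀M.1⟩
    rwa [hb, Submodule.mem_bot] at this
  · have hWi : Inv T W := fun u hu => by
      rw [hWdef] at hu ⊢
      refine ⟨?_, hTU u hu.2⟩
      have hcg : aeval T g * T = T * aeval T g := by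
        simpa only [map_mul, aeval_X] using congrArg (aeval T) (mul_comm g (X : F[X]))
      show aeval T g (T u) = 0
      rw [← Module.End.mul_apply, hcg, Module.End.mul_apply, show aeval T g u = 0 from hu.1, map_zero]
    obtain ⟨k, hk⟩ := dvd_finrank_moved hTr hr hWi (hWdef ▸ inf_le_left.trans hKM)
    exact ⟨h * k, by rw [hk, ← hi, hh, Nat.add_mul]⟩
  · have h1 : polar Q u (aeval T R' v) = polar Q (aeval (T ^ (r - 1)) R' u) v := adjoint_aeval (Φ := quadSF hQ) hTr hI R' u v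
    rw [hinvP u hu, hhe.neg_one_pow, one_smul] at h1
    exact h1.symm
  · rw [hWdef] at hu ⊢
    refine ⟨?_, hUi γ hγ u hu.2⟩
    show aeval T g ((act γ) u) = 0
    rw [hcomm g γ hγ u hu.2, show aeval T g u = 0 from hu.1, map_zero]

/-- Commuting roots for `r`-groups. -/
theorem exists_root_pgroup (p : ℕ) [Fact p.Prime] [CharP F p] (h2 : (2 : F) ≠ 0) (hrp : r ≠ p) (hr2 : r ≠ 2)
    (hQ : (polarBilin Q).Nondegenerate) (hδ : ¬ IsSquare δ) (h4 : 4 ∣ orderOf (Fintype.card F : ZMod r))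
    (G : Subgroup ↥(Cfsg.isometryGroup F (⇑Q))) (hG : IsPGroup r G) :
    ∀ (n : ℕ) (U : Submodule F (κ → F)), finrank F U = n → NDQ Q U → Even n → (∀ g ∈ G, Inv (act g) U) →
      ∃ J, SARoot Q δ U J ∧ ∀ g ∈ G, ∀ u ∈ U, J ((act g) u) = (act g) (J u) := by
  intro n
  induction n using Nat.strong_induction_on with
  | _ n ih =>
  intro U hUd hU hev hUi
  by_cases hnt : ∃ g ∈ G, ∃ u ∈ U, (act g) u ≠ u
  swap
  · push Not at hnt
    obtain ⟨k, hk⟩ := hev
    obtain ⟨J, hJ⟩ := exists_saroot hQ h2 (δ := δ) (fun h => hδ (h ▸ IsSquare.zero)) k U hU (by omega)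
    exact ⟨J, hJ, fun g hg u hu => by rw [hnt g hg u hu, hnt g hg _ (hJ.inv u hu)]⟩
  obtain ⟨W, J₁, hWU, hWne, hWev, hW, hJ₁, hWi, hJ₁c⟩ := exists_root_step p h2 hrp hr2 hQ hδ h4 G hG hU hUi hnt
  obtain ⟨Y, hYU, hY, hperp, hsum, hYd, rfl⟩ := ndq_compl hQ hU hW hWU
  have hYi : ∀ g ∈ G, Inv (act g) ((quadSF hQ).perp W ⊓ U) := fun g hg v hv =>
    ⟨(quad_isom (hQ := hQ) (act_q g)).inv_perp (hWi g hg) v hv.1, hUi g hg v hv.2⟩
  have hpos : 0 < finrank F W := Submodule.one_le_finrank_iff.2 hWne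
  obtain ⟨J₂, hJ₂, hJ₂c⟩ := ih _ (by omega) _ rfl hY (by
    obtain ⟨a, ha⟩ := hev
    obtain ⟨b, hb⟩ := hWev
    exact ⟨a - b, by omega⟩) hYi
  obtain ⟨J, hJ, hJA, hJB⟩ := root_join hQ hW hperp hsum hJ₁ hJ₂
  refine ⟨J, hJ, fun g hg u hu => ?_⟩
  rw [← hsum] at hu
  obtain ⟨a, ha, b, hb, rfl⟩ := Submodule.mem_sup.1 hu
  simp only [map_add]
  rw [hJA _ (hWi g hg a ha), hJB _ (hYi g hg b hb), hJA a ha, hJB b hb, hJ₁c g hg a ha, hJ₂c g hg b hb]

end Cfsg.Agent.Elusive
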