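import Cfsg.Agent.Lib.Elusive.OrthExtFix
import Cfsg.Agent.Lib.Elusive.FormNd
import Cfsg.Agent.Lib.Classical.Symplectic

/-!
Elements of odd prime order commuting with no self-adjoint root of a non-square.
-/

set_option autoImplicit false
set_option linter.all false
set_option maxHeartbeats 1600000

namespace Cfsg.Agent.Elusive

open Module QuadraticMap Polynomial

variable {F : Type*} [Field F] [Fintype F] {κ : Type} [Fintype κ] [DecidableEq κ] {Q : QuadraticForm F (κ → F)} {δ : F}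

local notation "act" g => Matrix.toLin' ((g : GL κ F) : Matrix κ κ F)

/-- No self-adjoint root of a non-square commutes with `X`. -/
def NoRoot (Q : QuadraticForm F (κ → F)) (X : Module.End F (κ → F)) : Prop :=
  ∀ (δ : F) (J : Module.End F (κ → F)), ¬ IsSquare δ → SARoot Q δ ⊤ J → (∀ v, J (X v) = X (J v)) → False

lemma act_pow (g : ↥(Cfsg.isometryGroup F (⇑Q))) (k : ℕ) :
    (act (g ^ k : ↥(Cfsg.isometryGroup F (⇑Q)))) = (act g) ^ k := by
  rw [SubmonoidClass.coe_pow, Units.val_pow_eq_pow_val, Matrix.toLin'_pow]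

/-- Powers of a non-square to half the group orders. -/
lemma half_pow (h2 : (2 : F) ≠ 0) (hδ : ¬ IsSquare δ) : ∀ h : ℕ,
    δ ^ ((Fintype.card F ^ h - 1) / 2) = (-1) ^ h := by
  have hchar : ringChar F ≠ 2 := fun h => h2 (by haveI := ringChar.of_eq h; exact CharTwo.two_eq_zero)
  have hodd := FiniteField.odd_card_of_char_ne_two hchar
  have hδ0 : δ ≠ 0 := fun h => hδ (h ▸ IsSquare.zero)
  have h1 : δ ^ ((Fintype.card F - 1) / 2) = -1 := by
    have e : (Fintype.card F - 1) / 2 = Fintype.card F / 2 := by omega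
    rw [e]
    exact ((FiniteField.pow_dichotomy hchar hδ0).resolve_left fun h => hδ ((FiniteField.isSquare_iff hchar hδ0).2 h))
  intro h
  induction h with
  | zero => simp
  | succ h ih =>
    obtain ⟨a, ha⟩ : ∃ a, Fintype.card F ^ h = 2 * a + 1 :=
      ⟨Fintype.card F ^ h / 2, by have : Fintype.card F ^ h % 2 = 1 := Nat.odd_iff.1 ((Nat.odd_iff.2 hodd).pow); omega⟩
    obtain ⟨b, hb⟩ : ∃ b, Fintype.card F = 2 * b + 1 := ⟨Fintype.card F / 2, by omega⟩
    have e : (Fintype.card F ^ (h + 1) - 1) / 2 = a * Fintype.card F + (Fintype.card F - 1) / 2 := by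
      rw [pow_succ, ha, hb, show (2 * a + 1) * (2 * b + 1) - 1 = 2 * (a * (2 * b + 1) + b) by
        rw [show (2 * a + 1) * (2 * b + 1) = 2 * (a * (2 * b + 1) + b) + 1 by ring]; omega]
      omega
    rw [e, pow_add, pow_mul, FiniteField.pow_card, h1, pow_succ]
    rw [show a = (Fintype.card F ^ h - 1) / 2 by omega, ih]

section space
variable {r : ℕ} [Fact r.Prime] {T : Module.End F (κ → F)}

/-- A square root made of a polynomial in an isometry, seen from the inverse. -/
lemma aeval_inv_root (h2 : (2 : F) ≠ 0) (hδ : ¬ IsSquare δ) (hr2 : r ≠ 2) (hT : T ^ r = 1) {h : ℕ} (hh : 0 < h)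
    (hi : h + h = orderOf (Fintype.card F : ZMod r)) {P : F[X]} {W : Submodule F (κ → F)}
    (hW : ∀ u ∈ W, aeval T P u ∈ W) (hsq : ∀ u ∈ W, aeval T P (aeval T P u) = δ • u) :
    ∀ u ∈ W, aeval (T ^ (r - 1)) P u = (-1 : F) ^ h • aeval T P u := by
  intro u hu
  have hP : r.Prime := Fact.out
  have hneg : ((Fintype.card F ^ h : ℕ) : ZMod r) = ((r - 1 : ℕ) : ZMod r) := by
    rw [Nat.cast_sub hP.one_lt.le, ZMod.natCast_self, Nat.cast_one, zero_sub, Nat.cast_pow, pow_half (F := F) hr2 hh hi]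
  have hTm : T ^ (r - 1) = T ^ Fintype.card F ^ h := by
    have hk : ∀ a, T ^ a = T ^ (a % r) := fun a => by
      conv_lhs => rw [← Nat.mod_add_div a r, pow_add, pow_mul, hT, one_pow, mul_one]
    rw [hk (r - 1), hk (Fintype.card F ^ h), ((ZMod.natCast_eq_natCast_iff' _ _ _).1 hneg).symm]
  have hexp : ∀ j, expand F (Fintype.card F ^ j) P = P ^ Fintype.card F ^ j := fun j => by
    induction j with
    | zero => simp
    | succ j ih => rw [pow_succ', ← expand_expand, ih, map_pow, FiniteField.expand_card, ← pow_mul]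
  have hpow : ∀ m, (aeval T P ^ (2 * m + 1)) u = δ ^ m • aeval T P u := fun m => by
    induction m with
    | zero => simp
    | succ m ih =>
      rw [show 2 * (m + 1) + 1 = 2 + (2 * m + 1) by ring, pow_add, Module.End.mul_apply, ih, map_smul, pow_two,
        Module.End.mul_apply, hsq _ (hW u hu), smul_smul, ← pow_succ]
  have hchar : ringChar F ≠ 2 := fun h => h2 (by haveI := ringChar.of_eq h; exact CharTwo.two_eq_zero)
  have hoddh : Fintype.card F ^ h % 2 = 1 :=
    Nat.odd_iff.1 ((Nat.odd_iff.2 (FiniteField.odd_card_of_char_ne_two hchar)).pow)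
  rw [hTm, ← expand_aeval, hexp, map_pow,
    show Fintype.card F ^ h = 2 * ((Fintype.card F ^ h - 1) / 2) + 1 by omega, hpow, half_pow h2 hδ]

/-- Two lies outside the fixed space. -/
lemma eq_zero_of_sq_fixed (hr2 : r ≠ 2) (hT : T ^ r = 1) (hr : (r : F) ≠ 0) {v : κ → F} (hv : v ∈ movedSpace T r)
    (h : T (T v) = v) : v = 0 := by
  obtain ⟨k, hk⟩ := (Fact.out : r.Prime).odd_of_ne_two hr2
  have h' : ∀ m, (T ^ (2 * m)) v = v := fun m => by
    induction m with
    | zero => simp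
    | succ m ih => rw [show 2 * (m + 1) = 2 * m + 2 by ring, pow_add, Module.End.mul_apply, pow_two, Module.End.mul_apply, h, ih]
  refine eq_zero_of_fixed_moved hr (mem_fixedSpace.2 ?_) hv
  calc T v = T ((T ^ (2 * k)) v) := by rw [h']
    _ = (T ^ r) v := by rw [hk, pow_succ' T (2 * k), Module.End.mul_apply]
    _ = v := by rw [hT]; rfl

/-- No invariant symmetric form on a moved subspace of odd dimension. -/
lemma no_odd_form (hr2 : r ≠ 2) (hT : T ^ r = 1) (hr : (r : F) ≠ 0) {X : Submodule F (κ → F)} (hXi : Inv T X)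
    (hXM : X ≤ movedSpace T r) (hodd : Odd (finrank F X)) (β : LinearMap.BilinForm F X)
    (hsym : ∀ u v, β u v = β v u) (hnd : ∀ u, (∀ v, β u v = 0) → u = 0)
    (hinv : ∀ u v, β (T.restrict hXi u) (T.restrict hXi v) = β u v) : False := by
  obtain ⟨S, hS⟩ : ∃ S, S = T.restrict hXi := ⟨_, rfl⟩
  rw [← hS] at hinv
  let γ : LinearMap.BilinForm F X := β.comp S LinearMap.id - β.comp LinearMap.id S
  have hγ : ∀ u v, γ u v = β (S u) v - β u (S v) := fun u v => by simp [γ]
  have halt : γ.IsAlt := fun u => by rw [hγ, hsym (S u) u, sub_self]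
  have hleft : ∀ u, (∀ v, γ u v = 0) → u = 0 := fun u hu => by
    have hD : Function.Injective (S * S - 1 : Module.End F X) := (injective_iff_map_eq_zero _).2 fun v hv => by
      refine Subtype.ext (eq_zero_of_sq_fixed hr2 hT hr (hXM v.2) ?_)
      rw [LinearMap.sub_apply, Module.End.mul_apply, Module.End.one_apply, sub_eq_zero] at hv
      have := congrArg Subtype.val hv
      rw [hS] at this
      exact this
    refine hnd u fun v => ?_
    obtain ⟨w, rfl⟩ := (LinearMap.injective_iff_surjective.1 hD) v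
    rw [LinearMap.sub_apply, Module.End.mul_apply, Module.End.one_apply, map_sub]
    have := hu (S w)
    rw [hγ, hinv] at this
    linear_combination -this
  obtain ⟨k, hk⟩ := AltForm.exists_finrank_eq halt ⟨hleft, fun u hu => hleft u fun v => by
    rw [← LinearMap.BilinForm.IsAlt.neg_eq halt, hu, neg_zero]⟩
  rw [Nat.odd_iff] at hodd
  omega

/-- A piece of a given element, extended trivially. -/
lemma exists_piece_elt [DecidableEq F] (p : ℕ) [Fact p.Prime] [CharP F p] (hrp : r ≠ p) (hr2 : r ≠ 2)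
    (hQ : (polarBilin Q).Nondegenerate) (hT : T ^ r = 1) (e : ∀ v, Q (T v) = Q v) {Y : Submodule F (κ → F)}
    (hYi : Inv T Y) (hYM : Y ≤ movedSpace T r) (hY : NDQ Q Y) (hYne : Y ≠ ⊥) :
    ∃ S : ↥(Cfsg.isometryGroup F (⇑Q)), (S : GL κ F) ∈ Cfsg.Geo.omegaGL (⇑Q) ∧ S ^ r = 1 ∧ S ≠ 1 ∧
      (∀ v ∈ Y, (act S) v = T v) ∧ ∀ J : Module.End F (κ → F), (∀ v, J ((act S) v) = (act S) (J v)) → Inv J Y := by
  have hr : (r : F) ≠ 0 := fun h => hrp (by
    rw [CharP.cast_eq_zero_iff F p] at h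
    exact ((Nat.prime_dvd_prime_iff_eq Fact.out Fact.out).1 h).symm)
  have hc : IsCompl Y ((quadSF hQ).perp Y) := (quadSF hQ).isCompl_perp hY
  obtain ⟨S, hSdef⟩ : ∃ S, S = LinearMap.ofIsCompl hc (T ∘ₗ Y.subtype) ((quadSF hQ).perp Y).subtype := ⟨_, rfl⟩
  have hSa : ∀ a ∈ Y, S a = T a := fun a ha => by rw [hSdef]; exact LinearMap.ofIsCompl_left_apply hc ⟨a, ha⟩
  have hSb : ∀ b, b ∈ (quadSF hQ).perp Y → S b = b := fun b hb => by
    rw [hSdef]; exact LinearMap.ofIsCompl_right_apply hc ⟨b, hb⟩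
  have hdec : ∀ v, ∃ a ∈ Y, ∃ b, b ∈ (quadSF hQ).perp Y ∧ a + b = v := fun v =>
    Submodule.mem_sup.1 (hc.sup_eq_top ▸ Submodule.mem_top (x := v))
  have hSk : ∀ (k : ℕ), (∀ a ∈ Y, (S ^ k) a = (T ^ k) a) ∧ ∀ b, b ∈ (quadSF hQ).perp Y → (S ^ k) b = b := by
    intro k
    induction k with
    | zero => simp
    | succ k ih =>
      refine ⟨fun a ha => ?_, fun b hb => ?_⟩
      · rw [pow_succ', pow_succ', Module.End.mul_apply, Module.End.mul_apply, ih.1 a ha, hSa _ (hYi.pow k a ha)]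
      · rw [pow_succ', Module.End.mul_apply, ih.2 b hb, hSb b hb]
  have hSq : ∀ v, Q (S v) = Q v := fun v => by
    obtain ⟨a, ha, b, hb, rfl⟩ := hdec v
    rw [map_add, hSa a ha, hSb b hb, QuadraticMap.map_add Q, QuadraticMap.map_add Q, e,
      show polar Q (T a) b = 0 from hb _ (hYi a ha), show polar Q a b = 0 from hb a ha]
  have hSr : S ^ r = 1 := LinearMap.ext fun v => by
    obtain ⟨a, ha, b, hb, rfl⟩ := hdec v
    rw [map_add, (hSk r).1 a ha, (hSk r).2 b hb, hT]; simp
  let G : (κ → F) ≃ₗ[F] (κ → F) := LinearEquiv.ofLinear S (S ^ (r - 1))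
    (by show S * S ^ (r - 1) = 1; rw [← pow_succ', Nat.sub_add_cancel (Fact.out : r.Prime).one_lt.le, hSr])
    (by show S ^ (r - 1) * S = 1; rw [← pow_succ, Nat.sub_add_cancel (Fact.out : r.Prime).one_lt.le, hSr])
  obtain ⟨c, hc'⟩ := exists_act (Q := Q) G hSq
  have hcS : (act c) = S := LinearMap.ext hc'
  have hcr : c ^ r = 1 := Subtype.ext (Units.ext (Matrix.toLin'.injective (by
    rw [act_pow, hcS, hSr]; simp [Module.End.one_eq_id])))
  refine ⟨c, mem_omega_of_pow p hQ hr2 hrp c hcr, hcr, fun h1 => ?_, fun v hv => by rw [hcS, hSa v hv], fun J hJ v hv => ?_⟩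
  · obtain ⟨u, hu, hu0⟩ := Submodule.exists_mem_ne_zero_of_ne_bot hYne
    refine hu0 (eq_zero_of_fixed_moved hr (mem_fixedSpace.2 ?_) (hYM hu))
    rw [← hSa u hu, ← hcS, h1]; simp
  · rw [hcS] at hJ
    have hk : ∀ k, J ((S ^ k) v) = (S ^ k) (J v) := fun k => by
      induction k with
      | zero => simp
      | succ k ih => rw [pow_succ', Module.End.mul_apply, Module.End.mul_apply, hJ, ih]
    obtain ⟨a, ha, b, hb, hab⟩ := hdec (J v)
    have hv' : ∑ k ∈ Finset.range r, (T ^ k) v = 0 := by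
      have := hYM hv
      rwa [movedSpace, LinearMap.mem_ker, LinearMap.sum_apply] at this
    have h0 : ∑ k ∈ Finset.range r, (S ^ k) (J v) = 0 := by
      rw [← Finset.sum_congr rfl fun k _ => hk k, ← map_sum, Finset.sum_congr rfl fun k _ => (hSk k).1 v hv, hv', map_zero]
    rw [← hab, Finset.sum_congr rfl fun k _ => by rw [map_add, (hSk k).1 a ha, (hSk k).2 b hb], Finset.sum_add_distrib,
      Finset.sum_const, Finset.card_range, ← Nat.cast_smul_eq_nsmul F] at h0
    have hb0 : (r : F) • b = 0 := Submodule.disjoint_def.1 hc.disjoint _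
      (by rw [eq_neg_of_add_eq_zero_right h0]; exact Y.neg_mem (Submodule.sum_mem _ fun k _ => hYi.pow k a ha))
      (Submodule.smul_mem _ _ hb)
    rw [← hab, (smul_eq_zero.1 hb0).resolve_left hr, add_zero]
    exact ha

/-- Derangements of order `r ≠ p` when the order of `q` is not divisible by four. -/
theorem exists_noRoot [DecidableEq F] (p : ℕ) [Fact p.Prime] [CharP F p] (h2 : (2 : F) ≠ 0) (hrp : r ≠ p) (hr2 : r ≠ 2)
    (hQ : (polarBilin Q).Nondegenerate) (hT : T ^ r = 1) (e : ∀ v, Q (T v) = Q v) (hne : movedSpace T r ≠ ⊥)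
    (h4 : orderOf (Fintype.card F : ZMod r) % 4 ≠ 0) :
    ∃ S : ↥(Cfsg.isometryGroup F (⇑Q)), (S : GL κ F) ∈ Cfsg.Geo.omegaGL (⇑Q) ∧ S ^ r = 1 ∧ S ≠ 1 ∧
      NoRoot Q (act S) := by
  have hr : (r : F) ≠ 0 := fun h => hrp (by
    rw [CharP.cast_eq_zero_iff F p] at h
    exact ((Nat.prime_dvd_prime_iff_eq Fact.out Fact.out).1 h).symm)
  have hI := quad_isom (hQ := hQ) e
  obtain ⟨i, hi⟩ : ∃ i, i = orderOf (Fintype.card F : ZMod r) := ⟨_, rfl⟩
  have hi0 : 0 < i := hi ▸ orderOf_card_pos hr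
  rw [← hi] at h4
  rcases Nat.even_or_odd i with hev | hodd
  swap
  · obtain ⟨X, hXi, hXM, hXd⟩ := SForm.exists_minimal hT hr inv_moved le_rfl hne
    rw [← hi] at hXd
    have hoddX : Odd (finrank F X) := hXd ▸ hodd
    have hiso : ∀ u ∈ X, ∀ v ∈ X, polar Q u v = 0 := by
      refine (SForm.minimal_dichotomy (Φ := quadSF hQ) hT hr hI hXi hXM (hXd.trans hi)).resolve_left fun hnd => ?_
      refine no_odd_form hr2 hT hr hXi hXM hoddX (LinearMap.BilinForm.comp (polarBilin Q) X.subtype X.subtype) (fun u v => polar_comm _ _ _)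
        (fun u hu => Subtype.ext (hnd u.1 u.2 fun v hv => hu ⟨v, hv⟩)) (fun u v => ?_)
      show polar Q (T u) (T v) = polar Q u v
      simp only [polar, ← map_add, e]
    obtain ⟨Y₀, hY₀⟩ : ∃ Y₀, Y₀ = movedSpace T r := ⟨_, rfl⟩
    obtain ⟨Y, hYi, hYM, hY, hYd⟩ := SForm.exists_pair (Φ := quadSF hQ) (c := 1) (by rw [hT, one_smul]) one_ne_zero hr hI
      (SForm.nd_moved hT hr hI) inv_moved hXi hXM hiso
    rw [hXd] at hYd
    -- Y need not contain X; take a minimal piece of Y
    obtain ⟨X', hX'i, hX'Y, hX'd⟩ := SForm.exists_minimal hT hr hYi hYM (fun h => by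
      rw [h, finrank_bot] at hYd; omega)
    rw [← hi] at hX'd
    have hiso' : ∀ u ∈ X', ∀ v ∈ X', polar Q u v = 0 := by
      refine (SForm.minimal_dichotomy (Φ := quadSF hQ) hT hr hI hX'i (hX'Y.trans hYM) (hX'd.trans hi)).resolve_left fun hnd => ?_
      refine no_odd_form hr2 hT hr hX'i (hX'Y.trans hYM) (hX'd ▸ hodd) (LinearMap.BilinForm.comp (polarBilin Q) X'.subtype X'.subtype)
        (fun u v => polar_comm _ _ _) (fun u hu => Subtype.ext (hnd u.1 u.2 fun v hv => hu ⟨v, hv⟩)) (fun u v => ?_)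
      show polar Q (T u) (T v) = polar Q u v
      simp only [polar, ← map_add, e]
    obtain ⟨S, hSΩ, hSr, hS1, hST, hSJ⟩ := exists_piece_elt p hrp hr2 hQ hT e hYi hYM hY
      (fun h => by rw [h, finrank_bot] at hYd; omega)
    refine ⟨S, hSΩ, hSr, hS1, fun δ J hδ hJ hcomm => ?_⟩
    have hJY := hSJ J hcomm
    have hTJ : ∀ v ∈ Y, J (T v) = T (J v) := fun v hv => by rw [← hST v hv, hcomm, hST _ (hJY v hv)]
    have hJinj : Function.Injective J := (injective_iff_map_eq_zero J).2 fun v hv => by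
      have := hJ.sq v trivial
      rw [hv, map_zero] at this
      exact (smul_eq_zero.1 this.symm).resolve_left fun h => hδ (h ▸ IsSquare.zero)
    obtain ⟨Z, hZ⟩ : ∃ Z, Z = X' ⊓ X'.map J := ⟨_, rfl⟩
    have hZi : Inv T Z := fun v hv => by
      rw [hZ] at hv ⊢
      refine ⟨hX'i v hv.1, ?_⟩
      obtain ⟨u, hu, rfl⟩ := hv.2
      exact ⟨T u, hX'i u hu, hTJ u (hX'Y hu)⟩
    have hmapd : finrank F (X'.map J) = i := by
      rw [← hX'd]; exact (Submodule.equivMapOfInjective J hJinj X').finrank_eq.symm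
    obtain ⟨k, hk⟩ := dvd_finrank_moved hT hr hZi (hZ ▸ inf_le_left.trans (hX'Y.trans hYM))
    have hZle : finrank F Z ≤ i := hX'd ▸ hZ ▸ Submodule.finrank_mono inf_le_left
    rcases Nat.eq_zero_or_pos k with rfl | hk0
    · rw [mul_zero] at hk
      have hsum := Submodule.finrank_sup_add_finrank_inf_eq X' (X'.map J)
      rw [← hZ, hk, add_zero, hX'd, hmapd] at hsum
      have hle : X' ⊔ X'.map J ≤ Y := sup_le hX'Y (by rintro _ ⟨u, hu, rfl⟩; exact hJY u (hX'Y hu))
      have heq : X' ⊔ X'.map J = Y := Submodule.eq_of_le_of_finrank_eq hle (by omega)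
      refine no_odd_form hr2 hT hr hX'i (hX'Y.trans hYM) (hX'd ▸ hodd)
        (LinearMap.BilinForm.comp (polarBilin Q) X'.subtype (J ∘ₗ X'.subtype)) (fun u v => ?_) (fun u hu => ?_) (fun u v => ?_)
      · show polar Q u.1 (J v.1) = polar Q v.1 (J u.1)
        rw [← hJ.sa v.1 trivial u.1 trivial, polar_comm]
      · refine Subtype.ext (hY u.1 (hX'Y u.2) fun w hw => ?_)
        rw [← heq] at hw
        obtain ⟨a, ha, _, ⟨b, hb, rfl⟩, rfl⟩ := Submodule.mem_sup.1 hw
        show polar Q u.1 (a + J b) = 0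
        rw [polar_add_right, hiso' _ u.2 _ ha, zero_add]
        exact hu ⟨b, hb⟩
      · show polar Q (T u.1) (J (T v.1)) = polar Q u.1 (J v.1)
        rw [hTJ _ (hX'Y v.2)]
        simp only [polar, ← map_add, e]
    · have hZd : finrank F Z = i := le_antisymm hZle (by rw [hk, ← hi]; exact Nat.le_mul_of_pos_right i hk0)
      have h1 : Z = X' := Submodule.eq_of_le_of_finrank_eq (hZ ▸ inf_le_left) (hZd.trans hX'd.symm)
      have h3 : Z = X'.map J := Submodule.eq_of_le_of_finrank_eq (hZ ▸ inf_le_right) (hZd.trans hmapd.symm)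
      have hJX : Inv J X' := fun v hv => by
        rw [← h1, h3]; exact ⟨v, hv, rfl⟩
      have hsq : J.restrict hJX * J.restrict hJX = δ • 1 := LinearMap.ext fun v => Subtype.ext (hJ.sq v.1 trivial)
      have h4' := congrArg LinearMap.det hsq
      rw [map_mul, LinearMap.det_smul, map_one, mul_one, hX'd] at h4'
      obtain ⟨m, rfl⟩ := hodd
      have hδ0 : δ ≠ 0 := fun h => hδ (h ▸ IsSquare.zero)
      refine hδ ⟨LinearMap.det (J.restrict hJX) / δ ^ m, ?_⟩
      rw [div_mul_div_comm, h4', eq_div_iff (mul_ne_zero (pow_ne_zero _ hδ0) (pow_ne_zero _ hδ0))]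
      ring
  obtain ⟨h, hh⟩ := hev
  have hho : Odd h := Nat.odd_iff.2 (by omega)
  -- a minimal non-degenerate piece
  obtain ⟨Y, hYi, hYM, hY, hYd⟩ : ∃ Y : Submodule F (κ → F), Inv T Y ∧ Y ≤ movedSpace T r ∧ NDQ Q Y ∧ finrank F Y = i := by
    obtain ⟨u, hu, hu0⟩ := Submodule.exists_mem_ne_zero_of_ne_bot hne
    have hne' : (Polynomial.X ^ r - 1 : F[X]) ≠ 0 := (monic_X_pow_sub_C (1 : F) (Fact.out : r.Prime).ne_zero).ne_zero
    obtain ⟨g, hgm, hgi, hgd, v₀, hv₀M, hv₀, hgv₀⟩ := exists_irreducible_vec (W := ⊥) (U := movedSpace T r) inv_moved _ hne' u hu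
      (by rwa [Submodule.mem_bot]) (by simp [hT])
    rw [Submodule.mem_bot] at hgv₀ hv₀
    have hK : NDQ Q (LinearMap.ker (aeval T g)) := nd_ker p hT hr hr2 hI (hi ▸ ⟨h, hh⟩) hgd
    have hg1 : g ≠ X - C 1 := fun hg => hv₀ (by
      rw [hg] at hgv₀
      simp [sub_eq_zero] at hgv₀
      exact eq_zero_of_fixed_moved hr (mem_fixedSpace.2 hgv₀) hv₀M)
    have hgdeg : g.natDegree = i := hi ▸ LBRootPoly.natDegree_factor Fact.out hgm hgi hgd hg1
    have hKM : LinearMap.ker (aeval T g) ≤ movedSpace T r := fun w hw => by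
      have hdvd : g ∣ (∑ k ∈ Finset.range r, X ^ k) := by
        refine (hgi.prime.dvd_or_dvd (show g ∣ (∑ k ∈ Finset.range r, X ^ k) * (X - 1) by rwa [geom_sum_mul])).resolve_right
          fun hd => hg1 (eq_of_monic_of_associated hgm (monic_X_sub_C 1)
            (hgi.associated_of_dvd (irreducible_X_sub_C 1) (by rwa [C_1])))
      obtain ⟨t, ht⟩ := hdvd
      rw [movedSpace, LinearMap.mem_ker, show (∑ k ∈ Finset.range r, T ^ k) = aeval T (∑ k ∈ Finset.range r, (X : F[X]) ^ k) by simp,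
        ht, mul_comm, map_mul, Module.End.mul_apply, LinearMap.mem_ker.1 hw, map_zero]
    obtain ⟨w, hw, hQw⟩ := exists_ne_zero_in hK (Submodule.one_le_finrank_iff.2 fun hb => hv₀ (by
      have : v₀ ∈ LinearMap.ker (aeval T g) := hgv₀
      rwa [hb, Submodule.mem_bot] at this))
    have hinv : Inv T (⊥ ⊔ cyc T w g.natDegree) :=
      inv_sup_cyc (fun w hw => by simp_all) hgm (by rw [Submodule.mem_bot]; exact hw)
    rw [bot_sup_eq, hgdeg] at hinv
    have hKi : Inv T (LinearMap.ker (aeval T g)) := fun v hv => by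
      rw [LinearMap.mem_ker] at hv ⊢
      rw [← Module.End.mul_apply, ((Commute.refl T).symm |> fun _ => show aeval T g * T = T * aeval T g by
        simpa only [map_mul, aeval_X] using congrArg (aeval T) (mul_comm g (X : F[X]))), Module.End.mul_apply, hv, map_zero]
    have hwM := (cyc_le hKi hw i).trans hKM
    have hwc := mem_cyc T w hi0
    have hd : finrank F (cyc T w i) = i := by
      obtain ⟨X', hX'i, hX'c, hX'd⟩ := SForm.exists_minimal hT hr hinv hwM fun hb => hQw (by
        rw [hb, Submodule.mem_bot] at hwc; rw [hwc, map_zero])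
      have h1 := Submodule.finrank_mono hX'c
      have h3 := finrank_cyc_le T w i
      omega
    refine ⟨_, hinv, hwM, (SForm.minimal_dichotomy (Φ := quadSF hQ) hT hr hI hinv hwM (hd.trans hi)).resolve_right fun hz => ?_, hd⟩
    have := hz w hwc w hwc
    change polar Q w w = 0 at this
    rw [polar_diag] at this
    exact mul_ne_zero h2 hQw this
  obtain ⟨S, hSΩ, hSr, hS1, hST, hSJ⟩ := exists_piece_elt p hrp hr2 hQ hT e hYi hYM hY
    (fun hb => by rw [hb, finrank_bot] at hYd; omega)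
  refine ⟨S, hSΩ, hSr, hS1, fun δ J hδ hJ hcomm => ?_⟩
  have hJY := hSJ J hcomm
  have hTJ : ∀ v ∈ Y, J (T v) = T (J v) := fun v hv => by rw [← hST v hv, hcomm, hST _ (hJY v hv)]
  obtain ⟨v, hv, hv0⟩ := Submodule.exists_mem_ne_zero_of_ne_bot (show Y ≠ ⊥ from fun hb => by
    rw [hb, finrank_bot] at hYd; omega)
  -- Y is cyclic
  obtain ⟨u, hu, hu0⟩ : ∃ u ∈ Y, u ≠ 0 := ⟨v, hv, hv0⟩
  obtain ⟨C', hC'⟩ : ∃ C', C' = Submodule.span F (Set.range fun l : ℕ => (T ^ l) v) := ⟨_, rfl⟩
  have hC'Y : C' ≤ Y := hC' ▸ Submodule.span_le.2 (by rintro _ ⟨l, rfl⟩; exact hYi.pow l v hv)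
  have hC'i : Inv T C' := fun w hw => by
    rw [hC'] at hw ⊢
    induction hw using Submodule.span_induction with
    | mem x hx => obtain ⟨l, rfl⟩ := hx; exact Submodule.subset_span ⟨l + 1, by show (T ^ (l + 1)) v = T ((T ^ l) v); rw [pow_succ', Module.End.mul_apply]⟩
    | zero => rw [map_zero]; exact Submodule.zero_mem _
    | add x y _ _ a b => rw [map_add]; exact Submodule.add_mem _ a b
    | smul c x _ a => rw [map_smul]; exact Submodule.smul_mem _ _ a
  have hC'eq : C' = Y := by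
    obtain ⟨k, hk⟩ := dvd_finrank_moved hT hr hC'i (hC'Y.trans hYM)
    refine Submodule.eq_of_le_of_finrank_le hC'Y ?_
    rcases Nat.eq_zero_or_pos k with rfl | hk0
    · rw [mul_zero, Submodule.finrank_eq_zero] at hk
      have : v ∈ C' := hC' ▸ Submodule.subset_span ⟨0, by simp⟩
      rw [hk, Submodule.mem_bot] at this
      exact absurd this hv0
    · rw [hYd, hk, hi]; exact Nat.le_mul_of_pos_right _ hk0
  obtain ⟨P, hP⟩ : ∃ P : F[X], aeval T P v = J v := by
    have hmem : J v ∈ C' := hC'eq ▸ hJY v hv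
    rw [hC', Finsupp.mem_span_range_iff_exists_finsupp] at hmem
    obtain ⟨c, hc⟩ := hmem
    refine ⟨∑ l ∈ c.support, monomial l (c l), ?_⟩
    rw [← hc, Finsupp.sum, map_sum, LinearMap.sum_apply]
    exact Finset.sum_congr rfl fun l _ => by rw [aeval_monomial, Module.End.mul_apply, Module.algebraMap_end_apply]
  have hJP : ∀ w ∈ Y, J w = aeval T P w := by
    intro w hw
    rw [← hC'eq, hC'] at hw
    induction hw using Submodule.span_induction with
    | mem x hx =>
      obtain ⟨l, rfl⟩ := hx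
      have h1 : ∀ l, J ((T ^ l) v) = (T ^ l) (J v) := fun l => by
        induction l with
        | zero => simp
        | succ l ih => rw [pow_succ', Module.End.mul_apply, Module.End.mul_apply, hTJ _ (hYi.pow l v hv), ih]
      show J ((T ^ l) v) = aeval T P ((T ^ l) v)
      rw [h1, ← hP, ← Module.End.mul_apply, ← Module.End.mul_apply]
      have hcm : T ^ l * aeval T P = aeval T P * T ^ l := by
        simpa only [map_mul, map_pow, aeval_X] using congrArg (aeval T) (mul_comm ((X : F[X]) ^ l) P)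
      exact LinearMap.congr_fun hcm v
    | zero => simp
    | add x y _ _ a b => rw [map_add, map_add, a, b]
    | smul c x _ a => rw [map_smul, map_smul, a]
  have hPY : ∀ w ∈ Y, aeval T P w ∈ Y := fun w hw => hYi.aeval P hw
  have hinvP := aeval_inv_root h2 hδ hr2 hT (h := h) (by omega) (by omega) hPY
    (fun w hw => by rw [← hJP w hw, ← hJP _ (hJY w hw), hJ.sq w trivial]) 
  refine hv0 ?_
  have hJv : J v = 0 := hY _ (hJY v hv) fun w hw => by
    have h1 : polar Q w (aeval T P v) = polar Q (aeval (T ^ (r - 1)) P w) v := adjoint_aeval (Φ := quadSF hQ) hT hI P w v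
    rw [hinvP w hw, ← hJP v hv, ← hJP w hw, hho.neg_one_pow, neg_one_smul, polar_neg_left, hJ.sa w trivial v trivial] at h1
    rw [polar_comm]
    exact (mul_eq_zero.1 (show (2 : F) * polar Q w (J v) = 0 by linear_combination h1)).resolve_left h2
  have := hJ.sq v trivial
  rw [hJv, map_zero] at this
  exact (smul_eq_zero.1 this.symm).resolve_left fun hh => hδ (hh ▸ IsSquare.zero)

end space

/-- Long root elements. -/
theorem exists_noRoot_p (p : ℕ) [Fact p.Prime] [CharP F p] (h2 : (2 : F) ≠ 0) (hp2 : p ≠ 2)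
    (hQ : (polarBilin Q).Nondegenerate) (hn : 4 ≤ Fintype.card κ) :
    ∃ S : ↥(Cfsg.isometryGroup F (⇑Q)), (S : GL κ F) ∈ Cfsg.Geo.omegaGL (⇑Q) ∧ S ^ p = 1 ∧ S ≠ 1 ∧
      NoRoot Q (act S) := by
  classical
  have htop : NDQ Q (⊤ : Submodule F (κ → F)) := fun u _ h => hQ.1 u fun v => h v trivial
  have htd : finrank F (⊤ : Submodule F (κ → F)) = Fintype.card κ := by rw [finrank_top, Module.finrank_fintype_fun_eq_card]
  obtain ⟨u, -, hu0, hQu⟩ := exists_sing_vec (Q := Q) (S := ⊤) (by omega)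
  obtain ⟨f, -, hQf, huf⟩ := exists_hyp htop (Submodule.mem_top (x := u)) hu0 hQu
  obtain ⟨hH, hHd⟩ := plane_span huf (by rw [hQu, zero_mul, mul_zero]; exact zero_ne_one)
  obtain ⟨Y, -, hY, hperp, -, hYd, -⟩ := ndq_compl hQ htop hH le_top
  obtain ⟨y, hy, hy0⟩ := exists_ne_zero_in hY (by omega)
  have huy : polar Q u y = 0 := hperp u (Submodule.subset_span (Or.inl rfl)) y hy
  obtain ⟨g, hg, hgS⟩ := Orth.exists_siegel hQu huy
  obtain ⟨c, hc⟩ := exists_act (Q := Q) g hg
  have hpow : ∀ m : ℕ, ∀ x, ((act c) ^ m) x = Orth.siegelMap Q u ((m : F) • y) x := by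
    intro m
    induction m with
    | zero => intro x; rw [Nat.cast_zero, zero_smul, Orth.siegelMap_zero]; simp
    | succ m ih =>
      intro x
      rw [pow_succ', Module.End.mul_apply, ih, hc, hgS]
      show Orth.siegelMap Q u y _ = _
      rw [Orth.siegelMap_comp hQu huy (by rw [polar_smul_right, huy, smul_zero]), Nat.cast_succ, add_smul, one_smul,
        add_comm y]
  have hcp : c ^ p = 1 := Subtype.ext (Units.ext (Matrix.toLin'.injective (LinearMap.ext fun x => by
    rw [act_pow, hpow, CharP.cast_eq_zero, zero_smul, Orth.siegelMap_zero]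
    simp)))
  have hq : Fintype.card F ≠ 2 ∨ Fintype.card κ ≠ 4 := Or.inl fun hc' => h2 (by
    have h := Nat.cast_card_eq_zero F; rw [hc'] at h; exact_mod_cast h)
  obtain ⟨χ, hker, -, hχ⟩ := Orth.exists_matrix_spinor Q hQ (by omega) hq
  have hsv : ∀ a : Orth.SpinVal F, a * a = 1 := fun a => by
    refine Prod.ext ((show ∀ x : Multiplicative (ZMod 2), x * x = 1 by decide) a.1) ?_
    obtain ⟨t, ht⟩ := QuotientGroup.mk_surjective a.2
    show a.2 * a.2 = 1
    rw [← ht, ← Orth.sqc_unit, Orth.sqc_mul_self t.ne_zero]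
  have hmem : c ∈ Cfsg.Omega F (⇑Q) := by
    obtain ⟨k, hk⟩ := (Fact.out : p.Prime).odd_of_ne_two hp2
    have e : c = c ^ (k + 1) * c ^ (k + 1) := by
      rw [← pow_add, show k + 1 + (k + 1) = p + 1 by omega, pow_succ, hcp, one_mul]
    rw [← hker, MonoidHom.mem_ker, e, map_mul, hsv]
  have hN : ∀ x, (act c) x - x = polar Q x u • y - (polar Q x y + Q y * polar Q x u) • u := fun x => by
    rw [hc, hgS]; abel
  have hyu : (act c) y - y = -(2 * Q y) • u := by
    rw [hN, polar_comm Q y u, huy, polar_diag, zero_smul, mul_zero, add_zero, zero_sub, neg_smul]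
  refine ⟨c, ⟨c, hmem, rfl⟩, hcp, fun h1 => ?_, fun δ J hδ hJ hcomm => ?_⟩
  · rw [h1] at hyu
    simp at hyu
    rcases hyu with h | h
    · exact h.elim (fun h => h2 h) hy0
    · exact hu0 h
  · have hJN : ∀ x, J ((act c) x - x) = (act c) (J x) - J x := fun x => by rw [map_sub, hcomm]
    have hJu : ∃ a b : F, J u = a • y + b • u := by
      have h1 := hJN y
      rw [hyu, map_smul, hN] at h1
      refine ⟨-(2 * Q y)⁻¹ * polar Q (J y) u, (2 * Q y)⁻¹ * (polar Q (J y) y + Q y * polar Q (J y) u), ?_⟩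
      have h3 := congrArg (fun w => (-(2 * Q y))⁻¹ • w) h1
      simp only [smul_smul, inv_mul_cancel₀ (neg_ne_zero.2 (mul_ne_zero h2 hy0)), one_smul] at h3
      rw [h3, inv_neg]
      module
    obtain ⟨a, b, hab⟩ := hJu
    have h0 : polar Q (J u) (J u) = 0 := by
      rw [hJ.sa u trivial _ trivial, hJ.sq u trivial, polar_smul_right, polar_diag, hQu, mul_zero, smul_zero]
    rw [hab] at h0
    simp only [polar_add_left, polar_add_right, polar_smul_left, polar_smul_right] at h0
    simp only [polar_diag, hQu, huy, polar_comm Q y u, smul_eq_mul, mul_zero, add_zero, zero_add] at h0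
    have ha : a = 0 := (mul_self_eq_zero (M₀ := F)).1 ((mul_eq_zero.1
      (show a * a * (2 * Q y) = 0 by linear_combination h0)).resolve_right (mul_ne_zero h2 hy0))
    have h3 := hJ.sq u trivial
    rw [hab, ha, zero_smul, zero_add, map_smul, hab, ha, zero_smul, zero_add, smul_smul] at h3
    exact hδ ⟨b, (smul_left_injective F hu0 h3).symm⟩

end Cfsg.Agent.Elusive
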