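import Cfsg.Agent.Lib.Elusive.SympIso
import Cfsg.Agent.Lib.LinearBlock.EvenRootClasses

/-!
Isometries of prime order of quadratic spaces and their invariant totally singular subspaces: steps and counts.
-/

set_option autoImplicit false
set_option linter.all false
set_option maxHeartbeats 1600000

namespace Cfsg.Agent.Elusive

open Module Polynomial QuadraticMap

section quad
variable {F : Type*} [Field F] {V : Type*} [AddCommGroup V] [Module F V] {Q : QuadraticForm F V}

/-- A quadratic form as a form with singular vectors its zeros. -/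
noncomputable def quadSF (hQ : (polarBilin Q).Nondegenerate) : SForm (RingEquiv.refl F) V where
  B := polar Q
  sing := fun v => Q v = 0
  add_left := fun u v w => polar_add_left Q u v w
  smul_left := fun c u v => polar_smul_left Q c u v
  add_right := fun u v w => polar_add_right Q u v w
  smul_right := fun c u v => polar_smul_right Q c u v
  refl := fun u v e => by rwa [polar_comm]
  nondeg := hQ.1
  sing_zero := map_zero Q
  sing_smul := fun c v h => by rw [QuadraticMap.map_smul, h, smul_zero]
  sing_add := fun u v h hu hv => by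
    rw [QuadraticMap.map_add Q, hu, hv]
    simpa using h

variable {hQ : (polarBilin Q).Nondegenerate}

lemma quadSF_B (u v : V) : (quadSF hQ).B u v = polar Q u v := rfl

lemma quad_isom {T : Module.End F V} (e : ∀ v, Q (T v) = Q v) : (quadSF hQ).Isom T :=
  ⟨fun u v => by simp only [quadSF_B, polar, ← map_add, e], fun v => by show Q (T v) = 0 ↔ Q v = 0; rw [e]⟩

lemma quad_iso {W : Submodule F V} (h : ∀ u ∈ W, Q u = 0) : (quadSF hQ).Iso W :=
  ⟨fun u hu v hv => by simp [quadSF_B, polar, h u hu, h v hv, h (u + v) (W.add_mem hu hv)], h⟩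

lemma polar_diag (v : V) : polar Q v v = 2 * Q v := by
  rw [polar_self]; simp [two_mul]

lemma q_sub (u v : V) : Q (u - v) = Q u + Q v - polar Q u v := by
  rw [sub_eq_add_neg, QuadraticMap.map_add Q, QuadraticMap.map_neg, polar_neg_right]; ring

variable [Fintype F] [FiniteDimensional F V]

/-- Singular lines. -/
lemma step_quad_line (hQ : (polarBilin Q).Nondegenerate) (S : Submodule F V) (T : Module.End F V)
    (hS : S ≤ fixedSpace T) : SForm.Step (quadSF hQ) T S 1 2 := by
  intro U hUi hUS hU hD
  let b := Module.finBasis F V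
  obtain ⟨v, hv, hv0, hv1⟩ := exists_common_zero (F := F) (κ := Unit) (fun _ => Q.toBilin b) U (by simpa using hD)
  have hQv : Q v = 0 := by
    have h1 := hv1 ()
    rw [← LinearMap.BilinMap.toQuadraticMap_apply, QuadraticMap.toQuadraticMap_toBilin] at h1
    exact h1
  refine ⟨Submodule.span F {v}, inv_of_le_fixed ((Submodule.span_singleton_le_iff_mem _ _).2 (hS (hUS hv))),
    (Submodule.span_singleton_le_iff_mem _ _).2 hv, quad_iso ?_, finrank_span_singleton hv0⟩
  intro a ha
  obtain ⟨x, rfl⟩ := Submodule.mem_span_singleton.1 ha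
  rw [QuadraticMap.map_smul, hQv, smul_zero]

section prime
variable {r : ℕ} [Fact r.Prime] {T : Module.End F V}

/-- Steps in general. -/
lemma step_quad (hQ : (polarBilin Q).Nondegenerate) (hT : T ^ r = 1) (hr : (r : F) ≠ 0) (hr2 : r ≠ 2)
    (e : ∀ v, Q (T v) = Q v) :
    SForm.Step (quadSF hQ) T (movedSpace T r) (orderOf (Fintype.card F : ZMod r)) (r - 1) := by
  have hI := quad_isom (hQ := hQ) e
  refine SForm.step_of_vector hT hr hI fun U hUi hUM hU hD => ?_
  have hodd : r % 2 = 1 := Nat.odd_iff.1 ((Fact.out : r.Prime).odd_of_ne_two hr2)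
  obtain ⟨v, hvU, hv0, hv⟩ := exists_common_zero (F := F) (κ := Fin ((r - 1) / 2))
    (fun k => LinearMap.BilinForm.comp (polarBilin Q) (T ^ ((k : ℕ) + 1)) LinearMap.id) U (by rw [Fintype.card_fin]; omega)
  have hsmall : ∀ a, 1 ≤ a → a ≤ (r - 1) / 2 → polar Q ((T ^ a) v) v = 0 := fun a h1 h2 => by
    have := hv ⟨a - 1, by omega⟩
    simpa [show a - 1 + 1 = a by omega] using this
  have hpos : ∀ a, 1 ≤ a → a < r → polar Q ((T ^ a) v) v = 0 := fun a h1 h2 => by
    by_cases hle : a ≤ (r - 1) / 2
    · exact hsmall a h1 hle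
    · have h3 := hI.pow a ((T ^ (r - a)) v) v
      rw [← Module.End.mul_apply, ← pow_add, show a + (r - a) = r by omega, hT, Module.End.one_apply,
        quadSF_B, quadSF_B, hsmall (r - a) (by omega) (by omega)] at h3
      exact (quadSF hQ).refl _ _ h3
  have h0 : polar Q v v = 0 := by
    have h0 := congrArg (fun w => (quadSF hQ).B w v) (show (∑ k ∈ Finset.range r, T ^ k) v = 0 from hUM hvU)
    rw [LinearMap.sum_apply, (quadSF hQ).sum_left, (quadSF hQ).zero_left] at h0
    simp only [quadSF_B] at h0
    rw [Finset.sum_eq_single 0 (fun k hk hk0 => hpos k (Nat.pos_of_ne_zero hk0) (Finset.mem_range.1 hk))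
      (fun hn => absurd (Finset.mem_range.2 (Fact.out : r.Prime).pos) hn)] at h0
    simpa using h0
  have hmod : ∀ k : ℕ, T ^ k = T ^ (k % r) := fun k => by
    conv_lhs => rw [← Nat.mod_add_div k r, pow_add, pow_mul, hT, one_pow, mul_one]
  have hall : ∀ k : ℕ, polar Q ((T ^ k) v) v = 0 := fun k => by
    rw [hmod k]
    rcases Nat.eq_zero_or_pos (k % r) with h | h
    · rw [h]; simpa using h0
    · exact hpos _ h (Nat.mod_lt _ (Fact.out : r.Prime).pos)
  have hvT : polar Q v (T v) = 0 := by
    rw [polar_comm]; simpa using hall 1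
  refine ⟨v - T v, U.sub_mem hvU (hUi v hvU), fun h => ?_, ?_, fun a _ => ?_⟩
  · exact hv0 (eq_zero_of_fixed_moved hr (mem_fixedSpace.2 (sub_eq_zero.1 h).symm) (hUM hvU))
  · show Q (v - T v) = 0
    rw [q_sub, e, hvT, sub_zero, ← two_mul, ← polar_diag, h0]
  · show polar Q ((T ^ a) (v - T v)) (v - T v) = 0
    have e1 : ∀ x y, polar Q (T x) (T y) = polar Q x y := hI.pres
    have e2 : polar Q ((T ^ a) v) (T v) = 0 := by
      rw [show a = r + a - r by omega]
      have h1 : (T ^ a) v = T ((T ^ (r - 1 + a)) v) := by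
        rw [← Module.End.mul_apply, ← pow_succ', show r - 1 + a + 1 = r + a by
          have := (Fact.out : r.Prime).pos; omega, pow_add, hT, one_mul]
      rw [Nat.add_sub_cancel_left, h1, e1, hall]
    have e3 : (T ^ a) (T v) = T ((T ^ a) v) := by
      rw [← Module.End.mul_apply, ← Module.End.mul_apply, ← pow_succ, ← pow_succ']
    rw [map_sub, polar_sub_left, polar_sub_right, polar_sub_right, e2, hall, e3, e1, hall]
    have e4 : polar Q (T ((T ^ a) v)) v = 0 := by
      rw [← Module.End.mul_apply, ← pow_succ']; exact hall (a + 1)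
    rw [e4]; ring

/-- Moved non-degenerate invariant subspaces have even dimension. -/
lemma even_moved_nd (hQ : (polarBilin Q).Nondegenerate) (hT : T ^ r = 1) (hr : (r : F) ≠ 0) (hr2 : r ≠ 2)
    (e : ∀ v, Q (T v) = Q v) {X : Submodule F V} (hXi : Inv T X) (hXM : X ≤ movedSpace T r)
    (hX : (quadSF hQ).ND X) : Even (finrank F X) := by
  classical
  by_cases h2 : (2 : F) = 0
  · have hA : (polarBilin Q).IsAlt := fun v => by
      show polar Q v v = 0
      rw [polar_diag, h2, zero_mul]
    exact even_finrank_nd (hA := hA) (hB := hQ) hX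
  · by_contra hodd
    rw [Nat.not_even_iff_odd] at hodd
    let b := Module.finBasis F X
    let G : Matrix (Fin (finrank F X)) (Fin (finrank F X)) F := LinearMap.BilinForm.toMatrix b (LinearMap.BilinForm.restrict (polarBilin Q) X)
    let A : Matrix (Fin (finrank F X)) (Fin (finrank F X)) F := LinearMap.toMatrix b b (T.restrict hXi)
    have hG : G.det ≠ 0 := by
      show (LinearMap.BilinForm.toMatrix b (LinearMap.BilinForm.restrict (polarBilin Q) X)).det ≠ 0
      rw [← LinearMap.BilinForm.nondegenerate_iff_det_ne_zero b]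
      exact ⟨fun u hu => Subtype.ext (hX u.1 u.2 fun v hv => hu ⟨v, hv⟩),
        fun u hu => Subtype.ext (hX u.1 u.2 fun v hv => by rw [quadSF_B, polar_comm]; exact hu ⟨v, hv⟩)⟩
    have hAG : A.transpose * G * A = G := by
      show (LinearMap.toMatrix b b (T.restrict hXi)).transpose * LinearMap.BilinForm.toMatrix b (LinearMap.BilinForm.restrict (polarBilin Q) X) * LinearMap.toMatrix b b (T.restrict hXi) = LinearMap.BilinForm.toMatrix b (LinearMap.BilinForm.restrict (polarBilin Q) X)
      rw [← LinearMap.BilinForm.toMatrix_comp]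
      congr 1
      refine LinearMap.BilinForm.ext fun u v => ?_
      show polar Q (T u.1) (T v.1) = polar Q u.1 v.1
      exact (quad_isom (hQ := hQ) e).pres _ _
    have hpow : ∀ (k : ℕ) (w : X), (((T.restrict hXi) ^ k) w : X).1 = (T ^ k) w := fun k => by
      induction k with
      | zero => simp
      | succ k ih => intro w; rw [pow_succ, pow_succ, Module.End.mul_apply, Module.End.mul_apply, ih]; rfl
    have hTX : (T.restrict hXi) ^ r = 1 := LinearMap.ext fun w => Subtype.ext (by rw [hpow, hT]; rfl)
    have hAr : A ^ r = 1 := by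
      have h1 := congrArg (LinearMap.toMatrixAlgEquiv b) hTX
      rw [map_pow, map_one] at h1
      exact h1
    have hd1 : A.det = 1 := by
      have e1 : A.det ^ r = 1 := by rw [← Matrix.det_pow, hAr, Matrix.det_one]
      have e2 : A.det ^ 2 = 1 := by
        have h1 := congrArg Matrix.det hAG
        rw [Matrix.det_mul, Matrix.det_mul, Matrix.det_transpose] at h1
        exact mul_right_cancel₀ hG (by linear_combination h1)
      have := pow_gcd_eq_one.2 ⟨e1, e2⟩
      rwa [show r.gcd 2 = 1 from (Nat.coprime_primes Fact.out Nat.prime_two).2 hr2, pow_one] at this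
    have h3 : (A.transpose - 1) * (G * A) = -(G * (A - 1)) := by
      rw [sub_mul, ← mul_assoc, hAG, one_mul, mul_sub, mul_one]; abel
    have h4 := congrArg Matrix.det h3
    have e5 : (A.transpose - 1).det = (A - 1).det := by
      rw [← Matrix.det_transpose (A - 1), Matrix.transpose_sub, Matrix.transpose_one]
    rw [Matrix.det_mul, Matrix.det_mul, hd1, mul_one, Matrix.det_neg, Fintype.card_fin, hodd.neg_one_pow, Matrix.det_mul,
      e5] at h4
    have h5 : (A - 1).det = 0 := by
      have : (2 : F) * (G.det * (A - 1).det) = 0 := by linear_combination h4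
      exact (mul_eq_zero.1 ((mul_eq_zero.1 this).resolve_left h2)).resolve_left hG
    have h6 : LinearMap.det (T.restrict hXi - 1) = 0 := by
      rw [← LinearMap.det_toMatrix b, map_sub, LinearMap.toMatrix_one]; exact h5
    obtain ⟨x, hx, hx0⟩ : ∃ x : X, (T.restrict hXi - 1) x = 0 ∧ x ≠ 0 := by
      by_contra hc
      push Not at hc
      have hinj : LinearMap.ker (T.restrict hXi - 1) = ⊥ := LinearMap.ker_eq_bot'.2 hc
      have hu : IsUnit (T.restrict hXi - 1) := (LinearMap.isUnit_iff_ker_eq_bot _).2 hinj
      exact (LinearMap.isUnit_det _ hu).ne_zero h6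
    refine hx0 (Subtype.ext (eq_zero_of_fixed_moved hr (mem_fixedSpace.2 ?_) (hXM x.2)))
    have := congrArg Subtype.val hx
    rwa [LinearMap.sub_apply, Module.End.one_apply, Submodule.coe_sub, ZeroMemClass.coe_zero, sub_eq_zero] at this

/-- Isotropic moved invariant subspaces are totally singular. -/
lemma singular_of_isotropic (hr : (r : F) ≠ 0) (e : ∀ v, Q (T v) = Q v) {X : Submodule F V} (hXi : Inv T X)
    (hXM : X ≤ movedSpace T r) (hiso : ∀ u ∈ X, ∀ v ∈ X, polar Q u v = 0) : ∀ u ∈ X, Q u = 0 := by
  have hinj : Function.Injective ⇑(T.restrict hXi - 1 : Module.End F X) := by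
    rw [← LinearMap.ker_eq_bot, LinearMap.ker_eq_bot']
    intro x hx
    refine Subtype.ext (eq_zero_of_fixed_moved hr (mem_fixedSpace.2 ?_) (hXM x.2))
    have := congrArg Subtype.val hx
    rwa [LinearMap.sub_apply, Module.End.one_apply, Submodule.coe_sub, ZeroMemClass.coe_zero, sub_eq_zero] at this
  intro u hu
  obtain ⟨w, hw⟩ := LinearMap.surjective_of_injective hinj ⟨u, hu⟩
  have h1 : u = T w.1 - w.1 := (congrArg Subtype.val hw).symm
  rw [h1, q_sub, e, hiso _ (hXi _ w.2) _ w.2, sub_zero, ← two_mul, ← polar_diag, hiso _ w.2 _ w.2]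

/-- Steps when `q` has odd order modulo `r`. -/
lemma step_quad_odd (hQ : (polarBilin Q).Nondegenerate) (hT : T ^ r = 1) (hr : (r : F) ≠ 0) (hr2 : r ≠ 2)
    (e : ∀ v, Q (T v) = Q v) (hodd : Odd (orderOf (Fintype.card F : ZMod r))) :
    SForm.Step (quadSF hQ) T (movedSpace T r) (orderOf (Fintype.card F : ZMod r)) 0 :=
  SForm.step_of_no_nd hT hr (quad_isom e) (fun X hXi hXM hiso => singular_of_isotropic hr e hXi hXM hiso)
    fun X hXi hXM hd hX => by
      have := even_moved_nd hQ hT hr hr2 e hXi hXM hX
      rw [hd] at this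
      exact Nat.not_even_iff_odd.2 hodd this

/-- Zeros and fixed zeros. -/
lemma card_zeros_modEq (hT : T ^ r = 1) (e : ∀ v, Q (T v) = Q v) :
    Nat.card {v : V // Q v = 0} ≡ Nat.card {w : fixedSpace T // Q (w : V) = 0} [MOD r] := by
  classical
  haveI : Finite V := Module.finite_of_finite F
  haveI := Fintype.ofFinite V
  have hr1 : 1 ≤ r := (Fact.out : r.Prime).one_lt.le
  have hk' : ∀ k v, Q ((T ^ k) v) = Q v := fun k => by
    induction k with
    | zero => simp
    | succ k ih => intro v; rw [pow_succ', Module.End.mul_apply, e, ih]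
  let σ : Equiv.Perm {v : V // Q v = 0} :=
    { toFun := fun v => ⟨T v.1, (e v.1).trans v.2⟩
      invFun := fun v => ⟨(T ^ (r - 1)) v.1, (hk' _ v.1).trans v.2⟩
      left_inv := fun v => Subtype.ext (by
        show (T ^ (r - 1)) (T v.1) = v.1
        rw [← Module.End.mul_apply, ← pow_succ, Nat.sub_add_cancel hr1, hT, Module.End.one_apply])
      right_inv := fun v => Subtype.ext (by
        show T ((T ^ (r - 1)) v.1) = v.1
        rw [← Module.End.mul_apply, ← pow_succ', Nat.sub_add_cancel hr1, hT, Module.End.one_apply]) }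
  have hk : ∀ (k : ℕ) (x : {v : V // Q v = 0}), ((σ ^ k) x).1 = (T ^ k) x.1 := by
    intro k
    induction k with
    | zero => intro x; rfl
    | succ k ih => intro x; rw [pow_succ, pow_succ, Equiv.Perm.mul_apply, Module.End.mul_apply, ih]; rfl
  have hσ : σ ^ r ^ 1 = 1 := Equiv.ext fun x => Subtype.ext (by rw [pow_one, hk, hT]; rfl)
  have h := Equiv.Perm.card_compl_support_modEq hσ
  have hc : Nat.card {w : fixedSpace T // Q (w : V) = 0} = σ.supportᶜ.card := by
    rw [← Nat.card_eq_finsetCard]
    refine Nat.card_congr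
      { toFun := fun w => ⟨⟨w.1.1, w.2⟩, by
          rw [Finset.mem_compl, Equiv.Perm.mem_support, not_not]
          exact Subtype.ext (mem_fixedSpace.1 w.1.2)⟩
        invFun := fun x => ⟨⟨x.1.1, mem_fixedSpace.2 (by
          have := x.2
          rw [Finset.mem_compl, Equiv.Perm.mem_support, not_not] at this
          exact congrArg Subtype.val this)⟩, x.1.2⟩
        left_inv := fun w => rfl
        right_inv := fun x => rfl }
  rw [hc, Nat.card_eq_fintype_card]
  exact h.symm

end prime

end quad

end Cfsg.Agent.Elusive
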