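import Cfsg.Agent.Lib.Elusive.OrthIso

/-!
Kernels of polynomials in isometries, types of fixed spaces, elements with given characteristic polynomials.
-/

set_option autoImplicit false
set_option linter.all false
set_option maxHeartbeats 1600000

namespace Cfsg.Agent.Elusive

open Module Polynomial QuadraticMap

section kernels
variable {F : Type*} [Field F] [Fintype F] {V : Type*} [AddCommGroup V] [Module F V] [FiniteDimensional F V]
  {r : ℕ} [Fact r.Prime] {T : Module.End F V}

omit [Fintype F] [FiniteDimensional F V] in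
/-- Squares of factors have the same kernel. -/
lemma ker_pow_factor (hT : T ^ r = 1) (hr : (r : F) ≠ 0) {g : F[X]} (hgd : g ∣ X ^ r - 1) (k : ℕ) {v : V}
    (hv : aeval T (g ^ k) v = 0) : aeval T g v = 0 := by
  have hsq : Squarefree (X ^ r - 1 : F[X]) := by
    rw [← C_1]; exact (separable_X_pow_sub_C 1 hr one_ne_zero).squarefree
  obtain ⟨h, hh⟩ := hgd
  have hcop : IsRelPrime g h := by
    rw [hh] at hsq
    exact (squarefree_mul_iff.1 hsq).1
  obtain ⟨a, b, hab⟩ := hcop.isCoprime.pow_left (m := k)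
  have hgh : aeval T g (aeval T h v) = 0 := by
    rw [← Module.End.mul_apply, ← map_mul, ← hh, map_sub, map_pow, aeval_X, map_one, hT, sub_self, LinearMap.zero_apply]
  have e := LinearMap.congr_fun (congrArg (aeval T) hab) v
  rw [map_add, map_mul, map_mul, LinearMap.add_apply, Module.End.mul_apply, Module.End.mul_apply, hv, map_zero,
    zero_add, map_one, Module.End.one_apply] at e
  rw [← e, ← Module.End.mul_apply, ← map_mul, mul_comm g b, map_mul, Module.End.mul_apply, hgh, map_zero]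

omit [Fintype F] in
/-- The dimension of the kernel of a factor. -/
lemma finrank_ker_factor (hT : T ^ r = 1) (hr : (r : F) ≠ 0) {g u : F[X]} {k : ℕ} (hgm : g.Monic)
    (hgi : Irreducible g) (hgd : g ∣ X ^ r - 1) (hc : T.charpoly = g ^ k * u) (hgu : ¬ g ∣ u) :
    finrank F (LinearMap.ker (aeval T g)) = k * g.natDegree := by
  classical
  have hsq : Squarefree (X ^ r - 1 : F[X]) := by
    rw [← C_1]; exact (separable_X_pow_sub_C 1 hr one_ne_zero).squarefree
  obtain ⟨h, hh⟩ := hgd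
  have hcop : IsCoprime g h := by
    rw [hh] at hsq
    exact ((squarefree_mul_iff.1 hsq).1).isCoprime
  have hI : IsCompl (LinearMap.ker (aeval T g)) (LinearMap.ker (aeval T h)) := by
    refine ⟨Polynomial.disjoint_ker_aeval_of_isCoprime T hcop, codisjoint_iff.2 ?_⟩
    rw [Polynomial.sup_ker_aeval_eq_ker_aeval_mul_of_coprime T hcop, ← hh, map_sub, map_pow, aeval_X, map_one, hT,
      sub_self, LinearMap.ker_zero]
  have hinv : ∀ P : F[X], ∀ v ∈ LinearMap.ker (aeval T P), T v ∈ LinearMap.ker (aeval T P) := fun P v hv => by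
    rw [LinearMap.mem_ker] at hv ⊢
    have : aeval T P * T = T * aeval T P := by
      exact by simpa only [map_mul, aeval_X] using congrArg (aeval T) (mul_comm _ (X : F[X]))
    rw [← Module.End.mul_apply, this, Module.End.mul_apply, hv, map_zero]
  let SK := T.restrict (hinv g)
  let SC := T.restrict (hinv h)
  have hchar : T.charpoly = SK.charpoly * SC.charpoly := by
    rw [← LinearMap.charpoly_prodMap, ← LinearEquiv.charpoly_conj (Submodule.prodEquivOfIsCompl _ _ hI)]
    congr 1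
    refine LinearMap.ext fun v => ?_
    obtain ⟨x, rfl⟩ := (Submodule.prodEquivOfIsCompl _ _ hI).surjective v
    rw [LinearEquiv.conj_apply_apply, LinearEquiv.symm_apply_apply]
    simp [SK, SC, LinearMap.restrict_apply]
  have hfac : ∀ (P : F[X]) (π : F[X]), Irreducible π → π ∣ (T.restrict (hinv P)).charpoly → π ∣ P := by
    intro P π hπ hd
    let b := Module.finBasis F (LinearMap.ker (aeval T P))
    rw [← LinearMap.charpoly_toMatrix _ b] at hd
    have h1 := Spectra.dvd_minpoly_of_dvd_charpoly _ hπ hd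
    rw [LinearMap.minpoly_toMatrix] at h1
    refine h1.trans (minpoly.dvd _ _ (LinearMap.ext fun v => Subtype.ext ?_))
    have hp : ∀ (f : F[X]) (w : LinearMap.ker (aeval T P)), ((aeval (T.restrict (hinv P)) f) w).1 = aeval T f w.1 := by
      intro f
      induction f using Polynomial.induction_on' with
      | add a b ha hb => intro w; simp [map_add, ha, hb]
      | monomial n c =>
        intro w
        rw [aeval_monomial, aeval_monomial, Module.End.mul_apply, Module.End.mul_apply, Module.algebraMap_end_apply,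
          Module.algebraMap_end_apply, Submodule.coe_smul]
        congr 1
        induction n generalizing w with
        | zero => simp
        | succ n ih => rw [pow_succ, pow_succ, Module.End.mul_apply, Module.End.mul_apply, ih]; rfl
    rw [hp, LinearMap.mem_ker.1 v.2]
    rfl
  have hK : SK.charpoly = g ^ Multiset.card (UniqueFactorizationMonoid.normalizedFactors SK.charpoly) := by
    conv_lhs => rw [← LBRootPoly.prod_of_monic SK.charpoly_monic]
    rw [← Multiset.prod_replicate]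
    refine congrArg Multiset.prod (Multiset.eq_replicate_card.2 fun π hπ => ?_)
    have hπi := UniqueFactorizationMonoid.irreducible_of_normalized_factor π hπ
    exact eq_of_monic_of_associated (LBRootPoly.monic_of_mem hπ) hgm
      (hπi.associated_of_dvd hgi (hfac g π hπi (UniqueFactorizationMonoid.dvd_of_mem_normalizedFactors hπ)))
  obtain ⟨j, hj⟩ : ∃ j, j = Multiset.card (UniqueFactorizationMonoid.normalizedFactors SK.charpoly) := ⟨_, rfl⟩
  rw [← hj] at hK
  have hgC : ¬ g ∣ SC.charpoly := fun hd => by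
    have h1 := hfac h g hgi hd
    exact hgi.not_isUnit (hcop.isUnit_of_dvd' dvd_rfl h1)
  have hjk : j = k := by
    rw [hK, hc] at hchar
    have h1 : g ^ k ∣ g ^ j := ((hgi.coprime_iff_not_dvd.2 hgC).pow_left).dvd_of_dvd_mul_right
      (Dvd.intro _ hchar)
    have h2 : g ^ j ∣ g ^ k := ((hgi.coprime_iff_not_dvd.2 hgu).pow_left).dvd_of_dvd_mul_right
      (Dvd.intro _ hchar.symm)
    rw [pow_dvd_pow_iff hgm.ne_zero hgi.not_isUnit] at h1 h2
    omega
  rw [← LinearMap.charpoly_natDegree (R := F) (M := LinearMap.ker (aeval T g)) SK, hK, natDegree_pow, hjk]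

variable {Φ : SForm (RingEquiv.refl F) V}

omit [Fintype F] [FiniteDimensional F V] in
lemma adjoint_aeval (hT : T ^ r = 1) (hI : Φ.Isom T) (P : F[X]) :
    ∀ u v, Φ.B u (aeval T P v) = Φ.B (aeval (T ^ (r - 1)) P u) v := by
  have hr1 : 1 ≤ r := (Fact.out : r.Prime).one_lt.le
  have h1 : ∀ k u v, Φ.B u ((T ^ k) v) = Φ.B (((T ^ (r - 1)) ^ k) u) v := fun k u v => by
    conv_rhs => rw [← hI.pow k, ← Module.End.mul_apply, ← pow_mul, ← pow_add,
      show k + (r - 1) * k = r * k by rw [add_comm, ← Nat.succ_mul, Nat.succ_eq_add_one, Nat.sub_add_cancel hr1],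
      pow_mul, hT, one_pow, Module.End.one_apply]
  induction P using Polynomial.induction_on' with
  | add a b ha hb => intro u v; simp only [map_add, LinearMap.add_apply, Φ.add_right, Φ.add_left, ha, hb]
  | monomial n c =>
    intro u v
    rw [aeval_monomial, aeval_monomial, Module.End.mul_apply, Module.End.mul_apply, Module.algebraMap_end_apply,
      Module.algebraMap_end_apply, Φ.smul_right, Φ.smul_left, h1, RingEquiv.refl_apply]

/-- Kernels of self-reciprocal factors are non-degenerate. -/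
lemma nd_ker (p : ℕ) [Fact p.Prime] [CharP F p] (hT : T ^ r = 1) (hr : (r : F) ≠ 0) (hr2 : r ≠ 2) (hI : Φ.Isom T)
    (hev : Even (orderOf (Fintype.card F : ZMod r))) {g : F[X]} (hgd : g ∣ X ^ r - 1) :
    Φ.ND (LinearMap.ker (aeval T g)) := by
  have hP : r.Prime := Fact.out
  haveI : Fact (2 < r) := ⟨lt_of_le_of_ne hP.two_le (Ne.symm hr2)⟩
  obtain ⟨h, hh⟩ := hev
  have hpos := orderOf_card_pos (F := F) (r := r) hr
  have hneg : ((Fintype.card F ^ h : ℕ) : ZMod r) = ((r - 1 : ℕ) : ZMod r) := by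
    rw [Nat.cast_sub hP.one_lt.le, ZMod.natCast_self, Nat.cast_one, zero_sub, Nat.cast_pow]
    have h2 : ((Fintype.card F : ZMod r) ^ h) ^ 2 = 1 := by
      rw [← pow_mul, show h * 2 = orderOf (Fintype.card F : ZMod r) by omega, pow_orderOf_eq_one]
    exact (sq_eq_one_iff.1 h2).resolve_left (pow_ne_one_of_lt_orderOf (by omega) (by omega))
  have hTm : T ^ (r - 1) = T ^ Fintype.card F ^ h := by
    have hk : ∀ a, T ^ a = T ^ (a % r) := fun a => by
      conv_lhs => rw [← Nat.mod_add_div a r, pow_add, pow_mul, hT, one_pow, mul_one]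
    rw [hk (r - 1), hk (Fintype.card F ^ h), ((ZMod.natCast_eq_natCast_iff' _ _ _).1 hneg).symm]
  have hexp : ∀ j, expand F (Fintype.card F ^ j) g = g ^ Fintype.card F ^ j := fun j => by
    induction j with
    | zero => simp
    | succ j ih =>
      rw [pow_succ', ← expand_expand, ih, map_pow, FiniteField.expand_card, ← pow_mul]
  intro u hu hz
  rw [LinearMap.mem_ker] at hu
  refine Φ.nondeg u fun v => ?_
  have hsq : Squarefree (X ^ r - 1 : F[X]) := by
    rw [← C_1]; exact (separable_X_pow_sub_C 1 hr one_ne_zero).squarefree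
  obtain ⟨w, hw⟩ := hgd
  obtain ⟨a, b, hab⟩ : IsCoprime g w := by
    rw [hw] at hsq
    exact ((squarefree_mul_iff.1 hsq).1).isCoprime
  have hv : v = aeval T (g * a) v + aeval T (b * w) v := by
    rw [← LinearMap.add_apply, ← map_add, mul_comm g a, hab, map_one, Module.End.one_apply]
  rw [hv, Φ.add_right]
  have e1 : Φ.B u (aeval T (g * a) v) = 0 := by
    rw [map_mul, Module.End.mul_apply, adjoint_aeval hT hI, hTm, ← expand_aeval, hexp, map_pow]
    obtain ⟨N, hN⟩ : ∃ N, Fintype.card F ^ h = N + 1 :=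
      ⟨Fintype.card F ^ h - 1, by have := Nat.one_le_pow h _ (Fintype.card_pos (α := F)); omega⟩
    rw [hN, pow_succ, Module.End.mul_apply, hu, map_zero, Φ.zero_left]
  have e2 : Φ.B u (aeval T (b * w) v) = 0 := by
    refine hz _ (LinearMap.mem_ker.2 ?_)
    rw [← Module.End.mul_apply, ← map_mul, mul_left_comm, ← hw, map_mul, map_sub, map_pow, aeval_X, map_one, hT,
      sub_self, mul_zero, LinearMap.zero_apply]
  rw [e1, e2, add_zero]

open LBRootPoly in
/-- Invariant totally singular subspaces when the factors have small multiplicities. -/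
lemma iso_bound [DecidableEq F] (p : ℕ) [Fact p.Prime] [CharP F p] (hT : T ^ r = 1) (hr : (r : F) ≠ 0) (hr2 : r ≠ 2)
    (hI : Φ.Isom T) (hev : Even (orderOf (Fintype.card F : ZMod r))) {S : Finset F[X]} (hS : S ⊆ factors F r)
    (g₀ : F[X]) {L f : ℕ} (hg₀ : 0 < L → g₀ ∈ factors F r ∧ g₀ ∉ S)
    (hc : T.charpoly = (X - C 1) ^ f * (g₀ ^ L * ∏ g ∈ S, g))
    {W : Submodule F V} (hWi : Inv T W) (hiso : ∀ u ∈ W, ∀ v ∈ W, Φ.B u v = 0) :
    ∃ a, finrank F (W ⊓ movedSpace T r : Submodule F V) = orderOf (Fintype.card F : ZMod r) * a ∧ 2 * a ≤ L := by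
  classical
  have hrP : r.Prime := Fact.out
  have hi0 := orderOf_card_pos (F := F) (r := r) hr
  have hmem : ∀ g ∈ S, g.Monic ∧ Irreducible g ∧ g ∣ X ^ r - 1 ∧ g ≠ X - C 1 ∧
      g.natDegree = orderOf (Fintype.card F : ZMod r) := fun g hg => by
    obtain ⟨h1, h2, h3, h4⟩ := (mem_factors hrP.ne_zero).1 (hS hg)
    exact ⟨h2, h3, h4, h1, natDegree_factor hrP h2 h3 h4 h1⟩
  have hne : ∀ {g u : F[X]}, g.Monic → Irreducible g → u.Monic → Irreducible u → g ≠ u → ¬ g ∣ u :=
    fun hgm hgi hum hui hne hd => hne (eq_of_monic_of_associated hgm hum (hgi.associated_of_dvd hui hd))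
  have hX1 : ∀ {g : F[X]}, g.Monic → Irreducible g → g ≠ X - C 1 → ¬ g ∣ (X - C 1) ^ f := fun hgm hgi hne' hd =>
    hne hgm hgi (monic_X_sub_C 1) (irreducible_X_sub_C 1) hne' (hgi.prime.dvd_of_dvd_pow hd)
  let W₀ := W ⊓ movedSpace T r
  have hW₀i : Inv T W₀ := fun v hv => ⟨hWi v hv.1, inv_moved v hv.2⟩
  have hz : ∀ g ∈ S, ∀ w ∈ W₀, aeval T g w = 0 → w = 0 := by
    intro g hg w hw hgw
    obtain ⟨hgm, hgi, hgd, hg1, hgdeg⟩ := hmem g hg
    have hu : ¬ g ∣ (X - C 1) ^ f * (g₀ ^ L * ∏ u ∈ S.erase g, u) := fun hd => by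
      rcases hgi.prime.dvd_or_dvd hd with h1 | h1
      · exact hX1 hgm hgi hg1 h1
      rcases hgi.prime.dvd_or_dvd h1 with h1 | h1
      · rcases Nat.eq_zero_or_pos L with hL | hL
        · rw [hL, pow_zero] at h1
          exact hgi.not_isUnit (isUnit_of_dvd_one h1)
        · obtain ⟨hg0, hg0S⟩ := hg₀ hL
          obtain ⟨-, b, c, -⟩ := (mem_factors hrP.ne_zero).1 hg0
          exact hne hgm hgi b c (fun e => hg0S (e ▸ hg)) (hgi.prime.dvd_of_dvd_pow h1)
      · obtain ⟨u, hu, hd'⟩ := (hgi.prime.dvd_finsetProd_iff _).1 h1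
        obtain ⟨hne', huS⟩ := Finset.mem_erase.1 hu
        exact hne hgm hgi (hmem u huS).1 (hmem u huS).2.1 (Ne.symm hne') hd'
    have hdim := finrank_ker_factor hT hr (k := 1) hgm hgi hgd
      (by rw [hc, ← Finset.mul_prod_erase S (fun u => u) hg, pow_one]; ring) hu
    let Z := W₀ ⊓ LinearMap.ker (aeval T g)
    have hZi : Inv T Z := fun v hv => ⟨hW₀i v hv.1, by
      show aeval T g (T v) = 0
      have : aeval T g * T = T * aeval T g := by
        exact by simpa only [map_mul, aeval_X] using congrArg (aeval T) (mul_comm _ (X : F[X]))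
      rw [← Module.End.mul_apply, this, Module.End.mul_apply, LinearMap.mem_ker.1 hv.2, map_zero]⟩
    obtain ⟨a, ha⟩ := dvd_finrank_moved hT hr hZi (inf_le_left.trans inf_le_right)
    have h4 := Φ.two_finrank_le (nd_ker p hT hr hr2 hI hev hgd) (inf_le_right : Z ≤ _)
      fun u hu v hv => hiso u hu.1.1 v hv.1.1
    rw [hdim, one_mul, hgdeg, ha] at h4
    have : Z = ⊥ := by
      refine Submodule.finrank_eq_zero.1 ?_
      rcases a with _ | a
      · simpa using ha
      · rw [Nat.mul_succ] at h4; omega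
    exact (Submodule.mem_bot F).1 (this ▸ (⟨hw, hgw⟩ : w ∈ Z))
  have hkill : ∀ w ∈ W₀, aeval T (g₀ ^ L) w = 0 := by
    suffices h : ∀ R : Finset F[X], R ⊆ S → ∀ w ∈ W₀, aeval T (g₀ ^ L * ∏ g ∈ R, g) w = 0 → aeval T (g₀ ^ L) w = 0 by
      intro w hw
      refine h S (Finset.Subset.refl S) w hw ?_
      have h1 := LinearMap.congr_fun (LinearMap.aeval_self_charpoly T) w
      rw [hc, map_mul, Module.End.mul_apply, LinearMap.zero_apply] at h1
      have h2 := ker_pow_factor hT hr (g := X - C 1) (dvd_iff_isRoot.2 (by simp [IsRoot])) f h1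
      rw [map_sub, aeval_X, C_1, map_one, LinearMap.sub_apply, Module.End.one_apply, sub_eq_zero] at h2
      exact eq_zero_of_fixed_moved hr (mem_fixedSpace.2 h2) (Inv.aeval inv_moved _ hw.2)
    intro R
    induction R using Finset.induction with
    | empty => intro _ w _ h; simpa using h
    | insert g R hgR ih =>
      intro hsub w hw h
      rw [Finset.prod_insert hgR, mul_left_comm, map_mul, Module.End.mul_apply] at h
      exact ih ((Finset.subset_insert _ _).trans hsub) w hw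
        (hz g (hsub (Finset.mem_insert_self _ _)) _ (Inv.aeval hW₀i _ hw) h)
  obtain ⟨a, ha⟩ := dvd_finrank_moved hT hr hW₀i inf_le_right
  refine ⟨a, ha, ?_⟩
  rcases Nat.eq_zero_or_pos L with hL | hL
  · have : W₀ = ⊥ := eq_bot_iff.2 fun w hw => by
      have := hkill w hw
      rwa [hL, pow_zero, map_one, Module.End.one_apply, ← Submodule.mem_bot F] at this
    rw [this, finrank_bot, eq_comm, mul_eq_zero] at ha
    omega
  obtain ⟨hg0, hg0S⟩ := hg₀ hL
  obtain ⟨hg1, hgm, hgi, hgd⟩ := (mem_factors hrP.ne_zero).1 hg0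
  have hu : ¬ g₀ ∣ (X - C 1) ^ f * ∏ g ∈ S, g := fun hd => by
    rcases hgi.prime.dvd_or_dvd hd with h1 | h1
    · exact hX1 hgm hgi hg1 h1
    · obtain ⟨u, hu, hd'⟩ := (hgi.prime.dvd_finsetProd_iff _).1 h1
      exact hne hgm hgi (hmem u hu).1 (hmem u hu).2.1 (fun e => hg0S (e ▸ hu)) hd'
  have hdim := finrank_ker_factor hT hr (k := L) hgm hgi hgd (by rw [hc]; ring) hu
  rw [natDegree_factor hrP hgm hgi hgd hg1] at hdim
  have h4 := Φ.two_finrank_le (nd_ker p hT hr hr2 hI hev hgd)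
    (fun w hw => LinearMap.mem_ker.2 (ker_pow_factor hT hr hgd L (hkill w hw)) : W₀ ≤ LinearMap.ker (aeval T g₀))
    fun u hu v hv => hiso u hu.1 v hv.1
  rw [hdim, ha] at h4
  exact Nat.le_of_mul_le_mul_right (c := orderOf (Fintype.card F : ZMod r)) (by linarith) hi0

/-- The dimension of the fixed space from the characteristic polynomial. -/
lemma finrank_fixed_charpoly (hT : T ^ r = 1) (hr : (r : F) ≠ 0) {f : ℕ} {u : F[X]}
    (hc : T.charpoly = (X - C 1) ^ f * u) (hu : ¬ (X - C (1 : F)) ∣ u) : finrank F (fixedSpace T) = f := by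
  have h := finrank_ker_factor hT hr (monic_X_sub_C 1) (irreducible_X_sub_C 1) (dvd_iff_isRoot.2 (by simp [IsRoot])) hc hu
  rw [natDegree_X_sub_C, mul_one, map_sub, aeval_X, C_1, map_one] at h
  exact h

end kernels

section types
variable {F : Type*} [Field F] [Fintype F] {V : Type*} [AddCommGroup V] [Module F V] [FiniteDimensional F V]
  {Q : QuadraticForm F V} {r : ℕ} [Fact r.Prime] {T : Module.End F V}

omit [Fintype F] [FiniteDimensional F V] [Fact r.Prime] in
lemma qPlus_half [Finite F] {a : ℕ} (g : V ≃ₗ[F] (Fin a ⊕ Fin a → F)) (hg : ∀ v, Q v = Orth.qPlus F a (g v)) :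
    ∃ U : Submodule F V, (∀ u ∈ U, Q u = 0) ∧ finrank F U = a := by
  obtain ⟨⟨U, hU, hUd⟩, -⟩ := LBQuad.singular_bound (F := F) Orth.zero_nondeg (fun w _ => Subsingleton.elim w 0) a
  refine ⟨U.map ((Orth.plusPad (F := F) a).trans g.symm).toLinearMap, ?_, ?_⟩
  · rintro _ ⟨u, hu, rfl⟩
    rw [hg]
    show Orth.qPlus F a (g (g.symm (Orth.plusPad a u))) = 0
    rw [LinearEquiv.apply_symm_apply, Orth.plusPad_spec]
    exact hU u hu
  · rw [LinearEquiv.finrank_map_eq, hUd]

/-- The type of the fixed space. -/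
lemma fixed_type (hQ : (polarBilin Q).Nondegenerate) (hT : T ^ r = 1) (hr : (r : F) ≠ 0) (hr2 : r ≠ 2)
    (e : ∀ v, Q (T v) = Q v) (hq0 : (Fintype.card F : ZMod r) ≠ 0) (hq1 : (Fintype.card F : ZMod r) ≠ 1) {d a : ℕ}
    (hV : finrank F V = 2 * d) (hd : 1 ≤ d) (ha : finrank F (fixedSpace T) = 2 * a) {ε c : ZMod r}
    (hz : (Nat.card {v : V // Q v = 0} : ZMod r) = (Fintype.card F : ZMod r) ^ (2 * d - 1) +
      ε * ((Fintype.card F : ZMod r) ^ d - (Fintype.card F : ZMod r) ^ (d - 1)))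
    (hM : (Fintype.card F : ZMod r) ^ (2 * (d - a)) = 1) (hc : ε * (Fintype.card F : ZMod r) ^ (d - a) = c) :
    (a = 0 → c = 1) ∧
    (1 ≤ a → c = 1 → ∃ U : Submodule F V, U ≤ fixedSpace T ∧ (∀ u ∈ U, Q u = 0) ∧ finrank F U = a) ∧
    (1 ≤ a → c = -1 → ∀ U : Submodule F V, U ≤ fixedSpace T → (∀ u ∈ U, Q u = 0) → finrank F U < a) := by
  classical
  have hrP : r.Prime := Fact.out
  haveI : Fact (2 < r) := ⟨lt_of_le_of_ne hrP.two_le (Ne.symm hr2)⟩
  have hne : (-1 : ZMod r) ≠ 1 := ZMod.neg_one_ne_one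
  have h2 : (2 : ZMod r) ≠ 0 := fun h => hne (by linear_combination -h)
  set x := (Fintype.card F : ZMod r) with hx
  have had : a ≤ d := by
    have := Submodule.finrank_le (fixedSpace T)
    omega
  have hcm := (ZMod.natCast_eq_natCast_iff _ _ _).2 (card_zeros_modEq hT e)
  rw [hz] at hcm
  obtain ⟨Qf, hQf⟩ : ∃ Qf : QuadraticForm F (fixedSpace T), Qf = Q.comp (fixedSpace T).subtype := ⟨_, rfl⟩
  have hQfv : ∀ w, Qf w = Q (w : V) := fun w => by rw [hQf]; rfl
  have hQfn : (polarBilin Qf).Nondegenerate := by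
    refine Orth.nondeg_of fun u hu => Subtype.ext (SForm.nd_fixed (Φ := quadSF hQ) hT hr (quad_isom e) u.1 u.2 fun v hv => ?_)
    have h := hu ⟨v, hv⟩
    simp only [polar, hQfv, Submodule.coe_add] at h
    exact h
  have hcard : Nat.card {w : fixedSpace T // Qf w = 0} = Nat.card {w : fixedSpace T // Q (w : V) = 0} :=
    Nat.card_congr (Equiv.subtypeEquivRight fun w => by rw [hQfv])
  rw [← hcard] at hcm
  refine ⟨?_, ?_⟩
  · rintro rfl
    have h1 : Nat.card {w : fixedSpace T // Qf w = 0} = 1 := by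
      haveI : Subsingleton (fixedSpace T) := Module.finrank_zero_iff.1 (by omega)
      exact Nat.card_eq_one_iff_unique.2 ⟨inferInstance, ⟨⟨0, map_zero Qf⟩⟩⟩
    rw [h1, Nat.cast_one] at hcm
    obtain ⟨j, rfl⟩ : ∃ j, d = j + 1 := ⟨d - 1, by omega⟩
    rw [Nat.sub_zero] at hM hc
    rw [show 2 * (j + 1) - 1 = 2 * j + 1 by omega, Nat.add_sub_cancel] at hcm
    have hM' : x ^ (2 * j + 1) * x = 1 := by rw [← pow_succ]; exact hM
    have h3 : (c - 1) * (x - 1) = 0 := by
      have hcc : ε * x ^ j * x = c := by rw [mul_assoc, ← pow_succ]; exact hc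
      linear_combination x * hcm - hM' + (1 - x) * hcc
    exact sub_eq_zero.1 ((mul_eq_zero.1 h3).resolve_right (sub_ne_zero.2 hq1))
  · suffices key : 1 ≤ a → (c = 1 → ∃ U : Submodule F V, U ≤ fixedSpace T ∧ (∀ u ∈ U, Q u = 0) ∧ finrank F U = a) ∧
        (c = -1 → ∀ U : Submodule F V, U ≤ fixedSpace T → (∀ u ∈ U, Q u = 0) → finrank F U < a) by
      exact ⟨fun h => (key h).1, fun h => (key h).2⟩
    intro ha1
    obtain ⟨u, hu⟩ : ∃ u, d = a + u := ⟨d - a, by omega⟩
    obtain ⟨b, hb⟩ : ∃ b, a = b + 1 := ⟨a - 1, by omega⟩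
    subst hu hb
    rw [Nat.add_sub_cancel_left] at hM hc
    rw [show 2 * (b + 1 + u) - 1 = 2 * b + 1 + 2 * u by omega, pow_add x (2 * b + 1), hM, mul_one,
      pow_add x (b + 1) u, show b + 1 + u - 1 = b + u by omega, pow_add x b u] at hcm
    have hcm' : (Nat.card {w : fixedSpace T // Qf w = 0} : ZMod r) = x ^ (2 * b + 1) + c * (x ^ (b + 1) - x ^ b) := by
      rw [← hc]; linear_combination -hcm
    have hxb : x ^ (b + 1) - x ^ b ≠ 0 := by
      rw [pow_succ, ← mul_sub_one]
      exact mul_ne_zero (pow_ne_zero _ hq0) (sub_ne_zero.2 hq1)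
    rcases LBQuad.classify_even hQfn ha with ⟨g, hg⟩ | ⟨ζ, hζ, g, hg⟩
    · have hcp : c = 1 := by
        have h1 := congrArg (Nat.cast : ℕ → ZMod r) (Orth.zeros_qPlus (F := F) b)
        rw [Nat.card_congr (Orth.zerosCongr g fun v => (hg v).symm)] at hcm'
        simp only [Nat.cast_add, Nat.cast_pow, Nat.card_eq_fintype_card (α := F), hcm', ← hx] at h1
        refine sub_eq_zero.1 ((mul_eq_zero.1 (?_ : (c - 1) * (x ^ (b + 1) - x ^ b) = 0)).resolve_right hxb)
        linear_combination h1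
      refine ⟨fun _ => ?_, fun h => absurd (h.symm.trans hcp) hne⟩
      obtain ⟨U, hU, hUd⟩ := qPlus_half g hg
      refine ⟨U.map (fixedSpace T).subtype, Submodule.map_subtype_le _ _, ?_,
        (Submodule.equivMapOfInjective _ (fixedSpace T).subtype_injective U).finrank_eq.symm.trans hUd⟩
      rintro _ ⟨w, hw, rfl⟩
      show Q (w : V) = 0
      rw [← hQfv]; exact hU w hw
    · have hcm1 : c = -1 := by
        have h1 := congrArg (Nat.cast : ℕ → ZMod r) (Orth.zeros_qMinus (F := F) (LBQuad.bin_aniso hζ) (b + 1 - 1))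
        rw [Nat.card_congr (Orth.zerosCongr g fun v => (hg v).symm)] at hcm'
        simp only [Nat.cast_add, Nat.cast_pow, Nat.card_eq_fintype_card (α := F), hcm', ← hx] at h1
        simp only [Nat.add_sub_cancel] at h1
        refine eq_neg_of_add_eq_zero_left ((mul_eq_zero.1 (?_ : (c + 1) * (x ^ (b + 1) - x ^ b) = 0)).resolve_right hxb)
        linear_combination h1
      refine ⟨fun h => absurd (hcm1.symm.trans h) hne, fun _ U hU hUQ => ?_⟩
      have hb' := (LBQuad.singular_bound (Orth.qBin_nondeg (LBQuad.bin_aniso hζ))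
        (fun w hw => LBQuad.qBin_eq_zero (LBQuad.bin_aniso hζ) hw) (b + 1 - 1)).2
        ((U.comap (fixedSpace T).subtype).map g.toLinearMap) (by
          rintro _ ⟨w, hw, rfl⟩
          exact (hg w).symm.trans ((hQfv w).trans (hUQ _ hw)))
      rw [LinearEquiv.finrank_map_eq, (Submodule.comapSubtypeEquivOfLe hU).finrank_eq] at hb'
      omega

end types

section elements
open LBRootPoly
variable {F : Type*} [Field F] [Fintype F] [DecidableEq F] {ι : Type} [Fintype ι] [DecidableEq ι]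
  {Q : QuadraticForm F (ι → F)} {r : ℕ} [Fact r.Prime]

/-- Isometries of odd prime order prime to the characteristic lie in the derived subgroup. -/
lemma mem_omega_of_pow (p : ℕ) [Fact p.Prime] [CharP F p] (hQ : (polarBilin Q).Nondegenerate) (hr2 : r ≠ 2) (hrp : r ≠ p)
    (g : ↥(Cfsg.isometryGroup F (⇑Q))) (hgr : g ^ r = 1) : (g : GL ι F) ∈ Cfsg.Geo.omegaGL (⇑Q) := by
  have hr : r.Prime := Fact.out
  obtain ⟨M, hM⟩ : ∃ M, M = (g : GL ι F).1 := ⟨_, rfl⟩
  have hMp : ∀ v, Q (Matrix.mulVec M v) = Q v := hM ▸ Orth.mem_isometryGroup.1 g.2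
  have hadj := LBOrthSS.adj_of_preserves hQ hMp
  have hgi : g⁻¹ ^ r = 1 := by rw [inv_pow, hgr, inv_one]
  have hinv : (g⁻¹ : ↥(Cfsg.isometryGroup F (⇑Q))).1.1 = LBOrthSS.adj Q M := by
    have e : (g⁻¹ : ↥(Cfsg.isometryGroup F (⇑Q))).1.1 * M = 1 := by
      rw [hM, ← Units.val_mul, ← Subgroup.coe_mul, inv_mul_cancel]; rfl
    exact left_inv_eq_right_inv e (mul_eq_one_comm.1 hadj)
  have hconj : IsConj g g⁻¹ := by
    refine LBRootOrth.isConj_of_charpoly hQ p hr hr2 hrp g g⁻¹ hgr hgi ?_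
    rw [hinv, ← hM, LBOrthSS.adj, Matrix.charpoly_mul_comm, ← mul_assoc, Matrix.mul_nonsing_inv _ (LBOrthSS.gram_det hQ), one_mul,
      Matrix.charpoly_transpose]
  obtain ⟨c, hc⟩ := isConj_iff.1 hconj
  have hsq : g ^ 2 ∈ commutator ↥(Cfsg.isometryGroup F (⇑Q)) := by
    have e : g ^ 2 = g * c * g⁻¹ * c⁻¹ := by
      rw [mul_assoc (g * c), mul_assoc g, show c * (g⁻¹ * c⁻¹) = (c * g * c⁻¹)⁻¹ by group, hc, inv_inv, pow_two]
    rw [e, commutator_eq_closure]
    exact Subgroup.subset_closure ⟨g, c, rfl⟩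
  refine ⟨g, ?_, rfl⟩
  obtain ⟨k, hk⟩ := hr.odd_of_ne_two hr2
  have e : g = (g ^ 2) ^ (k + 1) := by
    rw [← pow_mul, show 2 * (k + 1) = r + 1 by omega, pow_succ, hgr, one_mul]
  rw [e]
  exact pow_mem hsq _

/-- An element of order `r` with a given characteristic polynomial. -/
lemma exists_omega_charpoly (p : ℕ) [Fact p.Prime] [CharP F p] (hQ : (polarBilin Q).Nondegenerate) (hr2 : r ≠ 2) (hrp : r ≠ p)
    {f : F[X]} (hG : Good r f) (A : ↥(Cfsg.isometryGroup F (⇑Q))) (hA : (A : GL ι F).1.charpoly = f) :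
    ∃ x ∈ Cfsg.Geo.omegaGL (⇑Q), x ^ r = 1 ∧ (∀ v, Q (Matrix.toLin' x.1 v) = Q v) ∧
      Matrix.toLin' x.1 ^ r = 1 ∧ LinearMap.charpoly (Matrix.toLin' x.1) = f := by
  have hr : r.Prime := Fact.out
  obtain ⟨j, hj⟩ := SemisimpleCl.exists_coprime_pow (F := F) p A
  obtain ⟨g, hg⟩ : ∃ g, g = A ^ Fintype.card F ^ j := ⟨_, rfl⟩
  rw [← hg] at hj
  have hk : ∀ n, ((A : GL ι F).1 ^ Fintype.card F ^ n).charpoly = (A : GL ι F).1.charpoly := by
    intro n
    induction n with
    | zero => simp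
    | succ n ih => rw [pow_succ, pow_mul, FiniteField.Matrix.charpoly_pow_card, ih]
  have hMc : (g : GL ι F).1.charpoly = f := by rw [hg, SubmonoidClass.coe_pow, Units.val_pow_eq_pow_val, hk, hA]
  have hMr : (g : GL ι F).1 ^ r = 1 :=
    LBRootPoly.pow_eq_one p (by rw [← Units.val_pow_eq_pow_val, ← SubmonoidClass.coe_pow, pow_orderOf_eq_one]; rfl) hj
      (hMc.symm ▸ hG) hr.ne_zero
  have hgr : g ^ r = 1 := Subtype.ext (Units.ext (by
    rw [SubmonoidClass.coe_pow, Units.val_pow_eq_pow_val, hMr]; rfl))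
  refine ⟨g, mem_omega_of_pow p hQ hr2 hrp g hgr, by rw [← SubmonoidClass.coe_pow, hgr]; rfl,
    fun v => by rw [Matrix.toLin'_apply]; exact Orth.mem_isometryGroup.1 g.2 v, ?_, ?_⟩
  · rw [← Matrix.toLin'_pow, hMr, Matrix.toLin'_one]; rfl
  · rw [Matrix.charpoly_toLin', hMc]

end elements

end Cfsg.Agent.Elusive
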