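import Cfsg.Agent.Lib.Elusive.OrthTI

/-!
Elements of odd prime order of odd-dimensional orthogonal groups fixing totally singular subspaces.
-/

set_option autoImplicit false
set_option linter.all false
set_option maxHeartbeats 1600000

namespace Cfsg.Agent.Elusive

open Module Polynomial QuadraticMap LBRootPoly LBRootTwist

variable {F : Type*} [Field F] [Fintype F] {r : ℕ} [Fact r.Prime] {d m i : ℕ}

local notation "VV" => Unit ⊕ (Fin d ⊕ Fin d) → F

lemma finrank_odd_space : finrank F (Unit ⊕ (Fin d ⊕ Fin d) → F) = 2 * d + 1 := by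
  simp [finrank_fintype_fun_eq_card]; omega

/-- Positive direction. -/
lemma tsFix_odd_dim (h2 : (2 : F) ≠ 0) (hr : (r : F) ≠ 0) (hr2 : r ≠ 2) (hi : i = orderOf (Fintype.card F : ZMod r))
    (hmd : m ≤ d) (h : Odd i ∧ 2 * (m % i) < (2 * d + 1) % (2 * i) ∨
      Even i ∧ 2 * (m % i) < (2 * d + 1) % i ∧ (r - 1) / i + 2 * (m / i) ≤ (2 * d + 1) / i) :
    TSFix (⇑(Orth.qOdd F d)) m r := by
  intro x hx hz _
  obtain ⟨Q, hQd⟩ : ∃ Q, Q = Orth.qOdd F d := ⟨_, rfl⟩
  rw [← hQd] at hx ⊢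
  have hQ : (polarBilin Q).Nondegenerate := hQd ▸ Orth.qOdd_nondeg h2 d
  obtain ⟨T, hT, e, hTW⟩ := exists_normal hQ (by simp) hr2 hx hz
  have hI := quad_isom (hQ := hQ) e
  have hi0 : 0 < i := hi ▸ orderOf_card_pos hr
  obtain ⟨N, hN, hsum⟩ := exists_moved_eq hT hr
  rw [← hi] at hN hsum
  rw [finrank_odd_space] at hsum
  have hev : Even (N * i) := hN ▸ even_moved_nd hQ hT hr hr2 e inv_moved le_rfl (SForm.nd_moved hT hr hI)
  obtain ⟨a, hae⟩ : ∃ a, finrank F (fixedSpace T) = 2 * a + 1 := by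
    obtain ⟨u, hu⟩ := hev
    exact ⟨d - u, by omega⟩
  rw [hae] at hsum
  have htd : i ∣ r - 1 := hi ▸ orderOf_dvd_of_pow_eq_one (ZMod.pow_card_sub_one_eq_one (card_ne (F := F) hr))
  obtain ⟨t, ht⟩ : ∃ t, t = (r - 1) / i := ⟨_, rfl⟩
  have hti : t * i = r - 1 := ht ▸ Nat.div_mul_cancel htd
  have hdm := Nat.div_add_mod' m i
  have hmi := Nat.mod_lt m hi0
  obtain ⟨j, hjm, hja, W, hWi, hWM, hWiso, hWd⟩ : ∃ j, j * i ≤ m ∧ m - j * i ≤ a ∧
      ∃ W, Inv T W ∧ W ≤ movedSpace T r ∧ (quadSF hQ).Iso W ∧ finrank F W = j * i := by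
    rcases h with ⟨hodd, h⟩ | ⟨heven, h, hA⟩
    · obtain ⟨N', rfl⟩ := (Nat.even_mul.1 hev).resolve_right (Nat.not_even_iff_odd.2 hodd)
      rw [Nat.add_mul] at hsum
      have key : ∀ j, j ≤ N' → ∃ W, Inv T W ∧ W ≤ movedSpace T r ∧ (quadSF hQ).Iso W ∧ finrank F W = j * i :=
        fun j hj => SForm.exists_iso_climb hT hr hI j _ (SForm.nd_moved hT hr hI) inv_moved
          (hi ▸ step_quad_odd hQ hT hr hr2 e (hi ▸ hodd)) (by
            rcases Nat.eq_zero_or_pos j with rfl | hj0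
            · exact Or.inl rfl
            · refine Or.inr ?_
              rw [hN, Nat.add_mul]
              have h3 : (j - 1) * i < N' * i := Nat.mul_lt_mul_of_pos_right (by omega) hi0
              omega)
      by_cases hle : N' ≤ m / i
      · have := Nat.mul_le_mul_right i hle
        exact ⟨N', by omega, by omega, key N' le_rfl⟩
      · refine ⟨m / i, by omega, ?_, key _ (by omega)⟩
        rw [show 2 * d + 1 = 2 * a + 1 + 2 * i * N' by rw [Nat.mul_assoc, Nat.mul_comm i]; omega,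
          Nat.add_mul_mod_self_left] at h
        have := Nat.mod_le (2 * a + 1) (2 * i)
        omega
    · rw [← ht] at hA
      have key : ∀ j, 2 * j ≤ N + 1 - t → ∃ W, Inv T W ∧ W ≤ movedSpace T r ∧ (quadSF hQ).Iso W ∧ finrank F W = j * i :=
        fun j hj => SForm.exists_iso_climb hT hr hI j _ (SForm.nd_moved hT hr hI) inv_moved
          (hi ▸ step_quad hQ hT hr hr2 e) (by
            rcases Nat.eq_zero_or_pos j with rfl | hj0
            · exact Or.inl rfl
            · refine Or.inr ?_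
              rw [hN, ← hti]
              have h3 : (2 * (j - 1) + t) * i < N * i := Nat.mul_lt_mul_of_pos_right (by omega) hi0
              rw [Nat.add_mul, Nat.mul_assoc] at h3
              omega)
      rw [show 2 * d + 1 = 2 * a + 1 + i * N by rw [mul_comm i]; omega] at h hA
      rw [Nat.add_mul_mod_self_left] at h
      rw [Nat.add_mul_div_left _ _ hi0] at hA
      have hdv := Nat.div_add_mod' (2 * a + 1) i
      by_cases hle : 2 * (m / i) ≤ N + 1 - t
      · exact ⟨m / i, by omega, by have := Nat.mod_le (2 * a + 1) i; omega, key _ hle⟩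
      · obtain ⟨v, hv⟩ : ∃ v, m / i = (N + 1 - t) / 2 + v := ⟨m / i - (N + 1 - t) / 2, by omega⟩
        have h4 : 2 * v * i ≤ (2 * a + 1) / i * i := Nat.mul_le_mul_right i (by omega)
        rw [hv, Nat.add_mul] at hdm
        rw [Nat.mul_assoc] at h4
        exact ⟨_, by omega, by omega, key _ (by omega : 2 * ((N + 1 - t) / 2) ≤ N + 1 - t)⟩
  obtain ⟨A, hA, hAiso, hAd⟩ := exists_fixed_sing hQ hT hr e (m - j * i) (by omega)
  exact fix_of_parts hQ hr e hTW hA hAiso hWi hWM hWiso (by omega)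

/-- Witnesses for even order. -/
lemma witness_odd_dim_even [DecidableEq F] (p : ℕ) [Fact p.Prime] [CharP F p] (h2 : (2 : F) ≠ 0) (hrp : r ≠ p) (hr2 : r ≠ 2)
    (hi : i = orderOf (Fintype.card F : ZMod r)) (hev : Even i) {s L f : ℕ} (hs : s < (r - 1) / i) (hL : 0 < L)
    (hn : 2 * d + 1 = f + (s + L) * i)
    (hno : ∀ c b, m = c + b * i → 2 * c < f → 2 * b ≤ L → False) : ¬ TSFix (⇑(Orth.qOdd F d)) m r := by
  classical
  have hrP : r.Prime := Fact.out
  have hr : (r : F) ≠ 0 := fun h => hrp (by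
    rw [CharP.cast_eq_zero_iff F p] at h
    exact ((Nat.prime_dvd_prime_iff_eq Fact.out hrP).1 h).symm)
  have hQ := Orth.qOdd_nondeg (F := F) h2 d
  have hi0 : 0 < i := hi ▸ orderOf_card_pos hr
  obtain ⟨h, hh⟩ := hev
  have htc : (factors F r).card = (r - 1) / i := by
    rw [← card_factors (F := F) p hrP hrp, ← hi, Nat.mul_div_cancel _ hi0]
  obtain ⟨g₀, hg₀⟩ : (factors F r).Nonempty := Finset.card_pos.1 (by omega)
  obtain ⟨S, hSsub, hScard⟩ := Finset.exists_subset_card_eq (s := (factors F r).erase g₀) (n := s)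
    (by rw [Finset.card_erase_of_mem hg₀, htc]; omega)
  have hmem : ∀ g ∈ factors F r, g.Monic ∧ Irreducible g ∧ g ∣ X ^ r - 1 ∧ g ≠ X - C 1 ∧ g.natDegree = i ∧
      rc (RingHom.id F) g = g := fun g hg => by
    obtain ⟨h1, h2, h3, h4⟩ := (mem_factors hrP.ne_zero).1 hg
    exact ⟨h2, h3, h4, h1, hi ▸ natDegree_factor hrP h2 h3 h4 h1,
      (LBEvenRoot.rc_self_iff' p hrP hr2 hrp hg).2 (hi ▸ ⟨h, hh⟩)⟩
  have hSf : ∀ g ∈ S, g ∈ factors F r := fun g hg => Finset.mem_of_mem_erase (hSsub hg)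
  obtain ⟨P, hP⟩ : ∃ P : F[X], P = (X - C 1) ^ f * (g₀ ^ L * ∏ g ∈ S, g) := ⟨_, rfl⟩
  have hGX : Good r (X - C 1 : F[X]) :=
    good_irred (monic_X_sub_C 1) (irreducible_X_sub_C 1) (dvd_iff_isRoot.2 (by simp [IsRoot]))
  have hgood : ∀ g ∈ factors F r, Good r g := fun g hg => good_irred (hmem g hg).1 (hmem g hg).2.1 (hmem g hg).2.2.1
  have hG : Good r P := hP ▸ good_mul (good_pow hGX f)
    (good_mul (good_pow (hgood g₀ hg₀) L) (good_prod fun g hg => hgood g (hSf g hg)))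
  have hdeg : P.natDegree = 2 * d + 1 := by
    have hm1 : (g₀ ^ L).Monic := (hmem g₀ hg₀).1.pow L
    have hm2 : (∏ g ∈ S, g).Monic := monic_prod_of_monic _ _ fun g hg => (hmem g (hSf g hg)).1
    rw [hP, ((monic_X_sub_C (1 : F)).pow f).natDegree_mul (hm1.mul hm2), hm1.natDegree_mul hm2, natDegree_pow,
      natDegree_pow, natDegree_X_sub_C, (hmem g₀ hg₀).2.2.2.2.1,
      natDegree_prod_of_monic _ _ (fun g hg => (hmem g (hSf g hg)).1),
      Finset.sum_congr rfl (fun g hg => (hmem g (hSf g hg)).2.2.2.2.1), Finset.sum_const, hScard, smul_eq_mul, hn,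
      Nat.add_mul]
    ring
  have hrc : rc (RingHom.id F) P = P := by
    rw [hP, rc_mul, rc_mul, rc_pow, rc_pow, rc_prod, rc_X_sub_one, (hmem g₀ hg₀).2.2.2.2.2,
      Finset.prod_congr rfl fun g hg => (hmem g (hSf g hg)).2.2.2.2.2]
  obtain ⟨A, hA⟩ := LBRootOrth.exists_model h2 hrP hr2 p d hdeg hG hrc
  refine not_fix_of_charpoly p hQ hr2 hrp hG A hA (hmem g₀ hg₀).2.1 (by rw [(hmem g₀ hg₀).2.2.2.2.1]; omega)
    (hP ▸ ((dvd_pow_self _ hL.ne').trans (dvd_mul_right _ _)).trans (dvd_mul_left _ _)) ?_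
  intro T hT e hc W hWi hWQ hWd
  have hI := quad_isom (hQ := hQ) e
  have hg₀S : g₀ ∉ S := fun hh' => (Finset.mem_erase.1 (hSsub hh')).1 rfl
  obtain ⟨b, hb, hbL⟩ := iso_bound p hT hr hr2 hI (hi ▸ ⟨h, hh⟩) (S := S) (fun g hg => hSf g hg) g₀
    (fun _ => ⟨hg₀, hg₀S⟩) (hc.trans hP) hWi (quad_iso (hQ := hQ) hWQ).1
  rw [← hi] at hb
  obtain ⟨hsplit, hfx, -⟩ := SForm.iso_parts hT hr hI hWi (quad_iso (hQ := hQ) hWQ)
  have hfd : finrank F (fixedSpace T) = f := by
    refine finrank_fixed_charpoly hT hr (hc.trans hP) fun hd => ?_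
    have hX : Prime (X - C 1 : F[X]) := prime_X_sub_C 1
    have hne : ∀ g ∈ factors F r, ¬ (X - C 1 : F[X]) ∣ g := fun g hg hd' => (hmem g hg).2.2.2.1
      (eq_of_monic_of_associated (monic_X_sub_C 1) (hmem g hg).1
        ((irreducible_X_sub_C 1).associated_of_dvd (hmem g hg).2.1 hd')).symm
    rcases hX.dvd_or_dvd hd with h1 | h1
    · exact hne g₀ hg₀ (hX.dvd_of_dvd_pow h1)
    · obtain ⟨g, hg, hd'⟩ := (hX.dvd_finsetProd_iff _).1 h1
      exact hne g (hSf g hg) hd'
  rw [hfd] at hfx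
  have hfodd : f % 2 = 1 := by
    have : (s + L) * i = 2 * ((s + L) * h) := by rw [hh]; ring
    omega
  exact hno _ b (by rw [← hWd, hsplit, hb, mul_comm]) (by omega) hbL

/-- Witnesses for odd order. -/
lemma witness_odd_dim_odd [DecidableEq F] (p : ℕ) [Fact p.Prime] [CharP F p] (h2 : (2 : F) ≠ 0) (hrp : r ≠ p) (hr2 : r ≠ 2)
    (hi : i = orderOf (Fintype.card F : ZMod r)) (hodd : Odd i) (hmd : m ≤ d) (h : d % i < m % i) :
    ¬ TSFix (⇑(Orth.qOdd F d)) m r := by
  classical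
  have hrP : r.Prime := Fact.out
  have hr : (r : F) ≠ 0 := fun h => hrp (by
    rw [CharP.cast_eq_zero_iff F p] at h
    exact ((Nat.prime_dvd_prime_iff_eq Fact.out hrP).1 h).symm)
  have hQ := Orth.qOdd_nondeg (F := F) h2 d
  have hi0 : 0 < i := hi ▸ orderOf_card_pos hr
  have hdm := Nat.div_add_mod' d i
  have hmi := Nat.mod_lt m hi0
  have hml := Nat.mod_le m i
  obtain ⟨n, hn⟩ : ∃ n, n = d / i := ⟨_, rfl⟩
  obtain ⟨k, hk⟩ : ∃ k, k = d % i := ⟨_, rfl⟩
  rw [← hn, ← hk] at hdm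
  rw [← hk] at h
  have hn0 : 0 < n := Nat.pos_of_ne_zero fun e => by rw [e, zero_mul] at hdm; omega
  have htc : (factors F r).card * i = r - 1 := hi ▸ card_factors p hrP hrp
  obtain ⟨g, hg⟩ : (factors F r).Nonempty := Finset.card_pos.1 (Nat.pos_of_ne_zero fun e => by
    rw [e, zero_mul] at htc; have := hrP.two_le; omega)
  obtain ⟨hg1, hgm, hgi, hgd⟩ := (mem_factors hrP.ne_zero).1 hg
  have hid : ∀ x : F, RingHom.id F (RingHom.id F x) = x := fun _ => rfl
  obtain ⟨hg1', hgm', hgi', hgd'⟩ := (mem_factors hrP.ne_zero).1 (rc_mem_factors _ hid hrP hg)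
  have hdg : g.natDegree = i := hi ▸ natDegree_factor hrP hgm hgi hgd hg1
  have hdg' : (rc (RingHom.id F) g).natDegree = i := hi ▸ natDegree_factor hrP hgm' hgi' hgd' hg1'
  obtain ⟨P, hP⟩ : ∃ P : F[X], P = (X - C 1) ^ (2 * k + 1) * (g * rc (RingHom.id F) g) ^ n := ⟨_, rfl⟩
  have hGX : Good r (X - C 1 : F[X]) :=
    good_irred (monic_X_sub_C 1) (irreducible_X_sub_C 1) (dvd_iff_isRoot.2 (by simp [IsRoot]))
  have hG : Good r P := hP ▸ good_mul (good_pow hGX _)
    (good_pow (good_mul (good_irred hgm hgi hgd) (good_irred hgm' hgi' hgd')) n)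
  have hdeg : P.natDegree = 2 * d + 1 := by
    rw [hP, ((monic_X_sub_C (1 : F)).pow _).natDegree_mul ((hgm.mul hgm').pow _), natDegree_pow, natDegree_pow,
      natDegree_X_sub_C, hgm.natDegree_mul hgm', hdg, hdg', ← hdm]
    ring
  have hrc : rc (RingHom.id F) P = P := by
    rw [hP, rc_mul, rc_pow, rc_pow, rc_mul, rc_X_sub_one, rc_rc _ hid hgm (factor_coeff_zero hrP.ne_zero hgd),
      mul_comm (rc _ g)]
  obtain ⟨A, hA⟩ := LBRootOrth.exists_model h2 hrP hr2 p d hdeg hG hrc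
  refine not_fix_of_charpoly p hQ hr2 hrp hG A hA hgi (by rw [hdg]; omega)
    (hP ▸ ((dvd_mul_right g _).trans (dvd_pow_self _ hn0.ne')).trans (dvd_mul_left _ _)) ?_
  intro T hT e hc W hWi hWQ hWd
  have hI := quad_isom (hQ := hQ) e
  obtain ⟨hsplit, hfx, -⟩ := SForm.iso_parts hT hr hI hWi (quad_iso (hQ := hQ) hWQ)
  obtain ⟨b, hb⟩ := dvd_finrank_moved hT hr (W := W ⊓ movedSpace T r)
    (fun v hv => ⟨hWi v hv.1, inv_moved v hv.2⟩) inf_le_right
  rw [← hi] at hb
  have hfd : finrank F (fixedSpace T) = 2 * k + 1 := by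
    refine finrank_fixed_charpoly hT hr (hc.trans hP) fun hd => ?_
    have hX : Prime (X - C 1 : F[X]) := prime_X_sub_C 1
    rcases hX.dvd_or_dvd (hX.dvd_of_dvd_pow hd) with h1 | h1
    · exact hg1 (eq_of_monic_of_associated (monic_X_sub_C 1) hgm ((irreducible_X_sub_C 1).associated_of_dvd hgi h1)).symm
    · exact hg1' (eq_of_monic_of_associated (monic_X_sub_C 1) hgm' ((irreducible_X_sub_C 1).associated_of_dvd hgi' h1)).symm
  rw [hfd] at hfx
  have hck : finrank F (W ⊓ fixedSpace T : Submodule F VV) = m % i := by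
    rw [← hWd, hsplit, hb, Nat.add_mul_mod_self_left, Nat.mod_eq_of_lt (by omega)]
  omega

/-- The criterion for odd primes. -/
theorem tsFix_iff_odd_dim [DecidableEq F] (p : ℕ) [Fact p.Prime] [CharP F p] (h2 : (2 : F) ≠ 0) (hrp : r ≠ p) (hr2 : r ≠ 2)
    (hi : i = orderOf (Fintype.card F : ZMod r)) {c : ℕ} (hc : c = if Even i then i else 2 * i) (hm : 1 ≤ m) (hmd : m ≤ d)
    (hdvd : r ∣ Nat.card (TSub (Orth.qOdd F d) m)) :
    TSFix (⇑(Orth.qOdd F d)) m r ↔ i ≤ m ∧ 2 * (m % i) < (2 * d + 1) % c ∧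
      (Odd i ∨ (r - 1) / i + 2 * (m / i) ≤ (2 * d + 1) / i) := by
  classical
  have hrP : r.Prime := Fact.out
  have hr : (r : F) ≠ 0 := fun h => hrp (by
    rw [CharP.cast_eq_zero_iff F p] at h
    exact ((Nat.prime_dvd_prime_iff_eq Fact.out hrP).1 h).symm)
  have hi0 : 0 < i := hi ▸ orderOf_card_pos hr
  have hx0 := card_ne (F := F) hr
  have htd : i ∣ r - 1 := hi ▸ orderOf_dvd_of_pow_eq_one (ZMod.pow_card_sub_one_eq_one hx0)
  have ht0 : 0 < (r - 1) / i := Nat.div_pos (Nat.le_of_dvd (by have := hrP.two_le; omega) htd) hi0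
  obtain ⟨j, hjm, hj⟩ := count_ts m (Orth.qOdd F d) (Orth.qOdd_nondeg h2 d) 0 (by
    rw [finrank_odd_space, Orth.zeros_qOdd, Nat.cast_pow, Nat.card_eq_fintype_card, pow_succ]; ring) hdvd
  rw [finrank_odd_space, zero_mul, add_zero, show 2 * d + 1 = 2 * j + 1 + 2 * (d - j) by omega, pow_add,
    mul_eq_left₀ (pow_ne_zero _ hx0)] at hj
  have hdj : i ∣ 2 * (d - j) := hi ▸ orderOf_dvd_of_pow_eq_one hj
  constructor
  · intro hall
    have hdm := Nat.div_add_mod' m i
    have hmi := Nat.mod_lt m hi0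
    have hml := Nat.mod_le m i
    rcases Nat.even_or_odd i with hev | hodd
    · rw [if_pos hev] at hc
      subst hc
      obtain ⟨n, hn⟩ : ∃ n, n = (2 * d + 1) / c := ⟨_, rfl⟩
      obtain ⟨k, hk⟩ : ∃ k, k = (2 * d + 1) % c := ⟨_, rfl⟩
      have hdn : 2 * d + 1 = n * c + k := by rw [hn, hk]; exact (Nat.div_add_mod' _ c).symm
      have hki : k < c := hk ▸ Nat.mod_lt _ hi0
      obtain ⟨t, ht⟩ : ∃ t, t = (r - 1) / c := ⟨_, rfl⟩
      rw [← ht] at ht0 ⊢
      rw [← hn, ← hk]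
      obtain ⟨h, hh⟩ := hev
      have hke : k % 2 = 1 := by
        rw [hk, Nat.mod_mod_of_dvd _ (⟨h, by omega⟩ : 2 ∣ c)]; omega
      have hw : ∀ {s L f : ℕ}, s < t → 0 < L → 2 * d + 1 = f + (s + L) * c →
          (∀ e b, m = e + b * c → 2 * e < f → 2 * b ≤ L → False) → False :=
        fun hs hL hn' hno => witness_odd_dim_even p h2 hrp hr2 hi ⟨h, hh⟩ (ht ▸ hs) hL hn' hno hall
      have hB : 2 * (m % c) < k := by
        rcases Nat.eq_zero_or_pos n with hn0 | hn0
        · rw [hn0, zero_mul] at hdn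
          omega
        by_contra hlt
        refine hw (s := 0) (L := n) (f := k) ht0 hn0 (by simp only [Nat.zero_add]; omega) fun e b he hek _ => ?_
        have : m % c = e := by rw [he, Nat.add_mul_mod_self_right, Nat.mod_eq_of_lt (by omega)]
        omega
      have him : c ≤ m := by
        by_contra hlt
        rw [Nat.mod_eq_of_lt (show m < c by omega)] at hB
        obtain ⟨u, hu⟩ := hdj
        rw [hk, show 2 * d + 1 = 2 * j + 1 + c * u by omega, Nat.add_mul_mod_self_left] at hB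
        have := Nat.mod_le (2 * j + 1) c
        omega
      refine ⟨him, hB, Or.inr ?_⟩
      by_contra hA
      have hn0 : 0 < n := Nat.pos_of_ne_zero fun e => by rw [e, zero_mul] at hdn; omega
      rcases Nat.lt_or_ge n t with hlt | hge
      · refine hw (s := n - 1) (L := 1) (f := k) (by omega) one_pos ?_ fun e b he hek hb => ?_
        · rw [show n - 1 + 1 = n by omega]; omega
        · obtain rfl : b = 0 := by omega
          omega
      · obtain ⟨J, hJ⟩ : ∃ J, J = (n - t) / 2 := ⟨_, rfl⟩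
        have hle : (t + 2 * J) * c ≤ n * c := Nat.mul_le_mul_right c (by omega)
        refine hw (s := t - 1) (L := 2 * J + 1) (f := 2 * d + 1 - (t + 2 * J) * c) (by omega) (by omega) ?_
          fun e b he hek hb => ?_
        · rw [show t - 1 + (2 * J + 1) = t + 2 * J by omega]; omega
        · have h1 : b * c ≤ J * c := Nat.mul_le_mul_right c (by omega)
          have h2 : (n + 1) * c ≤ (t + 2 * (m / c)) * c := Nat.mul_le_mul_right c (by omega)
          simp only [Nat.add_mul, one_mul, Nat.mul_assoc] at h2 hek hle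
          omega
    · rw [if_neg (Nat.not_even_iff_odd.2 hodd)] at hc
      subst hc
      have hk : (2 * d + 1) % (2 * i) = 2 * (d % i) + 1 := by
        have h1 := Nat.div_add_mod' d i
        have h2 := Nat.mod_lt d hi0
        rw [show 2 * d + 1 = 2 * (d % i) + 1 + 2 * i * (d / i) by rw [Nat.mul_assoc, Nat.mul_comm i]; omega,
          Nat.add_mul_mod_self_left, Nat.mod_eq_of_lt (by omega)]
      have hB : m % i ≤ d % i := not_lt.1 fun hlt => witness_odd_dim_odd p h2 hrp hr2 hi hodd hmd hlt hall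
      refine ⟨?_, by omega, Or.inl hodd⟩
      by_contra hlt
      rw [Nat.mod_eq_of_lt (show m < i by omega)] at hB
      obtain ⟨u, hu⟩ := (Nat.coprime_two_right.2 hodd).dvd_of_dvd_mul_left hdj
      rw [show d = j + i * u by omega, Nat.add_mul_mod_self_left] at hB
      have := Nat.mod_le j i
      omega
  · rintro ⟨-, hB, hA⟩
    refine tsFix_odd_dim h2 hr hr2 hi hmd ?_
    rcases Nat.even_or_odd i with hev | hodd
    · rw [hc, if_pos hev] at hB
      exact Or.inr ⟨hev, hB, hA.resolve_left (Nat.not_odd_iff_even.2 hev)⟩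
    · rw [hc, if_neg (Nat.not_even_iff_odd.2 hodd)] at hB
      exact Or.inl ⟨hodd, hB⟩

end Cfsg.Agent.Elusive
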