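import Cfsg.Agent.Lib.Elusive.OrthInvol

/-!
Involutions of orthogonal groups fixing totally singular subspaces.
-/

set_option autoImplicit false
set_option linter.all false
set_option maxHeartbeats 1600000

namespace Cfsg.Agent.Elusive

open Module QuadraticMap

section spaces
variable {F : Type*} [Field F] [Fintype F] {V : Type*} [AddCommGroup V] [Module F V] [FiniteDimensional F V]
  {Q : QuadraticForm F V} {T : Module.End F V}

lemma card_ne_two (h2 : (2 : F) ≠ 0) : Fintype.card F % 2 = 1 :=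
  FiniteField.odd_card_of_char_ne_two fun hc => h2 (by
    haveI := ringChar.of_eq hc
    exact CharP.cast_eq_zero F 2)

lemma square_neg_one (h2 : (2 : F) ≠ 0) : IsSquare (-1 : F) ↔ Fintype.card F % 4 = 1 := by
  rw [FiniteField.isSquare_neg_one_iff]
  have := card_ne_two (F := F) h2
  omega

lemma square_mul_nonsquares (h2 : (2 : F) ≠ 0) {a b : F} (ha : ¬ IsSquare a) (hb : ¬ IsSquare b) : IsSquare (a * b) := by
  classical
  have hc : ringChar F ≠ 2 := fun hc => h2 (by
    haveI := ringChar.of_eq hc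
    exact CharP.cast_eq_zero F 2)
  have ha0 : a ≠ 0 := fun h => ha (h ▸ IsSquare.zero)
  have hb0 : b ≠ 0 := fun h => hb (h ▸ IsSquare.zero)
  rw [← quadraticChar_one_iff_isSquare (mul_ne_zero ha0 hb0), map_mul, quadraticChar_neg_one_iff_not_isSquare.2 ha,
    quadraticChar_neg_one_iff_not_isSquare.2 hb]
  norm_num

lemma neg_one_pow_square {b : ℕ} (h : IsSquare (-1 : F)) : IsSquare ((-1 : F) ^ b) := h.pow b

omit [Fintype F] [FiniteDimensional F V] in
lemma exists_sub_dim {W : Submodule F V} [FiniteDimensional F V] {k : ℕ} (h : k ≤ finrank F W) :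
    ∃ W' ≤ W, finrank F W' = k := by
  obtain ⟨C, -, hC, hd⟩ := exists_between (bot_le (a := W)) k (by rw [finrank_bot]; omega)
  exact ⟨C, hC, by rw [hd, finrank_bot, Nat.zero_add]⟩

omit [Fintype F] [FiniteDimensional F V] in
lemma mem_moved_two {v : V} : v ∈ movedSpace T 2 ↔ T v = -v := by
  rw [movedSpace, LinearMap.mem_ker]
  simp [Finset.sum_range_succ]
  rw [eq_neg_iff_add_eq_zero, add_comm]

/-- Singular subspaces inside a non-degenerate one. -/
lemma exists_sing_in (hQ : (polarBilin Q).Nondegenerate) {S : Submodule F V} (hS : (quadSF hQ).ND S) {k : ℕ}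
    (hk : k = 0 ∨ 2 * k < finrank F S) : ∃ A : Submodule F V, A ≤ S ∧ (∀ u ∈ A, Q u = 0) ∧ finrank F A = k := by
  obtain ⟨A, -, hA, hAiso, hAd⟩ := SForm.exists_iso_climb (T := (1 : Module.End F V)) (r := 1) (pow_one 1)
    (by simp) (quad_isom (hQ := hQ) fun v => rfl) (i := 1) (D := 2) k S hS (fun v hv => by simpa using hv)
    (step_quad_line hQ _ _ (fun v _ => by rw [mem_fixedSpace]; rfl))
    (by rcases Nat.eq_zero_or_pos k with h | h <;> [exact Or.inl h; exact Or.inr (by omega)])
  exact ⟨A, hA, hAiso.2, by rw [hAd, mul_one]⟩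

/-- Subspaces of the two eigenspaces. -/
lemma fix_eigen (hQ : (polarBilin Q).Nondegenerate) (h2 : (2 : F) ≠ 0) (e : ∀ v, Q (T v) = Q v) {A B : Submodule F V}
    (hA : A ≤ fixedSpace T) (hAQ : ∀ u ∈ A, Q u = 0) (hB : B ≤ movedSpace T 2) (hBQ : ∀ u ∈ B, Q u = 0) {m : ℕ}
    (hm : m ≤ finrank F A + finrank F B) :
    ∃ W : Submodule F V, finrank F W = m ∧ (∀ w ∈ W, Q w = 0) ∧ Inv T W := by
  obtain ⟨A', hA', hAd⟩ := exists_sub_dim (W := A) (k := min m (finrank F A)) (Nat.min_le_right _ _)
  obtain ⟨B', hB', hBd⟩ := exists_sub_dim (W := B) (k := m - min m (finrank F A)) (by omega)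
  obtain ⟨h1, h3, h4⟩ := SForm.iso_join (r := 2) (by exact_mod_cast h2) (quad_isom (hQ := hQ) e) (hA'.trans hA)
    (quad_iso fun u hu => hAQ u (hA' hu)) (fun v hv => by
      rw [mem_moved_two.1 (hB (hB' hv))]; exact B'.neg_mem hv)
    (hB'.trans hB) (quad_iso fun u hu => hBQ u (hB' hu))
  exact ⟨A' ⊔ B', by rw [h4, hAd, hBd]; omega, h3.2, h1⟩

/-- Eigenspaces of an element with square minus one. -/
lemma fix_neg_square_one (h2 : (2 : F) ≠ 0) (e : ∀ v, Q (T v) = Q v) (hT : ∀ v, T (T v) = -v) (hs : IsSquare (-1 : F)) :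
    ∃ W : Submodule F V, finrank F V ≤ 2 * finrank F W ∧ (∀ w ∈ W, Q w = 0) ∧ ∀ U ≤ W, Inv T U := by
  obtain ⟨s, hs⟩ := hs
  have hE : ∀ ε : F, ε * ε = -1 → ∀ v ∈ LinearMap.ker (T - ε • 1), T v = ε • v := fun ε _ v hv => sub_eq_zero.1 hv
  have hsing : ∀ ε : F, ε * ε = -1 → ∀ v ∈ LinearMap.ker (T - ε • 1), Q v = 0 := fun ε hε v hv => by
    have h1 := e v
    rw [hE ε hε v hv, QuadraticMap.map_smul, hε, smul_eq_mul] at h1
    have : (2 : F) * Q v = 0 := by linear_combination -h1
    exact (mul_eq_zero.1 this).resolve_left h2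
  have hinv : ∀ ε : F, ε * ε = -1 → ∀ U ≤ LinearMap.ker (T - ε • 1), Inv T U := fun ε hε U hU v hv => by
    rw [hE ε hε v (hU hv)]; exact U.smul_mem _ hv
  have hsum : LinearMap.ker (T - s • 1) ⊔ LinearMap.ker (T - (-s) • 1) = ⊤ := by
    refine eq_top_iff.2 fun v _ => ?_
    have e1 : v = (2⁻¹ : F) • (v - s • T v) + (2⁻¹ : F) • (v + s • T v) := by
      rw [← smul_add, show v - s • T v + (v + s • T v) = (2 : F) • v by rw [two_smul]; abel, inv_smul_smul₀ h2]
    have hsT : ∀ ε : F, ε * ε = -1 → v - ε • T v ∈ LinearMap.ker (T - ε • 1) := fun ε hε => by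
      rw [LinearMap.mem_ker, LinearMap.sub_apply, LinearMap.smul_apply, Module.End.one_apply, map_sub, map_smul,
        hT, smul_sub, smul_smul, hε, neg_one_smul, smul_neg]
      abel
    rw [e1]
    refine Submodule.add_mem_sup (Submodule.smul_mem _ _ (hsT s hs.symm)) (Submodule.smul_mem _ _ ?_)
    have := hsT (-s) (by rw [neg_mul_neg]; exact hs.symm)
    rwa [show v - -s • T v = v + s • T v by rw [neg_smul, sub_neg_eq_add]] at this
  have htot := Submodule.finrank_add_le_finrank_add_finrank (LinearMap.ker (T - s • 1)) (LinearMap.ker (T - (-s) • 1))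
  rw [hsum, finrank_top] at htot
  rcases le_total (finrank F (LinearMap.ker (T - (-s) • 1))) (finrank F (LinearMap.ker (T - s • 1))) with h | h
  · exact ⟨_, by omega, hsing s hs.symm, hinv s hs.symm⟩
  · have hs' : -s * -s = -1 := by rw [neg_mul_neg]; exact hs.symm
    exact ⟨_, by omega, hsing _ hs', hinv _ hs'⟩

omit [Fintype F] [FiniteDimensional F V] in
lemma polar_turn (h2 : (2 : F) ≠ 0) (e : ∀ v, Q (T v) = Q v) (hT : ∀ v, T (T v) = -v) (u w : V) :
    polar Q u (T w) = -polar Q (T u) w ∧ polar Q (T u) (T w) = polar Q u w ∧ polar Q u (T u) = 0 := by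
  have e1 : ∀ x y, polar Q (T x) (T y) = polar Q x y := fun x y => by simp only [polar, ← map_add, e]
  have e2 : ∀ x y, polar Q x (T y) = -polar Q (T x) y := fun x y => by
    rw [← e1 x (T y), hT, polar_neg_right]
  refine ⟨e2 u w, e1 u w, ?_⟩
  have h := e2 u u
  rw [polar_comm Q (T u) u] at h
  have : (2 : F) * polar Q u (T u) = 0 := by linear_combination h
  exact (mul_eq_zero.1 this).resolve_left h2

/-- Invariant subspaces of even dimension. -/
lemma fix_neg_climb (hQ : (polarBilin Q).Nondegenerate) (h2 : (2 : F) ≠ 0) (e : ∀ v, Q (T v) = Q v)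
    (hT : ∀ v, T (T v) = -v) (hs : ¬ IsSquare (-1 : F)) {j : ℕ} (hj : j = 0 ∨ 4 * (j - 1) + 2 < finrank F V) :
    ∃ W : Submodule F V, finrank F W = 2 * j ∧ (∀ w ∈ W, Q w = 0) ∧ Inv T W := by
  have hstep : SForm.Step (quadSF hQ) T ⊤ 2 2 := by
    intro U hUi _ hU hD
    let b := Module.finBasis F V
    obtain ⟨v, hvU, hv0, hv⟩ := exists_common_zero (F := F) (κ := Unit) (fun _ => Q.toBilin b) U (by simpa using hD)
    have hQv : Q v = 0 := by
      have h1 := hv ()
      rw [← LinearMap.BilinMap.toQuadraticMap_apply, QuadraticMap.toQuadraticMap_toBilin] at h1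
      exact h1
    refine ⟨Submodule.span F {v, T v}, fun w hw => ?_, Submodule.span_le.2
      (Set.insert_subset hvU (Set.singleton_subset_iff.2 (hUi v hvU))), quad_iso fun w hw => ?_, ?_⟩
    · obtain ⟨a, b, rfl⟩ := Submodule.mem_span_pair.1 hw
      rw [map_add, map_smul, map_smul, hT, smul_neg, ← neg_smul]
      exact Submodule.add_mem _ (Submodule.smul_mem _ _ (Submodule.subset_span (Or.inr rfl)))
        (Submodule.smul_mem _ _ (Submodule.subset_span (Or.inl rfl)))
    · obtain ⟨a, b, rfl⟩ := Submodule.mem_span_pair.1 hw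
      rw [q_comb, hQv, e, hQv, (polar_turn h2 e hT v v).2.2]; ring
    · have hli : LinearIndependent F ![v, T v] := by
        refine LinearIndependent.pair_iff.2 fun a b hab => ?_
        by_cases hb : b = 0
        · subst hb
          rw [zero_smul, add_zero] at hab
          exact ⟨(smul_eq_zero.1 hab).resolve_right hv0, rfl⟩
        · exfalso
          have hTv : T v = (-a / b) • v := by
            have e' : b • T v = -(a • v) := eq_neg_of_add_eq_zero_right hab
            calc T v = b⁻¹ • (b • T v) := by rw [inv_smul_smul₀ hb]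
              _ = _ := by rw [e', ← neg_smul, smul_smul, inv_mul_eq_div]
          refine hs ⟨-a / b, ?_⟩
          have h5 := hT v
          rw [hTv, map_smul, hTv, smul_smul, ← neg_one_smul F v] at h5
          exact (smul_left_injective F hv0 h5).symm
      have h6 := finrank_span_eq_card hli
      rw [Matrix.range_cons, Matrix.range_cons, Matrix.range_empty, Set.union_empty, Set.singleton_union,
        Fintype.card_fin] at h6
      exact h6
  obtain ⟨W, hWi, -, hWiso, hWd⟩ := SForm.exists_iso_climb' (r := 2) (c := (-1 : F)) (T := T)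
    (LinearMap.ext fun v => by rw [pow_two, Module.End.mul_apply, hT, neg_one_smul]; rfl)
    (neg_ne_zero.2 one_ne_zero) (by exact_mod_cast h2) (quad_isom (hQ := hQ) e) j ⊤ (SForm.nd_top _)
    (fun _ _ => trivial) hstep (hj.imp_right fun h => by rw [finrank_top]; omega)
  exact ⟨W, by rw [hWd]; ring, hWiso.2, hWi⟩

/-- Adapted orthogonal families. -/
lemma exists_jfam (hQ : (polarBilin Q).Nondegenerate) (h2 : (2 : F) ≠ 0) (e : ∀ v, Q (T v) = Q v)
    (hT : ∀ v, T (T v) = -v) : ∀ n, 2 * n ≤ finrank F V → ∃ u : ℕ → V, OFam Q (2 * n) (fun k => if k % 2 = 0 then u (k / 2) else T (u (k / 2))) := by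
  intro n
  induction n with
  | zero => exact fun _ => ⟨fun _ => 0, fun i hi => absurd hi (by omega), fun i hi => absurd hi (by omega)⟩
  | succ n ih =>
    intro hn
    obtain ⟨u, hu⟩ := ih (by omega)
    obtain ⟨w, -, hw0, hwo⟩ := exists_extend (hQ := hQ) h2 (SForm.nd_top _) hu (fun i _ => Submodule.mem_top)
      (by rw [finrank_top]; omega)
    refine ⟨fun i => if i = n then w else u i, fun i hi j hj hij => ?_, fun i hi => ?_⟩
    · have hlow : ∀ l < n, polar Q (u l) w = 0 ∧ polar Q (T (u l)) w = 0 := fun l hl => by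
        have h1 := hwo (2 * l) (by omega)
        have h3 := hwo (2 * l + 1) (by omega)
        simp only [show 2 * l % 2 = 0 by omega, show 2 * l / 2 = l by omega, show ¬ (2 * l + 1) % 2 = 0 by omega,
          show (2 * l + 1) / 2 = l by omega, if_true, if_false] at h1 h3
        exact ⟨h1, h3⟩
      have hcross : ∀ l < n, polar Q (u l) (T w) = 0 ∧ polar Q (T (u l)) (T w) = 0 := fun l hl =>
        ⟨by rw [(polar_turn h2 e hT (u l) w).1, (hlow l hl).2, neg_zero],
          by rw [(polar_turn h2 e hT (u l) w).2.1, (hlow l hl).1]⟩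
      have hww := (polar_turn h2 e hT w w).2.2
      dsimp only
      split_ifs with h1 h3 h3
      all_goals first
        | omega
        | exact hww
        | (rw [polar_comm]; exact hww)
        | exact (hlow _ (by omega)).1
        | exact (hlow _ (by omega)).2
        | exact (hcross _ (by omega)).1
        | exact (hcross _ (by omega)).2
        | (rw [polar_comm]; first
            | exact (hlow _ (by omega)).1
            | exact (hlow _ (by omega)).2
            | exact (hcross _ (by omega)).1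
            | exact (hcross _ (by omega)).2)
        | (have h9 := hu.1 i (by omega) j (by omega) hij; simpa [*] using h9)
    · dsimp only
      split_ifs with h1 h3 h3
      all_goals first
        | exact hw0
        | (rw [e]; exact hw0)
        | (have h9 := hu.2 i (by omega); simpa [*] using h9)

end spaces

section group
variable {F : Type*} [Field F] [Fintype F] {ι : Type} [Fintype ι] [DecidableEq ι] {Q : QuadraticForm F (ι → F)}

omit [Fintype F] in
lemma det_omega {x : GL ι F} (hx : x ∈ Cfsg.Geo.omegaGL (⇑Q)) : Matrix.det (x : Matrix ι ι F) = 1 := by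
  obtain ⟨g, hg, rfl⟩ := hx
  have := Abelianization.commutator_subset_ker
    ((Matrix.GeneralLinearGroup.det).comp (Cfsg.isometryGroup F (⇑Q)).subtype) hg
  rw [MonoidHom.mem_ker] at this
  exact congrArg Units.val this

/-- An element of the derived subgroup from its spinor value. -/
lemma mem_omega_of_ker {χ : ↥(Cfsg.isometryGroup F (⇑Q)) →* Orth.SpinVal F} (hker : χ.ker = Cfsg.Omega F (⇑Q))
    {g : ↥(Cfsg.isometryGroup F (⇑Q))} (h : χ g = 1) : (g : GL ι F) ∈ Cfsg.Geo.omegaGL (⇑Q) := by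
  refine ⟨g, ?_, rfl⟩
  show g ∈ Cfsg.Omega F (⇑Q)
  rw [← hker]; exact h

variable (hQ : (polarBilin Q).Nondegenerate) (h2 : (2 : F) ≠ 0) (hn : 2 ≤ Fintype.card ι)
include hQ h2 hn

lemma exists_value : ∃ v, Q v ≠ 0 := by
  by_cases h : ∃ v, Q v ≠ 0
  · exact h
  push Not at h
  rcases isEmpty_or_nonempty ι with he | ⟨⟨k⟩⟩
  · simp at hn
  · have := hQ.1 (Pi.single k 1) fun w => by simp [polar, h]
    exact absurd (congrFun this k) (by simp)

/-- The negative eigenspace of an involution of the derived subgroup. -/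
lemma disc_moved {x : GL ι F} (hx : x ∈ Cfsg.Geo.omegaGL (⇑Q)) (hxx : ∀ v, Matrix.toLin' x.1 (Matrix.toLin' x.1 v) = v) :
    ∃ b : ℕ, finrank F (movedSpace (Matrix.toLin' x.1) 2) = 2 * b ∧ ∃ e : ℕ → ι → F, OFam Q (2 * b) e ∧
      (∀ i < 2 * b, e i ∈ movedSpace (Matrix.toLin' x.1) 2) ∧ IsSquare (∏ i ∈ Finset.range (2 * b), Q (e i)) := by
  have he := mem_omega_preserves hx
  have hI := quad_isom (hQ := hQ) he
  have hT : Matrix.toLin' x.1 ^ 2 = 1 := LinearMap.ext fun v => by rw [pow_two, Module.End.mul_apply]; exact hxx v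
  have hr : ((2 : ℕ) : F) ≠ 0 := by exact_mod_cast h2
  haveI : Fact (Nat.Prime 2) := ⟨Nat.prime_two⟩
  obtain ⟨n, hnd⟩ : ∃ n, n = finrank F (movedSpace (Matrix.toLin' x.1) 2) := ⟨_, rfl⟩
  obtain ⟨e, hfam, hmem⟩ := exists_ofam h2 (SForm.nd_moved hT hr hI) n hnd.le
  have hq : Fintype.card F ≠ 2 ∨ Fintype.card ι ≠ 4 := Or.inl fun hc => by
    have := card_ne_two (F := F) h2; omega
  obtain ⟨χ, hker, -, hχ⟩ := Orth.exists_matrix_spinor Q hQ hn hq
  obtain ⟨g, hg1, hg2, hg3⟩ := exists_sign hχ n e hfam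
  have hspan := hfam.span_eq h2 hmem hnd.symm
  have heq : Matrix.toLin' x.1 = Matrix.toLin' (g : GL ι F).1 := by
    refine LinearMap.ext fun v => ?_
    obtain ⟨a, ha, b, hb, rfl⟩ := Submodule.mem_sup.1
      ((split_inv hT hr (W := ⊤) fun _ _ => trivial).ge (Submodule.mem_top (x := v)))
    have hga : Matrix.toLin' (g : GL ι F).1 a = a := hg2 _ fun i hi => by
      rw [polar_comm]; exact SForm.fixed_perp_moved hr hI ha.2 (hmem i hi)
    have hgb : Matrix.toLin' (g : GL ι F).1 b = -b := by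
      have : Submodule.span F (Set.range fun i : Fin n => e i) ≤ LinearMap.ker (Matrix.toLin' (g : GL ι F).1 + 1) :=
        Submodule.span_le.2 (by
          rintro _ ⟨i, rfl⟩
          simp [hg1 i i.2])
      exact eq_neg_of_add_eq_zero_left (this (hspan.symm ▸ hb.2))
    rw [map_add, map_add, mem_fixedSpace.1 ha.2, mem_moved_two.1 hb.2, hga, hgb]
  have hxg : x = (g : GL ι F) := Units.ext (Matrix.toLin'.injective heq)
  obtain ⟨g', hg', hgx⟩ := hx
  have : χ g = 1 := by
    rw [← MonoidHom.mem_ker, hker, show g = g' from Subtype.ext (hxg.symm.trans hgx.symm)]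
    exact hg'
  rw [hg3, Prod.mk_eq_one, ofAdd_eq_one, ZMod.natCast_eq_zero_iff, Orth.sqc_eq_one_iff hfam.prod_ne] at this
  obtain ⟨⟨b, hb⟩, hsq⟩ := this
  exact ⟨b, by omega, e, hb ▸ hfam, fun i hi => hmem i (by omega), hb ▸ hsq⟩

/-- The parity of `d` for elements with square minus one. -/
lemma turn_square {d : ℕ} (hι : Fintype.card ι = 2 * d) {x : GL ι F} (hx : x ∈ Cfsg.Geo.omegaGL (⇑Q))
    (hxx : ∀ v, Matrix.toLin' x.1 (Matrix.toLin' x.1 v) = -v) : IsSquare ((2 : F) ^ d) := by
  have he := mem_omega_preserves hx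
  obtain ⟨u, hu⟩ := exists_jfam hQ h2 he hxx d (by rw [finrank_fintype_fun_eq_card, hι])
  have hev : ∀ i < d, 2 * i % 2 = 0 ∧ 2 * i / 2 = i ∧ ¬ (2 * i + 1) % 2 = 0 ∧ (2 * i + 1) / 2 = i := fun i _ =>
    ⟨by omega, by omega, by omega, by omega⟩
  have hq : Fintype.card F ≠ 2 ∨ Fintype.card ι ≠ 4 := Or.inl fun hc => by
    have := card_ne_two (F := F) h2; omega
  obtain ⟨χ, hker, -, hχ⟩ := Orth.exists_matrix_spinor Q hQ hn hq
  obtain ⟨g, hg1, -, hg3⟩ := exists_turn hχ h2 d u (fun i => Matrix.toLin' x.1 (u i))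
    (fun i hi j hj => by
      have h := hu.1 (2 * i) (by omega) (2 * j + 1) (by omega) (by omega)
      simpa [hev i hi, hev j hj] using h)
    (fun i hi j hj hij => by
      have h := hu.1 (2 * i) (by omega) (2 * j) (by omega) (by omega)
      have h' := hu.1 (2 * i + 1) (by omega) (2 * j + 1) (by omega) (by omega)
      exact ⟨by simpa [hev i hi, hev j hj] using h, by simpa [hev i hi, hev j hj] using h'⟩)
    (fun i hi => ⟨by simpa [hev i hi] using hu.2 (2 * i) (by omega), he _⟩)
  have hspan := hu.span_eq h2 (S := ⊤) (fun i _ => Submodule.mem_top)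
    (by rw [finrank_top, finrank_fintype_fun_eq_card, hι])
  have heq : Matrix.toLin' x.1 = Matrix.toLin' (g : GL ι F).1 := by
    refine LinearMap.ext_on_range hspan fun k => ?_
    split_ifs
    · exact (hg1 _ (by omega)).1.symm
    · rw [hxx]; exact (hg1 _ (by omega)).2.symm
  obtain ⟨g', hg', hgx⟩ := hx
  have hxg : x = (g : GL ι F) := Units.ext (Matrix.toLin'.injective heq)
  have : χ g = 1 := by
    rw [← MonoidHom.mem_ker, hker, show g = g' from Subtype.ext (hxg.symm.trans hgx.symm)]
    exact hg'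
  rw [hg3, Prod.mk_eq_one, Orth.sqc_eq_one_iff (pow_ne_zero _ h2)] at this
  exact this.2

/-- An element with square minus one. -/
lemma exists_turn_elt {d : ℕ} (hι : Fintype.card ι = 2 * d) (f : ℕ → ι → F) (hf : OFam Q (2 * d) f)
    (hf1 : ∀ i < 2 * d, Q (f i) = 1) (hsq : IsSquare ((2 : F) ^ d)) :
    ∃ x : GL ι F, x ∈ Cfsg.Geo.omegaGL (⇑Q) ∧ (∀ v, Matrix.toLin' x.1 (Matrix.toLin' x.1 v) = -v) ∧
      ∀ z : F, (x : Matrix ι ι F) ≠ z • (1 : Matrix ι ι F) := by
  have hq : Fintype.card F ≠ 2 ∨ Fintype.card ι ≠ 4 := Or.inl fun hc => by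
    have := card_ne_two (F := F) h2; omega
  obtain ⟨χ, hker, -, hχ⟩ := Orth.exists_matrix_spinor Q hQ hn hq
  obtain ⟨g, hg1, -, hg3⟩ := exists_turn hχ h2 d (fun i => f (2 * i)) (fun i => f (2 * i + 1))
    (fun i hi j hj => hf.1 _ (by omega) _ (by omega) (by omega))
    (fun i hi j hj hij => ⟨hf.1 _ (by omega) _ (by omega) (by omega), hf.1 _ (by omega) _ (by omega) (by omega)⟩)
    (fun i hi => ⟨hf.2 _ (by omega), by rw [hf1 _ (by omega), hf1 _ (by omega)]⟩)
  have hd : 0 < d := by omega
  refine ⟨g, mem_omega_of_ker hker (by rw [hg3, (Orth.sqc_eq_one_iff (pow_ne_zero _ h2)).2 hsq]; rfl), ?_, fun z hz => ?_⟩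
  · have hspan := hf.span_eq h2 (S := ⊤) (fun i _ => Submodule.mem_top)
      (by rw [finrank_top, finrank_fintype_fun_eq_card, hι])
    have heq : Matrix.toLin' (g : GL ι F).1 * Matrix.toLin' (g : GL ι F).1 = -1 := by
      refine LinearMap.ext_on_range hspan fun k => ?_
      rw [Module.End.mul_apply, LinearMap.neg_apply, Module.End.one_apply]
      rcases Nat.even_or_odd' (k : ℕ) with ⟨i, hi | hi⟩ <;> rw [hi] <;> have := k.2
      · rw [(hg1 i (by omega)).1, (hg1 i (by omega)).2]
      · rw [(hg1 i (by omega)).2, map_neg, (hg1 i (by omega)).1]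
    intro v
    rw [← Module.End.mul_apply, heq, LinearMap.neg_apply, Module.End.one_apply]
  · have h1 := (hg1 0 hd).1
    rw [hz, map_smul, Matrix.toLin'_one, LinearMap.smul_apply, LinearMap.id_apply] at h1
    have h3 := congrArg (polar Q (f 1)) h1
    rw [polar_smul_right, polar_diag, hf1 1 (by omega), hf.1 1 (by omega) (2 * 0) (by omega) (by omega), smul_zero,
      mul_one] at h3
    exact h2 h3.symm

/-- An involution negating a plane. -/
lemma exists_plane_elt (hns : ¬ IsSquare (-1 : F)) {u v w : ι → F} (huv : polar Q u v = 0) (hu : Q u = 1) (hv : Q v = 1)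
    (huw : polar Q u w = 0) (hvw : polar Q v w = 0) (hw : Q w ≠ 0) :
    ∃ x : GL ι F, x ∈ Cfsg.Geo.omegaGL (⇑Q) ∧ (x ^ 2 = 1) ∧ (∀ z : F, (x : Matrix ι ι F) ≠ z • (1 : Matrix ι ι F)) ∧
      ∀ W : Submodule F (ι → F), Inv (Matrix.toLin' x.1) W → (∀ a ∈ W, Q a = 0) →
        finrank F (Submodule.span F {u, v} ⊔ W : Submodule F (ι → F)) = finrank F W + 2 ∧
        Submodule.span F {u, v} ⊔ W ≤ (quadSF hQ).perp W ∧
        ∀ p ∈ Submodule.span F {u, v}, Q p = 0 → p = 0 := by
  have hq : Fintype.card F ≠ 2 ∨ Fintype.card ι ≠ 4 := Or.inl fun hc => by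
    have := card_ne_two (F := F) h2; omega
  obtain ⟨χ, hker, -, hχ⟩ := Orth.exists_matrix_spinor Q hQ hn hq
  obtain ⟨e, he⟩ : ∃ e : ℕ → ι → F, e = fun i => if i = 0 then u else v := ⟨_, rfl⟩
  have he0 : e 0 = u := by rw [he]; rfl
  have he1 : e 1 = v := by rw [he]; rfl
  have hfam : OFam Q 2 e := by
    refine ⟨fun i hi j hj hij => ?_, fun i hi => ?_⟩
    · interval_cases i <;> interval_cases j <;> simp_all [polar_comm]
    · interval_cases i <;> simp_all
  obtain ⟨g, hg1, hg2, hg3⟩ := exists_sign hχ 2 e hfam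
  have hgu := hg1 0 two_pos
  have hgv := hg1 1 one_lt_two
  rw [he0] at hgu
  rw [he1] at hgv
  have hsplit : ∀ a, ∃ p ∈ Submodule.span F {u, v}, Matrix.toLin' (g : GL ι F).1 (a - p) = a - p ∧
      Matrix.toLin' (g : GL ι F).1 p = -p ∧ polar Q u (a - p) = 0 ∧ polar Q v (a - p) = 0 := fun a => by
    have o1 : polar Q u (a - ((polar Q u a / 2) • u + (polar Q v a / 2) • v)) = 0 := by
      rw [polar_sub_right, polar_add_right, polar_smul_right, polar_smul_right, polar_diag, huv, hu, smul_eq_mul,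
        smul_zero, add_zero, mul_one, div_mul_cancel₀ _ h2, sub_self]
    have o2 : polar Q v (a - ((polar Q u a / 2) • u + (polar Q v a / 2) • v)) = 0 := by
      rw [polar_sub_right, polar_add_right, polar_smul_right, polar_smul_right, polar_diag,
        show polar Q v u = 0 by rw [polar_comm]; exact huv, hv, smul_eq_mul, smul_eq_mul, mul_zero, zero_add, mul_one,
        div_mul_cancel₀ _ h2, sub_self]
    refine ⟨(polar Q u a / 2) • u + (polar Q v a / 2) • v, Submodule.mem_span_pair.2 ⟨_, _, rfl⟩, hg2 _ fun i hi => ?_, ?_, o1, o2⟩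
    · interval_cases i
      · rw [he0]; exact o1
      · rw [he1]; exact o2
    · rw [map_add, map_smul, map_smul, hgu, hgv, smul_neg, smul_neg, neg_add]
  have hanis : ∀ p ∈ Submodule.span F {u, v}, Q p = 0 → p = 0 := by
    intro p hp h0
    obtain ⟨a, b, rfl⟩ := Submodule.mem_span_pair.1 hp
    rw [q_comb, hu, hv, huv] at h0
    by_cases hb : b = 0
    · subst hb
      have : a * a = 0 := by linear_combination h0
      rw [mul_self_eq_zero.1 this, zero_smul, zero_smul, add_zero]
    · exact absurd ⟨a / b, by field_simp; linear_combination -h0⟩ hns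
  refine ⟨g, mem_omega_of_ker hker ?_, ?_, fun z hz => ?_, fun W hWi hWQ => ⟨?_, ?_, hanis⟩⟩
  · rw [hg3, Finset.prod_range_succ, Finset.prod_range_one, he0, he1, hu, hv, mul_one, Orth.sqc_one]
    rfl
  · refine Units.ext (Matrix.toLin'.injective (LinearMap.ext fun a => ?_))
    obtain ⟨p, -, h1, h3, -⟩ := hsplit a
    rw [Units.val_pow_eq_pow_val, pow_two, Matrix.toLin'_mul, LinearMap.comp_apply, Units.val_one, Matrix.toLin'_one,
      LinearMap.id_apply]
    conv_lhs => rw [show a = (a - p) + p by abel, map_add, h1, h3, map_add, h1, map_neg, h3, neg_neg]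
    abel
  · have h1 : z • w = w := by
      have := hg2 w fun i hi => by interval_cases i <;> simp_all
      rwa [hz, map_smul, Matrix.toLin'_one] at this
    have h3 : z • u = -u := by
      have := hgu
      rwa [hz, map_smul, Matrix.toLin'_one] at this
    have hw0 : w ≠ 0 := fun h => hw (by rw [h, map_zero])
    rw [show z = 1 from smul_left_injective F hw0 (h1.trans (one_smul F w).symm), one_smul, eq_neg_iff_add_eq_zero,
      ← two_smul F] at h3
    have : Q ((2 : F) • u) = 0 := by rw [h3, map_zero]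
    rw [QuadraticMap.map_smul, hu] at this
    exact mul_ne_zero (mul_ne_zero h2 h2) one_ne_zero this
  all_goals
    have hperp : ∀ a ∈ W, polar Q u a = 0 ∧ polar Q v a = 0 := fun a ha => by
      obtain ⟨p, hp, h1, h3, o1, o2⟩ := hsplit a
      have hmem : (2 : F) • p ∈ W := by
        have := W.sub_mem ha (hWi a ha)
        rwa [show Matrix.toLin' (g : GL ι F).1 a = a - p - p by
          conv_lhs => rw [show a = (a - p) + p by abel, map_add, h1, h3, ← sub_eq_add_neg],
          show a - (a - p - p) = (2 : F) • p by rw [two_smul]; abel] at this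
      have : p = 0 := by
        have := hWQ _ hmem
        rw [QuadraticMap.map_smul, smul_eq_mul, mul_eq_zero] at this
        exact hanis p hp (this.resolve_left (mul_ne_zero h2 h2))
      rw [this, sub_zero] at o1 o2
      exact ⟨o1, o2⟩
  · have h := Submodule.finrank_sup_add_finrank_inf_eq (Submodule.span F {u, v}) W
    rw [show Submodule.span F {u, v} ⊓ W = ⊥ from eq_bot_iff.2 fun p hp => (Submodule.mem_bot F).2 (hanis p hp.1 (hWQ p hp.2)),
      finrank_bot, add_zero] at h
    have hli := hfam.indep h2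
    have h6 := finrank_span_eq_card hli
    rw [show Set.range (fun i : Fin 2 => e i) = {u, v} by
      ext a
      simp [Fin.exists_fin_two, he0, he1, eq_comm], Fintype.card_fin] at h6
    omega
  · refine sup_le (Submodule.span_le.2 ?_) fun b hb a ha => (quad_iso (hQ := hQ) hWQ).1 a ha b hb
    rintro p (rfl | rfl) a ha <;> rw [quadSF_B, polar_comm]
    exacts [(hperp a ha).1, (hperp a ha).2]

/-- The scalar is a sign. -/
lemma sq_sign {x : GL ι F} (hx : x ∈ Cfsg.Geo.omegaGL (⇑Q))
    (hz : ∃ z : F, ((x ^ 2 : GL ι F) : Matrix ι ι F) = z • (1 : Matrix ι ι F)) :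
    (∀ v, Matrix.toLin' x.1 (Matrix.toLin' x.1 v) = v) ∨ (∀ v, Matrix.toLin' x.1 (Matrix.toLin' x.1 v) = -v) := by
  obtain ⟨z, hz⟩ := hz
  have hp := mem_omega_preserves hx
  have h1 : ∀ v, Matrix.toLin' x.1 (Matrix.toLin' x.1 v) = z • v := fun v => by
    rw [← LinearMap.comp_apply, ← Matrix.toLin'_mul, ← Units.val_mul, ← pow_two, hz, map_smul, Matrix.toLin'_one]
    rfl
  obtain ⟨v, hv⟩ := exists_value hQ h2 hn
  have h3 := hp (Matrix.toLin' x.1 v)
  rw [h1, QuadraticMap.map_smul, hp, smul_eq_mul] at h3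
  rcases mul_self_eq_one_iff.1 (mul_right_cancel₀ hv (h3.trans (one_mul _).symm)) with rfl | rfl
  · exact Or.inl fun v => by rw [h1, one_smul]
  · exact Or.inr fun v => by rw [h1, neg_one_smul]

end group

end Cfsg.Agent.Elusive
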