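import Mathlib

/-!
Invariant subspaces of a linear map one of whose prime powers is a scalar, over a finite field.
-/

set_option autoImplicit false
set_option linter.style.haveILetI false

namespace Cfsg.Agent.Elusive

open Polynomial

variable {F : Type*} [Field F] {V : Type*} [AddCommGroup V] [Module F V]

/-- Invariance of a subspace. -/
def Inv (T : Module.End F V) (W : Submodule F V) : Prop := ∀ w ∈ W, T w ∈ W

lemma inv_map_iff {T : Module.End F V} {W : Submodule F V} : W.map T ≤ W ↔ Inv T W :=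
  ⟨fun h w hw => h ⟨w, hw, rfl⟩, fun h => by rintro _ ⟨w, hw, rfl⟩; exact h w hw⟩

lemma Inv.pow {T : Module.End F V} {W : Submodule F V} (h : Inv T W) (k : ℕ) :
    ∀ w ∈ W, (T ^ k) w ∈ W := by
  induction k with
  | zero => intro w hw; simpa using hw
  | succ k ih => intro w hw; rw [pow_succ, Module.End.mul_apply]; exact ih _ (h w hw)

lemma Inv.aeval {T : Module.End F V} {W : Submodule F V} (h : Inv T W) (p : F[X]) {w : V} (hw : w ∈ W) :
    aeval T p w ∈ W := by
  rw [Polynomial.aeval_eq_sum_range, LinearMap.sum_apply]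
  exact sum_mem fun k _ => W.smul_mem _ (h.pow k w hw)

/-- The span of the first iterates. -/
def cyc (T : Module.End F V) (v : V) (k : ℕ) : Submodule F V :=
  Submodule.span F (Set.range fun l : Fin k => (T ^ (l : ℕ)) v)

lemma cyc_le {T : Module.End F V} {U : Submodule F V} (hU : Inv T U) {v : V} (hv : v ∈ U) (k : ℕ) :
    cyc T v k ≤ U :=
  Submodule.span_le.2 (by rintro _ ⟨l, rfl⟩; exact hU.pow _ v hv)

lemma mem_cyc (T : Module.End F V) (v : V) {k : ℕ} (hk : 0 < k) : v ∈ cyc T v k :=
  Submodule.subset_span ⟨⟨0, hk⟩, by simp⟩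

lemma finrank_cyc_le (T : Module.End F V) (v : V) (k : ℕ) : Module.finrank F (cyc T v k) ≤ k :=
  (finrank_range_le_card _).trans (by rw [Fintype.card_fin])

lemma inv_sup_cyc {T : Module.End F V} {W : Submodule F V} (hW : Inv T W) {g : F[X]} (hg : g.Monic)
    {v : V} (hv : aeval T g v ∈ W) : Inv T (W ⊔ cyc T v g.natDegree) := by
  intro w hw
  have hmap : (W ⊔ cyc T v g.natDegree).map T ≤ W ⊔ cyc T v g.natDegree := by
    rw [Submodule.map_sup, cyc, Submodule.map_span]
    refine sup_le ((inv_map_iff.2 hW).trans le_sup_left) (Submodule.span_le.2 ?_)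
    rintro _ ⟨_, ⟨l, rfl⟩, rfl⟩
    show T ((T ^ (l : ℕ)) v) ∈ _
    rw [← Module.End.mul_apply, ← pow_succ']
    rcases Nat.lt_or_ge ((l : ℕ) + 1) g.natDegree with hl | hl
    · exact Submodule.mem_sup_right (Submodule.subset_span ⟨⟨(l : ℕ) + 1, hl⟩, rfl⟩)
    · have hd : (l : ℕ) + 1 = g.natDegree := le_antisymm l.2 hl
      rw [hd]
      have hsum := Polynomial.aeval_eq_sum_range (p := g) T
      rw [Finset.sum_range_succ, hg.coeff_natDegree, one_smul] at hsum
      have h := LinearMap.congr_fun hsum v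
      rw [LinearMap.add_apply] at h
      rw [← sub_eq_iff_eq_add'.2 h, LinearMap.sum_apply]
      refine Submodule.sub_mem _ (Submodule.mem_sup_left hv) (Submodule.mem_sup_right (sum_mem fun k hk => ?_))
      exact Submodule.smul_mem _ _ (Submodule.subset_span ⟨⟨k, Finset.mem_range.1 hk⟩, rfl⟩)
  exact hmap ⟨w, hw, rfl⟩

/-- A vector killed modulo `W` by an irreducible divisor. -/
lemma exists_irreducible_vec {T : Module.End F V} {W U : Submodule F V} (hU : Inv T U) :
    ∀ (p : F[X]), p ≠ 0 → ∀ u ∈ U, u ∉ W → aeval T p u ∈ W →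
      ∃ g : F[X], g.Monic ∧ Irreducible g ∧ g ∣ p ∧ ∃ v ∈ U, v ∉ W ∧ aeval T g v ∈ W := by
  intro p
  induction hN : p.natDegree using Nat.strong_induction_on generalizing p with
  | _ N ih =>
  intro hp u hu huW hpu
  by_cases hunit : IsUnit p
  · obtain ⟨c, hc, rfl⟩ := Polynomial.isUnit_iff.1 hunit
    rw [aeval_C, Module.algebraMap_end_apply] at hpu
    exact absurd ((W.smul_mem_iff hc.ne_zero).1 hpu) huW
  obtain ⟨g, hgm, hgi, p', rfl⟩ := exists_monic_irreducible_factor p hunit
  by_cases h' : aeval T p' u ∈ W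
  · have hp' : p' ≠ 0 := right_ne_zero_of_mul hp
    have hlt : p'.natDegree < N := by
      rw [← hN, hgm.natDegree_mul' hp']
      have := hgi.natDegree_pos
      omega
    obtain ⟨g', h1, h2, h3, h4⟩ := ih _ hlt p' rfl hp' u hu huW h'
    exact ⟨g', h1, h2, h3.trans (dvd_mul_left _ _), h4⟩
  · refine ⟨g, hgm, hgi, dvd_mul_right _ _, aeval T p' u, hU.aeval p' hu, h', ?_⟩
    rwa [← Module.End.mul_apply, ← map_mul]

/-- An irreducible factor of `X ^ r - 1` has small degree. -/
lemma natDegree_le_of_dvd_pow_sub_one [Fintype F] {r i : ℕ} (hi : 0 < i)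
    (hdvd : r ∣ Fintype.card F ^ i - 1) {g : F[X]} (hg : Irreducible g) (hgd : g ∣ X ^ r - 1) :
    g.natDegree ≤ i := by
  classical
  haveI : Fact (Irreducible g) := ⟨hg⟩
  haveI := (AdjoinRoot.powerBasis hg.ne_zero).finite
  haveI : Finite (AdjoinRoot g) := Module.finite_of_finite F
  haveI : Fintype (AdjoinRoot g) := Fintype.ofFinite _
  obtain ⟨p, _⟩ := CharP.exists F
  obtain ⟨⟨e, he⟩, hp, hqe⟩ := FiniteField.card F p
  haveI : Fact p.Prime := ⟨hp⟩
  haveI : CharP (AdjoinRoot g) p := charP_of_injective_algebraMap (algebraMap F (AdjoinRoot g)).injective p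
  set Q := Fintype.card F ^ i with hQ
  have hQp : Q = p ^ (e * i) := by rw [hQ, hqe, ← pow_mul]; rfl
  have hQ1 : 1 < Q := Nat.one_lt_pow hi.ne' Fintype.one_lt_card
  have hroot : AdjoinRoot.root g ^ Q = AdjoinRoot.root g := by
    have h1 := AdjoinRoot.mk_eq_zero.2 hgd
    rw [map_sub, map_pow, AdjoinRoot.mk_X, map_one, sub_eq_zero] at h1
    obtain ⟨l, hl⟩ := hdvd
    rw [show Q = r * l + 1 by omega, pow_succ, pow_mul, h1, one_pow, one_mul]
  let φ : AdjoinRoot g →+* AdjoinRoot g := iterateFrobenius (AdjoinRoot g) p (e * i)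
  have hφ : ∀ z, φ z = z ^ Q := fun z => by rw [hQp]; exact iterateFrobenius_def ..
  have hall : ∀ z : AdjoinRoot g, z ^ Q = z := by
    intro z
    induction z using AdjoinRoot.induction_on with
    | ih a =>
      rw [← hφ]
      induction a using Polynomial.induction_on' with
      | add a b ha hb => rw [map_add, map_add, ha, hb]
      | monomial k c =>
        rw [← C_mul_X_pow_eq_monomial, map_mul, map_pow, AdjoinRoot.mk_X, AdjoinRoot.mk_C, map_mul,
          map_pow, hφ, hφ, hroot, ← map_pow, hQ, FiniteField.pow_card_pow]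
  have hle : Fintype.card (AdjoinRoot g) ≤ Q := by
    have hne : (X ^ Q - X : (AdjoinRoot g)[X]) ≠ 0 := FiniteField.X_pow_card_sub_X_ne_zero _ hQ1
    calc Fintype.card (AdjoinRoot g) = (Finset.univ : Finset (AdjoinRoot g)).card := rfl
      _ ≤ (X ^ Q - X : (AdjoinRoot g)[X]).natDegree := by
          refine Polynomial.card_le_degree_of_subset_roots ?_
          intro z _
          rw [Polynomial.mem_roots hne]
          simp [hall z]
      _ = Q := FiniteField.X_pow_card_sub_X_natDegree_eq _ hQ1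
  have hcard : Fintype.card (AdjoinRoot g) = Fintype.card F ^ g.natDegree := by
    rw [Module.card_eq_pow_finrank (K := F) (V := AdjoinRoot g),
      (AdjoinRoot.powerBasis hg.ne_zero).finrank, AdjoinRoot.powerBasis_dim]
  rw [hcard, hQ] at hle
  exact (Nat.pow_le_pow_iff_right Fintype.one_lt_card).1 hle

variable [FiniteDimensional F V]

/-- Climbing by exact steps. -/
lemma exists_chain {T : Module.End F V} {U : Submodule F V} {i : ℕ}
    (hdiv : ∀ X, Inv T X → X ≤ U → i ∣ Module.finrank F X)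
    (hstep : ∀ X, Inv T X → X < U → ∃ X', Inv T X' ∧ X < X' ∧ X' ≤ U ∧
      Module.finrank F X' ≤ Module.finrank F X + i)
    {W : Submodule F V} (hW : Inv T W) (hWU : W ≤ U) :
    ∀ j, Module.finrank F W + j * i ≤ Module.finrank F U →
      ∃ W', Inv T W' ∧ W ≤ W' ∧ W' ≤ U ∧ Module.finrank F W' = Module.finrank F W + j * i := by
  intro j
  induction j with
  | zero => intro _; exact ⟨W, hW, le_rfl, hWU, by omega⟩
  | succ j ih =>
    intro h
    rw [Nat.succ_mul] at h ⊢
    obtain ⟨X, hX, hWX, hXU, hXd⟩ := ih (by omega)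
    rcases eq_or_lt_of_le hXU with he | hlt
    · refine ⟨X, hX, hWX, hXU, ?_⟩
      rw [he] at hXd ⊢
      omega
    obtain ⟨X', hX', hXX', hX'U, hle⟩ := hstep X hX hlt
    have hgt := Submodule.finrank_lt_finrank_of_lt hXX'
    obtain ⟨a, ha⟩ := hdiv X hX hXU
    obtain ⟨b, hb⟩ := hdiv X' hX' hX'U
    refine ⟨X', hX', hWX.trans hXX'.le, hX'U, ?_⟩
    have hab : b = a + 1 := by
      have h1 : a < b := Nat.lt_of_mul_lt_mul_left (a := i) (by omega)
      have h2 : b ≤ a + 1 := by
        by_contra hb'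
        have h3 : i * (a + 2) ≤ i * b := Nat.mul_le_mul_left i (by omega)
        rw [Nat.mul_add] at h3
        have : 0 < i := Nat.pos_of_ne_zero fun h0 => by subst h0; simp at hb ha; omega
        omega
      omega
    rw [hab, Nat.mul_add, Nat.mul_one] at hb
    omega

/-- The fixed space. -/
def fixedSpace (T : Module.End F V) : Submodule F V := LinearMap.ker (T - 1)

/-- The moved part. -/
def movedSpace (T : Module.End F V) (r : ℕ) : Submodule F V :=
  LinearMap.ker (∑ k ∈ Finset.range r, T ^ k)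

variable {T : Module.End F V} {r : ℕ}

omit [FiniteDimensional F V] in
lemma mem_fixedSpace {v : V} : v ∈ fixedSpace T ↔ T v = v := by
  rw [fixedSpace, LinearMap.mem_ker, LinearMap.sub_apply, Module.End.one_apply, sub_eq_zero]

omit [FiniteDimensional F V] in
lemma inv_of_le_fixed {W : Submodule F V} (h : W ≤ fixedSpace T) : Inv T W := fun w hw => by
  rwa [mem_fixedSpace.1 (h hw)]

omit [FiniteDimensional F V] in
lemma inv_moved : Inv T (movedSpace T r) := fun v hv => by
  rw [movedSpace, LinearMap.mem_ker] at hv ⊢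
  rw [← Module.End.mul_apply, Finset.sum_mul,
    Finset.sum_congr rfl (fun k _ => (Commute.self_pow T k).eq.symm), ← Finset.mul_sum,
    Module.End.mul_apply, hv, map_zero]

section
variable (hT : T ^ r = 1) (hr0 : (r : F) ≠ 0)

omit [FiniteDimensional F V] in
lemma eq_zero_of_fixed_moved (hr0 : (r : F) ≠ 0) {v : V} (h1 : v ∈ fixedSpace T)
    (h2 : v ∈ movedSpace T r) : v = 0 := by
  rw [movedSpace, LinearMap.mem_ker, LinearMap.sum_apply] at h2
  have hk : ∀ k, (T ^ k) v = v := fun k => by
    induction k with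
    | zero => simp
    | succ k ih => rw [pow_succ, Module.End.mul_apply, mem_fixedSpace.1 h1, ih]
  simp only [hk, Finset.sum_const, Finset.card_range, ← Nat.cast_smul_eq_nsmul F] at h2
  exact (smul_eq_zero.1 h2).resolve_left hr0

include hT hr0

omit [FiniteDimensional F V] in
lemma split_inv {W : Submodule F V} (hW : Inv T W) :
    (W ⊓ fixedSpace T) ⊔ (W ⊓ movedSpace T r) = W := by
  refine le_antisymm (sup_le inf_le_left inf_le_left) fun w hw => ?_
  set P := ∑ k ∈ Finset.range r, T ^ k with hP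
  have hTP : ∀ u, T (P u) = P u := fun u => by
    have h := LinearMap.congr_fun (mul_geom_sum T r) u
    rw [hT, sub_self, LinearMap.zero_apply, Module.End.mul_apply, LinearMap.sub_apply,
      Module.End.one_apply, sub_eq_zero] at h
    exact h
  have hPw : (r : F)⁻¹ • P w ∈ W ⊓ fixedSpace T := by
    refine ⟨W.smul_mem _ ?_, (fixedSpace T).smul_mem _ (mem_fixedSpace.2 (hTP w))⟩
    rw [hP, LinearMap.sum_apply]
    exact sum_mem fun k _ => hW.pow k w hw
  have hrest : w - (r : F)⁻¹ • P w ∈ W ⊓ movedSpace T r := by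
    refine ⟨W.sub_mem hw hPw.1, ?_⟩
    have hk : ∀ k, (T ^ k) (P w) = P w := fun k => by
      induction k with
      | zero => simp
      | succ k ih => rw [pow_succ, Module.End.mul_apply, hTP, ih]
    show P (w - (r : F)⁻¹ • P w) = 0
    have hPP : P (P w) = (r : F) • P w := by
      rw [Nat.cast_smul_eq_nsmul, hP, LinearMap.sum_apply, ← hP]
      simp only [hk, Finset.sum_const, Finset.card_range]
    rw [map_sub, map_smul, hPP, inv_smul_smul₀ hr0, sub_self]
  have := Submodule.add_mem_sup hPw hrest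
  rwa [add_sub_cancel] at this

lemma finrank_split {W : Submodule F V} (hW : Inv T W) :
    Module.finrank F W = Module.finrank F (W ⊓ fixedSpace T : Submodule F V) +
      Module.finrank F (W ⊓ movedSpace T r : Submodule F V) := by
  have h := Submodule.finrank_sup_add_finrank_inf_eq (W ⊓ fixedSpace T) (W ⊓ movedSpace T r)
  have h0 : (W ⊓ fixedSpace T) ⊓ (W ⊓ movedSpace T r) = ⊥ := eq_bot_iff.2 fun v hv =>
    eq_zero_of_fixed_moved hr0 hv.1.2 hv.2.2
  rw [split_inv hT hr0 hW, h0, finrank_bot] at h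
  omega

end

section
variable [Fintype F] [Fact r.Prime]

/-- Moved invariant subspaces have dimension divisible by the order of `q`. -/
lemma dvd_finrank_moved (hT : T ^ r = 1) (hr0 : (r : F) ≠ 0) {W : Submodule F V} (hW : Inv T W)
    (hle : W ≤ movedSpace T r) : orderOf (Fintype.card F : ZMod r) ∣ Module.finrank F W := by
  classical
  haveI : Finite W := Module.finite_of_finite F
  haveI : Fintype W := Fintype.ofFinite _
  let S : Module.End F W := T.restrict hW
  have hS : ∀ (k : ℕ) (w : W), (((S ^ k) w : W) : V) = (T ^ k) w := fun k => by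
    induction k with
    | zero => simp
    | succ k ih => intro w; rw [pow_succ, pow_succ, Module.End.mul_apply, Module.End.mul_apply, ih]; rfl
  have hSr : S ^ r = 1 := LinearMap.ext fun w => Subtype.ext (by rw [hS, hT]; rfl)
  have hr1 : 1 ≤ r := (Fact.out : r.Prime).one_lt.le
  let σ : Equiv.Perm W :=
    { toFun := S
      invFun := (S ^ (r - 1) : Module.End F W)
      left_inv := fun w => by
        rw [← Module.End.mul_apply, ← pow_succ, Nat.sub_add_cancel hr1, hSr, Module.End.one_apply]
      right_inv := fun w => by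
        rw [← Module.End.mul_apply, ← pow_succ', Nat.sub_add_cancel hr1, hSr, Module.End.one_apply] }
  have hσ : ∀ (k : ℕ) (w : W), (σ ^ k) w = (S ^ k) w := fun k => by
    induction k with
    | zero => simp
    | succ k ih => intro w; rw [pow_succ, pow_succ, Equiv.Perm.mul_apply, ih, Module.End.mul_apply]; rfl
  have hσr : σ ^ r ^ 1 = 1 := Equiv.ext fun w => by
    rw [pow_one, hσ, hSr]
    rfl
  have hmod := Equiv.Perm.card_compl_support_modEq (p := r) hσr
  have hfix : σ.supportᶜ = {0} := by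
    ext w
    rw [Finset.mem_compl, Equiv.Perm.mem_support, not_not, Finset.mem_singleton]
    constructor
    · intro h
      exact Subtype.ext (eq_zero_of_fixed_moved hr0
        (mem_fixedSpace.2 (congrArg Subtype.val h)) (hle w.2))
    · rintro rfl
      exact map_zero S
  rw [hfix, Finset.card_singleton, Module.card_eq_pow_finrank (K := F) (V := W)] at hmod
  refine orderOf_dvd_of_pow_eq_one ?_
  have := (ZMod.natCast_eq_natCast_iff _ _ _).2 hmod
  push_cast at this
  exact this.symm

lemma orderOf_card_pos (hr0 : (r : F) ≠ 0) : 0 < orderOf (Fintype.card F : ZMod r) := by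
  refine orderOf_pos_iff.2 (isOfFinOrder_iff_pow_eq_one.2 ⟨r - 1, ?_, ?_⟩)
  · have := (Fact.out : r.Prime).two_le; omega
  · refine ZMod.pow_card_sub_one_eq_one fun h => hr0 ?_
    rw [ZMod.natCast_eq_zero_iff] at h
    obtain ⟨p, _⟩ := CharP.exists F
    obtain ⟨e, hp, hqe⟩ := FiniteField.card F p
    rw [hqe] at h
    rw [(Nat.prime_dvd_prime_iff_eq Fact.out hp).1 ((Fact.out : r.Prime).dvd_of_dvd_pow h),
      CharP.cast_eq_zero]

/-- Moved invariant subspaces of all possible dimensions, nested. -/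
lemma exists_moved (hT : T ^ r = 1) (hr0 : (r : F) ≠ 0) {W : Submodule F V} (hW : Inv T W)
    (hle : W ≤ movedSpace T r) (j : ℕ)
    (hj : Module.finrank F W + j * orderOf (Fintype.card F : ZMod r) ≤
      Module.finrank F (movedSpace T r)) :
    ∃ W', Inv T W' ∧ W ≤ W' ∧ W' ≤ movedSpace T r ∧
      Module.finrank F W' = Module.finrank F W + j * orderOf (Fintype.card F : ZMod r) := by
  refine exists_chain (fun X hX hXU => dvd_finrank_moved hT hr0 hX hXU) (fun X hX hXU => ?_) hW hle j hj
  obtain ⟨u, hu, huX⟩ := SetLike.exists_of_lt hXU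
  have hdvd : r ∣ Fintype.card F ^ orderOf (Fintype.card F : ZMod r) - 1 := by
    rw [← ZMod.natCast_eq_zero_iff, Nat.cast_sub (Nat.one_le_pow _ _ Fintype.card_pos), Nat.cast_pow,
      pow_orderOf_eq_one, Nat.cast_one, sub_self]
  have hne : (Polynomial.X ^ r - 1 : Polynomial F) ≠ 0 :=
    (Polynomial.monic_X_pow_sub_C (1 : F) (Fact.out : r.Prime).ne_zero).ne_zero
  obtain ⟨g, hgm, hgi, hgd, v, hvU, hvX, hgv⟩ := exists_irreducible_vec inv_moved _ hne u hu huX
    (by simp [hT])
  refine ⟨X ⊔ cyc T v g.natDegree, inv_sup_cyc hX hgm hgv, ?_, sup_le hXU.le (cyc_le inv_moved hvU _), ?_⟩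
  · exact SetLike.lt_iff_le_and_exists.2
      ⟨le_sup_left, v, Submodule.mem_sup_right (mem_cyc T v hgi.natDegree_pos), hvX⟩
  · refine (Submodule.finrank_add_le_finrank_add_finrank _ _).trans ?_
    exact Nat.add_le_add_left ((finrank_cyc_le T v _).trans
      (natDegree_le_of_dvd_pow_sub_one (orderOf_card_pos hr0) hdvd hgi hgd)) _

end

omit [FiniteDimensional F V] in
/-- The possible dimensions when the power is `1`: a subspace between two fixed ones. -/
lemma exists_between {A B : Submodule F V} [FiniteDimensional F V] (h : A ≤ B) (k : ℕ)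
    (hk : Module.finrank F A + k ≤ Module.finrank F B) :
    ∃ C, A ≤ C ∧ C ≤ B ∧ Module.finrank F C = Module.finrank F A + k := by
  have hinv : ∀ X : Submodule F V, Inv (1 : Module.End F V) X := fun X w hw => hw
  obtain ⟨C, -, h1, h2, h3⟩ := exists_chain (i := 1) (T := (1 : Module.End F V)) (U := B)
    (fun X _ _ => one_dvd _) (fun X _ hX => by
      obtain ⟨u, hu, huX⟩ := SetLike.exists_of_lt hX
      refine ⟨X ⊔ Submodule.span F {u}, hinv _, ?_, sup_le hX.le ((Submodule.span_singleton_le_iff_mem _ _).2 hu), ?_⟩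
      · exact SetLike.lt_iff_le_and_exists.2
          ⟨le_sup_left, u, Submodule.mem_sup_right (Submodule.mem_span_singleton_self u), huX⟩
      · refine (Submodule.finrank_add_le_finrank_add_finrank _ _).trans (Nat.add_le_add_left ?_ _)
        exact (finrank_span_le_card ({u} : Set V)).trans (by simp))
    (hinv A) h k (by omega)
  exact ⟨C, h1, h2, by omega⟩

section
variable [Fintype F] [Fact r.Prime] (hT : T ^ r = 1) (hr0 : (r : F) ≠ 0)
include hT hr0

/-- The dimension of the moved part. -/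
lemma exists_moved_eq : ∃ J, Module.finrank F (movedSpace T r) = J * orderOf (Fintype.card F : ZMod r) ∧
    Module.finrank F (fixedSpace T) + J * orderOf (Fintype.card F : ZMod r) = Module.finrank F V := by
  obtain ⟨J, hJ⟩ := dvd_finrank_moved hT hr0 inv_moved le_rfl
  refine ⟨J, by rw [hJ, Nat.mul_comm], ?_⟩
  have h := finrank_split hT hr0 (W := ⊤) (fun _ _ => trivial)
  rw [top_inf_eq, top_inf_eq, finrank_top, hJ] at h
  rw [h, Nat.mul_comm]

/-- The dimensions of invariant subspaces, nested. -/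
lemma exists_nested {cU cW jU jW : ℕ} (hc : cU ≤ cW) (hcW : cW ≤ Module.finrank F (fixedSpace T))
    (hj : jU ≤ jW)
    (hjW : jW * orderOf (Fintype.card F : ZMod r) ≤ Module.finrank F (movedSpace T r)) :
    ∃ U W, Inv T U ∧ Inv T W ∧ U ≤ W ∧
      Module.finrank F U = cU + jU * orderOf (Fintype.card F : ZMod r) ∧
      Module.finrank F W = cW + jW * orderOf (Fintype.card F : ZMod r) := by
  obtain ⟨A, -, hAle, hA⟩ := exists_between (bot_le (a := fixedSpace T)) cU (by rw [finrank_bot]; omega)
  rw [finrank_bot] at hA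
  obtain ⟨B, hAB, hBle, hB⟩ := exists_between hAle (cW - cU) (by omega)
  have hmul := Nat.mul_le_mul_right (orderOf (Fintype.card F : ZMod r)) hj
  obtain ⟨X, hXi, -, hXle, hX⟩ := exists_moved hT hr0 (W := ⊥) (fun w hw => by
    rw [Submodule.mem_bot] at hw; subst hw; simp) bot_le jU (by rw [finrank_bot]; omega)
  rw [finrank_bot] at hX
  obtain ⟨Y, hYi, hXY, hYle, hY⟩ := exists_moved hT hr0 hXi hXle (jW - jU) (by
    rw [hX, Nat.zero_add, Nat.sub_mul]; omega)
  have hsum : ∀ A X : Submodule F V, A ≤ fixedSpace T → X ≤ movedSpace T r →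
      Module.finrank F (A ⊔ X : Submodule F V) = Module.finrank F A + Module.finrank F X := by
    intro A X hA hX
    have h := Submodule.finrank_sup_add_finrank_inf_eq A X
    have h0 : A ⊓ X = ⊥ := eq_bot_iff.2 fun v hv => eq_zero_of_fixed_moved hr0 (hA hv.1) (hX hv.2)
    rw [h0, finrank_bot] at h
    omega
  have hinv : ∀ A X : Submodule F V, A ≤ fixedSpace T → Inv T X → Inv T (A ⊔ X) := by
    intro A X hA hX v hv
    obtain ⟨a, ha, b, hb, rfl⟩ := Submodule.mem_sup.1 hv
    rw [map_add]
    exact Submodule.add_mem_sup (inv_of_le_fixed hA a ha) (hX b hb)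
  refine ⟨A ⊔ X, B ⊔ Y, hinv _ _ hAle hXi, hinv _ _ hBle hYi, sup_le_sup hAB hXY, ?_, ?_⟩
  · rw [hsum _ _ hAle hXle]; omega
  · rw [hsum _ _ hBle hYle, hY, hX, Nat.sub_mul]; omega

/-- Invariant subspaces have the expected dimensions, monotonically. -/
lemma nested_dims {U W : Submodule F V} (hU : Inv T U) (hW : Inv T W) (hUW : U ≤ W) :
    ∃ cU cW jU jW, cU ≤ cW ∧ cW ≤ Module.finrank F (fixedSpace T) ∧
      jU * orderOf (Fintype.card F : ZMod r) ≤ jW * orderOf (Fintype.card F : ZMod r) ∧
      jW * orderOf (Fintype.card F : ZMod r) ≤ Module.finrank F (movedSpace T r) ∧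
      Module.finrank F U = cU + jU * orderOf (Fintype.card F : ZMod r) ∧
      Module.finrank F W = cW + jW * orderOf (Fintype.card F : ZMod r) := by
  have hinf : ∀ {X : Submodule F V}, Inv T X → Inv T (X ⊓ movedSpace T r) := fun hX v hv =>
    ⟨hX v hv.1, inv_moved v hv.2⟩
  obtain ⟨jU, hjU⟩ := dvd_finrank_moved hT hr0 (hinf hU) inf_le_right
  obtain ⟨jW, hjW⟩ := dvd_finrank_moved hT hr0 (hinf hW) inf_le_right
  have h1 := finrank_split hT hr0 hU
  have h2 := finrank_split hT hr0 hW
  have h3 := Submodule.finrank_mono (inf_le_inf_right (fixedSpace T) hUW)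
  have h4 := Submodule.finrank_mono (inf_le_inf_right (movedSpace T r) hUW)
  have h5 : Module.finrank F (W ⊓ fixedSpace T : Submodule F V) ≤ _ :=
    Submodule.finrank_mono inf_le_right
  have h6 : Module.finrank F (W ⊓ movedSpace T r : Submodule F V) ≤ _ :=
    Submodule.finrank_mono inf_le_right
  rw [Nat.mul_comm] at hjU hjW
  exact ⟨_, _, jU, jW, h3, h5, by omega, by omega, by omega, by omega⟩

end

/-! ### A non-power as the power -/

section
variable [Fact r.Prime] {c : F}

/-- Invariant subspaces have dimension divisible by `r`. -/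
lemma dvd_finrank_nonpower (hT : T ^ r = c • 1) (hc0 : c ≠ 0) (hc : ∀ s : F, s ^ r ≠ c)
    {W : Submodule F V} (hW : Inv T W) : r ∣ Module.finrank F W := by
  by_contra h
  have hcop : IsCoprime (r : ℤ) (Module.finrank F W : ℤ) :=
    Nat.Coprime.isCoprime ((Fact.out : r.Prime).coprime_iff_not_dvd.2 h)
  obtain ⟨a, b, hab⟩ := hcop
  let S : Module.End F W := T.restrict hW
  have hS : ∀ (k : ℕ) (w : W), (((S ^ k) w : W) : V) = (T ^ k) w := fun k => by
    induction k with
    | zero => simp
    | succ k ih => intro w; rw [pow_succ, pow_succ, Module.End.mul_apply, Module.End.mul_apply, ih]; rfl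
  have hSr : S ^ r = c • (1 : Module.End F W) := LinearMap.ext fun w => Subtype.ext (by rw [hS, hT]; rfl)
  set δ := LinearMap.det S with hδ
  have hdet : δ ^ r = c ^ Module.finrank F W := by
    rw [hδ, ← map_pow, hSr, LinearMap.det_smul, map_one, mul_one]
  apply hc (c ^ a * δ ^ b)
  have h1 : (c ^ a) ^ r = c ^ (a * r) := by rw [zpow_mul, zpow_natCast]
  have h2 : (δ ^ b) ^ r = c ^ (b * Module.finrank F W) := by
    rw [← zpow_natCast (δ ^ b), ← zpow_mul, mul_comm, zpow_mul, zpow_natCast, hdet, ← zpow_natCast c,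
      ← zpow_mul, mul_comm]
  rw [mul_pow, h1, h2, ← zpow_add₀ hc0, hab, zpow_one]

/-- A cyclic frame. -/
lemma exists_frame (hT : T ^ r = c • 1) (hc0 : c ≠ 0) (hc : ∀ s : F, s ^ r ≠ c) :
    ∃ N, Module.finrank F V = N * r ∧ ∃ v : Fin N → V,
      ∀ k ≤ N, Module.finrank F (Submodule.span F
          (Set.range fun p : {p : Fin N × Fin r // (p.1 : ℕ) < k} => (T ^ (p.1.2 : ℕ)) (v p.1.1))) = k * r ∧
        Inv T (Submodule.span F
          (Set.range fun p : {p : Fin N × Fin r // (p.1 : ℕ) < k} => (T ^ (p.1.2 : ℕ)) (v p.1.1))) := by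
  obtain ⟨N, hN⟩ := dvd_finrank_nonpower hT hc0 hc (W := (⊤ : Submodule F V)) (fun _ _ => trivial)
  rw [finrank_top] at hN
  refine ⟨N, by rw [hN, Nat.mul_comm], ?_⟩
  suffices h : ∀ M ≤ N, ∃ v : Fin N → V, ∀ k ≤ M,
      Module.finrank F (Submodule.span F
          (Set.range fun p : {p : Fin N × Fin r // (p.1 : ℕ) < k} => (T ^ (p.1.2 : ℕ)) (v p.1.1))) = k * r ∧
        Inv T (Submodule.span F
          (Set.range fun p : {p : Fin N × Fin r // (p.1 : ℕ) < k} => (T ^ (p.1.2 : ℕ)) (v p.1.1))) from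
    h N le_rfl
  intro M
  induction M with
  | zero =>
    intro _
    refine ⟨fun _ => 0, fun k hk => ?_⟩
    obtain rfl : k = 0 := by omega
    have : IsEmpty {p : Fin N × Fin r // (p.1 : ℕ) < 0} := ⟨fun p => Nat.not_lt_zero _ p.2⟩
    rw [Set.range_eq_empty, Submodule.span_empty, finrank_bot, Nat.zero_mul]
    exact ⟨rfl, fun w hw => by rw [Submodule.mem_bot] at hw ⊢; rw [hw, map_zero]⟩
  | succ M ih =>
    intro hM
    obtain ⟨v, hv⟩ := ih (by omega)
    obtain ⟨hd, hW⟩ := hv M le_rfl
    set W := Submodule.span F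
      (Set.range fun p : {p : Fin N × Fin r // (p.1 : ℕ) < M} => (T ^ (p.1.2 : ℕ)) (v p.1.1)) with hWdef
    have hne : W ≠ ⊤ := fun h => by
      rw [h, finrank_top, hN] at hd
      have h' := Nat.mul_le_mul_right r (show M + 1 ≤ N from hM)
      rw [Nat.succ_mul, Nat.mul_comm N r] at h'
      have := (Fact.out : r.Prime).pos
      omega
    obtain ⟨u, -, hu⟩ := SetLike.exists_of_lt (lt_top_iff_ne_top.2 hne)
    refine ⟨Function.update v ⟨M, hM⟩ u, fun k hk => ?_⟩
    rcases Nat.lt_or_ge k (M + 1) with hk' | hk'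
    · have he : ∀ p : {p : Fin N × Fin r // (p.1 : ℕ) < k},
          Function.update v (⟨M, hM⟩ : Fin N) u p.1.1 = v p.1.1 := fun p => by
        refine Function.update_of_ne (fun e => ?_) _ _
        have := p.2
        rw [e] at this
        simp at this
        omega
      rw [show (fun p : {p : Fin N × Fin r // (p.1 : ℕ) < k} =>
          (T ^ (p.1.2 : ℕ)) (Function.update v (⟨M, hM⟩ : Fin N) u p.1.1)) =
          fun p => (T ^ (p.1.2 : ℕ)) (v p.1.1) from funext fun p => by rw [he p]]
      exact hv k (by omega)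
    obtain rfl : k = M + 1 := by omega
    set W' := Submodule.span F (Set.range fun p : {p : Fin N × Fin r // (p.1 : ℕ) < M + 1} =>
      (T ^ (p.1.2 : ℕ)) (Function.update v (⟨M, hM⟩ : Fin N) u p.1.1))
    have hmonic := Polynomial.monic_X_pow_sub_C c (Fact.out : r.Prime).ne_zero
    have hdeg : (Polynomial.X ^ r - Polynomial.C c).natDegree = r := Polynomial.natDegree_X_pow_sub_C
    have hkill : Polynomial.aeval T (Polynomial.X ^ r - Polynomial.C c) u ∈ W := by
      simp [hT, Module.algebraMap_end_apply]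
    have hinv := inv_sup_cyc hW hmonic hkill
    rw [hdeg] at hinv
    have heq : W' = W ⊔ cyc T u r := by
      refine le_antisymm (Submodule.span_le.2 ?_) (sup_le (Submodule.span_le.2 ?_) (Submodule.span_le.2 ?_))
      · rintro _ ⟨⟨⟨a, b⟩, hab⟩, rfl⟩
        by_cases ha : a = ⟨M, hM⟩
        · subst ha
          simp only [Function.update_self]
          exact Submodule.mem_sup_right (Submodule.subset_span ⟨b, rfl⟩)
        · simp only [Function.update_of_ne ha]
          have ha' : (a : ℕ) < M := by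
            have : (a : ℕ) ≠ M := fun e => ha (Fin.ext e)
            simp at hab
            omega
          exact Submodule.mem_sup_left (Submodule.subset_span ⟨⟨(a, b), ha'⟩, rfl⟩)
      · rintro _ ⟨⟨⟨a, b⟩, hab⟩, rfl⟩
        have ha : a ≠ ⟨M, hM⟩ := fun e => by subst e; simp at hab
        exact Submodule.subset_span ⟨⟨(a, b), Nat.lt_succ_of_lt hab⟩, by simp [Function.update_of_ne ha]⟩
      · rintro _ ⟨b, rfl⟩
        exact Submodule.subset_span ⟨⟨(⟨M, hM⟩, b), Nat.lt_succ_self M⟩, by simp⟩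
    rw [heq]
    refine ⟨?_, hinv⟩
    have h1 := dvd_finrank_nonpower hT hc0 hc hinv
    have h2 : Module.finrank F W < Module.finrank F (W ⊔ cyc T u r : Submodule F V) :=
      Submodule.finrank_lt_finrank_of_lt (SetLike.lt_iff_le_and_exists.2
        ⟨le_sup_left, u, Submodule.mem_sup_right (mem_cyc T u (Fact.out : r.Prime).pos), hu⟩)
    have h3 := (Submodule.finrank_add_le_finrank_add_finrank W (cyc T u r)).trans
      (Nat.add_le_add_left (finrank_cyc_le T u r) _)
    rw [hd] at h2 h3
    obtain ⟨b, hb⟩ := h1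
    rw [hb, Nat.mul_comm r b] at h2 h3
    have h4 : M < b := Nat.lt_of_mul_lt_mul_right h2
    have h5 : b ≤ M + 1 := by
      refine Nat.le_of_mul_le_mul_right ?_ (Fact.out : r.Prime).pos
      rw [Nat.succ_mul]; exact h3
    rw [hb, show b = M + 1 by omega, Nat.mul_comm]

/-- Nested invariant subspaces. -/
lemma exists_nested_nonpower (hT : T ^ r = c • 1) (hc0 : c ≠ 0) (hc : ∀ s : F, s ^ r ≠ c)
    {a b : ℕ} (hab : a ≤ b) (hb : b * r ≤ Module.finrank F V) :
    ∃ U W, Inv T U ∧ Inv T W ∧ U ≤ W ∧ Module.finrank F U = a * r ∧ Module.finrank F W = b * r := by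
  obtain ⟨N, hN, v, hv⟩ := exists_frame hT hc0 hc
  rw [hN] at hb
  have hbN := Nat.le_of_mul_le_mul_right hb (Fact.out : r.Prime).pos
  refine ⟨_, _, (hv a (hab.trans hbN)).2, (hv b hbN).2, Submodule.span_mono ?_, (hv a (hab.trans hbN)).1, (hv b hbN).1⟩
  rintro _ ⟨⟨p, hp⟩, rfl⟩
  exact ⟨⟨p, lt_of_lt_of_le hp hab⟩, rfl⟩

/-- The determinant. -/
lemma det_nonpower (hT : T ^ r = c • 1) (hc0 : c ≠ 0) (hc : ∀ s : F, s ^ r ≠ c) :
    LinearMap.det T = ((-1) ^ (r - 1) * c) ^ (Module.finrank F V / r) := by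
  classical
  obtain ⟨N, hN, v, hv⟩ := exists_frame hT hc0 hc
  have hr : 0 < r := (Fact.out : r.Prime).pos
  haveI : NeZero r := ⟨hr.ne'⟩
  rw [hN, Nat.mul_div_cancel _ hr]
  let f : Fin N × Fin r → V := fun p => (T ^ (p.2 : ℕ)) (v p.1)
  have hspan : ⊤ ≤ Submodule.span F (Set.range f) := by
    have h := (hv N le_rfl).1
    rw [← hN] at h
    rw [← Submodule.eq_top_of_finrank_eq h]
    exact Submodule.span_mono (by rintro _ ⟨p, rfl⟩; exact ⟨p.1, rfl⟩)
  let B : Module.Basis (Fin N × Fin r) F V := basisOfTopLeSpanOfCardEqFinrank f hspan (by simp [hN])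
  have hB : ∀ p, B p = f p := fun p => by simp [B]
  let π : Equiv.Perm (Fin N × Fin r) := Equiv.prodCongrRight fun _ : Fin N => finRotate r
  let d : Fin N × Fin r → F := fun p => if (p.2 : ℕ) + 1 = r then c else 1
  have hTB : ∀ p, T (B p) = d p • B (π p) := by
    rintro ⟨a, b⟩
    rw [hB, hB]
    show T ((T ^ (b : ℕ)) (v a)) = d (a, b) • (T ^ ((finRotate r b : Fin r) : ℕ)) (v a)
    obtain ⟨r', rfl⟩ : ∃ r', r = r' + 1 := ⟨r - 1, by omega⟩
    rw [← Module.End.mul_apply, ← pow_succ']
    by_cases hb : (b : ℕ) + 1 = r' + 1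
    · rw [hb, hT, show finRotate (r' + 1) b = 0 by
        rw [finRotate_succ_apply]; exact Fin.ext (by simp [Fin.val_add, hb])]
      have hb' : (b : ℕ) = r' := by omega
      simp [d, hb']
    · have : ((finRotate (r' + 1) b : Fin (r' + 1)) : ℕ) = (b : ℕ) + 1 := by
        rw [finRotate_succ_apply, Fin.val_add_one_of_lt']
        omega
      rw [this]
      simp only [d, hb, if_false, one_smul]
  have hM : LinearMap.toMatrix B B T = (Matrix.diagonal d).submatrix π.symm id := by
    ext p q
    rw [LinearMap.toMatrix_apply, hTB, map_smul, Finsupp.smul_apply, B.repr_self, smul_eq_mul,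
      Matrix.submatrix_apply, id_eq, Matrix.diagonal_apply, Finsupp.single_apply]
    by_cases h : π q = p
    · subst h; simp
    · have h' : π.symm p ≠ q := fun e => h (by rw [← e, Equiv.apply_symm_apply])
      simp [h, h']
  rw [← LinearMap.det_toMatrix B, hM, Matrix.det_permute, Matrix.det_diagonal, Equiv.Perm.sign_symm,
    Equiv.Perm.sign_prodCongrRight, Finset.prod_const, Finset.card_univ, Fintype.card_fin,
    sign_finRotate, Fintype.prod_prod_type]
  have hrow : ∀ a : Fin N, ∏ b : Fin r, d (a, b) = c := fun a => by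
    rw [Fintype.prod_eq_single (⟨r - 1, by omega⟩ : Fin r) (fun b hb => ?_)]
    · simp [d, Nat.sub_add_cancel hr]
    · have : (b : ℕ) + 1 ≠ r := fun e => hb (Fin.ext (show (b : ℕ) = r - 1 by omega))
      simp [d, this]
  simp only [hrow, Finset.prod_const, Finset.card_univ, Fintype.card_fin]
  push_cast
  rw [mul_pow]

end

end Cfsg.Agent.Elusive
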