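import Cfsg.Agent.Lib.Elusive.SympInvolution
import Cfsg.Agent.Lib.Classical.Symplectic

/-!
Involutions of the projective symplectic groups and hyperbolic frames.
-/

set_option autoImplicit false
set_option linter.style.haveILetI false

namespace Cfsg.Agent.Elusive

open Matrix Cfsg.Agent.ClassicalSp

variable {F : Type*} [Field F] {d : ℕ}

lemma toLin_isometry (x : symplecticGroup (Fin d) F) (u v : Fin d ⊕ Fin d → F) :
    spBilin d F (Matrix.toLin' x.1 u) (Matrix.toLin' x.1 v) = spBilin d F u v := by
  rw [spBilin_apply, spBilin_apply]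
  exact (mem_iff_preserves x.1).1 x.2 u v

lemma toLin_map_of_le (x : symplecticGroup (Fin d) F) {U W : Submodule F (Fin d ⊕ Fin d → F)}
    (h : U.map (Matrix.toLin' x.1) ≤ W) (hdim : Module.finrank F U = Module.finrank F W) :
    U.map (Matrix.toLin' x.1) = W := by
  have hinj : Function.Injective (Matrix.toLin' x.1) := fun a b e => (toEquiv x).injective e
  exact Submodule.eq_of_le_of_finrank_eq h
    ((Submodule.equivMapOfInjective _ hinj U).finrank_eq.symm.trans hdim)

lemma ndSub_top : NDSub (spBilin d F) ⊤ := fun u _ hu => by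
  by_contra h
  push Not at h
  exact hu ((spBilin_nondeg (m := d) (F := F)).1 u fun v => h v trivial)

/-- The square of an involution of the projective group. -/
lemma sq_scalar (hd : 0 < d) (x : symplecticGroup (Fin d) F) {z : F}
    (hz : ((x ^ 2 : symplecticGroup (Fin d) F) : Matrix (Fin d ⊕ Fin d) (Fin d ⊕ Fin d) F) =
      z • (1 : Matrix (Fin d ⊕ Fin d) (Fin d ⊕ Fin d) F)) :
    (z = 1 ∧ Matrix.toLin' x.1 * Matrix.toLin' x.1 = 1) ∨
      (z = -1 ∧ Matrix.toLin' x.1 * Matrix.toLin' x.1 = -1) := by
  have hT : Matrix.toLin' x.1 * Matrix.toLin' x.1 = z • (1 : Module.End F (Fin d ⊕ Fin d → F)) := by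
    rw [← pow_two, ← Matrix.toLin'_pow, ← SubmonoidClass.coe_pow, hz, map_smul, Matrix.toLin'_one]
    rfl
  obtain ⟨u, -, hu⟩ := Submodule.exists_mem_ne_zero_of_ne_bot (p := (⊤ : Submodule F (Fin d ⊕ Fin d → F)))
    (fun h => by
      have h' := congrArg (fun S : Submodule F (Fin d ⊕ Fin d → F) => Module.finrank F S) h
      simp only [finrank_top, finrank_space, finrank_bot] at h'
      omega)
  obtain ⟨v, -, hv⟩ := ndSub_top u trivial hu
  have h := toLin_isometry x (Matrix.toLin' x.1 u) (Matrix.toLin' x.1 v)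
  rw [toLin_isometry x u v, ← Module.End.mul_apply, ← Module.End.mul_apply, hT] at h
  simp only [LinearMap.smul_apply, Module.End.one_apply, map_smul, LinearMap.smul_apply, smul_eq_mul,
    ← mul_assoc] at h
  have hz2 : z * z = 1 := mul_right_cancel₀ hv (by rw [one_mul]; exact h)
  rcases mul_self_eq_one_iff.1 hz2 with rfl | rfl
  · exact Or.inl ⟨rfl, by rw [hT, one_smul]⟩
  · exact Or.inr ⟨rfl, hT.trans (LinearMap.ext fun w => by simp)⟩

/-- A frame of the whole space has `d` members. -/
lemma card_frame {ι : Type} [Fintype ι] {e f : ι → Fin d ⊕ Fin d → F}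
    (h : HypFam (spBilin d F) e f) (hs : famSpan (F := F) e f = ⊤) : Fintype.card ι = d := by
  have h1 := finrank_span_eq_card (hypFam_indep spBilin_isAlt h)
  rw [show Submodule.span F (Set.range (Sum.elim e f)) = ⊤ from hs, finrank_top, finrank_space,
    Fintype.card_sum] at h1
  omega

end Cfsg.Agent.Elusive
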