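import Mathlib

/-!
Hyperbolic frames adapted to an isometry of an alternating form whose square is a scalar, and
the combinatorics of blocks adapted to an involution.
-/

set_option autoImplicit false
set_option linter.style.haveILetI false

namespace Cfsg.Agent.Elusive

open LinearMap (BilinForm)

variable {F : Type*} [Field F] {V : Type*} [AddCommGroup V] [Module F V]

/-- A family of pairwise orthogonal hyperbolic pairs. -/
structure HypFam (B : BilinForm F V) {ι : Type} (e f : ι → V) : Prop where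
  ee : ∀ i j, B (e i) (e j) = 0
  ff : ∀ i j, B (f i) (f j) = 0
  ef : ∀ i, B (e i) (f i) ≠ 0
  ef' : ∀ i j, i ≠ j → B (e i) (f j) = 0

section frame
variable [FiniteDimensional F V] {B : BilinForm F V} (hA : B.IsAlt) {T : Module.End F V}

/-- The span of all members of a family. -/
def famSpan {ι : Type} (e f : ι → V) : Submodule F V :=
  Submodule.span F (Set.range (Sum.elim e f))

omit [FiniteDimensional F V] in
lemma mem_famSpan_left {ι : Type} (e f : ι → V) (i : ι) : e i ∈ famSpan (F := F) e f :=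
  Submodule.subset_span ⟨Sum.inl i, rfl⟩

omit [FiniteDimensional F V] in
lemma mem_famSpan_right {ι : Type} (e f : ι → V) (i : ι) : f i ∈ famSpan (F := F) e f :=
  Submodule.subset_span ⟨Sum.inr i, rfl⟩

include hA in
omit [FiniteDimensional F V] in
lemma hypFam_indep {ι : Type} [Fintype ι] {e f : ι → V} (h : HypFam B e f) :
    LinearIndependent F (Sum.elim e f) := by
  classical
  rw [Fintype.linearIndependent_iff]
  intro g hg a
  have hfe : ∀ i j, i ≠ j → B (f i) (e j) = 0 := fun i j hij => by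
    rw [← LinearMap.BilinForm.IsAlt.neg_eq hA, h.ef' j i (Ne.symm hij), neg_zero]
  rcases a with j | j
  · have h1 := congrArg (fun v => B v (f j)) hg
    simp only [Fintype.sum_sum_type, map_add, LinearMap.add_apply, map_sum, LinearMap.sum_apply, map_smul, LinearMap.smul_apply, map_zero,
      LinearMap.zero_apply, Fintype.sum_sum_type, Sum.elim_inl, Sum.elim_inr, h.ff, smul_zero,
      Finset.sum_const_zero, add_zero] at h1
    rw [Finset.sum_eq_single j (fun i _ hij => by rw [h.ef' i j hij, smul_zero]) (by simp),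
      smul_eq_mul] at h1
    exact (mul_eq_zero.1 h1).resolve_right (h.ef j)
  · have h1 := congrArg (fun v => B (e j) v) hg
    simp only [Fintype.sum_sum_type, map_add, map_sum, map_smul, map_zero, Fintype.sum_sum_type, Sum.elim_inl, Sum.elim_inr, h.ee,
      smul_zero, Finset.sum_const_zero, zero_add] at h1
    rw [Finset.sum_eq_single j (fun i _ hij => by rw [h.ef' j i (Ne.symm hij), smul_zero]) (by simp),
      smul_eq_mul] at h1
    exact (mul_eq_zero.1 h1).resolve_right (h.ef j)

/-- A frame of `X` with relation `R` between each pair and its partner. -/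
def HasFrame (B : BilinForm F V) (R : V → V → V → V → Prop) (X : Submodule F V) : Prop :=
  ∃ (ι : Type) (_ : Fintype ι) (e f : ι → V) (π : ι → ι), HypFam B e f ∧ famSpan e f = X ∧
    (∀ i, π (π i) = i) ∧ ∀ i, R (e i) (f i) (e (π i)) (f (π i))

/-- A nondegenerate subspace. -/
def NDSub (B : BilinForm F V) (X : Submodule F V) : Prop := ∀ u ∈ X, u ≠ 0 → ∃ v ∈ X, B u v ≠ 0

omit [FiniteDimensional F V] in
lemma exists_mem_sum {ι : Type} [Fintype ι] {e f : ι → V} {v : V} (hv : v ∈ famSpan (F := F) e f) :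
    ∃ a b : ι → F, v = ∑ i, a i • e i + ∑ i, b i • f i := by
  obtain ⟨c, rfl⟩ := (Submodule.mem_span_range_iff_exists_fun F).1 hv
  exact ⟨fun i => c (Sum.inl i), fun i => c (Sum.inr i), by simp [Fintype.sum_sum_type]⟩

include hA in
omit [FiniteDimensional F V] in
/-- Splitting off the span of a family. -/
lemma split_family {ι : Type} [Fintype ι] {e f : ι → V} (h : HypFam B e f) {X : Submodule F V}
    (hle : famSpan e f ≤ X) {u : V} (hu : u ∈ X) :
    ∃ p ∈ famSpan (F := F) e f, u - p ∈ X ∧ ∀ i, B (u - p) (e i) = 0 ∧ B (u - p) (f i) = 0 := by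
  classical
  have hfe : ∀ i j, B (f i) (e j) = - B (e j) (f i) := fun i j =>
    (LinearMap.BilinForm.IsAlt.neg_eq hA _ _).symm
  let p : V := ∑ i, (B u (f i) / B (e i) (f i)) • e i + ∑ i, (B u (e i) / (- B (e i) (f i))) • f i
  have hp : p ∈ famSpan (F := F) e f := Submodule.add_mem _
    (sum_mem fun i _ => Submodule.smul_mem _ _ (mem_famSpan_left e f i))
    (sum_mem fun i _ => Submodule.smul_mem _ _ (mem_famSpan_right e f i))
  refine ⟨p, hp, X.sub_mem hu (hle hp), fun j => ⟨?_, ?_⟩⟩
  · simp only [p, map_sub, LinearMap.sub_apply, map_add, LinearMap.add_apply, map_sum,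
      LinearMap.sum_apply, map_smul, LinearMap.smul_apply, h.ee, smul_zero, Finset.sum_const_zero, zero_add]
    rw [Finset.sum_eq_single j (fun i _ hij => by rw [hfe, h.ef' j i (Ne.symm hij), neg_zero, smul_zero])
      (by simp), hfe, smul_eq_mul, div_mul_cancel₀ _ (neg_ne_zero.2 (h.ef j)), sub_self]
  · simp only [p, map_sub, LinearMap.sub_apply, map_add, LinearMap.add_apply, map_sum,
      LinearMap.sum_apply, map_smul, LinearMap.smul_apply, h.ff, smul_zero, Finset.sum_const_zero, add_zero]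
    rw [Finset.sum_eq_single j (fun i _ hij => by rw [h.ef' i j hij, smul_zero]) (by simp), smul_eq_mul,
      div_mul_cancel₀ _ (h.ef j), sub_self]

include hA in
/-- Frames from steps. -/
theorem exists_hyp_frame (hT : ∀ u v, B (T u) (T v) = B u v) (hTb : Function.Surjective T)
    {R : V → V → V → V → Prop}
    (step : ∀ X : Submodule F V, (∀ v ∈ X, T v ∈ X) → NDSub B X → X ≠ ⊥ →
      ∃ (ι : Type) (_ : Fintype ι) (_ : Nonempty ι) (e f : ι → V) (π : ι → ι), HypFam B e f ∧
        famSpan e f ≤ X ∧ (∀ v ∈ famSpan (F := F) e f, T v ∈ famSpan (F := F) e f) ∧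
        (∀ i, π (π i) = i) ∧ ∀ i, R (e i) (f i) (e (π i)) (f (π i))) :
    ∀ X : Submodule F V, (∀ v ∈ X, T v ∈ X) → NDSub B X → HasFrame B R X := by
  intro X
  induction hN : Module.finrank F X using Nat.strong_induction_on generalizing X with
  | _ N ih =>
  intro hinv hnd
  by_cases hX : X = ⊥
  · exact ⟨PEmpty, inferInstance, PEmpty.elim, PEmpty.elim, id,
      ⟨fun i => i.elim, fun i => i.elim, fun i => i.elim, fun i => i.elim⟩,
      by simp [famSpan, hX, Set.range_eq_empty], fun i => i.elim, fun i => i.elim⟩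
  obtain ⟨ι, _, ⟨i₀⟩, e, f, π, hfam, hle, hPinv, hπ, hR⟩ := step X hinv hnd hX
  let Y : Submodule F V :=
    { carrier := {v | v ∈ X ∧ ∀ i, B v (e i) = 0 ∧ B v (f i) = 0}
      zero_mem' := ⟨X.zero_mem, fun i => by simp⟩
      add_mem' := fun {a b} ha hb => ⟨X.add_mem ha.1 hb.1, fun i => by
        simp [(ha.2 i).1, (ha.2 i).2, (hb.2 i).1, (hb.2 i).2]⟩
      smul_mem' := fun c a ha => ⟨X.smul_mem c ha.1, fun i => by simp [(ha.2 i).1, (ha.2 i).2]⟩ }
  have hYP : ∀ y ∈ Y, ∀ p ∈ famSpan (F := F) e f, B y p = 0 := fun y hy p hp => by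
    obtain ⟨a, b, rfl⟩ := exists_mem_sum hp
    simp [(hy.2 _).1, (hy.2 _).2]
  have hYle : Y ≤ X := fun v hv => hv.1
  have hsurjP : ∀ p ∈ famSpan (F := F) e f, ∃ p' ∈ famSpan (F := F) e f, T p' = p := by
    have hinj : Function.Injective T := LinearMap.injective_iff_surjective.2 hTb
    have heq : (famSpan (F := F) e f).map T = famSpan e f := Submodule.eq_of_le_of_finrank_eq
      (by rintro _ ⟨v, hv, rfl⟩; exact hPinv v hv)
      (Submodule.equivMapOfInjective T hinj _).finrank_eq.symm
    intro p hp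
    rw [← heq] at hp
    exact hp
  have hYinv : ∀ v ∈ Y, T v ∈ Y := fun v hv => ⟨hinv v hv.1, fun i => by
    obtain ⟨p, hp, hpe⟩ := hsurjP _ (mem_famSpan_left e f i)
    obtain ⟨p', hp', hpf⟩ := hsurjP _ (mem_famSpan_right e f i)
    rw [← hpe, ← hpf, hT, hT]
    exact ⟨hYP v hv p hp, hYP v hv p' hp'⟩⟩
  have hYnd : NDSub B Y := by
    intro u hu hu0
    obtain ⟨v, hv, hne⟩ := hnd u hu.1 hu0
    obtain ⟨p, hp, hy, horth⟩ := split_family hA hfam hle hv
    refine ⟨v - p, ⟨hy, horth⟩, ?_⟩
    rwa [map_sub, hYP u hu p hp, sub_zero]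
  have hlt : Y < X := by
    refine lt_of_le_of_ne hYle fun h => hfam.ef i₀ ?_
    have : e i₀ ∈ Y := by rw [h]; exact hle (mem_famSpan_left e f i₀)
    exact (this.2 i₀).2
  obtain ⟨κ, _, e', f', π', hfam', hspan', hπ', hR'⟩ :=
    ih _ (hN ▸ Submodule.finrank_lt_finrank_of_lt hlt) Y rfl hYinv hYnd
  have hY' : ∀ k i, B (e' k) (e i) = 0 ∧ B (e' k) (f i) = 0 ∧ B (f' k) (e i) = 0 ∧ B (f' k) (f i) = 0 := fun k i =>
    ⟨((hspan'.le (mem_famSpan_left e' f' k)).2 i).1, ((hspan'.le (mem_famSpan_left e' f' k)).2 i).2,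
      ((hspan'.le (mem_famSpan_right e' f' k)).2 i).1, ((hspan'.le (mem_famSpan_right e' f' k)).2 i).2⟩
  have hflip : ∀ a b, B a b = 0 → B b a = 0 := fun a b h => by
    rw [← LinearMap.BilinForm.IsAlt.neg_eq hA, h, neg_zero]
  refine ⟨ι ⊕ κ, inferInstance, Sum.elim e e', Sum.elim f f', Sum.map π π', ⟨?_, ?_, ?_, ?_⟩, ?_, ?_, ?_⟩
  · rintro (i | i) (j | j)
    · exact hfam.ee i j
    · exact hflip _ _ (hY' j i).1
    · exact (hY' i j).1
    · exact hfam'.ee i j
  · rintro (i | i) (j | j)
    · exact hfam.ff i j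
    · exact hflip _ _ (hY' j i).2.2.2
    · exact (hY' i j).2.2.2
    · exact hfam'.ff i j
  · rintro (i | i)
    · exact hfam.ef i
    · exact hfam'.ef i
  · rintro (i | i) (j | j) hij
    · exact hfam.ef' i j fun h => hij (congrArg Sum.inl h)
    · exact hflip _ _ (hY' j i).2.2.1
    · exact (hY' i j).2.1
    · exact hfam'.ef' i j fun h => hij (congrArg Sum.inr h)
  · refine le_antisymm (Submodule.span_le.2 ?_) fun v hv => ?_
    · rintro _ ⟨(i | i) | (i | i), rfl⟩
      · exact hle (mem_famSpan_left e f i)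
      · exact hYle (hspan'.le (mem_famSpan_left e' f' i))
      · exact hle (mem_famSpan_right e f i)
      · exact hYle (hspan'.le (mem_famSpan_right e' f' i))
    · obtain ⟨p, hp, hy, horth⟩ := split_family hA hfam hle hv
      have h1 : famSpan (F := F) e f ≤ famSpan (Sum.elim e e') (Sum.elim f f') := Submodule.span_mono (by
        rintro _ ⟨i | i, rfl⟩
        · exact ⟨Sum.inl (Sum.inl i), rfl⟩
        · exact ⟨Sum.inr (Sum.inl i), rfl⟩)
      have h2 : famSpan (F := F) e' f' ≤ famSpan (Sum.elim e e') (Sum.elim f f') := Submodule.span_mono (by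
        rintro _ ⟨i | i, rfl⟩
        · exact ⟨Sum.inl (Sum.inr i), rfl⟩
        · exact ⟨Sum.inr (Sum.inr i), rfl⟩)
      have := Submodule.add_mem _ (h1 hp) (h2 (hspan'.ge ⟨hy, horth⟩))
      rwa [add_sub_cancel] at this
  · rintro (i | i)
    · exact congrArg Sum.inl (hπ i)
    · exact congrArg Sum.inr (hπ' i)
  · rintro (i | i)
    · exact hR i
    · exact hR' i

omit [FiniteDimensional F V] in
include hA in
lemma single_fam {v w : V} (hne : B v w ≠ 0) :
    HypFam B (fun _ : PUnit => v) (fun _ : PUnit => w) :=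
  ⟨fun _ _ => hA v, fun _ _ => hA w, fun _ => hne, fun i j h => absurd (Subsingleton.elim i j) h⟩

omit [FiniteDimensional F V] in
lemma famSpan_le {ι : Type} {e f : ι → V} {X : Submodule F V} (he : ∀ i, e i ∈ X) (hf : ∀ i, f i ∈ X) :
    famSpan e f ≤ X :=
  Submodule.span_le.2 (by rintro _ ⟨i | i, rfl⟩; exacts [he i, hf i])

omit [FiniteDimensional F V] in
lemma inv_famSpan {ι : Type} {e f : ι → V} (he : ∀ i, T (e i) ∈ famSpan (F := F) e f)
    (hf : ∀ i, T (f i) ∈ famSpan (F := F) e f) : ∀ v ∈ famSpan (F := F) e f, T v ∈ famSpan (F := F) e f := by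
  intro v hv
  exact (Submodule.span_le.2 (by rintro _ ⟨i | i, rfl⟩; exacts [he i, hf i]) :
    Submodule.span F (Set.range (Sum.elim e f)) ≤ (famSpan (F := F) e f).comap T) hv

include hA in
/-- Pairs of eigenvectors. -/
theorem frame_eigen (hT : ∀ u v, B (T u) (T v) = B u v) (hsq : T * T = 1) (h2 : (2 : F) ≠ 0)
    {X : Submodule F V} (hinv : ∀ v ∈ X, T v ∈ X) (hnd : NDSub B X) :
    HasFrame B (fun v w _ _ => T v ∈ Submodule.span F {v} ∧ T w ∈ Submodule.span F {w}) X := by
  have hsq' : ∀ u, T (T u) = u := fun u => by rw [← Module.End.mul_apply, hsq, Module.End.one_apply]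
  refine exists_hyp_frame hA hT (fun v => ⟨T v, hsq' v⟩) (fun X hinv hnd hne => ?_) X hinv hnd
  obtain ⟨u, hu, hu0⟩ := Submodule.exists_mem_ne_zero_of_ne_bot hne
  obtain ⟨v, hv, hv0, ε, hε, hεv⟩ : ∃ v ∈ X, v ≠ 0 ∧ ∃ ε : F, ε * ε = 1 ∧ T v = ε • v := by
    by_cases hz : u + T u = 0
    · exact ⟨u, hu, hu0, -1, by ring, by rw [neg_one_smul, eq_neg_iff_add_eq_zero, add_comm, hz]⟩
    · exact ⟨u + T u, X.add_mem hu (hinv u hu), hz, 1, by ring, by rw [map_add, hsq', one_smul, add_comm]⟩
  obtain ⟨w, hw, hne'⟩ := hnd v hv hv0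
  have hw'X : w + ε • T w ∈ X := X.add_mem hw (X.smul_mem ε (hinv w hw))
  have hw'e : T (w + ε • T w) = ε • (w + ε • T w) := by
    rw [map_add, map_smul, hsq', smul_add, smul_smul, hε, one_smul, add_comm]
  have hBw : B v (w + ε • T w) ≠ 0 := by
    have h1 : B v (T w) = ε * B v w := by
      have e1 : T (ε • v) = v := by rw [map_smul, hεv, smul_smul, hε, one_smul]
      conv_lhs => rw [← e1, hT]
      rw [map_smul, LinearMap.smul_apply, smul_eq_mul]
    rw [map_add, map_smul, h1, smul_eq_mul, ← mul_assoc, hε, one_mul, ← two_mul]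
    exact mul_ne_zero h2 hne'
  refine ⟨PUnit, inferInstance, inferInstance, _, _, id, single_fam hA hBw,
    famSpan_le (fun _ => hv) (fun _ => hw'X), inv_famSpan (fun i => ?_) (fun i => ?_), fun _ => rfl, fun _ => ⟨?_, ?_⟩⟩
  · rw [hεv]; exact Submodule.smul_mem _ _ (mem_famSpan_left _ _ i)
  · rw [hw'e]; exact Submodule.smul_mem _ _ (mem_famSpan_right _ _ i)
  · rw [hεv]; exact Submodule.smul_mem _ _ (Submodule.mem_span_singleton_self v)
  · rw [hw'e]; exact Submodule.smul_mem _ _ (Submodule.mem_span_singleton_self _)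

include hA in
/-- Pairs exchanged by an isometry with square `-1`. -/
theorem frame_swap (hT : ∀ u v, B (T u) (T v) = B u v) (hsq : T * T = -1) (h2 : (2 : F) ≠ 0)
    {X : Submodule F V} (hinv : ∀ v ∈ X, T v ∈ X) (hnd : NDSub B X) :
    HasFrame B (fun v w _ _ => T v ∈ Submodule.span F {w} ∧ T w ∈ Submodule.span F {v}) X := by
  have hsq' : ∀ u, T (T u) = -u := fun u => by
    rw [← Module.End.mul_apply, hsq, LinearMap.neg_apply, Module.End.one_apply]
  refine exists_hyp_frame hA hT (fun v => ⟨-T v, by rw [map_neg, hsq', neg_neg]⟩) (fun X hinv hnd hne => ?_) X hinv hnd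
  obtain ⟨v, hv, hne'⟩ : ∃ v ∈ X, B v (T v) ≠ 0 := by
    by_contra hall
    push Not at hall
    obtain ⟨u, hu, hu0⟩ := Submodule.exists_mem_ne_zero_of_ne_bot hne
    obtain ⟨w, hw, hne'⟩ := hnd (T u) (hinv u hu) fun h => hu0 (by
      have := hsq' u; rw [h, map_zero] at this; simpa using this.symm)
    have h := hall (u + w) (X.add_mem hu hw)
    rw [map_add, map_add, map_add, LinearMap.add_apply, LinearMap.add_apply, hall u hu, hall w hw,
      zero_add, add_zero] at h
    have e1 : B u (T w) = B w (T u) := by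
      rw [← hT u (T w), hsq', map_neg, LinearMap.BilinForm.IsAlt.neg_eq hA]
    rw [e1, ← two_mul, mul_eq_zero] at h
    refine hne' ?_
    rw [← LinearMap.BilinForm.IsAlt.neg_eq hA, h.resolve_left h2, neg_zero]
  refine ⟨PUnit, inferInstance, inferInstance, _, _, id, single_fam hA hne',
    famSpan_le (fun _ => hv) (fun _ => hinv v hv), inv_famSpan (fun i => ?_) (fun i => ?_), fun _ => rfl, fun _ => ⟨?_, ?_⟩⟩
  · exact mem_famSpan_right (F := F) (fun _ : PUnit => v) (fun _ : PUnit => T v) i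
  · show T (T v) ∈ _
    rw [hsq']; exact Submodule.neg_mem _ (mem_famSpan_left _ _ i)
  · exact Submodule.mem_span_singleton_self _
  · rw [hsq']; exact Submodule.neg_mem _ (Submodule.mem_span_singleton_self v)

include hA in
/-- Involutions in characteristic two: planes fixed or exchanged. -/
theorem frame_two (hT : ∀ u v, B (T u) (T v) = B u v) (hsq : T * T = 1) (h2 : (2 : F) = 0)
    {X : Submodule F V} (hinv : ∀ v ∈ X, T v ∈ X) (hnd : NDSub B X) :
    HasFrame B (fun v w v' w' => T v ∈ Submodule.span F {v', w'} ∧ T w ∈ Submodule.span F {v', w'}) X := by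
  have hsq' : ∀ u, T (T u) = u := fun u => by rw [← Module.End.mul_apply, hsq, Module.End.one_apply]
  have hneg : ∀ c : F, -c = c := fun c => by
    rw [neg_eq_iff_add_eq_zero, ← two_mul, h2, zero_mul]
  have hsymm : ∀ a b, B a b = B b a := fun a b => by
    rw [← LinearMap.BilinForm.IsAlt.neg_eq hA, hneg]
  refine exists_hyp_frame hA hT (fun v => ⟨T v, hsq' v⟩) (fun X hinv hnd hne => ?_) X hinv hnd
  by_cases hex : ∃ v ∈ X, B v (T v) ≠ 0
  · obtain ⟨v, hv, hne'⟩ := hex
    refine ⟨PUnit, inferInstance, inferInstance, _, _, id, single_fam hA hne',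
      famSpan_le (fun _ => hv) (fun _ => hinv v hv), inv_famSpan (fun i => ?_) (fun i => ?_), fun _ => rfl, fun _ => ⟨?_, ?_⟩⟩
    · exact mem_famSpan_right (F := F) (fun _ : PUnit => v) (fun _ : PUnit => T v) i
    · show T (T v) ∈ _
      rw [hsq']; exact mem_famSpan_left (F := F) (fun _ : PUnit => v) (fun _ : PUnit => T v) i
    · exact Submodule.subset_span (Or.inr rfl)
    · rw [hsq']; exact Submodule.subset_span (Or.inl rfl)
  push Not at hex
  by_cases hfix : ∀ u ∈ X, T u = u
  · obtain ⟨v, hv, hv0⟩ := Submodule.exists_mem_ne_zero_of_ne_bot hne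
    obtain ⟨w, hw, hne'⟩ := hnd v hv hv0
    refine ⟨PUnit, inferInstance, inferInstance, _, _, id, single_fam hA hne',
      famSpan_le (fun _ => hv) (fun _ => hw), inv_famSpan (fun i => ?_) (fun i => ?_), fun _ => rfl, fun _ => ⟨?_, ?_⟩⟩
    · show T v ∈ _
      rw [hfix v hv]; exact mem_famSpan_left (F := F) (fun _ : PUnit => v) (fun _ : PUnit => w) i
    · show T w ∈ _
      rw [hfix w hw]; exact mem_famSpan_right (F := F) (fun _ : PUnit => v) (fun _ : PUnit => w) i
    · rw [hfix v hv]; exact Submodule.subset_span (Or.inl rfl)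
    · rw [hfix w hw]; exact Submodule.subset_span (Or.inr rfl)
  push Not at hfix
  obtain ⟨u, hu, hfu⟩ := hfix
  -- a vector pairing with `u` and orthogonal to `T u`
  obtain ⟨w, hw, hw1, hw2⟩ : ∃ w ∈ X, B u w ≠ 0 ∧ B (T u) w = 0 := by
    have hu0 : u ≠ 0 := fun h => hfu (by rw [h, map_zero])
    have hTu0 : T u ≠ 0 := fun h => hu0 (by rw [← hsq' u, h, map_zero])
    by_contra hall
    push Not at hall
    obtain ⟨a, ha, hane⟩ := hnd (T u) (hinv u hu) hTu0
    -- every functional vanishing at `T u` vanishes at `u`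
    have hprop : ∀ w ∈ X, B u w = B u a / B (T u) a * B (T u) w := fun w hw => by
      by_contra hne'
      have hy : w - (B (T u) w / B (T u) a) • a ∈ X := X.sub_mem hw (X.smul_mem _ ha)
      refine hall _ hy (fun h => hne' ?_) ?_
      · rw [map_sub, map_smul, smul_eq_mul, sub_eq_zero] at h
        rw [h]; field_simp
      · rw [map_sub, map_smul, smul_eq_mul, div_mul_cancel₀ _ hane, sub_self]
    have hzero : u - (B u a / B (T u) a) • T u = 0 := by
      by_contra hne'
      obtain ⟨w, hw, h⟩ := hnd _ (X.sub_mem hu (X.smul_mem _ (hinv u hu))) hne'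
      rw [map_sub, map_smul, LinearMap.sub_apply, LinearMap.smul_apply, smul_eq_mul, hprop w hw, sub_self] at h
      exact h rfl
    rw [sub_eq_zero] at hzero
    set c := B u a / B (T u) a with hc
    have hc2 : T u = c • u := by
      have := congrArg T hzero
      rwa [map_smul, hsq'] at this
    have hcc : c * c = 1 := by
      have h1 : (c * c) • u = (1 : F) • u := by rw [← smul_smul, ← hc2, ← hzero, one_smul]
      exact smul_left_injective F hu0 h1
    have hc1 : c = 1 := by
      have : (c - 1) * (c - 1) = 0 := by linear_combination hcc + (1 - c) * h2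
      exact sub_eq_zero.1 (mul_self_eq_zero.1 this)
    exact hfu (by rw [hc2, hc1, one_smul])
  have huu : B u (T u) = 0 := hex u hu
  have hww : B w (T w) = 0 := hex w hw
  have hu' : B u (T w) = 0 := by rw [← hT, hsq']; exact hw2
  let e : Bool → V := fun b => bif b then T u else u
  let f : Bool → V := fun b => bif b then T w else w
  have hfam : HypFam B e f := by
    refine ⟨?_, ?_, ?_, ?_⟩
    · rintro (_ | _) (_ | _) <;> simp [e, hA u, hA (T u), huu, hsymm (T u) u]
    · rintro (_ | _) (_ | _) <;> simp [f, hA w, hA (T w), hww, hsymm (T w) w]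
    · rintro (_ | _) <;> simp [e, f, hT, hw1]
    · rintro (_ | _) (_ | _) h
      · exact absurd rfl h
      · exact hu'
      · exact hw2
      · exact absurd rfl h
  refine ⟨Bool, inferInstance, inferInstance, e, f, not, hfam, famSpan_le ?_ ?_, inv_famSpan ?_ ?_,
    fun b => Bool.not_not b, ?_⟩
  · rintro (_ | _); exacts [hu, hinv u hu]
  · rintro (_ | _); exacts [hw, hinv w hw]
  · rintro (_ | _)
    · exact mem_famSpan_left (F := F) e f true
    · show T (T u) ∈ _
      rw [hsq']; exact mem_famSpan_left (F := F) e f false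
  · rintro (_ | _)
    · exact mem_famSpan_right (F := F) e f true
    · show T (T w) ∈ _
      rw [hsq']; exact mem_famSpan_right (F := F) e f false
  · rintro (_ | _)
    · exact ⟨Submodule.subset_span (Or.inl rfl), Submodule.subset_span (Or.inr rfl)⟩
    · refine ⟨?_, ?_⟩
      · show T (T u) ∈ Submodule.span F {u, w}
        rw [hsq']; exact Submodule.subset_span (Or.inl rfl)
      · show T (T w) ∈ Submodule.span F {u, w}
        rw [hsq']; exact Submodule.subset_span (Or.inr rfl)

end frame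

/-! ### Blocks adapted to an involution -/

section blocks
variable {ι : Type*} [DecidableEq ι] {π : ι → ι} (hπ : ∀ i, π (π i) = i)

include hπ in
lemma sdiff_inv {S B : Finset ι} (hS : ∀ i ∈ S, π i ∈ S) (hB : ∀ i ∈ B, π i ∈ B) :
    ∀ i ∈ S \ B, π i ∈ S \ B := fun i hi => by
  rw [Finset.mem_sdiff] at hi ⊢
  exact ⟨hS i hi.1, fun h => hi.2 (by have := hB _ h; rwa [hπ] at this)⟩

include hπ in
lemma exists_inv_subset : ∀ (m : ℕ) (S : Finset ι), (∀ i ∈ S, π i ∈ S) → m ≤ S.card →
    (Even m ∨ ∃ i ∈ S, π i = i) → ∃ B ⊆ S, B.card = m ∧ ∀ i ∈ B, π i ∈ B := by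
  intro m
  induction m using Nat.strong_induction_on with
  | _ m ih =>
  intro S hS hm hpar
  by_cases hall : ∀ i ∈ S, π i = i
  · obtain ⟨B, hB, hBc⟩ := Finset.exists_subset_card_eq hm
    exact ⟨B, hB, hBc, fun i hi => by rwa [hall i (hB hi)]⟩
  rcases Nat.lt_or_ge m 2 with h2 | h2
  · rcases Nat.eq_zero_or_pos m with rfl | hm0
    · exact ⟨∅, Finset.empty_subset _, rfl, by simp⟩
    obtain rfl : m = 1 := by omega
    obtain ⟨i, hi, hfi⟩ := hpar.resolve_left (by simp)
    exact ⟨{i}, Finset.singleton_subset_iff.2 hi, rfl, by simp [hfi]⟩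
  push Not at hall
  obtain ⟨a, ha, hfa⟩ := hall
  have hsub : ({a, π a} : Finset ι) ⊆ S :=
    Finset.insert_subset ha (Finset.singleton_subset_iff.2 (hS a ha))
  have hpinv : ∀ i ∈ ({a, π a} : Finset ι), π i ∈ ({a, π a} : Finset ι) := fun i hi => by
    rcases Finset.mem_insert.1 hi with rfl | hi
    · simp
    · rw [Finset.mem_singleton.1 hi, hπ]; simp
  have hc : ({a, π a} : Finset ι).card = 2 := Finset.card_pair (Ne.symm hfa)
  obtain ⟨B, hBS, hBc, hBi⟩ := ih (m - 2) (by omega) (S \ {a, π a}) (sdiff_inv hπ hS hpinv)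
    (by rw [Finset.card_sdiff_of_subset hsub, hc]; omega) (by
      rcases hpar with he | ⟨i, hi, hfi⟩
      · exact Or.inl (by obtain ⟨l, hl⟩ := he; exact ⟨l - 1, by omega⟩)
      · refine Or.inr ⟨i, Finset.mem_sdiff.2 ⟨hi, fun h => ?_⟩, hfi⟩
        rcases Finset.mem_insert.1 h with rfl | h
        · exact hfa hfi
        · rw [Finset.mem_singleton.1 h, hπ] at hfi; exact hfa hfi.symm)
  refine ⟨B ∪ {a, π a}, Finset.union_subset (hBS.trans Finset.sdiff_subset) hsub, ?_, fun i hi => ?_⟩
  · rw [Finset.card_union_of_disjoint (Finset.disjoint_of_subset_left hBS Finset.sdiff_disjoint), hBc, hc]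
    omega
  · rcases Finset.mem_union.1 hi with h | h
    · exact Finset.mem_union_left _ (hBi i h)
    · exact Finset.mem_union_right _ (hpinv i h)

include hπ in
lemma exists_swap_subset : ∀ (m : ℕ) (S : Finset ι), (∀ i ∈ S, π i ∈ S) → (∀ i ∈ S, π i ≠ i) →
    2 * m ≤ S.card → ∃ B ⊆ S, B.card = m ∧ ∀ i ∈ B, π i ∉ B := by
  intro m
  induction m with
  | zero => intro S _ _ _; exact ⟨∅, Finset.empty_subset _, rfl, by simp⟩
  | succ m ih =>
    intro S hS hfree hm
    obtain ⟨a, ha⟩ := Finset.card_pos.1 (show 0 < S.card by omega)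
    have hsub : ({a, π a} : Finset ι) ⊆ S :=
      Finset.insert_subset ha (Finset.singleton_subset_iff.2 (hS a ha))
    have hpinv : ∀ i ∈ ({a, π a} : Finset ι), π i ∈ ({a, π a} : Finset ι) := fun i hi => by
      rcases Finset.mem_insert.1 hi with rfl | hi
      · simp
      · rw [Finset.mem_singleton.1 hi, hπ]; simp
    obtain ⟨B, hBS, hBc, hBi⟩ := ih (S \ {a, π a}) (sdiff_inv hπ hS hpinv)
      (fun i hi => hfree i (Finset.mem_sdiff.1 hi).1)
      (by rw [Finset.card_sdiff_of_subset hsub, Finset.card_pair (Ne.symm (hfree a ha))]; omega)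
    have haB : a ∉ B := fun h => (Finset.mem_sdiff.1 (hBS h)).2 (by simp)
    refine ⟨insert a B, Finset.insert_subset ha (hBS.trans Finset.sdiff_subset), ?_, fun i hi => ?_⟩
    · rw [Finset.card_insert_of_notMem haB, hBc]
    · rcases Finset.mem_insert.1 hi with rfl | hi
      · rw [Finset.mem_insert]
        rintro (h | h)
        · exact hfree i ha h
        · exact (Finset.mem_sdiff.1 (hBS h)).2 (by simp)
      · rw [Finset.mem_insert]
        rintro (h | h)
        · exact (Finset.mem_sdiff.1 (hBS hi)).2 (by rw [← h, hπ]; simp)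
        · exact hBi i hi h

include hπ in
/-- Blocks permuted by the involution. -/
theorem exists_blocks (m : ℕ) : ∀ (t : ℕ) (S : Finset ι), (∀ i ∈ S, π i ∈ S) → S.card = t * m →
    ∃ Bk : Fin t → Finset ι, (∀ j, (Bk j).card = m ∧ Bk j ⊆ S) ∧ (∀ j k, j ≠ k → Disjoint (Bk j) (Bk k)) ∧
      (∀ i ∈ S, ∃ j, i ∈ Bk j) ∧ ∀ j, ∃ k, ∀ i ∈ Bk j, π i ∈ Bk k := by
  intro t
  induction t using Nat.strong_induction_on with
  | _ t ih =>
  intro S hS hc
  rcases Nat.eq_zero_or_pos t with rfl | ht
  · rw [Nat.zero_mul, Finset.card_eq_zero] at hc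
    exact ⟨Fin.elim0, fun j => j.elim0, fun j => j.elim0, by simp [hc], fun j => j.elim0⟩
  by_cases hcase : Even m ∨ ∃ i ∈ S, π i = i
  · obtain ⟨t, rfl⟩ : ∃ t', t = t' + 1 := ⟨t - 1, by omega⟩
    obtain ⟨B, hBS, hBc, hBi⟩ := exists_inv_subset hπ m S hS (by rw [hc, Nat.succ_mul]; omega) hcase
    obtain ⟨Bk, h1, h2, h3, h4⟩ := ih t (by omega) (S \ B) (sdiff_inv hπ hS hBi)
      (by rw [Finset.card_sdiff_of_subset hBS, hc, hBc, Nat.succ_mul]; omega)
    refine ⟨Fin.cons B Bk, Fin.cases ⟨hBc, hBS⟩ fun j => ⟨(h1 j).1, (h1 j).2.trans Finset.sdiff_subset⟩,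
      ?_, fun i hi => ?_, Fin.cases ⟨0, by simpa using hBi⟩ fun j => ?_⟩
    · refine Fin.cases (Fin.cases (fun h => absurd rfl h) fun k _ => ?_) fun j => Fin.cases (fun _ => ?_) fun k hjk => ?_
      · simpa using Finset.disjoint_of_subset_right (h1 k).2 Finset.disjoint_sdiff
      · simpa using Finset.disjoint_of_subset_left (h1 j).2 Finset.sdiff_disjoint
      · simpa using h2 j k fun h => hjk (congrArg Fin.succ h)
    · by_cases hiB : i ∈ B
      · exact ⟨0, hiB⟩
      · obtain ⟨j, hj⟩ := h3 i (Finset.mem_sdiff.2 ⟨hi, hiB⟩)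
        exact ⟨j.succ, by simpa using hj⟩
    · obtain ⟨k, hk⟩ := h4 j
      exact ⟨k.succ, by simpa using hk⟩
  · push Not at hcase
    obtain ⟨hmodd, hfree⟩ := hcase
    have heven : Even S.card := by
      let σ : Equiv.Perm S :=
        { toFun := fun i => ⟨π i.1, hS _ i.2⟩
          invFun := fun i => ⟨π i.1, hS _ i.2⟩
          left_inv := fun i => Subtype.ext (hπ _)
          right_inv := fun i => Subtype.ext (hπ _) }
      have hmod := Equiv.Perm.card_compl_support_modEq (p := 2) (σ := σ) (n := 1)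
        (Equiv.ext fun i => Subtype.ext (hπ _))
      rw [show σ.supportᶜ = ∅ by
        ext i; simp only [Finset.mem_compl, Equiv.Perm.mem_support, not_not, Finset.notMem_empty, iff_false]
        exact fun h => hfree i.1 i.2 (congrArg Subtype.val h), Finset.card_empty, Fintype.card_coe] at hmod
      exact even_iff_two_dvd.2 (Nat.modEq_zero_iff_dvd.1 hmod.symm)
    obtain ⟨t, rfl⟩ : ∃ t', t = t' + 2 := ⟨t - 2, by
      rw [hc, Nat.even_mul] at heven
      obtain ⟨l, hl⟩ := heven.resolve_right hmodd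
      omega⟩
    obtain ⟨B, hBS, hBc, hBi⟩ := exists_swap_subset hπ m S hS hfree
      (by rw [hc, Nat.add_mul]; omega)
    have hdisj : Disjoint B (B.image π) := Finset.disjoint_right.2 fun i hi hiB => by
      obtain ⟨l, hl, rfl⟩ := Finset.mem_image.1 hi
      exact hBi l hl hiB
    have hinj : Function.Injective π := fun a b h => by rw [← hπ a, h, hπ]
    have hsub : B ∪ B.image π ⊆ S := Finset.union_subset hBS (Finset.image_subset_iff.2 fun i hi => hS i (hBS hi))
    have hinv : ∀ i ∈ B ∪ B.image π, π i ∈ B ∪ B.image π := fun i hi => by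
      rcases Finset.mem_union.1 hi with h | h
      · exact Finset.mem_union_right _ (Finset.mem_image_of_mem π h)
      · obtain ⟨l, hl, rfl⟩ := Finset.mem_image.1 h
        rw [hπ]; exact Finset.mem_union_left _ hl
    obtain ⟨Bk, h1, h2, h3, h4⟩ := ih t (by omega) (S \ (B ∪ B.image π)) (sdiff_inv hπ hS hinv) (by
      rw [Finset.card_sdiff_of_subset hsub, Finset.card_union_of_disjoint hdisj,
        Finset.card_image_of_injective _ hinj, hc, hBc, Nat.add_mul]
      omega)
    have hd1 : ∀ j, Disjoint B (Bk j) := fun j => Finset.disjoint_of_subset_right (h1 j).2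
      (Finset.disjoint_of_subset_left Finset.subset_union_left Finset.disjoint_sdiff)
    have hd2 : ∀ j, Disjoint (B.image π) (Bk j) := fun j => Finset.disjoint_of_subset_right (h1 j).2
      (Finset.disjoint_of_subset_left Finset.subset_union_right Finset.disjoint_sdiff)
    refine ⟨Fin.cons B (Fin.cons (B.image π) Bk), Fin.cases ⟨hBc, hBS⟩ (Fin.cases
        ⟨(Finset.card_image_of_injective _ hinj).trans hBc, Finset.subset_union_right.trans hsub⟩
        fun j => ⟨(h1 j).1, (h1 j).2.trans Finset.sdiff_subset⟩),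
      ?_, fun i hi => ?_, Fin.cases ⟨1, fun i hi => ?_⟩ (Fin.cases ⟨0, fun i hi => ?_⟩ fun j => ?_)⟩
    · intro j k hjk
      rcases Fin.eq_zero_or_eq_succ j with rfl | ⟨j', rfl⟩ <;> rcases Fin.eq_zero_or_eq_succ k with rfl | ⟨k', rfl⟩
      · exact absurd rfl hjk
      · rcases Fin.eq_zero_or_eq_succ k' with rfl | ⟨k'', rfl⟩
        · simpa using hdisj
        · simpa using hd1 k''
      · rcases Fin.eq_zero_or_eq_succ j' with rfl | ⟨j'', rfl⟩
        · simpa using hdisj.symm
        · simpa using (hd1 j'').symm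
      · rcases Fin.eq_zero_or_eq_succ j' with rfl | ⟨j'', rfl⟩ <;> rcases Fin.eq_zero_or_eq_succ k' with rfl | ⟨k'', rfl⟩
        · exact absurd rfl hjk
        · simpa using hd2 k''
        · simpa using (hd2 j'').symm
        · simpa using h2 j'' k'' fun h => hjk (congrArg (fun x : Fin t => x.succ.succ) h)
    · by_cases hiB : i ∈ B ∪ B.image π
      · rcases Finset.mem_union.1 hiB with h | h
        · exact ⟨0, h⟩
        · exact ⟨1, h⟩
      · obtain ⟨j, hj⟩ := h3 i (Finset.mem_sdiff.2 ⟨hi, hiB⟩)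
        exact ⟨j.succ.succ, by simpa using hj⟩
    · exact Finset.mem_image_of_mem π hi
    · obtain ⟨l, hl, rfl⟩ := Finset.mem_image.1 hi
      rw [hπ]; exact hl
    · obtain ⟨k, hk⟩ := h4 j
      exact ⟨k.succ.succ, by simpa using hk⟩

end blocks

end Cfsg.Agent.Elusive
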