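import Cfsg.Agent.Lib.Elusive.FormIso
import Cfsg.Agent.Lib.Elusive.SympFrame
import Cfsg.Agent.Lib.Spectra.SympModels
import Cfsg.Agent.Lib.Classical.AlternatingIso
import Cfsg.Agent.Lib.LinearBlock.SpExtWitness
import Cfsg.Agent.Lib.LinearBlock.GUSpElusive

/-!
Semisimple elements of prime order of symplectic groups and their invariant totally isotropic subspaces.
-/

set_option autoImplicit false
set_option linter.all false

namespace Cfsg.Agent.Elusive

open Module Polynomial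
open LinearMap (BilinForm)

variable {F : Type*} [Field F] {V : Type*} [AddCommGroup V] [Module F V] [FiniteDimensional F V]
  {B : BilinForm F V}

/-- An alternating form as a form with every vector singular. -/
def altForm (hA : B.IsAlt) (hB : B.Nondegenerate) : SForm (RingEquiv.refl F) V where
  B := fun u v => B u v
  sing := fun _ => True
  add_left := fun u v w => by simp
  smul_left := fun c u v => by simp
  add_right := fun u v w => by simp
  smul_right := fun c u v => by simp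
  refl := fun u v h => by rw [← LinearMap.BilinForm.IsAlt.neg_eq hA, h, neg_zero]
  nondeg := fun u h => hB.1 u h
  sing_zero := trivial
  sing_smul := fun _ _ _ => trivial
  sing_add := fun _ _ _ _ _ => trivial

variable {hA : B.IsAlt} {hB : B.Nondegenerate}

lemma altForm_isom {T : Module.End F V} (h : ∀ u v, B (T u) (T v) = B u v) : (altForm hA hB).Isom T :=
  ⟨h, fun _ => Iff.rfl⟩

lemma altForm_iso {W : Submodule F V} (h : ∀ u ∈ W, ∀ v ∈ W, B u v = 0) : (altForm hA hB).Iso W :=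
  ⟨h, fun _ _ => trivial⟩

lemma even_finrank_nd {X : Submodule F V} (hX : (altForm hA hB).ND X) : Even (finrank F X) := by
  have hA' : (B.restrict X).IsAlt := AltForm.restrict_isAlt hA X
  have hB' : (B.restrict X).Nondegenerate :=
    ⟨fun u hu => Subtype.ext (hX u.1 u.2 fun v hv => hu ⟨v, hv⟩),
      fun u hu => Subtype.ext (hX u.1 u.2 fun v hv => (altForm hA hB).refl _ _ (hu ⟨v, hv⟩))⟩
  obtain ⟨m, hm⟩ := AltForm.exists_finrank_eq hA' hB'
  exact ⟨m, by omega⟩

/-- Isotropic lines. -/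
lemma step_line (S : Submodule F V) (T : Module.End F V) (hS : S ≤ fixedSpace T) :
    SForm.Step (altForm hA hB) T S 1 0 := by
  intro U hUi hUS hU hD
  obtain ⟨v, hv, hv0⟩ := Submodule.exists_mem_ne_zero_of_ne_bot (p := U) (fun h => by
    rw [h, finrank_bot] at hD; omega)
  refine ⟨Submodule.span F {v}, inv_of_le_fixed ((Submodule.span_singleton_le_iff_mem _ _).2 (hS (hUS hv))),
    (Submodule.span_singleton_le_iff_mem _ _).2 hv, altForm_iso ?_, finrank_span_singleton hv0⟩
  intro a ha b hb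
  obtain ⟨x, rfl⟩ := Submodule.mem_span_singleton.1 ha
  obtain ⟨y, rfl⟩ := Submodule.mem_span_singleton.1 hb
  simp [show B v v = 0 from hA v]

section prime
variable [Fintype F] {r : ℕ} [Fact r.Prime] {T : Module.End F V}

/-- Steps when `q` has odd order modulo `r`. -/
lemma step_odd (hT : T ^ r = 1) (hr : (r : F) ≠ 0) (h : ∀ u v, B (T u) (T v) = B u v)
    (hodd : Odd (orderOf (Fintype.card F : ZMod r))) :
    SForm.Step (altForm hA hB) T (movedSpace T r) (orderOf (Fintype.card F : ZMod r)) 0 :=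
  SForm.step_of_no_nd hT hr (altForm_isom h) (fun _ _ _ _ _ _ => trivial) fun X _ _ hd hX => by
    have := even_finrank_nd hX
    rw [hd] at this
    exact Nat.not_even_iff_odd.2 hodd this

/-- Steps in general. -/
lemma step_general (hT : T ^ r = 1) (hr : (r : F) ≠ 0) (hr2 : r ≠ 2) (h : ∀ u v, B (T u) (T v) = B u v) :
    SForm.Step (altForm hA hB) T (movedSpace T r) (orderOf (Fintype.card F : ZMod r)) (r - 1) := by
  refine SForm.step_of_vector hT hr (altForm_isom h) fun U hUi hUM hU hD => ?_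
  obtain ⟨v, hvU, hv0, hv⟩ := exists_common_zero (F := F) (κ := Fin ((r - 1) / 2))
    (fun k => B.comp (T ^ ((k : ℕ) + 1)) LinearMap.id) U (by rw [Fintype.card_fin]; omega)
  refine ⟨v, hvU, hv0, trivial, fun a ha => ?_⟩
  show B ((T ^ a) v) v = 0
  rcases Nat.eq_zero_or_pos a with rfl | ha0
  · simp [show B v v = 0 from hA v]
  have hodd : r % 2 = 1 := Nat.odd_iff.1 ((Fact.out : r.Prime).odd_of_ne_two hr2)
  by_cases hle : a ≤ (r - 1) / 2
  · have := hv ⟨a - 1, by omega⟩
    simpa [show a - 1 + 1 = a by omega] using this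
  · have h1 := hv ⟨r - a - 1, by omega⟩
    rw [LinearMap.BilinForm.comp_apply, LinearMap.id_apply] at h1
    simp only [show r - a - 1 + 1 = r - a by omega] at h1
    have h2 := (altForm_isom (hA := hA) (hB := hB) h).pow a ((T ^ (r - a)) v) v
    rw [← Module.End.mul_apply, ← pow_add, show a + (r - a) = r by omega, hT, Module.End.one_apply] at h2
    exact (altForm hA hB).refl _ _ (h2.trans h1)

end prime

/-! ### The standard space -/

section std
variable {F : Type*} [Field F] {d : ℕ}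

/-- The standard form. -/
noncomputable abbrev stdForm (d : ℕ) (F : Type*) [Field F] : SForm (RingEquiv.refl F) (Fin d ⊕ Fin d → F) :=
  altForm (B := ClassicalSp.spBilin d F) ClassicalSp.spBilin_isAlt ClassicalSp.spBilin_nondeg

lemma toLin_pow_eq (x : ↥(Matrix.symplecticGroup (Fin d) F)) (n : ℕ) :
    Matrix.toLin' ((x ^ n : ↥(Matrix.symplecticGroup (Fin d) F)) : Matrix (Fin d ⊕ Fin d) (Fin d ⊕ Fin d) F) =
      Matrix.toLin' x.1 ^ n := by
  rw [SubmonoidClass.coe_pow, Matrix.toLin'_pow]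

/-- A scalar in the symplectic group is a sign. -/
lemma scalar_sq (hd : 0 < d) {y : ↥(Matrix.symplecticGroup (Fin d) F)} {z : F}
    (hz : (y : Matrix (Fin d ⊕ Fin d) (Fin d ⊕ Fin d) F) = z • (1 : Matrix (Fin d ⊕ Fin d) (Fin d ⊕ Fin d) F)) :
    z * z = 1 := by
  obtain ⟨u, hu⟩ : ∃ u : Fin d ⊕ Fin d → F, u ≠ 0 :=
    ⟨Pi.single (Sum.inl ⟨0, hd⟩) 1, fun h => by simpa using congrFun h (Sum.inl ⟨0, hd⟩)⟩
  obtain ⟨v, -, hv⟩ := ndSub_top u trivial hu
  have h := toLin_isometry y u v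
  rw [hz, map_smul, Matrix.toLin'_one] at h
  simp only [LinearMap.smul_apply, LinearMap.id_coe, id_eq, map_smul, smul_eq_mul, ← mul_assoc] at h
  exact mul_right_cancel₀ hv (by rw [one_mul]; exact h)

/-- Powers dividing the number of totally isotropic subspaces. -/
lemma dvd_count [Fintype F] {r m : ℕ} [Fact r.Prime] (hm : m ≤ d)
    (h : r ∣ Nat.card {W : Submodule F (Fin d ⊕ Fin d → F) // Module.finrank F ↥W = m ∧
      (∀ u ∈ W, ∀ v ∈ W, Cfsg.sympForm d F u v = 0)}) :
    ∃ j < m, r ∣ Fintype.card F ^ (2 * (d - j)) - 1 := by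
  have hcard : Nat.card {W : Submodule F (Fin d ⊕ Fin d → F) // Module.finrank F ↥W = m ∧
      (∀ u ∈ W, ∀ v ∈ W, Cfsg.sympForm d F u v = 0)} = Nat.card (AltForm.IsoSub (ClassicalSp.spBilin d F) m) := by
    unfold AltForm.IsoSub
    simp only [ClassicalSp.spBilin_apply]
  rw [hcard] at h
  have h1 := AltForm.card_isoSub_mul (B := ClassicalSp.spBilin d F) ClassicalSp.spBilin_isAlt m
  have h2 := AltForm.card_isoTuple_mul m (B := ClassicalSp.spBilin d F) ClassicalSp.spBilin_isAlt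
    ClassicalSp.spBilin_nondeg (m := d) ClassicalSp.finrank_space hm
  have h0 := gprod_top (Fintype.card F) (le_refl m)
  rw [Nat.sub_self, show gprod (Fintype.card F) 0 = 1 from Finset.prod_range_zero _, one_mul] at h0
  rw [← h1, Nat.card_eq_fintype_card (α := F), prod_pow_sub (Fintype.card F) (le_refl m), h0,
    Finset.prod_pow_eq_pow_sum, Finset.sum_range_id, AltForm.spOrder, AltForm.spOrder] at h2
  set q := Fintype.card F
  have hsplit : ∏ i ∈ Finset.range d, (q ^ (2 * (i + 1)) - 1) =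
      (∏ i ∈ Finset.range (d - m), (q ^ (2 * (i + 1)) - 1)) *
        ∏ i ∈ Finset.range m, (q ^ (2 * (d - m + i + 1)) - 1) := by
    conv_lhs => rw [show d = d - m + m by omega, Finset.prod_range_add]
  have hP : 0 < ∏ i ∈ Finset.range (d - m), (q ^ (2 * (i + 1)) - 1) :=
    Finset.prod_pos fun i _ => Nat.sub_pos_of_lt (Nat.one_lt_pow (by omega) Fintype.one_lt_card)
  have hexp : m * (m + 1) / 2 + 2 * m * (d - m) + m * (m - 1) / 2 + (d - m) ^ 2 = d ^ 2 := by
    obtain ⟨e, rfl⟩ : ∃ e, d = m + e := ⟨d - m, by omega⟩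
    have h3 : m * (m + 1) / 2 + m * (m - 1) / 2 = m ^ 2 := by
      rcases Nat.eq_zero_or_pos m with rfl | hm0
      · simp
      obtain ⟨a, rfl⟩ : ∃ a, m = a + 1 := ⟨m - 1, by omega⟩
      obtain ⟨b, hb⟩ := (Nat.even_mul_succ_self a)
      rw [Nat.add_sub_cancel, show (a + 1) * (a + 1 + 1) = a * (a + 1) + 2 * (a + 1) by ring,
        show (a + 1) * a = a * (a + 1) by ring, hb, show b + b + 2 * (a + 1) = 2 * (b + a + 1) by ring,
        show b + b = 2 * b by ring, Nat.mul_div_cancel_left _ (by norm_num : 0 < 2),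
        Nat.mul_div_cancel_left _ (by norm_num : 0 < 2)]
      have : (a + 1) ^ 2 = a * (a + 1) + (a + 1) := by ring
      omega
    rw [Nat.add_sub_cancel_left, show (m + e) ^ 2 = m ^ 2 + 2 * m * e + e ^ 2 by ring]
    omega
  rw [hsplit, ← hexp] at h2
  have h3 : Nat.card (AltForm.IsoSub (ClassicalSp.spBilin d F) m) * gprod q m =
      ∏ i ∈ Finset.range m, (q ^ (2 * (d - m + i + 1)) - 1) := by
    refine Nat.eq_of_mul_eq_mul_left (show 0 < q ^ (m * (m + 1) / 2 + 2 * m * (d - m) + m * (m - 1) / 2 + (d - m) ^ 2) *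
      ∏ i ∈ Finset.range (d - m), (q ^ (2 * (i + 1)) - 1) from Nat.mul_pos (pow_pos Fintype.card_pos _) hP) ?_
    linear_combination h2
  have h4 : r ∣ ∏ i ∈ Finset.range m, (q ^ (2 * (d - m + i + 1)) - 1) := h3 ▸ dvd_mul_of_dvd_left h _
  obtain ⟨i, hi, hdiv⟩ := ((Fact.out : r.Prime).prime.dvd_finsetProd_iff _).1 h4
  have hi' := Finset.mem_range.1 hi
  exact ⟨m - i - 1, by omega, by rwa [show d - (m - i - 1) = d - m + i + 1 by omega]⟩

end std

/-! ### Block models -/

section model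
variable {F : Type*} [Field F] {κ : Type*} [Fintype κ] {f h : ℕ}

/-- The model space: a fixed part and blocks. -/
abbrev Mdl (F : Type*) (f h : ℕ) (κ : Type*) := (Fin f ⊕ Fin f → F) × (κ → Fin h ⊕ Fin h → F)

/-- The model form. -/
noncomputable def mdlForm : BilinForm F (Mdl F f h κ) :=
  LinearMap.mk₂ F (fun u v => ClassicalSp.spBilin f F u.1 v.1 + ∑ k, ClassicalSp.spBilin h F (u.2 k) (v.2 k))
    (fun a b c => by simp [Finset.sum_add_distrib]; ring) (fun a b c => by simp [Finset.mul_sum, mul_add])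
    (fun a b c => by simp [Finset.sum_add_distrib]; ring) (fun a b c => by simp [Finset.mul_sum, mul_add])

lemma mdlForm_apply (u v : Mdl F f h κ) :
    mdlForm u v = ClassicalSp.spBilin f F u.1 v.1 + ∑ k, ClassicalSp.spBilin h F (u.2 k) (v.2 k) := rfl

lemma mdlForm_isAlt : (mdlForm (F := F) (κ := κ) (f := f) (h := h)).IsAlt := fun u => by
  rw [mdlForm_apply]
  simp [show ∀ n (x : Fin n ⊕ Fin n → F), ClassicalSp.spBilin n F x x = 0 from fun n x => ClassicalSp.spBilin_isAlt x]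

lemma mdlForm_nondeg : (mdlForm (F := F) (κ := κ) (f := f) (h := h)).Nondegenerate := by
  classical
  have h1 : ∀ u : Mdl F f h κ, (∀ v, mdlForm u v = 0) → u = 0 := fun u hu => by
    refine Prod.ext (ClassicalSp.spBilin_nondeg.1 _ fun y => ?_)
      (funext fun k => ClassicalSp.spBilin_nondeg.1 _ fun y => ?_)
    · simpa [mdlForm_apply] using hu (y, 0)
    · have := hu (0, Pi.single k y)
      rw [mdlForm_apply, Finset.sum_eq_single k (fun l _ hl => by simp [hl]) (by simp)] at this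
      simpa using this
  exact ⟨h1, fun u hu => h1 u fun v => by
    rw [← LinearMap.BilinForm.IsAlt.neg_eq mdlForm_isAlt, hu v, neg_zero]⟩

lemma finrank_mdl : finrank F (Mdl F f h κ) = 2 * (f + Fintype.card κ * h) := by
  simp [Module.finrank_pi_fintype]; ring

/-- The model map. -/
noncomputable def mdlMap (A : κ → Matrix (Fin h ⊕ Fin h) (Fin h ⊕ Fin h) F) : Module.End F (Mdl F f h κ) :=
  LinearMap.prodMap LinearMap.id (LinearMap.pi fun k => (Matrix.toLin' (A k)).comp (LinearMap.proj k))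

variable {A : κ → Matrix (Fin h ⊕ Fin h) (Fin h ⊕ Fin h) F}

omit [Fintype κ] in
lemma mdlMap_apply (w : Mdl F f h κ) : mdlMap A w = (w.1, fun k => Matrix.toLin' (A k) (w.2 k)) := rfl

omit [Fintype κ] in
lemma mdlMap_pow (n : ℕ) (w : Mdl F f h κ) :
    (mdlMap A ^ n) w = (w.1, fun k => (Matrix.toLin' (A k) ^ n) (w.2 k)) := by
  induction n with
  | zero => simp
  | succ n ih => rw [pow_succ', Module.End.mul_apply, ih, mdlMap_apply]; simp [pow_succ', Module.End.mul_apply]

omit [Fintype κ] in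
lemma mdlMap_aeval (P : F[X]) (w : Mdl F f h κ) :
    aeval (mdlMap A) P w = (P.eval 1 • w.1, fun k => aeval (Matrix.toLin' (A k)) P (w.2 k)) := by
  induction P using Polynomial.induction_on' with
  | add P Q hP hQ =>
    rw [map_add, LinearMap.add_apply, hP, hQ, Prod.mk_add_mk, eval_add, add_smul]
    refine Prod.ext rfl (funext fun k => ?_)
    simp [map_add]
  | monomial n c =>
    rw [aeval_monomial, Module.End.mul_apply, Module.algebraMap_end_apply, mdlMap_pow, Prod.smul_mk, eval_monomial,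
      one_pow, mul_one]
    refine Prod.ext rfl (funext fun k => ?_)
    simp [aeval_monomial, Module.End.mul_apply, Module.algebraMap_end_apply]

lemma mdlMap_isometry (hA : ∀ k, A k ∈ Matrix.symplecticGroup (Fin h) F) (u v : Mdl F f h κ) :
    mdlForm (mdlMap A u) (mdlMap A v) = mdlForm u v := by
  rw [mdlForm_apply, mdlForm_apply, mdlMap_apply, mdlMap_apply]
  congr 1
  exact Finset.sum_congr rfl fun k _ => toLin_isometry ⟨A k, hA k⟩ _ _

omit [Fintype κ] in
lemma mdlMap_pow_eq_one {r : ℕ} (hAr : ∀ k, A k ^ r = 1) : mdlMap (f := f) A ^ r = 1 :=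
  LinearMap.ext fun w => by
    rw [mdlMap_pow, Module.End.one_apply]
    refine Prod.ext rfl (funext fun k => ?_)
    show (Matrix.toLin' (A k) ^ r) (w.2 k) = w.2 k
    rw [← Matrix.toLin'_pow, hAr, Matrix.toLin'_one, LinearMap.id_apply]

omit [Fintype κ] in
lemma fixed_block {B : Matrix (Fin h ⊕ Fin h) (Fin h ⊕ Fin h) F} (hB : (B - 1).det ≠ 0) {y : Fin h ⊕ Fin h → F}
    (hy : Matrix.toLin' B y = y) : y = 0 := by
  by_contra hy0
  refine hB (Matrix.exists_mulVec_eq_zero_iff.1 ⟨y, hy0, ?_⟩)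
  rw [Matrix.sub_mulVec, Matrix.one_mulVec, ← Matrix.toLin'_apply, hy, sub_self]

lemma finrank_fixed (hA1 : ∀ k, (A k - 1).det ≠ 0) : finrank F (fixedSpace (mdlMap (f := f) A)) = 2 * f := by
  have e : fixedSpace (mdlMap (f := f) A) = LinearMap.range (LinearMap.inl F (Fin f ⊕ Fin f → F) (κ → Fin h ⊕ Fin h → F)) := by
    ext w
    rw [mem_fixedSpace, mdlMap_apply, LinearMap.mem_range]
    constructor
    · intro hw
      refine ⟨w.1, Prod.ext rfl (funext fun k => ?_)⟩
      exact (fixed_block (hA1 k) (congrFun (congrArg Prod.snd hw) k)).symm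
    · rintro ⟨y, rfl⟩
      refine Prod.ext rfl (funext fun k => ?_)
      simp
  rw [e, LinearMap.finrank_range_of_inj LinearMap.inl_injective]
  simp [two_mul]

omit [Fintype κ] in
lemma moved_fst {r : ℕ} (hr : (r : F) ≠ 0) {w : Mdl F f h κ} (hw : w ∈ movedSpace (mdlMap A) r) : w.1 = 0 := by
  rw [movedSpace, LinearMap.mem_ker, LinearMap.sum_apply] at hw
  have h1 := congrArg Prod.fst hw
  simp only [mdlMap_pow, Prod.fst_sum, Finset.sum_const, Finset.card_range, Prod.fst_zero,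
    ← Nat.cast_smul_eq_nsmul F] at h1
  exact (smul_eq_zero.1 h1).resolve_left hr

/-- Elements of the symplectic group from models. -/
lemma exists_transfer {r d : ℕ} [Fact r.Prime] (hr2 : r ≠ 2) (hd : d = f + Fintype.card κ * h) (hκ : 0 < Fintype.card κ) (hh : 0 < h)
    (hA : ∀ k, A k ∈ Matrix.symplecticGroup (Fin h) F) (hAr : ∀ k, A k ^ r = 1) (hA1 : ∀ k, (A k - 1).det ≠ 0) :
    ∃ x : ↥(Matrix.symplecticGroup (Fin d) F),
      (∃ z : F, ((x ^ r : ↥(Matrix.symplecticGroup (Fin d) F)) : Matrix (Fin d ⊕ Fin d) (Fin d ⊕ Fin d) F) =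
        z • (1 : Matrix (Fin d ⊕ Fin d) (Fin d ⊕ Fin d) F)) ∧
      (∀ z : F, (x : Matrix (Fin d ⊕ Fin d) (Fin d ⊕ Fin d) F) ≠ z • (1 : Matrix (Fin d ⊕ Fin d) (Fin d ⊕ Fin d) F)) ∧
      ∃ e : Mdl F f h κ ≃ₗ[F] (Fin d ⊕ Fin d → F), (∀ u v, Cfsg.sympForm d F (e u) (e v) = mdlForm u v) ∧
        ∀ u, Matrix.toLin' (x : Matrix (Fin d ⊕ Fin d) (Fin d ⊕ Fin d) F) (e u) = e (mdlMap A u) := by
  classical
  obtain ⟨b, hb⟩ := SympSpectra.exists_std_basis (n := d) (mdlForm_isAlt (F := F) (κ := κ) (f := f) (h := h))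
    mdlForm_nondeg (by rw [finrank_mdl, hd])
  let e := b.equivFun
  obtain ⟨M, hM⟩ : ∃ M, M = LinearMap.toMatrix' (e.toLinearMap ∘ₗ mdlMap A ∘ₗ e.symm.toLinearMap) := ⟨_, rfl⟩
  have hMe : ∀ u, Matrix.toLin' M (e u) = e (mdlMap A u) := fun u => by
    rw [hM, Matrix.toLin'_toMatrix']
    simp [e]
  have hmem : M ∈ Matrix.symplecticGroup (Fin d) F := (ClassicalSp.mem_iff_preserves M).2 fun u v => by
    obtain ⟨u, rfl⟩ := e.surjective u
    obtain ⟨v, rfl⟩ := e.surjective v
    rw [← Matrix.toLin'_apply M, ← Matrix.toLin'_apply M, hMe, hMe, ← ClassicalSp.spBilin_apply,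
      ← ClassicalSp.spBilin_apply, ← hb, ← hb, mdlMap_isometry hA]
  have hpow : ∀ n u, (Matrix.toLin' M ^ n) (e u) = e ((mdlMap A ^ n) u) := fun n => by
    induction n with
    | zero => intro u; simp
    | succ n ih => intro u; rw [pow_succ', pow_succ', Module.End.mul_apply, Module.End.mul_apply, ih, hMe]
  refine ⟨⟨M, hmem⟩, ⟨1, ?_⟩, fun z hz => ?_, e,
    fun u v => by rw [← ClassicalSp.spBilin_apply, ← hb], hMe⟩
  · rw [one_smul, SubmonoidClass.coe_pow]
    refine Matrix.toLin'.injective (LinearMap.ext fun v => ?_)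
    obtain ⟨u, rfl⟩ := e.surjective v
    rw [Matrix.toLin'_pow, hpow, mdlMap_pow_eq_one hAr, Matrix.toLin'_one, Module.End.one_apply, LinearMap.id_apply]
  · obtain ⟨k⟩ := Fintype.card_pos_iff.1 hκ
    let y : Fin h ⊕ Fin h → F := Pi.single (Sum.inl ⟨0, hh⟩) 1
    have hy : y ≠ 0 := fun hc => by simpa [y] using congrFun hc (Sum.inl ⟨0, hh⟩)
    have hMz : ∀ u, mdlMap A u = z • u := fun u => e.injective (by
      rw [← hMe, show M = z • (1 : Matrix (Fin d ⊕ Fin d) (Fin d ⊕ Fin d) F) from hz, map_smul, Matrix.toLin'_one]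
      simp)
    have hky : Matrix.toLin' (A k) y = z • y := by
      have := congrFun (congrArg Prod.snd (hMz (0, Pi.single k y))) k
      simpa [mdlMap_apply] using this
    have hzp : ∀ n, (Matrix.toLin' (A k) ^ n) y = z ^ n • y := fun n => by
      induction n with
      | zero => simp
      | succ n ih => rw [pow_succ', Module.End.mul_apply, ih, map_smul, hky, smul_smul, pow_succ]
    have hd0 : 0 < d := by rw [hd]; have := Nat.mul_pos hκ hh; omega
    have hz2 : z * z = 1 := scalar_sq hd0 (y := ⟨M, hmem⟩) hz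
    have hzr : z ^ r = 1 := by
      have := hzp r
      rw [← Matrix.toLin'_pow, hAr, Matrix.toLin'_one, LinearMap.id_apply] at this
      exact smul_left_injective F hy (by simpa using this.symm)
    have hz1 : z = 1 := by
      obtain ⟨l, hl⟩ := (Fact.out : r.Prime).odd_of_ne_two hr2
      rw [hl, pow_succ, pow_mul, pow_two, hz2, one_pow, one_mul] at hzr
      exact hzr
    exact hy (fixed_block (hA1 k) (by rw [hky, hz1, one_smul]))

variable [Fintype F] {r : ℕ} [Fact r.Prime]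

/-- Counterexamples from models. -/
lemma not_fixed_of_model {d m : ℕ} (hr2 : r ≠ 2) (hr : (r : F) ≠ 0) (hd : d = f + Fintype.card κ * h)
    (hκ : 0 < Fintype.card κ) (hh : 0 < h)
    (hA : ∀ k, A k ∈ Matrix.symplecticGroup (Fin h) F) (hAr : ∀ k, A k ^ r = 1) (hA1 : ∀ k, (A k - 1).det ≠ 0)
    (hno : ∀ W : Submodule F (Mdl F f h κ), Inv (mdlMap A) W → (∀ u ∈ W, ∀ v ∈ W, mdlForm u v = 0) →
      finrank F W = m → ∀ c j : ℕ, finrank F W = c + j → c ≤ f →
        finrank F (W ⊓ movedSpace (mdlMap A) r : Submodule F (Mdl F f h κ)) = j → False) :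
    ¬ ∀ x : ↥(Matrix.symplecticGroup (Fin d) F),
      (∃ z : F, ((x ^ r : ↥(Matrix.symplecticGroup (Fin d) F)) : Matrix (Fin d ⊕ Fin d) (Fin d ⊕ Fin d) F) = z • (1 : Matrix (Fin d ⊕ Fin d) (Fin d ⊕ Fin d) F)) →
      (∀ z : F, (x : Matrix (Fin d ⊕ Fin d) (Fin d ⊕ Fin d) F) ≠ z • (1 : Matrix (Fin d ⊕ Fin d) (Fin d ⊕ Fin d) F)) →
      ∃ W : Submodule F (Fin d ⊕ Fin d → F), Module.finrank F ↥W = m ∧ (∀ u ∈ W, ∀ v ∈ W, Cfsg.sympForm d F u v = 0) ∧
        W.map (Matrix.toLin' (x : Matrix (Fin d ⊕ Fin d) (Fin d ⊕ Fin d) F)) ≤ W := by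
  intro hall
  obtain ⟨x, hx1, hx2, e, heB, heT⟩ := exists_transfer hr2 hd hκ hh hA hAr hA1
  obtain ⟨W, hWd, hWiso, hWi⟩ := hall x hx1 hx2
  have hWi' := inv_map_iff.1 hWi
  let W' : Submodule F (Mdl F f h κ) := W.comap e.toLinearMap
  have hW'i : Inv (mdlMap A) W' := fun u hu => by
    show e (mdlMap A u) ∈ W
    rw [← heT]
    exact hWi' _ hu
  have hW'iso : ∀ u ∈ W', ∀ v ∈ W', mdlForm u v = 0 := fun u hu v hv => by
    rw [← heB]; exact hWiso _ hu _ hv
  have hW'd : finrank F W' = m := by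
    rw [← hWd]
    exact LinearEquiv.finrank_eq (LinearEquiv.ofSubmodule' e W)
  obtain ⟨h1, h2, -⟩ := SForm.iso_parts (Φ := altForm mdlForm_isAlt mdlForm_nondeg) (mdlMap_pow_eq_one hAr) hr
    (altForm_isom (mdlMap_isometry hA)) hW'i (altForm_iso hW'iso)
  rw [finrank_fixed hA1] at h2
  exact hno W' hW'i hW'iso hW'd _ _ h1 (by omega) rfl

end model

end Cfsg.Agent.Elusive
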