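import Cfsg.Agent.Lib.Elusive.SympIso

/-!
Elements of prime order of symplectic groups fixing totally isotropic subspaces.
-/

set_option autoImplicit false
set_option linter.all false
set_option maxHeartbeats 1600000

namespace Cfsg.Agent.Elusive

open Module Polynomial
open LinearMap (BilinForm)

variable {F : Type*} [Field F] {d m : ℕ}

local notation "VV" => Fin d ⊕ Fin d → F
local notation "MM" => Matrix (Fin d ⊕ Fin d) (Fin d ⊕ Fin d) F

/-- Every element of order `r` of the projective symplectic group fixes a totally isotropic `m`-space. -/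
def SpTIFix (F : Type*) [Field F] (d m r : ℕ) : Prop :=
  ∀ x : ↥(Matrix.symplecticGroup (Fin d) F),
    (∃ z : F, ((x ^ r : ↥(Matrix.symplecticGroup (Fin d) F)) : Matrix (Fin d ⊕ Fin d) (Fin d ⊕ Fin d) F) = z • (1 : Matrix (Fin d ⊕ Fin d) (Fin d ⊕ Fin d) F)) →
    (∀ z : F, (x : Matrix (Fin d ⊕ Fin d) (Fin d ⊕ Fin d) F) ≠ z • (1 : Matrix (Fin d ⊕ Fin d) (Fin d ⊕ Fin d) F)) →
    ∃ W : Submodule F (Fin d ⊕ Fin d → F), Module.finrank F ↥W = m ∧ (∀ u ∈ W, ∀ v ∈ W, Cfsg.sympForm d F u v = 0) ∧
      W.map (Matrix.toLin' (x : Matrix (Fin d ⊕ Fin d) (Fin d ⊕ Fin d) F)) ≤ W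

lemma exists_le_of_finrank {W : Submodule F VV} (h : m ≤ finrank F W) :
    ∃ W' ≤ W, finrank F W' = m := by
  obtain ⟨C, -, hC, hd⟩ := exists_between (bot_le (a := W)) m (by rw [finrank_bot]; omega)
  exact ⟨C, hC, by rw [hd, finrank_bot, Nat.zero_add]⟩

/-- Involutions: the cases with a fixed subspace. -/
lemma tiFix_two [Fintype F] (h2 : (2 : F) ≠ 0) (hd : 0 < d) (hm : m ≤ d)
    (h : Even m ∨ Fintype.card F % 4 = 1) : SpTIFix F d m 2 := by
  intro x hx1 hx2
  obtain ⟨z, hz⟩ := hx1
  have hiso : ∀ {W : Submodule F VV}, (∀ u ∈ W, ∀ v ∈ W, ClassicalSp.spBilin d F u v = 0) →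
      ∀ u ∈ W, ∀ v ∈ W, Cfsg.sympForm d F u v = 0 := fun h u hu v hv => by
    rw [← ClassicalSp.spBilin_apply]; exact h u hu v hv
  rcases sq_scalar hd x hz with ⟨-, hsq⟩ | ⟨-, hsq⟩
  · obtain ⟨ι, _, e, f, π, hfam, hspan, hπ, hR⟩ := frame_eigen ClassicalSp.spBilin_isAlt
      (toLin_isometry x) hsq h2 (X := ⊤) (fun _ _ => trivial) ndSub_top
    have hcard := card_frame hfam hspan
    let E : Submodule F VV := Submodule.span F (Set.range fun k : Fin m =>
      e ((Fintype.equivFin ι).symm (Fin.castLE (by omega) k)))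
    refine ⟨E, ?_, hiso ?_, inv_map_iff.2 fun w hw => ?_⟩
    · have hli := ((hypFam_indep ClassicalSp.spBilin_isAlt hfam).comp
        (fun k : Fin m => Sum.inl ((Fintype.equivFin ι).symm (Fin.castLE (by omega) k)))
        (fun a b hab => by simpa using hab))
      exact (finrank_span_eq_card hli).trans (Fintype.card_fin m)
    · intro u hu v hv
      obtain ⟨a, rfl⟩ := (Submodule.mem_span_range_iff_exists_fun F).1 hu
      obtain ⟨b, rfl⟩ := (Submodule.mem_span_range_iff_exists_fun F).1 hv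
      simp [hfam.ee]
    · refine (Submodule.span_le.2 ?_ : E ≤ E.comap (Matrix.toLin' x.1)) hw
      rintro _ ⟨k, rfl⟩
      obtain ⟨c, hc⟩ := Submodule.mem_span_singleton.1 (hR ((Fintype.equivFin ι).symm (Fin.castLE (by omega) k))).1
      rw [SetLike.mem_coe, Submodule.mem_comap, ← hc]
      exact E.smul_mem _ (Submodule.subset_span ⟨k, rfl⟩)
  · set T := Matrix.toLin' x.1 with hT
    have hTT : ∀ v, T (T v) = -v := fun v => by
      rw [← Module.End.mul_apply, hsq, LinearMap.neg_apply, Module.End.one_apply]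
    by_cases hq : Fintype.card F % 4 = 1
    · obtain ⟨s, hs⟩ := (FiniteField.isSquare_neg_one_iff (F := F)).2 (by omega)
      have hs0 : s ≠ 0 := fun h => by rw [h, mul_zero, neg_eq_zero] at hs; exact one_ne_zero hs
      have hsing : ∀ ε : F, ε * ε = -1 → ∀ u ∈ LinearMap.ker (T - ε • 1), ∀ v ∈ LinearMap.ker (T - ε • 1),
          ClassicalSp.spBilin d F u v = 0 := by
        intro ε hε u hu v hv
        have hu' : T u = ε • u := sub_eq_zero.1 hu
        have hv' : T v = ε • v := sub_eq_zero.1 hv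
        have h1 := toLin_isometry x u v
        rw [← hT, hu', hv', map_smul, map_smul, LinearMap.smul_apply, smul_eq_mul, smul_eq_mul, ← mul_assoc, hε] at h1
        have h3 : (2 : F) * ClassicalSp.spBilin d F u v = 0 := by linear_combination -h1
        exact (mul_eq_zero.1 h3).resolve_left h2
      have hle : ∀ ε : F, ε * ε = -1 → finrank F (LinearMap.ker (T - ε • 1)) ≤ d := fun ε hε => by
        have h1 := (stdForm d F).two_finrank_le (SForm.nd_top _) (le_top : LinearMap.ker (T - ε • 1) ≤ ⊤)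
          (hsing ε hε)
        rw [finrank_top, ClassicalSp.finrank_space] at h1
        omega
      have hsum : LinearMap.ker (T - s • 1) ⊔ LinearMap.ker (T - (-s) • 1) = ⊤ := by
        refine eq_top_iff.2 fun v _ => ?_
        have e : v = (2⁻¹ : F) • (v - s • T v) + (2⁻¹ : F) • (v + s • T v) := by
          rw [← smul_add, show v - s • T v + (v + s • T v) = (2 : F) • v by rw [two_smul]; abel,
            inv_smul_smul₀ h2]
        have hsT : ∀ ε : F, ε * ε = -1 → v - ε • T v ∈ LinearMap.ker (T - ε • 1) := fun ε hε => by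
          rw [LinearMap.mem_ker, LinearMap.sub_apply, LinearMap.smul_apply, Module.End.one_apply, map_sub, map_smul,
            hTT, smul_sub, smul_smul, hε, neg_one_smul, smul_neg]
          abel
        rw [e]
        refine Submodule.add_mem_sup (Submodule.smul_mem _ _ (hsT s hs.symm)) (Submodule.smul_mem _ _ ?_)
        have := hsT (-s) (by rw [neg_mul_neg]; exact hs.symm)
        rwa [neg_smul, sub_neg_eq_add] at this
      have htot := Submodule.finrank_add_le_finrank_add_finrank (LinearMap.ker (T - s • 1)) (LinearMap.ker (T - (-s) • 1))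
      rw [hsum, finrank_top, ClassicalSp.finrank_space] at htot
      have h' := hle (-s) (by rw [neg_mul_neg]; exact hs.symm)
      obtain ⟨W, hW, hWd⟩ := exists_le_of_finrank (m := m) (W := LinearMap.ker (T - s • 1)) (by omega)
      refine ⟨W, hWd, hiso fun u hu v hv => hsing s hs.symm u (hW hu) v (hW hv), inv_map_iff.2 fun w hw => ?_⟩
      have hw' : T w = s • w := sub_eq_zero.1 (hW hw)
      rw [hw']
      exact W.smul_mem _ hw
    · obtain ⟨j, hj⟩ := h.resolve_right hq
      have hns : ¬ IsSquare (-1 : F) := fun hsq' => by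
        have h1 := (FiniteField.isSquare_neg_one_iff (F := F)).1 hsq'
        have h3 : Fintype.card F % 2 = 1 := by
          refine FiniteField.odd_card_of_char_ne_two fun hc => h2 ?_
          haveI := ringChar.of_eq hc
          exact CharP.cast_eq_zero F 2
        omega
      have hT4 : T ^ 4 = 1 := LinearMap.ext fun v => by
        simp only [pow_succ, pow_zero, one_mul, Module.End.mul_apply, hTT, map_neg, neg_neg, Module.End.one_apply]
      have h4 : ((4 : ℕ) : F) ≠ 0 := by
        rw [show ((4 : ℕ) : F) = 2 * 2 by norm_num]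
        exact mul_ne_zero h2 h2
      have hI := altForm_isom (hA := ClassicalSp.spBilin_isAlt) (hB := ClassicalSp.spBilin_nondeg) (toLin_isometry x)
      have hstep : SForm.Step (stdForm d F) T ⊤ 2 2 := by
        intro U hUi _ hU hD
        obtain ⟨v, hvU, hv0, hv⟩ := exists_common_zero (F := F) (κ := Unit)
          (fun _ => (ClassicalSp.spBilin d F).comp T LinearMap.id) U (by simpa using hD)
        have hv' : ClassicalSp.spBilin d F (T v) v = 0 := by simpa using hv ()
        have hv'' : ClassicalSp.spBilin d F v (T v) = 0 := (stdForm d F).refl _ _ hv'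
        refine ⟨Submodule.span F {v, T v}, fun w hw => ?_, Submodule.span_le.2
          (Set.insert_subset hvU (Set.singleton_subset_iff.2 (hUi v hvU))), altForm_iso fun a ha b hb => ?_, ?_⟩
        · obtain ⟨a, b, rfl⟩ := Submodule.mem_span_pair.1 hw
          rw [map_add, map_smul, map_smul, hTT, smul_neg, ← neg_smul]
          exact Submodule.add_mem _ (Submodule.smul_mem _ _ (Submodule.subset_span (Or.inr rfl)))
            (Submodule.smul_mem _ _ (Submodule.subset_span (Or.inl rfl)))
        · obtain ⟨a1, a2, rfl⟩ := Submodule.mem_span_pair.1 ha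
          obtain ⟨b1, b2, rfl⟩ := Submodule.mem_span_pair.1 hb
          simp [hv', hv'', LinearMap.BilinForm.IsAlt.self_eq_zero ClassicalSp.spBilin_isAlt]
        · have hli : LinearIndependent F ![v, T v] := by
            refine LinearIndependent.pair_iff.2 fun a b hab => ?_
            by_cases hb : b = 0
            · subst hb
              rw [zero_smul, add_zero] at hab
              exact ⟨(smul_eq_zero.1 hab).resolve_right hv0, rfl⟩
            · exfalso
              have hTv : T v = (-a / b) • v := by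
                have e : b • T v = -(a • v) := eq_neg_of_add_eq_zero_right hab
                calc T v = b⁻¹ • (b • T v) := by rw [inv_smul_smul₀ hb]
                  _ = _ := by rw [e, ← neg_smul, smul_smul, inv_mul_eq_div]
              refine hns ⟨-a / b, ?_⟩
              have h5 := hTT v
              rw [hTv, map_smul, hTv, smul_smul, ← neg_one_smul F v] at h5
              exact (smul_left_injective F hv0 h5).symm
          have h6 := finrank_span_eq_card hli
          rw [Matrix.range_cons, Matrix.range_cons, Matrix.range_empty, Set.union_empty, Set.singleton_union,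
            Fintype.card_fin] at h6
          exact h6
      obtain ⟨W, hWi, -, hWiso, hWd⟩ := SForm.exists_iso_climb hT4 h4 hI j ⊤ (SForm.nd_top _)
        (fun _ _ => trivial) hstep (by
          rcases Nat.eq_zero_or_pos j with rfl | hj0
          · exact Or.inl rfl
          · refine Or.inr ?_
            rw [finrank_top, ClassicalSp.finrank_space]
            omega)
      exact ⟨W, by omega, hiso hWiso.1, inv_map_iff.2 hWi⟩

/-- Involutions: the derangement. -/
lemma not_tiFix_two [Fintype F] (h2 : (2 : F) ≠ 0) (hd : 0 < d) (hm : ¬ Even m) (hq : Fintype.card F % 4 ≠ 1) :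
    ¬ SpTIFix F d m 2 := by
  intro hall
  have hns : ¬ IsSquare (-1 : F) := fun hsq' => by
    have h1 := (FiniteField.isSquare_neg_one_iff (F := F)).1 hsq'
    have h3 : Fintype.card F % 2 = 1 := by
      refine FiniteField.odd_card_of_char_ne_two fun hc => h2 ?_
      haveI := ringChar.of_eq hc
      exact CharP.cast_eq_zero F 2
    omega
  obtain ⟨W, hWd, -, hW⟩ := hall ⟨Matrix.J (Fin d) F, SymplecticGroup.J_mem (Fin d) F⟩ ⟨-1, by
    rw [SubmonoidClass.coe_pow, pow_two, Matrix.J_squared, neg_smul, one_smul]⟩ (fun z hz => by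
    have h1 := congrFun (congrFun hz (Sum.inl ⟨0, hd⟩)) (Sum.inr ⟨0, hd⟩)
    simp [Matrix.J] at h1)
  refine hm (hWd ▸ ?_)
  have hWi := inv_map_iff.1 hW
  refine LBGUSp.even_finrank_of_sq (T := (Matrix.toLin' (Matrix.J (Fin d) F)).restrict hWi) hns fun v => Subtype.ext ?_
  show Matrix.toLin' (Matrix.J (Fin d) F) (Matrix.toLin' (Matrix.J (Fin d) F) v.1) = (-1 : F) • v.1
  rw [← Module.End.mul_apply, Module.End.mul_eq_comp, ← Matrix.toLin'_mul, Matrix.J_squared, map_neg,
    Matrix.toLin'_one, LinearMap.neg_apply, LinearMap.id_apply, neg_one_smul]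

/-! ### Odd primes -/

section odd
variable [Fintype F] {r : ℕ} [Fact r.Prime]

/-- Normalising an element to have order dividing `r`. -/
lemma exists_normalised (hd : 0 < d) (hr2 : r ≠ 2) {x : ↥(Matrix.symplecticGroup (Fin d) F)}
    (hx : ∃ z : F, ((x ^ r : ↥(Matrix.symplecticGroup (Fin d) F)) : MM) = z • (1 : MM)) :
    ∃ T : Module.End F VV, T ^ r = 1 ∧
      (∀ u v, ClassicalSp.spBilin d F (T u) (T v) = ClassicalSp.spBilin d F u v) ∧
      ∀ W, Inv T W → Inv (Matrix.toLin' (x : MM)) W := by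
  obtain ⟨z, hz⟩ := hx
  have hz2 : z * z = 1 := scalar_sq hd hz
  refine ⟨z • Matrix.toLin' (x : MM), ?_, fun u v => ?_, fun W hW w hw => ?_⟩
  · rw [_root_.smul_pow, ← toLin_pow_eq, hz, map_smul, Matrix.toLin'_one, smul_smul, ← pow_succ]
    obtain ⟨l, hl⟩ := (Fact.out : r.Prime).odd_of_ne_two hr2
    rw [hl, show 2 * l + 1 + 1 = 2 * (l + 1) by ring, pow_mul, pow_two, hz2, one_pow, one_smul]
    rfl
  · simp only [LinearMap.smul_apply, map_smul, smul_eq_mul, ← mul_assoc]
    rw [toLin_isometry, hz2, one_mul]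
  · have := W.smul_mem z (hW w hw)
    rwa [LinearMap.smul_apply, smul_smul, hz2, one_smul] at this

/-- Odd primes: fixed subspaces from the arithmetic condition. -/
lemma tiFix_odd (hr : (r : F) ≠ 0) (hr2 : r ≠ 2) (hd : 0 < d) (hm : m ≤ d) {i c : ℕ}
    (hi : i = orderOf (Fintype.card F : ZMod r)) (hc : c = if Even i then i else 2 * i)
    (h1 : 2 * (m % i) ≤ (2 * d) % c) (h2 : Odd i ∨ (r - 1) / i + 2 * (m / i) ≤ (2 * d) / i) :
    SpTIFix F d m r := by
  intro x hx1 _
  obtain ⟨T, hT, hTB, hTW⟩ := exists_normalised hd hr2 hx1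
  have hI := altForm_isom (hA := ClassicalSp.spBilin_isAlt) (hB := ClassicalSp.spBilin_nondeg) hTB
  have hi0 : 0 < i := hi ▸ orderOf_card_pos hr
  obtain ⟨N, hN, hsum⟩ := exists_moved_eq hT hr
  rw [← hi] at hN hsum
  rw [ClassicalSp.finrank_space] at hsum
  set f := finrank F (fixedSpace T) with hf
  have hMev : Even (N * i) := hN ▸ even_finrank_nd (hA := ClassicalSp.spBilin_isAlt) (hB := ClassicalSp.spBilin_nondeg)
    (SForm.nd_moved hT hr hI)
  have htdvd : i ∣ r - 1 := by
    rw [hi]
    refine orderOf_dvd_of_pow_eq_one (ZMod.pow_card_sub_one_eq_one fun h0 => hr ?_)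
    rw [ZMod.natCast_eq_zero_iff] at h0
    obtain ⟨p, _⟩ := CharP.exists F
    obtain ⟨e, hp, hqe⟩ := FiniteField.card F p
    rw [hqe] at h0
    rw [(Nat.prime_dvd_prime_iff_eq Fact.out hp).1 ((Fact.out : r.Prime).dvd_of_dvd_pow h0), CharP.cast_eq_zero]
  obtain ⟨j, W, hWi, hWM, hWiso, hWd, hjm, hrest⟩ : ∃ j W, Inv T W ∧ W ≤ movedSpace T r ∧ (stdForm d F).Iso W ∧
      finrank F W = j * i ∧ j * i ≤ m ∧ 2 * (m - j * i) ≤ f := by
    by_cases hodd : Odd i
    · have hc' : c = 2 * i := by rw [hc, if_neg (Nat.not_even_iff_odd.2 hodd)]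
      have hNev : Even N := ((Nat.even_mul.1 hMev).resolve_right (Nat.not_even_iff_odd.2 hodd))
      obtain ⟨N', rfl⟩ := hNev
      have hk : (2 * d) % c = f % c := by
        rw [← hsum, hc', show (N' + N') * i = 2 * i * N' by ring, Nat.add_mul_mod_self_left]
      have hf2 : 2 * (m % i) ≤ f := h1.trans (hk ▸ Nat.mod_le _ _)
      have hstep := step_odd (hA := ClassicalSp.spBilin_isAlt) (hB := ClassicalSp.spBilin_nondeg) hT hr hTB (hi ▸ hodd)
      rw [← hi] at hstep
      have key : ∀ j, j ≤ N' → ∃ W, Inv T W ∧ W ≤ movedSpace T r ∧ (stdForm d F).Iso W ∧ finrank F W = j * i :=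
        fun j hj => SForm.exists_iso_climb hT hr hI j _ (SForm.nd_moved hT hr hI) inv_moved hstep (by
          rcases Nat.eq_zero_or_pos j with rfl | hj0
          · exact Or.inl rfl
          · refine Or.inr ?_
            rw [hN]
            have h3 : (j - 1) * i < N' * i := Nat.mul_lt_mul_of_pos_right (by omega) hi0
            linarith)
      have hdm := Nat.div_add_mod' m i
      by_cases hle : m / i ≤ N'
      · obtain ⟨W, a, b, e, g⟩ := key (m / i) hle
        exact ⟨m / i, W, a, b, e, g, by omega, by omega⟩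
      · obtain ⟨W, a, b, e, g⟩ := key N' le_rfl
        have h3 : N' * i ≤ m / i * i := Nat.mul_le_mul_right i (by omega)
        refine ⟨N', W, a, b, e, g, by omega, ?_⟩
        rw [Nat.add_mul] at hsum
        omega
    · have hev := Nat.not_odd_iff_even.1 hodd
      have hc' : c = i := by rw [hc, if_pos hev]
      have hk : (2 * d) % c = f % c := by rw [← hsum, hc', Nat.add_mul_mod_self_right]
      have hf2 : 2 * (m % i) ≤ f := h1.trans (hk ▸ Nat.mod_le _ _)
      have hstep := step_general (hA := ClassicalSp.spBilin_isAlt) (hB := ClassicalSp.spBilin_nondeg) hT hr hr2 hTB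
      rw [← hi] at hstep
      obtain ⟨t, ht⟩ : ∃ t, t = (r - 1) / i := ⟨_, rfl⟩
      have hti : t * i = r - 1 := ht ▸ Nat.div_mul_cancel htdvd
      have key : ∀ j, 2 * j ≤ N + 1 - t → ∃ W, Inv T W ∧ W ≤ movedSpace T r ∧ (stdForm d F).Iso W ∧ finrank F W = j * i :=
        fun j hj => SForm.exists_iso_climb hT hr hI j _ (SForm.nd_moved hT hr hI) inv_moved hstep (by
          rcases Nat.eq_zero_or_pos j with rfl | hj0
          · exact Or.inl rfl
          · refine Or.inr ?_
            rw [hN, ← hti]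
            have h3 : (2 * (j - 1) + t) * i < N * i := Nat.mul_lt_mul_of_pos_right (by omega) hi0
            linarith)
      have hdm := Nat.div_add_mod' m i
      have h2' := h2.resolve_left hodd
      rw [← ht] at h2'
      by_cases hle : 2 * (m / i) ≤ N + 1 - t
      · obtain ⟨W, a, b, e, g⟩ := key (m / i) hle
        exact ⟨m / i, W, a, b, e, g, by omega, by omega⟩
      · obtain ⟨W, a, b, e, g⟩ := key ((N + 1 - t) / 2) (by omega)
        have h3 : (N + 1 - t) / 2 * i ≤ m / i * i := Nat.mul_le_mul_right i (by omega)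
        refine ⟨_, W, a, b, e, g, by omega, ?_⟩
        have h4 : (N + 2 * (m / i)) * i ≤ ((2 * d) / i + 2 * ((N + 1 - t) / 2)) * i := Nat.mul_le_mul_right i (by omega)
        have h5 := Nat.div_add_mod' (2 * d) i
        rw [hc'] at h1
        simp only [Nat.add_mul, Nat.mul_assoc] at h4
        omega
  obtain ⟨A, -, hAS, hAiso, hAd⟩ := SForm.exists_iso_climb hT hr hI (i := 1) (D := 0) (m - j * i) (fixedSpace T)
    (SForm.nd_fixed hT hr hI) (inv_of_le_fixed le_rfl) (step_line _ T le_rfl) (by omega)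
  obtain ⟨hJi, hJiso, hJd⟩ := SForm.iso_join hr hI hAS hAiso hWi hWM hWiso
  exact ⟨A ⊔ W, by rw [hJd, hAd, hWd]; omega,
    fun u hu v hv => by rw [← ClassicalSp.spBilin_apply]; exact hJiso.1 u hu v hv,
    inv_map_iff.2 (hTW _ hJi)⟩

/-- Too small a remainder: a derangement. -/
lemma not_tiFix_mod (p : ℕ) [Fact p.Prime] [CharP F p] (hr : (r : F) ≠ 0) (hr2 : r ≠ 2) {i c : ℕ}
    (hi : i = orderOf (Fintype.card F : ZMod r)) (hc : c = if Even i then i else 2 * i)
    (hcd : c ≤ 2 * d) (h1 : (2 * d) % c < 2 * (m % i)) : ¬ SpTIFix F d m r := by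
  have hi0 : 0 < i := hi ▸ orderOf_card_pos hr
  have hrp : r ≠ p := fun e => hr (by rw [e, CharP.cast_eq_zero])
  obtain ⟨h, hh, hij⟩ : ∃ h, c = 2 * h ∧ ((Odd i ∧ h = i) ∨ i = 2 * h) := by
    by_cases he : Even i
    · obtain ⟨h, rfl⟩ := he
      exact ⟨h, by rw [hc, if_pos ⟨h, rfl⟩]; ring, Or.inr (by ring)⟩
    · exact ⟨i, by rw [hc, if_neg he], Or.inl ⟨Nat.not_even_iff_odd.1 he, rfl⟩⟩
  obtain ⟨A, hA, hAr, hA1⟩ := LBSpExt.exists_fpf (F := F) p hr2 hrp hi hij
  have hh0 : 0 < h := by rcases hij with ⟨-, e⟩ | e <;> omega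
  rw [hh, Nat.mul_mod_mul_left] at h1
  intro hall
  refine not_fixed_of_model (F := F) (κ := Fin (d / h)) (f := d % h) (h := h) (A := fun _ => A) (m := m) hr2 hr
    (by rw [Fintype.card_fin, Nat.mod_add_div']) (by rw [Fintype.card_fin]; exact Nat.div_pos (by omega) hh0) hh0
    (fun _ => hA) (fun _ => hAr) (fun _ => hA1) ?_ hall
  intro W hWi hWiso hWd c₀ j hcj hc₀ hj
  obtain ⟨a, ha⟩ := dvd_finrank_moved (T := mdlMap fun _ : Fin (d / h) => A) (mdlMap_pow_eq_one fun _ => hAr) hr
    (W := W ⊓ movedSpace (mdlMap fun _ : Fin (d / h) => A) r)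
    (fun v hv => ⟨hWi v hv.1, inv_moved v hv.2⟩) inf_le_right
  rw [← hi] at ha
  have hlt : c₀ < i := by
    rcases hij with ⟨-, e⟩ | e <;>
      · have := Nat.mod_lt d hh0
        omega
  have h5 : m % i = c₀ := by
    rw [← hWd, hcj, ← hj, ha, Nat.add_mul_mod_self_left, Nat.mod_eq_of_lt hlt]
  omega

end odd

end Cfsg.Agent.Elusive

namespace Cfsg.Agent.Elusive

open Module Polynomial LBRootPoly LBRootTwist LBEvenRoot

variable {F : Type*} [Field F] [Fintype F] [DecidableEq F] {d m r : ℕ} [Fact r.Prime]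

lemma coprime_factor {g g' : F[X]} (hg : g.Monic) (hgi : Irreducible g) (hg' : g'.Monic) (hgi' : Irreducible g')
    (hne : g ≠ g') : IsCoprime g g' :=
  hgi.coprime_iff_not_dvd.2 fun h => hne (eq_of_monic_of_associated hg hg' (hgi.associated_of_dvd hgi' h))

/-- The block of an irreducible factor. -/
lemma exists_block_symp (p : ℕ) [Fact p.Prime] [CharP F p] (hr2 : r ≠ 2) (hrp : r ≠ p) {h : ℕ}
    (hi : 2 * h = orderOf (Fintype.card F : ZMod r)) {g : F[X]} (hg : g ∈ factors F r) :
    ∃ A : Matrix (Fin h ⊕ Fin h) (Fin h ⊕ Fin h) F, A ∈ Matrix.symplecticGroup (Fin h) F ∧ A ^ r = 1 ∧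
      (A - 1).det ≠ 0 ∧ aeval (Matrix.toLin' A) g = 0 := by
  classical
  have hr : r.Prime := Fact.out
  obtain ⟨hg1, hgm, hgi, hgd⟩ := (mem_factors hr.ne_zero).1 hg
  have hdeg : g.natDegree = 2 * h := hi ▸ natDegree_factor hr hgm hgi hgd hg1
  have hg0 := factor_coeff_zero hr.ne_zero hgd
  have hself := (rc_self_iff' p hr hr2 hrp hg).2 (hi ▸ ⟨h, by ring⟩)
  have hsy := (rc_fix_iff _ hid hgm hg0 rfl).1 hself
  have hroot : ¬ g.IsRoot 1 := fun hh =>
    hg1 (eq_of_monic_of_associated hgm (monic_X_sub_C 1)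
      ((irreducible_X_sub_C (1 : F)).associated_of_dvd hgi (dvd_iff_isRoot.2 hh)).symm)
  have e2 := hsy 0 (Nat.zero_le _)
  rw [Nat.sub_zero, hgm.coeff_natDegree, RingHom.id_apply] at e2
  have h0 : g.coeff 0 = 1 := by
    rcases mul_self_eq_one_iff.1 e2.symm with e | e
    · exact e
    · by_cases h2 : (2 : F) = 0
      · rw [e]; linear_combination -h2
      exfalso
      refine hroot ?_
      show g.eval 1 = 0
      have hs : g.eval 1 = - g.eval 1 := by
        simp only [eval_eq_sum_range, one_pow, mul_one]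
        rw [← Finset.sum_neg_distrib]
        conv_lhs => rw [← Finset.sum_range_reflect]
        refine Finset.sum_congr rfl fun k hk => ?_
        have hk' : k ≤ g.natDegree := Nat.lt_succ_iff.1 (Finset.mem_range.1 hk)
        rw [show g.natDegree + 1 - 1 - k = g.natDegree - k by omega, hsy k hk', RingHom.id_apply, e, neg_one_mul]
      have : (2 : F) * g.eval 1 = 0 := by linear_combination hs
      exact (mul_eq_zero.1 this).resolve_left h2
  obtain ⟨A, hA⟩ := SympClasses.exists_charpoly_eq (m := h) hgm hdeg h0 (fun k hk => by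
    have := hsy k (hdeg.symm ▸ hk)
    rw [hdeg, h0, one_mul, RingHom.id_apply] at this
    exact this)
  refine ⟨A.1, A.2, ?_, ?_, ?_⟩
  · obtain ⟨u, hu⟩ := hgd
    have h1 := congrArg (aeval A.1) hu
    rw [map_mul, ← hA, Matrix.aeval_self_charpoly, zero_mul, map_sub, map_pow, aeval_X, map_one, sub_eq_zero] at h1
    exact h1
  · rw [← neg_sub, Matrix.det_neg]
    refine mul_ne_zero (pow_ne_zero _ (neg_ne_zero.2 one_ne_zero)) ?_
    have h1 : ¬ (A.1 : Matrix _ _ F).charpoly.eval 1 = 0 := hA ▸ hroot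
    rwa [Matrix.eval_charpoly, map_one] at h1
  · have h1 := Matrix.aeval_self_charpoly A.1
    rw [hA] at h1
    show aeval ((Matrix.toLinAlgEquiv' : Matrix (Fin h ⊕ Fin h) (Fin h ⊕ Fin h) F ≃ₐ[F] _).toAlgHom A.1) g = 0
    rw [Polynomial.aeval_algHom_apply, h1, map_zero]

end Cfsg.Agent.Elusive

namespace Cfsg.Agent.Elusive

open Module Polynomial LBRootPoly LBRootTwist LBEvenRoot

variable {F : Type*} [Field F] [Fintype F] {d m r : ℕ} [Fact r.Prime]

/-- Few pairs of equal factors: a derangement. -/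
lemma not_tiFix_multiplicity (p : ℕ) [Fact p.Prime] [CharP F p] (hr : (r : F) ≠ 0) (hr2 : r ≠ 2) {i : ℕ}
    (hi : i = orderOf (Fintype.card F : ZMod r)) (hev : Even i) (him : i ≤ m) (hid' : i ≤ 2 * d)
    (h2 : (2 * d) / i < (r - 1) / i + 2 * (m / i)) : ¬ SpTIFix F d m r := by
  classical
  have hr' : r.Prime := Fact.out
  have hrp : r ≠ p := fun e => hr (by rw [e, CharP.cast_eq_zero])
  have hi0 : 0 < i := hi ▸ orderOf_card_pos hr
  obtain ⟨h, rfl⟩ : ∃ h, i = 2 * h := ⟨i / 2, by obtain ⟨a, ha⟩ := hev; omega⟩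
  have hh0 : 0 < h := by omega
  have hcard : (factors F r).card * (2 * h) = r - 1 := by
    rw [hi]; exact card_factors p hr' hrp
  obtain ⟨t, ht⟩ : ∃ t, t = (r - 1) / (2 * h) := ⟨_, rfl⟩
  have htc : (factors F r).card = t := by
    rw [ht, ← hcard, Nat.mul_div_cancel _ hi0]
  obtain ⟨g₀, hg₀⟩ : (factors F r).Nonempty := by
    rw [← Finset.card_pos]
    refine Nat.pos_of_ne_zero fun e => ?_
    rw [e, zero_mul] at hcard
    have := hr'.two_le; omega
  have ht0 : 0 < t := htc ▸ Finset.card_pos.2 ⟨g₀, hg₀⟩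
  rw [← ht, Nat.mul_div_mul_left _ _ (by norm_num : 0 < 2)] at h2
  have hn0 : 0 < d / h := Nat.div_pos (by omega) hh0
  -- single factors
  obtain ⟨s, hs⟩ : ∃ s, s = min t (d / h) := ⟨_, rfl⟩
  obtain ⟨J, hJ⟩ : ∃ J, J = (d / h - s) / 2 := ⟨_, rfl⟩
  obtain ⟨S, hSsub, hScard⟩ := Finset.exists_subset_card_eq (s := (factors F r).erase g₀) (n := s - 1)
    (by rw [Finset.card_erase_of_mem hg₀, htc]; omega)
  let lab : {g // g ∈ S} ⊕ Fin (2 * J + 1) → F[X] := Sum.elim (fun g => g.1) (fun _ => g₀)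
  have hlab : ∀ k, lab k ∈ factors F r := by
    rintro (g | k)
    · exact Finset.mem_of_mem_erase (hSsub g.2)
    · exact hg₀
  choose A hA hAr hA1 hAg using fun k => exists_block_symp p hr2 hrp hi (hlab k)
  have hκ : Fintype.card ({g // g ∈ S} ⊕ Fin (2 * J + 1)) = s + 2 * J := by
    rw [Fintype.card_sum, Fintype.card_coe, hScard, Fintype.card_fin]; omega
  have hle : (s + 2 * J) * h ≤ d :=
    (Nat.mul_le_mul_right h (show s + 2 * J ≤ d / h by omega)).trans (Nat.div_mul_le_self d h)
  intro hall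
  refine not_fixed_of_model (F := F) (κ := {g // g ∈ S} ⊕ Fin (2 * J + 1)) (f := d - (s + 2 * J) * h) (h := h)
    (A := A) (m := m) hr2 hr (by rw [hκ]; omega) (by rw [hκ]; omega) hh0 hA hAr hA1 ?_ hall
  intro W hWi hWiso hWd c₀ j hcj hc₀ hj
  let T := mdlMap (f := d - (s + 2 * J) * h) A
  have hT : T ^ r = 1 := mdlMap_pow_eq_one hAr
  let W₀ := W ⊓ movedSpace T r
  have hW₀i : Inv T W₀ := fun v hv => ⟨hWi v hv.1, inv_moved v hv.2⟩
  have hsingle : ∀ w ∈ W₀, ∀ g : {g // g ∈ S}, w.2 (Sum.inl g) = 0 := by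
    intro w hw g
    obtain ⟨P, hP⟩ : ∃ P, P = ∏ u ∈ (insert g₀ S).erase g.1, u := ⟨_, rfl⟩
    have hgf : g.1 ∈ factors F r := hlab (Sum.inl g)
    obtain ⟨hg1, hgm, hgi, hgd⟩ := (mem_factors hr'.ne_zero).1 hgf
    have hkill : ∀ k, k ≠ Sum.inl g → aeval (Matrix.toLin' (A k)) P = 0 := by
      intro k hk
      have hmem : lab k ∈ (insert g₀ S).erase g.1 := by
        rcases k with g' | k
        · exact Finset.mem_erase.2 ⟨fun e => hk (congrArg Sum.inl (Subtype.ext e)), Finset.mem_insert_of_mem g'.2⟩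
        · exact Finset.mem_erase.2 ⟨(Finset.mem_erase.1 (hSsub g.2)).1.symm, Finset.mem_insert_self _ _⟩
      obtain ⟨u, hu⟩ : lab k ∣ P := hP ▸ Finset.dvd_prod_of_mem (fun u => u) hmem
      rw [hu, map_mul, hAg, zero_mul]
    have hcop : IsCoprime P g.1 := by
      rw [hP]
      refine IsCoprime.prod_left fun u hu => ?_
      obtain ⟨hne, hu'⟩ := Finset.mem_erase.1 hu
      have huf : u ∈ factors F r := by
        rcases Finset.mem_insert.1 hu' with rfl | hu'
        · exact hg₀
        · exact Finset.mem_of_mem_erase (hSsub hu')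
      obtain ⟨-, hum, hui, -⟩ := (mem_factors hr'.ne_zero).1 huf
      exact coprime_factor hum hui hgm hgi hne
    -- the subspace of the single block
    let ι₁ : (Fin h ⊕ Fin h → F) →ₗ[F] Mdl F (d - (s + 2 * J) * h) h ({g // g ∈ S} ⊕ Fin (2 * J + 1)) :=
      (LinearMap.inr F _ _).comp (LinearMap.single F (fun _ => Fin h ⊕ Fin h → F) (Sum.inl g))
    have hTι : ∀ y, T (ι₁ y) = ι₁ (Matrix.toLin' (A (Sum.inl g)) y) := fun y => by
      refine Prod.ext rfl (funext fun k => ?_)
      by_cases hk : k = Sum.inl g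
      · subst hk; simp [T, ι₁, mdlMap_apply]
      · simp [T, ι₁, mdlMap_apply, hk]
    let Z : Submodule F (Fin h ⊕ Fin h → F) := W.comap ι₁
    have hZi : Inv (Matrix.toLin' (A (Sum.inl g))) Z := fun y hy => by
      show ι₁ _ ∈ W
      rw [← hTι]; exact hWi _ hy
    have hZiso : ∀ u ∈ Z, ∀ v ∈ Z, ClassicalSp.spBilin h F u v = 0 := fun u hu v hv => by
      have h3 := hWiso _ hu _ hv
      rw [mdlForm_apply, Finset.sum_eq_single (Sum.inl g) (fun l _ hl => by simp [ι₁, hl]) (by simp)] at h3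
      simpa [ι₁] using h3
    have hmoved : movedSpace (Matrix.toLin' (A (Sum.inl g))) r = ⊤ := by
      refine eq_top_iff.2 fun v _ => ?_
      have hTr : Matrix.toLin' (A (Sum.inl g)) ^ r = 1 := by
        rw [← Matrix.toLin'_pow, hAr, Matrix.toLin'_one]; rfl
      rw [movedSpace, LinearMap.mem_ker]
      refine fixed_block (hA1 (Sum.inl g)) ?_
      have h3 := LinearMap.congr_fun (mul_geom_sum (Matrix.toLin' (A (Sum.inl g))) r) v
      rw [hTr, sub_self, LinearMap.zero_apply, Module.End.mul_apply, LinearMap.sub_apply, Module.End.one_apply,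
        sub_eq_zero] at h3
      exact h3
    have hZ0 : Z = ⊥ := by
      obtain ⟨a, ha⟩ := dvd_finrank_moved (T := Matrix.toLin' (A (Sum.inl g)))
        (by rw [← Matrix.toLin'_pow, hAr, Matrix.toLin'_one]; rfl) hr hZi (hmoved ▸ le_top)
      have h4 := (stdForm h F).two_finrank_le (SForm.nd_top _) (le_top : Z ≤ ⊤) hZiso
      rw [finrank_top, ClassicalSp.finrank_space, ha, ← hi] at h4
      refine Submodule.finrank_eq_zero.1 ?_
      rcases a with _ | a
      · simpa using ha
      · rw [Nat.mul_succ] at h4; omega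
    have hPw : aeval T P w ∈ W := Inv.aeval hWi P hw.1
    have hw1 : w.1 = 0 := moved_fst hr hw.2
    have heq : aeval T P w = ι₁ (aeval (Matrix.toLin' (A (Sum.inl g))) P (w.2 (Sum.inl g))) := by
      rw [mdlMap_aeval, hw1, smul_zero]
      refine Prod.ext rfl (funext fun k => ?_)
      by_cases hk : k = Sum.inl g
      · subst hk; simp [ι₁]
      · simp [ι₁, hk, hkill k hk]
    rw [heq] at hPw
    have hPz : aeval (Matrix.toLin' (A (Sum.inl g))) P (w.2 (Sum.inl g)) = 0 := by
      rw [← Submodule.mem_bot F, ← hZ0]; exact hPw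
    have hAgg : aeval (Matrix.toLin' (A (Sum.inl g))) g.1 = 0 := hAg (Sum.inl g)
    obtain ⟨u, v, huv⟩ := hcop
    have h5 := LinearMap.congr_fun (congrArg (aeval (Matrix.toLin' (A (Sum.inl g)))) huv) (w.2 (Sum.inl g))
    rw [map_add, map_mul, map_mul, hAgg, mul_zero, add_zero, Module.End.mul_apply, hPz, map_zero, map_one,
      Module.End.one_apply] at h5
    exact h5.symm
  let π : Mdl F (d - (s + 2 * J) * h) h ({g // g ∈ S} ⊕ Fin (2 * J + 1)) →ₗ[F] Mdl F 0 h (Fin (2 * J + 1)) :=
    LinearMap.prod 0 (LinearMap.pi fun k => (LinearMap.proj (Sum.inr k)).comp (LinearMap.snd F _ _))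
  have hπinj : finrank F (W₀.map π) = finrank F W₀ := by
    have hinj : Function.Injective (π.comp W₀.subtype) := by
      rw [← LinearMap.ker_eq_bot, LinearMap.ker_eq_bot']
      intro w hw
      refine Subtype.ext (Prod.ext (moved_fst hr w.2.2) (funext fun k => ?_))
      rcases k with g | k
      · exact hsingle w.1 w.2 g
      · exact congrFun (congrArg Prod.snd hw) k
    have h6 := LinearMap.finrank_range_of_inj hinj
    rwa [LinearMap.range_comp, Submodule.range_subtype] at h6
  have hπiso : ∀ u ∈ W₀.map π, ∀ v ∈ W₀.map π, mdlForm u v = 0 := by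
    rintro _ ⟨u, hu, rfl⟩ _ ⟨v, hv, rfl⟩
    have h3 := hWiso u hu.1 v hv.1
    rw [mdlForm_apply, moved_fst hr hu.2, Fintype.sum_sum_type,
      Finset.sum_eq_zero (s := (Finset.univ : Finset {g // g ∈ S})) (fun g _ => by rw [hsingle u hu g]; simp)] at h3
    rw [mdlForm_apply]
    simpa [π] using h3
  have h7 := (altForm (mdlForm_isAlt (F := F) (κ := Fin (2 * J + 1)) (f := 0) (h := h)) mdlForm_nondeg).two_finrank_le
    (SForm.nd_top _) (le_top : W₀.map π ≤ ⊤) hπiso
  rw [finrank_top, finrank_mdl, hπinj, Fintype.card_fin] at h7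
  obtain ⟨a, ha⟩ := dvd_finrank_moved hT hr hW₀i inf_le_right
  have hjJ : a ≤ J := by
    by_contra hgt
    have h8 : 2 * h * (J + 1) ≤ 2 * h * a := Nat.mul_le_mul_left _ (by omega)
    rw [← hi] at ha
    nlinarith [h7, ha, hh0]
  have hlt : c₀ + j < m := by
    rw [← hj, ha, ← hi]
    have h9 : 2 * h * a ≤ 2 * h * J := Nat.mul_le_mul_left _ hjJ
    have h10 := Nat.div_add_mod' d h
    have h11 := Nat.mod_lt d hh0
    have h12 := Nat.div_add_mod' m (2 * h)
    have hc₀' : c₀ + (s + 2 * J) * h ≤ d := by omega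
    rcases Nat.lt_or_ge t (d / h) with hlt | hge
    · have hst : s = t := by omega
      have h13 : (d / h + 1) * h ≤ (t + 2 * (m / (2 * h))) * h := Nat.mul_le_mul_right h (by omega)
      simp only [Nat.add_mul, Nat.one_mul, hst] at h13 hc₀'
      have e1 : 2 * J * h = 2 * h * J := by ring
      have e2 : 2 * (m / (2 * h)) * h = m / (2 * h) * (2 * h) := by ring
      omega
    · have hst : s = d / h := by omega
      have hJ0 : J = 0 := by omega
      rw [hst, hJ0] at hc₀'
      rw [hJ0] at h9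
      simp only [Nat.add_mul, Nat.mul_zero, Nat.zero_mul, Nat.add_zero] at hc₀' h9
      omega
  omega

end Cfsg.Agent.Elusive
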