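import Cfsg.Agent.Lib.Elusive.FormNd
import Cfsg.Agent.Lib.Elusive.SympTI
import Cfsg.Agent.Lib.Elusive.OrthKer

/-!
Elements of odd prime order prime to the characteristic and non-degenerate subspaces of symplectic spaces.
-/

set_option autoImplicit false
set_option linter.all false
set_option maxHeartbeats 1600000

namespace Cfsg.Agent.Elusive

open Module Polynomial
open LinearMap (BilinForm)

/-- Every element of order `r` of the projective symplectic group fixes a non-degenerate `m`-space. -/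
def SpNdFix (F : Type*) [Field F] (d m r : ℕ) : Prop :=
  ∀ x : ↥(Matrix.symplecticGroup (Fin d) F),
    (∃ z : F, ((x ^ r : ↥(Matrix.symplecticGroup (Fin d) F)) : Matrix (Fin d ⊕ Fin d) (Fin d ⊕ Fin d) F) = z • (1 : Matrix (Fin d ⊕ Fin d) (Fin d ⊕ Fin d) F)) →
    (∀ z : F, (x : Matrix (Fin d ⊕ Fin d) (Fin d ⊕ Fin d) F) ≠ z • (1 : Matrix (Fin d ⊕ Fin d) (Fin d ⊕ Fin d) F)) →
    ∃ W : Submodule F (Fin d ⊕ Fin d → F), Module.finrank F ↥W = m ∧ (∀ u ∈ W, u ≠ 0 → ∃ v ∈ W, Cfsg.sympForm d F u v ≠ 0) ∧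
      W.map (Matrix.toLin' (x : Matrix (Fin d ⊕ Fin d) (Fin d ⊕ Fin d) F)) ≤ W

/-- The dimension of a block. -/
def spBlk (i : ℕ) : ℕ := if Even i then i else 2 * i

section gen

variable {F : Type*} [Field F] {V : Type*} [AddCommGroup V] [Module F V] [FiniteDimensional F V]
  {B : BilinForm F V} {hA : B.IsAlt} {hB : B.Nondegenerate}

omit [FiniteDimensional F V] in
lemma nd_iff_exists [FiniteDimensional F V] {W : Submodule F V} :
    (∀ u ∈ W, u ≠ 0 → ∃ v ∈ W, B u v ≠ 0) ↔ (altForm hA hB).ND W := by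
  constructor
  · intro h u hu hz
    by_contra h0
    obtain ⟨v, hv, hv0⟩ := h u hu h0
    exact hv0 (hz v hv)
  · intro h u hu h0
    by_contra hc
    push Not at hc
    exact h0 (h u hu hc)

/-- Non-degenerate subspaces of every even dimension. -/
lemma exists_nd_even {U : Submodule F V} (hU : (altForm hA hB).ND U) {e : ℕ} (he : 2 * e ≤ finrank F U) :
    ∃ W ≤ U, (altForm hA hB).ND W ∧ finrank F W = 2 * e := by
  have hI : (altForm hA hB).Isom (1 : Module.End F V) := altForm_isom fun u v => rfl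
  obtain ⟨W, -, hW, hWnd, hWd⟩ := SForm.exists_nd_climb hI (c := 2) U (fun S hSi hSU hS hSd => by
    obtain ⟨u, hu, hu0⟩ := Submodule.exists_mem_ne_zero_of_ne_bot (p := S) (fun h => by
      rw [h, finrank_bot] at hSd; omega)
    obtain ⟨Y, hYi, hYS, hY, hYd⟩ := SForm.exists_pair (r := 1) (c := 1) (by rw [pow_one, one_smul]) one_ne_zero
      (by rw [Nat.cast_one]; exact one_ne_zero) hI hS hSi (X := Submodule.span F {u}) (fun w hw => hw)
      ((Submodule.span_singleton_le_iff_mem _ _).2 hu) (fun a ha b hb => by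
        obtain ⟨x, rfl⟩ := Submodule.mem_span_singleton.1 ha
        obtain ⟨y, rfl⟩ := Submodule.mem_span_singleton.1 hb
        show B (x • u) (y • u) = 0
        simp [show B u u = 0 from hA u])
    exact ⟨Y, hYi, hYS, hY, by rw [hYd, finrank_span_singleton hu0]⟩) e U (fun w hw => hw) le_rfl hU he
  exact ⟨W, hW, hWnd, hWd⟩

variable [Fintype F] {r : ℕ} [Fact r.Prime] {T : Module.End F V}

local notation "ord" => orderOf (Fintype.card F : ZMod r)
local notation "blk" => spBlk (orderOf (Fintype.card F : ZMod r))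

/-- Dimensions of moved non-degenerate invariant subspaces. -/
lemma dvd_moved_alt (hT : T ^ r = 1) (hr : (r : F) ≠ 0) {X : Submodule F V} (hXi : Inv T X)
    (hXM : X ≤ movedSpace T r) (hX : (altForm hA hB).ND X) : ∃ j, finrank F X = blk * j := by
  obtain ⟨a, ha⟩ := dvd_finrank_moved hT hr hXi hXM
  obtain ⟨b, hb⟩ := even_finrank_nd hX
  unfold spBlk
  split_ifs with h
  · exact ⟨a, ha⟩
  · rw [ha, ← two_mul] at hb
    obtain ⟨j, rfl⟩ : 2 ∣ a := (Nat.coprime_two_left.2 (Nat.not_even_iff_odd.1 h)).dvd_of_dvd_mul_left ⟨b, hb⟩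
    exact ⟨j, by rw [ha]; ring⟩

/-- A block. -/
lemma exists_block_alt (p : ℕ) [Fact p.Prime] [CharP F p] (hT : T ^ r = 1) (hr : (r : F) ≠ 0) (hr2 : r ≠ 2)
    (hI : (altForm hA hB).Isom T) {U : Submodule F V} (hUi : Inv T U) (hUM : U ≤ movedSpace T r)
    (hU : (altForm hA hB).ND U) (hne : U ≠ ⊥) :
    ∃ X, Inv T X ∧ X ≤ U ∧ (altForm hA hB).ND X ∧ finrank F X = blk := by
  have hi0 := orderOf_card_pos (F := F) (r := r) hr
  rcases Nat.even_or_odd ord with hev | hodd
  · rw [spBlk, if_pos hev]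
    by_contra hno
    have hmin : ∀ X, Inv T X → X ≤ U → finrank F X = ord → ∀ u ∈ X, ∀ v ∈ X, B u v = 0 := fun X hXi hXU hXd =>
      (SForm.minimal_dichotomy hT hr hI hXi (hXU.trans hUM) hXd).resolve_left fun h => hno ⟨X, hXi, hXU, h, hXd⟩
    obtain ⟨u, hu, hu0⟩ := Submodule.exists_mem_ne_zero_of_ne_bot hne
    have hne' : (Polynomial.X ^ r - 1 : Polynomial F) ≠ 0 :=
      (Polynomial.monic_X_pow_sub_C (1 : F) (Fact.out : r.Prime).ne_zero).ne_zero
    obtain ⟨g, hgm, hgi, hgd, v₀, hv₀U, hv₀, hgv₀⟩ := exists_irreducible_vec (W := ⊥) hUi _ hne' u hu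
      (by rwa [Submodule.mem_bot]) (by simp [hT])
    have hdvd : r ∣ Fintype.card F ^ ord - 1 := by
      rw [← ZMod.natCast_eq_zero_iff, Nat.cast_sub (Nat.one_le_pow _ _ Fintype.card_pos), Nat.cast_pow,
        pow_orderOf_eq_one, Nat.cast_one, sub_self]
    obtain ⟨K, hK⟩ : ∃ K, K = LinearMap.ker (aeval T g) ⊓ U := ⟨_, rfl⟩
    have hcomm : ∀ (P : F[X]) w, aeval T P (T w) = T (aeval T P w) := fun P w => by
      rw [← Module.End.mul_apply, ← Module.End.mul_apply]
      exact LinearMap.congr_fun (by simpa only [map_mul, aeval_X] using congrArg (aeval T) (mul_comm P (X : F[X]))) w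
    have hKi : Inv T K := fun w hw => by
      rw [hK] at hw ⊢
      exact ⟨LinearMap.mem_ker.2 (by rw [hcomm, LinearMap.mem_ker.1 hw.1, map_zero]), hUi w hw.2⟩
    have hKnd : (altForm hA hB).ND K := fun w hw hz => by
      rw [hK] at hw
      refine nd_ker (Φ := altForm hA hB) p hT hr hr2 hI hev hgd w hw.1 fun x hx => ?_
      obtain ⟨a, ha, b, hb, rfl⟩ := Submodule.mem_sup.1
        (((altForm hA hB).isCompl_perp hU).sup_eq_top ▸ Submodule.mem_top (x := x))
      have h0 : aeval T g a + aeval T g b = 0 := by rw [← map_add]; exact hx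
      have hA' : aeval T g a = 0 := (Submodule.mem_bot F).1 (((altForm hA hB).isCompl_perp hU).disjoint.le_bot
        ⟨hUi.aeval g ha, by rw [eq_neg_of_add_eq_zero_left h0]; exact neg_mem ((hI.inv_perp hUi).aeval g hb)⟩)
      rw [(altForm hA hB).add_right, hz a (hK ▸ ⟨hA', ha⟩), zero_add]
      exact hb w hw.2
    have hiso : ∀ v ∈ K, B (T v) v = 0 := by
      intro v hv
      by_cases hv0 : v = 0
      · simp [hv0]
      rw [hK] at hv
      have hinv : Inv T (⊥ ⊔ cyc T v g.natDegree) :=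
        inv_sup_cyc (fun w hw => by simp_all) hgm (by rw [Submodule.mem_bot]; exact hv.1)
      rw [bot_sup_eq] at hinv
      obtain ⟨Z, hZ⟩ : ∃ Z, Z = cyc T v g.natDegree := ⟨_, rfl⟩
      rw [← hZ] at hinv
      have hvZ : v ∈ Z := hZ ▸ mem_cyc T v hgi.natDegree_pos
      have hZU : Z ≤ U := hZ ▸ cyc_le hUi hv.2 _
      have hZd : finrank F Z ≤ ord :=
        hZ ▸ (finrank_cyc_le T v g.natDegree).trans (natDegree_le_of_dvd_pow_sub_one hi0 hdvd hgi hgd)
      obtain ⟨Y, hYi, hYZ, hYd⟩ := SForm.exists_minimal hT hr hinv (hZU.trans hUM) fun h => hv0 (by simpa [h] using hvZ)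
      have hYZ' : Y = Z := Submodule.eq_of_le_of_finrank_le hYZ (by omega)
      exact hmin Z hinv hZU (hYZ' ▸ hYd) _ (hinv v hvZ) v hvZ
    have hTr : ∀ v, T ((T ^ (r - 1)) v) = v := fun v => by
      rw [← Module.End.mul_apply, ← pow_succ', Nat.sub_add_cancel (Fact.out : r.Prime).one_lt.le, hT, Module.End.one_apply]
    have hsq : ∀ v ∈ K, T (T v) = v := fun v hv => by
      have hm := hKi.pow (r - 1) v hv
      have h0 : T v - (T ^ (r - 1)) v = 0 := by
        refine hKnd _ (K.sub_mem (hKi v hv) hm) fun w hw => ?_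
        have h1 := hiso _ (K.add_mem hv hw)
        simp only [map_add, LinearMap.add_apply, hiso v hv, hiso w hw, zero_add, add_zero] at h1
        have h2 : B (T w) v = B w ((T ^ (r - 1)) v) := by
          conv_lhs => rw [← hTr v]
          exact hI.pres _ _
        show B (T v - (T ^ (r - 1)) v) w = 0
        rw [map_sub, LinearMap.sub_apply]
        linear_combination h1 + LinearMap.BilinForm.IsAlt.neg_eq hA w ((T ^ (r - 1)) v) - h2
      conv_lhs => rw [sub_eq_zero.1 h0]
      exact hTr v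
    have hfix : T v₀ = v₀ := by
      have hv : v₀ ∈ K := by
        rw [Submodule.mem_bot] at hgv₀
        exact hK ▸ ⟨hgv₀, hv₀U⟩
      have h2k : ∀ k, (T ^ (2 * k)) v₀ = v₀ := fun k => by
        induction k with
        | zero => simp
        | succ k ih =>
          rw [Nat.mul_succ, pow_add, Module.End.mul_apply, pow_two, Module.End.mul_apply, hsq _ hv, ih]
      obtain ⟨l, hl⟩ := (Fact.out : r.Prime).odd_of_ne_two hr2
      have := h2k (l + 1)
      rwa [show 2 * (l + 1) = r + 1 by omega, pow_succ, hT, one_mul] at this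
    rw [Submodule.mem_bot] at hv₀
    exact hv₀ (eq_zero_of_fixed_moved hr (mem_fixedSpace.2 hfix) (hUM hv₀U))
  · rw [spBlk, if_neg (Nat.not_even_iff_odd.2 hodd)]
    obtain ⟨X, hXi, hXU, hXd⟩ := SForm.exists_minimal hT hr hUi hUM hne
    rcases SForm.minimal_dichotomy hT hr hI hXi (hXU.trans hUM) hXd with h | h
    · exact absurd (hXd ▸ even_finrank_nd h) (Nat.not_even_iff_odd.2 hodd)
    · obtain ⟨Y, hYi, hYU, hY, hYd⟩ := SForm.exists_pair (c := 1) (by rw [hT, one_smul]) one_ne_zero hr hI hU hUi hXi hXU h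
      exact ⟨Y, hYi, hYU, hY, by rw [hYd, hXd]⟩

/-- The subspaces fixed by one element. -/
lemma exists_fixed_nd (p : ℕ) [Fact p.Prime] [CharP F p] (hT : T ^ r = 1) (hr : (r : F) ≠ 0) (hr2 : r ≠ 2)
    (hI : (altForm hA hB).Isom T) {c m : ℕ} (hc : c = blk) (hm : Even m) (hmn : m ≤ finrank F V)
    (h : m % c ≤ finrank F V % c) : ∃ W, Inv T W ∧ (altForm hA hB).ND W ∧ finrank F W = m := by
  have hce : Even c := by
    rw [hc, spBlk]; split_ifs with he
    · exact he
    · exact even_two_mul _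
  have hc0 : 0 < c := by
    have := orderOf_card_pos (F := F) (r := r) hr
    rw [hc, spBlk]; split_ifs <;> omega
  have hsum := SForm.finrank_fixed_add (T := T) hT hr
  obtain ⟨J, hJ⟩ := dvd_moved_alt hT hr inv_moved le_rfl (SForm.nd_moved hT hr hI)
  rw [← hc] at hJ
  obtain ⟨j, hjJ, hjm, hjf⟩ : ∃ j, j ≤ J ∧ c * j ≤ m ∧ m - c * j ≤ finrank F (fixedSpace T) := by
    have hmd := Nat.div_add_mod m c
    rcases Nat.lt_or_ge J (m / c) with hlt | hge
    · refine ⟨J, le_rfl, ?_, by omega⟩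
      have := Nat.mul_le_mul_left c hlt.le
      omega
    · refine ⟨m / c, hge, by omega, ?_⟩
      rw [← hsum, hJ, Nat.add_mul_mod_self_left] at h
      have := Nat.mod_le (finrank F (fixedSpace T)) c
      omega
  obtain ⟨W, hWi, hWM, hW, hWd⟩ := SForm.exists_nd_climb hI (movedSpace T r)
    (fun U hUi hUM hU hd => exists_block_alt p hT hr hr2 hI hUi hUM hU fun h => by
      rw [h, finrank_bot] at hd
      rw [hc] at hc0
      omega) j (movedSpace T r) inv_moved le_rfl (SForm.nd_moved hT hr hI)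
    (by rw [← hc, hJ]; exact Nat.mul_le_mul_left c hjJ)
  rw [← hc] at hWd
  obtain ⟨e, he⟩ := ((Nat.even_sub hjm).2 (iff_of_true hm (hce.mul_right j)))
  obtain ⟨A, hA', hAnd, hAd⟩ := exists_nd_even (SForm.nd_fixed hT hr hI) (e := e) (by omega)
  obtain ⟨h1, h2, h3⟩ := SForm.nd_join hr hI hA' hAnd hWi hWM hW
  exact ⟨A ⊔ W, h1, h2, by omega⟩

end gen

section odd

variable {F : Type*} [Field F] [Fintype F] {d m r : ℕ} [Fact r.Prime]

/-- Odd primes different from the characteristic. -/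
theorem spNdFix_odd_iff (p : ℕ) [Fact p.Prime] [CharP F p] (hrp : r ≠ p) (hr2 : r ≠ 2) (hd : 0 < d) (hm : Even m)
    (hmn : m ≤ 2 * d) {i c : ℕ} (hi : i = orderOf (Fintype.card F : ZMod r))
    (hc : c = if Even i then i else 2 * i) (hcd : c ≤ 2 * d) :
    SpNdFix F d m r ↔ m % c ≤ (2 * d) % c := by
  have hr : (r : F) ≠ 0 := fun h => by
    rw [CharP.cast_eq_zero_iff F p] at h
    exact hrp ((Nat.prime_dvd_prime_iff_eq Fact.out Fact.out).1 h).symm
  have hi0 : 0 < i := hi ▸ orderOf_card_pos hr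
  constructor
  · intro hall
    obtain ⟨h, hh, hij⟩ : ∃ h, c = 2 * h ∧ ((Odd i ∧ h = i) ∨ i = 2 * h) := by
      by_cases he : Even i
      · obtain ⟨h, rfl⟩ := he
        exact ⟨h, by rw [hc, if_pos ⟨h, rfl⟩]; ring, Or.inr (by ring)⟩
      · exact ⟨i, by rw [hc, if_neg he], Or.inl ⟨Nat.not_even_iff_odd.1 he, rfl⟩⟩
    obtain ⟨A, hA, hAr, hA1⟩ := LBSpExt.exists_fpf (F := F) p hr2 hrp hi hij
    have hh0 : 0 < h := by rcases hij with ⟨-, e⟩ | e <;> omega
    obtain ⟨x, hx1, hx2, e, heB, heT⟩ := exists_transfer (F := F) (κ := Fin (d / h)) (f := d % h) (h := h)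
      (A := fun _ => A) hr2 (d := d) (by rw [Fintype.card_fin, Nat.mod_add_div'])
      (by rw [Fintype.card_fin]; exact Nat.div_pos (by omega) hh0) hh0 (fun _ => hA) (fun _ => hAr) (fun _ => hA1)
    obtain ⟨W, hWd, hW, hWi⟩ := hall x hx1 hx2
    have hWi' := inv_map_iff.1 hWi
    obtain ⟨W', hW'⟩ : ∃ W', W' = W.comap e.toLinearMap := ⟨_, rfl⟩
    have hW'i : Inv (mdlMap (fun _ : Fin (d / h) => A)) W' := fun u hu => by
      rw [hW'] at hu ⊢
      show e _ ∈ W
      rw [← heT]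
      exact hWi' _ hu
    have hW'nd : (altForm (mdlForm_isAlt (F := F) (κ := Fin (d / h)) (f := d % h) (h := h)) mdlForm_nondeg).ND W' := by
      refine nd_iff_exists.1 fun u hu hu0 => ?_
      rw [hW'] at hu
      obtain ⟨v, hv, hv0⟩ := hW _ hu fun h0 => hu0 (e.injective (h0.trans (map_zero e).symm))
      refine ⟨e.symm v, by rw [hW']; show e (e.symm v) ∈ W; rwa [e.apply_symm_apply], ?_⟩
      rw [← heB, e.apply_symm_apply]
      exact hv0
    have hW'd : finrank F W' = m := by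
      rw [← hWd, hW']
      exact LinearEquiv.finrank_eq (LinearEquiv.ofSubmodule' e W)
    have hT := mdlMap_pow_eq_one (f := d % h) (A := fun _ : Fin (d / h) => A) (r := r) fun _ => hAr
    obtain ⟨hP1, hP2, hP3⟩ := SForm.nd_parts hT hr (altForm_isom (mdlMap_isometry fun _ => hA)) hW'i hW'nd
    obtain ⟨j, hj⟩ := dvd_moved_alt (X := W' ⊓ movedSpace (mdlMap fun _ : Fin (d / h) => A) r) hT hr
      (fun v hv => ⟨hW'i v hv.1, inv_moved v hv.2⟩) inf_le_right hP2
    rw [spBlk, ← hi, ← hc] at hj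
    have hle := Submodule.finrank_mono (R := F) (inf_le_right : W' ⊓ fixedSpace (mdlMap (fun _ : Fin (d / h) => A)) ≤ _)
    rw [finrank_fixed fun _ => hA1] at hle
    have hlt := Nat.mod_lt d hh0
    rw [← hW'd, hP3, hj, Nat.add_mul_mod_self_left, hh, Nat.mul_mod_mul_left, Nat.mod_eq_of_lt (by omega)]
    exact hle
  · intro h x hx1 _
    obtain ⟨T, hT, hTB, hTW⟩ := exists_normalised hd hr2 hx1
    obtain ⟨W, hWi, hW, hWd⟩ := exists_fixed_nd p hT hr hr2
      (altForm_isom (hA := ClassicalSp.spBilin_isAlt) (hB := ClassicalSp.spBilin_nondeg) hTB) (c := c) (m := m)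
      (by rw [hc, hi]; rfl) hm (by rw [ClassicalSp.finrank_space]; exact hmn) (by rw [ClassicalSp.finrank_space]; exact h)
    refine ⟨W, hWd, fun u hu hu0 => ?_, inv_map_iff.2 (hTW W hWi)⟩
    obtain ⟨v, hv, hv0⟩ := nd_iff_exists.2 hW u hu hu0
    exact ⟨v, hv, by rwa [← ClassicalSp.spBilin_apply]⟩

end odd

end Cfsg.Agent.Elusive
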