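import Cfsg.Agent.Lib.Elusive.SympNd

/-!
The number of non-degenerate subspaces of a symplectic space.
-/

set_option autoImplicit false
set_option linter.all false

universe u v

namespace Cfsg.Agent.Elusive

open Module
open LinearMap (BilinForm)

variable {F : Type u} [Field F] {V : Type v} [AddCommGroup V] [Module F V] {B : BilinForm F V}

/-- Mutually orthogonal normalised hyperbolic pairs. -/
structure HPairs (B : BilinForm F V) {k : ℕ} (e f : Fin k → V) : Prop where
  ef : ∀ i, B (e i) (f i) = 1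
  ef_ne : ∀ i j, i ≠ j → B (e i) (f j) = 0
  ee : ∀ i j, B (e i) (e j) = 0
  ff : ∀ i j, B (f i) (f j) = 0

lemma HPairs.fam {B : BilinForm F V} {k : ℕ} {e f : Fin k → V} (h : HPairs B e f) : HypFam B e f :=
  ⟨h.ee, h.ff, fun i => by rw [h.ef]; exact one_ne_zero, h.ef_ne⟩

/-- Tuples of mutually orthogonal hyperbolic pairs. -/
def HTup (B : BilinForm F V) (k : ℕ) : Type v :=
  {f : Fin k → V × V // HPairs B (fun i => (f i).1) (fun i => (f i).2)}

variable [FiniteDimensional F V]

/-- Splitting off the first pair. -/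
def htupSucc (hA : B.IsAlt) (k : ℕ) :
    HTup B (k + 1) ≃ Σ p : {p : V × V // B p.1 p.2 = 1}, HTup (B.restrict (AltForm.pairPerp B p.1.1 p.1.2)) k where
  toFun f := ⟨⟨f.1 0, f.2.ef 0⟩, ⟨fun i =>
      (⟨(f.1 i.succ).1, AltForm.mem_pairPerp.2 ⟨f.2.ee _ _, by
          rw [AltForm.swap hA]
          rw [f.2.ef_ne _ _ (Fin.succ_ne_zero i), neg_zero]⟩⟩,
       ⟨(f.1 i.succ).2, AltForm.mem_pairPerp.2 ⟨f.2.ef_ne _ _ (Fin.succ_ne_zero i).symm, f.2.ff _ _⟩⟩),
    ⟨fun i => f.2.ef i.succ, fun i j h => f.2.ef_ne _ _ fun e => h (Fin.succ_injective _ e),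
      fun i j => f.2.ee _ _, fun i j => f.2.ff _ _⟩⟩⟩
  invFun q := ⟨Fin.cons q.1.1 fun i => ((q.2.1 i).1.1, (q.2.1 i).2.1), by
    have h1 : ∀ w : AltForm.pairPerp B q.1.1.1 q.1.1.2, B q.1.1.1 w = 0 ∧ B q.1.1.2 w = 0 := fun w =>
      AltForm.mem_pairPerp.1 w.2
    have h2 : ∀ w : AltForm.pairPerp B q.1.1.1 q.1.1.2, B w q.1.1.1 = 0 ∧ B w q.1.1.2 = 0 := fun w =>
      AltForm.pairPerp_left hA w
    refine ⟨fun i => ?_, fun i j h => ?_, fun i j => ?_, fun i j => ?_⟩
    · induction i using Fin.cases with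
      | zero => simpa using q.1.2
      | succ i => simpa using q.2.2.ef i
    · induction i using Fin.cases <;> induction j using Fin.cases
      · exact absurd rfl h
      · simpa using (h1 _).1
      · simpa using (h2 _).2
      · simpa using q.2.2.ef_ne _ _ fun e => h (congrArg Fin.succ e)
    · induction i using Fin.cases <;> induction j using Fin.cases
      · simp [hA.self_eq_zero]
      · simpa using (h1 _).1
      · simpa using (h2 _).1
      · simpa using q.2.2.ee _ _
    · induction i using Fin.cases <;> induction j using Fin.cases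
      · simp [hA.self_eq_zero]
      · simpa using (h1 _).2
      · simpa using (h2 _).2
      · simpa using q.2.2.ff _ _⟩
  left_inv f := Subtype.ext (Fin.cons_self_tail f.1)
  right_inv q := by rcases q with ⟨⟨p, hp⟩, ⟨g, hg⟩⟩; rfl

theorem card_htup [Finite F] : ∀ (k : ℕ) {V : Type v} [AddCommGroup V] [Module F V] [FiniteDimensional F V]
    {B : BilinForm F V}, B.IsAlt → B.Nondegenerate → ∀ {D : ℕ}, finrank F V = 2 * D → k ≤ D →
    Nat.card (HTup B k) =
      ∏ i ∈ Finset.range k, ((Nat.card F ^ (2 * (D - i)) - 1) * Nat.card F ^ (2 * (D - i) - 1)) := by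
  intro k
  induction k with
  | zero =>
    intro V _ _ _ B _ _ D _ _
    rw [Finset.range_zero, Finset.prod_empty]
    exact Nat.card_eq_one_iff_exists.2 ⟨⟨Fin.elim0, fun i => i.elim0, fun i => i.elim0, fun i => i.elim0, fun i => i.elim0⟩,
      fun _ => Subtype.ext (Subsingleton.elim _ _)⟩
  | succ k ih =>
    intro V _ _ _ B hA hB D hD hk
    classical
    haveI : Finite V := Module.finite_of_finite F
    haveI := Fintype.ofFinite {p : V × V // B p.1 p.2 = 1}
    obtain ⟨D', rfl⟩ : ∃ D', D = D' + 1 := ⟨D - 1, by omega⟩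
    haveI : ∀ p : {p : V × V // B p.1 p.2 = 1}, Finite (HTup (B.restrict (AltForm.pairPerp B p.1.1 p.1.2)) k) :=
      fun p => Subtype.finite
    rw [Nat.card_congr (htupSucc hA k), Nat.card_sigma, Finset.sum_congr rfl fun p _ =>
      ih (AltForm.restrict_isAlt hA _) (AltForm.restrict_nondeg hA hB p.2) (D := D')
        (by have := AltForm.finrank_pairPerp hA p.2; omega) (by omega),
      Finset.sum_const, smul_eq_mul, Finset.card_univ, ← Nat.card_eq_fintype_card,
      AltForm.card_pairs hB (n := 2 * D' + 1) (by omega), Finset.prod_range_succ' _ k, Nat.sub_zero,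
      mul_comm (∏ i ∈ Finset.range k, _)]
    refine congrArg₂ (· * ·) (by congr 3) (Finset.prod_congr rfl fun i _ => ?_)
    rw [show D' + 1 - (i + 1) = D' - i by omega]

/-- The number of subspaces divides the number of tuples. -/
theorem card_ndSub_dvd [Finite F] (hA : B.IsAlt) (hB : B.Nondegenerate) {D e : ℕ} (hD : finrank F V = 2 * D) (he : e ≤ D) :
    Nat.card {W : Submodule F V // finrank F W = 2 * e ∧ (altForm hA hB).ND W} ∣
      ∏ i ∈ Finset.range e, ((Nat.card F ^ (2 * (D - i)) - 1) * Nat.card F ^ (2 * (D - i) - 1)) := by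
  classical
  haveI : Finite V := Module.finite_of_finite F
  haveI : Finite (Submodule F V) := Finite.of_injective (SetLike.coe : Submodule F V → Set V) SetLike.coe_injective
  haveI := Fintype.ofFinite {W : Submodule F V // finrank F W = 2 * e ∧ (altForm hA hB).ND W}
  haveI : Finite (HTup B e) := Subtype.finite
  have hcoord : ∀ {f : Fin e → V × V}, HPairs B (fun i => (f i).1) (fun i => (f i).2) →
      ∀ u ∈ famSpan (F := F) (fun i => (f i).1) (fun i => (f i).2),
        (∀ v ∈ famSpan (F := F) (fun i => (f i).1) (fun i => (f i).2), B u v = 0) → u = 0 := by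
    intro f hf u hu hz
    obtain ⟨a, b, rfl⟩ := exists_mem_sum hu
    have ha : ∀ j, a j = 0 := fun j => by
      have := hz _ (mem_famSpan_right _ _ j)
      simp only [map_add, map_sum, LinearMap.add_apply, LinearMap.sum_apply, map_smul, LinearMap.smul_apply,
        smul_eq_mul, hf.ff, mul_zero, Finset.sum_const_zero, add_zero] at this
      rw [Finset.sum_eq_single j (fun i _ hij => by rw [hf.ef_ne i j hij, mul_zero]) (by simp), hf.ef, mul_one] at this
      exact this
    have hb : ∀ j, b j = 0 := fun j => by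
      have := hz _ (mem_famSpan_left _ _ j)
      simp only [map_add, map_sum, LinearMap.add_apply, LinearMap.sum_apply, map_smul, LinearMap.smul_apply,
        smul_eq_mul, hf.ee, mul_zero, Finset.sum_const_zero, zero_add, AltForm.swap hA (f j).1] at this
      rw [Finset.sum_eq_single j (fun i _ hij => by rw [hf.ef_ne j i (Ne.symm hij), neg_zero, mul_zero]) (by simp),
        hf.ef, mul_neg, mul_one, neg_eq_zero] at this
      exact this
    simp [ha, hb]
  let T : HTup B e → {W : Submodule F V // finrank F W = 2 * e ∧ (altForm hA hB).ND W} := fun f =>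
    ⟨famSpan (F := F) (fun i => (f.1 i).1) (fun i => (f.1 i).2),
      by rw [famSpan, finrank_span_eq_card (hypFam_indep hA f.2.fam), Fintype.card_sum, Fintype.card_fin, two_mul],
      hcoord f.2⟩
  have hfib : ∀ W : {W : Submodule F V // finrank F W = 2 * e ∧ (altForm hA hB).ND W},
      Nat.card {f // T f = W} =
        ∏ i ∈ Finset.range e, ((Nat.card F ^ (2 * (e - i)) - 1) * Nat.card F ^ (2 * (e - i) - 1)) := by
    intro W
    rw [← card_htup e (B := B.restrict W.1) (AltForm.restrict_isAlt hA W.1)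
      ⟨fun u hu => Subtype.ext (W.2.2 u.1 u.2 fun v hv => hu ⟨v, hv⟩),
        fun u hu => Subtype.ext (W.2.2 u.1 u.2 fun v hv => (altForm hA hB).refl _ _ (hu ⟨v, hv⟩))⟩ W.2.1 le_rfl]
    refine Nat.card_congr
      { toFun := fun f => ⟨fun i => (⟨(f.1.1 i).1, by
            rw [← congrArg Subtype.val f.2]; exact mem_famSpan_left _ _ i⟩, ⟨(f.1.1 i).2, by
            rw [← congrArg Subtype.val f.2]; exact mem_famSpan_right _ _ i⟩),
          ⟨fun i => f.1.2.ef i, fun i j h => f.1.2.ef_ne i j h, fun i j => f.1.2.ee i j, fun i j => f.1.2.ff i j⟩⟩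
        invFun := fun g => ⟨⟨fun i => ((g.1 i).1.1, (g.1 i).2.1),
            ⟨fun i => g.2.ef i, fun i j h => g.2.ef_ne i j h, fun i j => g.2.ee i j, fun i j => g.2.ff i j⟩⟩,
          Subtype.ext (Submodule.eq_of_le_of_finrank_eq
            (famSpan_le (fun i => (g.1 i).1.2) (fun i => (g.1 i).2.2))
            ((T ⟨fun i => ((g.1 i).1.1, (g.1 i).2.1), _⟩).2.1.trans W.2.1.symm))⟩
        left_inv := fun f => rfl
        right_inv := fun g => rfl }
  rw [← card_htup e hA hB hD he, ← Nat.card_congr (Equiv.sigmaFiberEquiv T), Nat.card_sigma,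
    Finset.sum_congr rfl fun W _ => hfib W, Finset.sum_const, Finset.card_univ, ← Nat.card_eq_fintype_card, smul_eq_mul]
  exact dvd_mul_right _ _

/-- Primes dividing the number of subspaces. -/
theorem dvd_count_nd {F : Type u} [Field F] [Fintype F] {d m r : ℕ} [Fact r.Prime] (hm : Even m) (hmd : m ≤ 2 * d)
    (hrq : ¬ r ∣ Fintype.card F)
    (h : r ∣ Nat.card {W : Submodule F (Fin d ⊕ Fin d → F) // Module.finrank F ↥W = m ∧
      (∀ u ∈ W, u ≠ 0 → ∃ v ∈ W, Cfsg.sympForm d F u v ≠ 0)}) :
    ∃ j, 2 * d < 2 * j + m ∧ j ≤ d ∧ r ∣ Fintype.card F ^ (2 * j) - 1 := by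
  obtain ⟨e, rfl⟩ := hm
  rw [Nat.card_congr (Equiv.subtypeEquivRight fun W : Submodule F (Fin d ⊕ Fin d → F) => and_congr (c := finrank F W = 2 * e) (by rw [two_mul])
    ((show (∀ u ∈ W, u ≠ 0 → ∃ v ∈ W, Cfsg.sympForm d F u v ≠ 0) ↔
        ∀ u ∈ W, u ≠ 0 → ∃ v ∈ W, ClassicalSp.spBilin d F u v ≠ 0 by simp only [ClassicalSp.spBilin_apply]).trans
      (nd_iff_exists (hA := ClassicalSp.spBilin_isAlt) (hB := ClassicalSp.spBilin_nondeg))))] at h
  have h1 := h.trans (card_ndSub_dvd (e := e) ClassicalSp.spBilin_isAlt ClassicalSp.spBilin_nondeg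
    (ClassicalSp.finrank_space (m := d)) (by omega))
  rw [Nat.card_eq_fintype_card] at h1
  obtain ⟨i, hi, h2⟩ := ((Fact.out : r.Prime).prime.dvd_finsetProd_iff _).1 h1
  have hi' := Finset.mem_range.1 hi
  exact ⟨d - i, by omega, by omega, ((Fact.out : r.Prime).dvd_mul.1 h2).resolve_right fun h3 =>
    hrq ((Fact.out : r.Prime).dvd_of_dvd_pow h3)⟩

end Cfsg.Agent.Elusive
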