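import Cfsg.Agent.Lib.Elusive.SympNd
import Cfsg.Agent.Lib.LinearBlock.JordanForms

/-!
Involutions and non-degenerate subspaces of symplectic spaces.
-/

set_option autoImplicit false
set_option linter.all false
set_option maxHeartbeats 1600000

namespace Cfsg.Agent.Elusive

open Module
open LinearMap (BilinForm)

section gen

variable {F : Type*} [Field F] {V : Type*} [AddCommGroup V] [Module F V] [FiniteDimensional F V]
  {B : BilinForm F V} {hA : B.IsAlt} {hB : B.Nondegenerate} {T : Module.End F V}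

/-- The span of part of a family. -/
lemma nd_subfam {ι : Type} [Fintype ι] {e f : ι → V} (h : HypFam B e f) (S : Finset ι) :
    (altForm hA hB).ND (famSpan (F := F) (fun i : S => e i) (fun i : S => f i)) ∧
      finrank F (famSpan (F := F) (fun i : S => e i) (fun i : S => f i)) = 2 * S.card := by
  classical
  have h' : HypFam B (fun i : S => e i) (fun i : S => f i) :=
    ⟨fun i j => h.ee _ _, fun i j => h.ff _ _, fun i => h.ef _, fun i j hij => h.ef' _ _ fun e => hij (Subtype.ext e)⟩
  refine ⟨fun u hu hz => ?_, ?_⟩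
  · obtain ⟨a, b, rfl⟩ := exists_mem_sum hu
    have ha : ∀ j, a j = 0 := fun j => by
      have := hz _ (mem_famSpan_right _ _ j)
      change B _ _ = 0 at this
      simp only [map_add, map_sum, LinearMap.add_apply, LinearMap.sum_apply, map_smul, LinearMap.smul_apply,
        smul_eq_mul, h'.ff, mul_zero, Finset.sum_const_zero, add_zero] at this
      rw [Finset.sum_eq_single j (fun i _ hij => by rw [h'.ef' i j hij, mul_zero]) (by simp)] at this
      exact (mul_eq_zero.1 this).resolve_right (h'.ef j)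
    have hfe : ∀ i j : S, i ≠ j → B (f i) (e j) = 0 := fun i j hij => by
      rw [← LinearMap.BilinForm.IsAlt.neg_eq hA, h'.ef' j i (Ne.symm hij), neg_zero]
    have hb : ∀ j, b j = 0 := fun j => by
      have := hz _ (mem_famSpan_left _ _ j)
      change B _ _ = 0 at this
      simp only [map_add, map_sum, LinearMap.add_apply, LinearMap.sum_apply, map_smul, LinearMap.smul_apply,
        smul_eq_mul, h'.ee, mul_zero, Finset.sum_const_zero, zero_add] at this
      rw [Finset.sum_eq_single j (fun i _ hij => by rw [hfe i j hij, mul_zero]) (by simp)] at this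
      refine (mul_eq_zero.1 this).resolve_right fun h0 => h'.ef j ?_
      rw [← LinearMap.BilinForm.IsAlt.neg_eq hA, h0, neg_zero]
    simp [ha, hb]
  · rw [famSpan, finrank_span_eq_card (hypFam_indep hA h'), Fintype.card_sum, Fintype.card_coe, two_mul]

/-- The rank of an alternating nilpotent part is even. -/
lemma even_rank_alt {N : Module.End F V} (hsk : ∀ u, B (N u) u = 0) {W : Submodule F V} (hWi : Inv N W)
    (hW : (altForm hA hB).ND W) :
    Even (finrank F W - finrank F (W ⊓ LinearMap.ker N : Submodule F V)) := by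
  obtain ⟨C, hC⟩ := Submodule.exists_isCompl ((LinearMap.ker N).comap W.subtype)
  have hd := Submodule.finrank_add_eq_of_isCompl hC
  rw [show finrank F ((LinearMap.ker N).comap W.subtype) = finrank F (W ⊓ LinearMap.ker N : Submodule F V) by
    rw [← (Submodule.equivMapOfInjective _ W.subtype_injective ((LinearMap.ker N).comap W.subtype)).symm.finrank_eq,
      Submodule.map_comap_subtype]] at hd
  let β : LinearMap.BilinForm F C :=
    LinearMap.BilinForm.comp B (N.comp (W.subtype.comp C.subtype)) (W.subtype.comp C.subtype)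
  have hβA : β.IsAlt := fun u => hsk _
  have hleft : ∀ u, (∀ v, β u v = 0) → u = 0 := fun u hu => by
    have hz : ∀ w ∈ W, B (N ((u : W) : V)) w = 0 := fun w hw => by
      obtain ⟨a, ha, b, hb, hab⟩ := Submodule.mem_sup.1 (hC.sup_eq_top ▸ Submodule.mem_top (x := (⟨w, hw⟩ : W)))
      have hka : N ((a : W) : V) = 0 := ha
      have hab' : (a : V) + (b : V) = w := congrArg Subtype.val hab
      rw [← hab', map_add, show B (N ((u : W) : V)) (b : V) = 0 from hu ⟨b, hb⟩, add_zero]
      have h1 := hsk (((u : W) : V) + (a : V))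
      rw [map_add N, hka, add_zero, map_add, hsk, zero_add] at h1
      exact h1
    have h0 : N ((u : W) : V) = 0 := hW _ (hWi _ (u : W).2) hz
    have : (u : W) = 0 := (Submodule.mem_bot F).1 (hC.disjoint.le_bot ⟨h0, u.2⟩)
    exact Subtype.ext this
  obtain ⟨k, hk⟩ := AltForm.exists_finrank_eq hβA ⟨hleft, fun u hu => hleft u fun v => by
    rw [← LinearMap.BilinForm.IsAlt.neg_eq hβA, hu, neg_zero]⟩
  exact ⟨k, by omega⟩

end gen

section std

variable {F : Type*} [Field F] {d m : ℕ}

local notation "VV" => Fin d ⊕ Fin d → F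

lemma std_nd_out {W : Submodule F VV} (hW : (stdForm d F).ND W) :
    ∀ u ∈ W, u ≠ 0 → ∃ v ∈ W, Cfsg.sympForm d F u v ≠ 0 := fun u hu hu0 => by
  obtain ⟨v, hv, hv0⟩ := nd_iff_exists.2 hW u hu hu0
  exact ⟨v, hv, by rwa [← ClassicalSp.spBilin_apply]⟩

/-- Involutions in odd characteristic fix non-degenerate subspaces of every dimension. -/
theorem spNdFix_two (h2 : (2 : F) ≠ 0) (hd : 0 < d) (hm : Even m) (hmn : m ≤ 2 * d) : SpNdFix F d m 2 := by
  classical
  obtain ⟨t, rfl⟩ := hm
  intro x hx1 _
  obtain ⟨z, hz⟩ := hx1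
  rcases sq_scalar hd x hz with ⟨-, hsq⟩ | ⟨-, hsq⟩
  · obtain ⟨ι, _, e, f, π, hfam, hspan, -, hR⟩ := frame_eigen ClassicalSp.spBilin_isAlt
      (toLin_isometry x) hsq h2 (X := ⊤) (fun _ _ => trivial) ndSub_top
    obtain ⟨S, -, hS⟩ := Finset.exists_subset_card_eq (s := (Finset.univ : Finset ι)) (n := t)
      (by rw [Finset.card_univ, card_frame hfam hspan]; omega)
    obtain ⟨hW, hWd⟩ := nd_subfam (hA := ClassicalSp.spBilin_isAlt) (hB := ClassicalSp.spBilin_nondeg) hfam S
    refine ⟨_, by rw [hWd, hS]; omega, std_nd_out hW, inv_map_iff.2 (inv_famSpan (fun i => ?_) (fun i => ?_))⟩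
    · obtain ⟨c, hc⟩ := Submodule.mem_span_singleton.1 (hR i.1).1
      rw [← hc]; exact Submodule.smul_mem _ _ (mem_famSpan_left (F := F) (fun j : S => e j) _ i)
    · obtain ⟨c, hc⟩ := Submodule.mem_span_singleton.1 (hR i.1).2
      rw [← hc]; exact Submodule.smul_mem _ _ (mem_famSpan_right (F := F) _ (fun j : S => f j) i)
  · obtain ⟨ι, _, e, f, π, hfam, hspan, -, hR⟩ := frame_swap ClassicalSp.spBilin_isAlt
      (toLin_isometry x) hsq h2 (X := ⊤) (fun _ _ => trivial) ndSub_top
    obtain ⟨S, -, hS⟩ := Finset.exists_subset_card_eq (s := (Finset.univ : Finset ι)) (n := t)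
      (by rw [Finset.card_univ, card_frame hfam hspan]; omega)
    obtain ⟨hW, hWd⟩ := nd_subfam (hA := ClassicalSp.spBilin_isAlt) (hB := ClassicalSp.spBilin_nondeg) hfam S
    refine ⟨_, by rw [hWd, hS]; omega, std_nd_out hW, inv_map_iff.2 (inv_famSpan (fun i => ?_) (fun i => ?_))⟩
    · obtain ⟨c, hc⟩ := Submodule.mem_span_singleton.1 (hR i.1).1
      rw [← hc]; exact Submodule.smul_mem _ _ (mem_famSpan_right (F := F) _ (fun j : S => f j) i)
    · obtain ⟨c, hc⟩ := Submodule.mem_span_singleton.1 (hR i.1).2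
      rw [← hc]; exact Submodule.smul_mem _ _ (mem_famSpan_left (F := F) (fun j : S => e j) _ i)

/-- Characteristic two. -/
theorem spNdFix_char_two_iff (h2 : (2 : F) = 0) (hd : 0 < d) (hm : Even m) (hmn : m ≤ 2 * d) :
    SpNdFix F d m 2 ↔ (2 * d) % 4 = 2 ∨ m % 4 = 0 := by
  classical
  obtain ⟨t, rfl⟩ := hm
  have hneg : ∀ c : F, -c = c := fun c => by rw [neg_eq_iff_add_eq_zero, ← two_mul, h2, zero_mul]
  constructor
  · intro hall
    by_contra hcon
    rw [not_or] at hcon
    obtain ⟨k, hk⟩ : ∃ k, d = k + k := ⟨d / 2, by omega⟩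
    let σ : Fin k ⊕ Fin k ≃ Fin d := Fintype.equivOfCardEq (by simp [hk])
    obtain ⟨P, hP⟩ : ∃ P : Matrix (Fin d) (Fin d) F, P = Matrix.reindex σ σ (Matrix.J (Fin k) F) := ⟨_, rfl⟩
    have hPt : P.transpose = -P := by
      rw [hP, Matrix.transpose_reindex, Matrix.J_transpose]
      rfl
    have hP0 : ∀ a, P a a = 0 := fun a => by
      rw [hP, Matrix.reindex_apply, Matrix.submatrix_apply]
      rcases σ.symm a with i | i <;> simp [Matrix.J]
    have hPd : P.det ≠ 0 := by
      rw [hP, Matrix.det_reindex_self]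
      exact (Matrix.isUnit_det_J (Fin k) F).ne_zero
    obtain ⟨M, hM⟩ : ∃ M : Matrix (Fin d ⊕ Fin d) (Fin d ⊕ Fin d) F, M = Matrix.fromBlocks 0 P 0 0 := ⟨_, rfl⟩
    obtain ⟨N, hN⟩ : ∃ N : Module.End F VV, N = Matrix.toLin' M := ⟨_, rfl⟩
    have hNv : ∀ v, N v = Sum.elim (P.mulVec (v ∘ Sum.inr)) 0 := fun v => by
      rw [hN, Matrix.toLin'_apply, hM, Matrix.fromBlocks_mulVec]; simp
    have hB : ∀ u v : VV, ClassicalSp.spBilin d F u v =
        -dotProduct (u ∘ Sum.inl) (v ∘ Sum.inr) + dotProduct (u ∘ Sum.inr) (v ∘ Sum.inl) := fun u v => by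
      rw [ClassicalSp.spBilin_apply, Cfsg.sympForm, Matrix.J, Matrix.fromBlocks_mulVec]
      simp [dotProduct, Fintype.sum_sum_type, Matrix.neg_mulVec]
    have hNN : ∀ v, N (N v) = 0 := fun v => by
      rw [hNv (N v), hNv v]; simp
    have hsk : ∀ v, ClassicalSp.spBilin d F (N v) v = 0 := fun v => by
      rw [hB, hNv]
      simp only [Sum.elim_comp_inl, Sum.elim_comp_inr, zero_dotProduct, add_zero, neg_eq_zero]
      rw [dotProduct_comm]
      exact LBJordanForms.quad_zero hPt hP0 _
    have hsym : ∀ u v, ClassicalSp.spBilin d F (N u) v + ClassicalSp.spBilin d F u (N v) = 0 := fun u v => by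
      have h1 := hsk (u + v)
      simp only [map_add, LinearMap.add_apply, hsk u, hsk v, zero_add, add_zero] at h1
      rw [← LinearMap.BilinForm.IsAlt.neg_eq ClassicalSp.spBilin_isAlt (N v) u, hneg]
      linear_combination h1
    have hmem : 1 + M ∈ Matrix.symplecticGroup (Fin d) F := (ClassicalSp.mem_iff_preserves _).2 fun u v => by
      rw [← Matrix.toLin'_apply (1 + M) u, ← Matrix.toLin'_apply (1 + M) v, map_add Matrix.toLin', Matrix.toLin'_one,
        LinearMap.add_apply, LinearMap.add_apply, LinearMap.id_apply, LinearMap.id_apply, ← hN,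
        ← ClassicalSp.spBilin_apply, ← ClassicalSp.spBilin_apply]
      simp only [map_add, LinearMap.add_apply]
      have h3 : ClassicalSp.spBilin d F (N u) (N v) = 0 := by
        have := hsym u (N v)
        rwa [hNN, map_zero, add_zero] at this
      linear_combination hsym u v + h3
    obtain ⟨x, hx⟩ : ∃ x : ↥(Matrix.symplecticGroup (Fin d) F), x.1 = 1 + M := ⟨⟨_, hmem⟩, rfl⟩
    have hTv : ∀ v, Matrix.toLin' x.1 v = v + N v := fun v => by
      rw [hx, map_add, Matrix.toLin'_one, hN]; rfl
    obtain ⟨W, hWd, hW, hWi⟩ := hall x ⟨1, Matrix.toLin'.injective (LinearMap.ext fun v => by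
      rw [toLin_pow_eq, pow_two, Module.End.mul_apply, hTv, hTv, map_add, hNN, add_zero, one_smul, Matrix.toLin'_one,
        LinearMap.id_apply, add_assoc, ← two_smul F, h2, zero_smul, add_zero])⟩ fun z hz => by
      have h1 : ∀ a b, x.1 a b = z * (1 : Matrix (Fin d ⊕ Fin d) (Fin d ⊕ Fin d) F) a b := fun a b => by
        rw [hz]; rfl
      refine hPd (Matrix.det_eq_zero_of_row_eq_zero (⟨0, hd⟩ : Fin d) fun j => ?_)
      have := h1 (Sum.inl ⟨0, hd⟩) (Sum.inr j)
      rw [hx, hM] at this
      simpa [Matrix.one_apply] using this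
    have hWi' : Inv N W := fun w hw => by
      have h1 := W.sub_mem (inv_map_iff.1 hWi w hw) hw
      rwa [hTv, add_sub_cancel_left] at h1
    have hWnd : (stdForm d F).ND W := nd_iff_exists.1 fun u hu hu0 => by
      obtain ⟨v, hv, hv0⟩ := hW u hu hu0
      exact ⟨v, hv, by rwa [ClassicalSp.spBilin_apply]⟩
    obtain ⟨W', hW'⟩ : ∃ W', W' = (stdForm d F).perp W := ⟨_, rfl⟩
    have hW'i : Inv N W' := fun v hv => by
      rw [hW'] at hv ⊢
      intro w hw
      have h0 : ClassicalSp.spBilin d F (N w) v = 0 := hv _ (hWi' w hw)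
      have h1 := hsym w v
      rw [h0, zero_add] at h1
      exact h1
    have hc : IsCompl W W' := hW' ▸ (stdForm d F).isCompl_perp hWnd
    obtain ⟨K, hK⟩ : ∃ K, K = LinearMap.ker N := ⟨_, rfl⟩
    have hKmem : ∀ v, v ∈ K ↔ v ∘ Sum.inr = 0 := fun v => by
      rw [hK, LinearMap.mem_ker, hNv]
      constructor
      · intro h
        exact Matrix.eq_zero_of_mulVec_eq_zero hPd (funext fun i => by simpa using congrFun h (Sum.inl i))
      · intro h; rw [h]; simp
    have hKd : finrank F K = d := by
      let L : VV →ₗ[F] (Fin d → F) := LinearMap.funLeft F F Sum.inr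
      have e : K = LinearMap.ker L := Submodule.ext fun v => by rw [hKmem, LinearMap.mem_ker]; rfl
      have h1 := LinearMap.finrank_range_add_finrank_ker L
      rw [LinearMap.range_eq_top.2 (LinearMap.funLeft_surjective_of_injective F F _ Sum.inr_injective), finrank_top,
        ← e, Module.finrank_fin_fun, ClassicalSp.finrank_space] at h1
      omega
    have hsplit : finrank F (W ⊓ K : Submodule F VV) + finrank F (W' ⊓ K : Submodule F VV) = finrank F K := by
      have hs : (W ⊓ K) ⊔ (W' ⊓ K) = K := le_antisymm (sup_le inf_le_right inf_le_right) fun v hv => by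
        obtain ⟨a, ha, b, hb, rfl⟩ := Submodule.mem_sup.1 (hc.sup_eq_top ▸ Submodule.mem_top (x := v))
        rw [hK, LinearMap.mem_ker, map_add] at hv
        have ha0 : N a = 0 := Submodule.disjoint_def.1 hc.disjoint _ (hWi' a ha) (by
          rw [eq_neg_of_add_eq_zero_left hv]; exact neg_mem (hW'i b hb))
        rw [ha0, zero_add] at hv
        exact Submodule.add_mem_sup ⟨ha, by rw [hK]; exact ha0⟩ ⟨hb, by rw [hK]; exact hv⟩
      have := Submodule.finrank_sup_add_finrank_inf_eq (W ⊓ K) (W' ⊓ K)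
      rw [hs, show (W ⊓ K) ⊓ (W' ⊓ K) = ⊥ from eq_bot_iff.2 fun v hv => hc.disjoint.le_bot ⟨hv.1.1, hv.2.1⟩,
        finrank_bot, add_zero] at this
      omega
    have hhalf : ∀ U : Submodule F VV, Inv N U → finrank F U ≤ 2 * finrank F (U ⊓ K : Submodule F VV) := fun U hU => by
      have h1 := LinearMap.finrank_range_add_finrank_ker (N.domRestrict U)
      rw [LinearMap.range_domRestrict, LinearMap.ker_domRestrict] at h1
      have h2' : finrank F (U.map N) ≤ finrank F (U ⊓ K : Submodule F VV) := Submodule.finrank_mono fun v hv => by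
        obtain ⟨u, hu, rfl⟩ := hv
        exact ⟨hU u hu, by rw [hK]; exact LinearMap.mem_ker.2 (hNN u)⟩
      rw [show finrank F ((LinearMap.ker N).comap U.subtype) = finrank F (U ⊓ K : Submodule F VV) by
        rw [hK, ← (Submodule.equivMapOfInjective _ U.subtype_injective ((LinearMap.ker N).comap U.subtype)).symm.finrank_eq,
          Submodule.map_comap_subtype]] at h1
      omega
    have hsum := Submodule.finrank_add_eq_of_isCompl hc
    rw [ClassicalSp.finrank_space, hWd] at hsum
    have h4 := hhalf W hWi'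
    have h5 := hhalf W' hW'i
    obtain ⟨l, hl⟩ := even_rank_alt hsk hWi' hWnd
    rw [← hK] at hl
    omega
  · intro h x hx1 _
    obtain ⟨z, hz⟩ := hx1
    have hsq : Matrix.toLin' x.1 * Matrix.toLin' x.1 = 1 := by
      rcases sq_scalar hd x hz with ⟨-, hsq⟩ | ⟨-, hsq⟩
      · exact hsq
      · rw [hsq]
        exact LinearMap.ext fun v => funext fun a => hneg _
    obtain ⟨ι, _, e, f, π, hfam, hspan, hπ, hR⟩ := frame_two ClassicalSp.spBilin_isAlt
      (toLin_isometry x) hsq h2 (X := ⊤) (fun _ _ => trivial) ndSub_top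
    have hcard := card_frame hfam hspan
    have hpar : Even t ∨ ∃ i ∈ (Finset.univ : Finset ι), π i = i := by
      rcases Nat.even_or_odd t with ht | ht
      · exact Or.inl ht
      rw [Nat.odd_iff] at ht
      refine Or.inr ?_
      obtain ⟨U, hU, hUc, hUi⟩ := exists_inv_subset hπ (d - 1) (Finset.univ : Finset ι) (fun _ _ => Finset.mem_univ _)
        (by rw [Finset.card_univ, hcard]; omega) (Or.inl (Nat.even_iff.2 (by omega)))
      obtain ⟨i, hi⟩ := Finset.card_eq_one.1 (show (Finset.univ \ U).card = 1 by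
        rw [Finset.card_sdiff_of_subset hU, Finset.card_univ, hcard, hUc]; omega)
      refine ⟨i, Finset.mem_univ _, ?_⟩
      have := sdiff_inv hπ (fun _ _ => Finset.mem_univ _) hUi i (by rw [hi]; exact Finset.mem_singleton_self i)
      rw [hi] at this
      exact Finset.mem_singleton.1 this
    obtain ⟨S, -, hS, hSi⟩ := exists_inv_subset hπ t (Finset.univ : Finset ι) (fun _ _ => Finset.mem_univ _)
      (by rw [Finset.card_univ, hcard]; omega) hpar
    obtain ⟨hW, hWd⟩ := nd_subfam (hA := ClassicalSp.spBilin_isAlt) (hB := ClassicalSp.spBilin_nondeg) hfam S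
    have hle : ∀ i : S, Submodule.span F {e (π i), f (π i)} ≤ famSpan (F := F) (fun i : S => e i) (fun i : S => f i) :=
      fun i => Submodule.span_le.2 (Set.insert_subset (mem_famSpan_left (F := F) (fun j : S => e j) _ ⟨π i, hSi _ i.2⟩)
        (Set.singleton_subset_iff.2 (mem_famSpan_right (F := F) _ (fun j : S => f j) ⟨π i, hSi _ i.2⟩)))
    exact ⟨_, by rw [hWd, hS]; omega, std_nd_out hW,
      inv_map_iff.2 (inv_famSpan (fun i => hle i (hR i.1).1) (fun i => hle i (hR i.1).2))⟩

end std

end Cfsg.Agent.Elusive
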