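import Cfsg.Agent.Lib.Elusive.SympNd
import Cfsg.Agent.Lib.LinearBlock.OrthTypeElem

/-!
Elements of order the characteristic and non-degenerate subspaces of symplectic spaces: partitions.
-/

set_option autoImplicit false
set_option linter.all false
set_option maxHeartbeats 1600000

namespace Cfsg.Agent.Elusive

open Module
open LinearMap (BilinForm)

section gen

variable {F : Type*} [Field F] {V : Type*} [AddCommGroup V] [Module F V] [FiniteDimensional F V]
  {B : BilinForm F V} {N : Module.End F V} {hA : B.IsAlt} {hB : B.Nondegenerate}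

omit [FiniteDimensional F V] in
lemma inv_of_one_add {T : Module.End F V} (hT : T = 1 + N) {W : Submodule F V} : Inv T W ↔ Inv N W := by
  subst hT
  exact ⟨fun h v hv => by simpa using W.sub_mem (h v hv) hv, fun h v hv => by simpa using W.add_mem hv (h v hv)⟩

lemma isom_one_add (hP : LBType.Pres B N) : (altForm hA hB).Isom (1 + N) := altForm_isom fun u v => by
  simpa using hP u v

/-- Cyclic pieces with a non-degenerate top pairing. -/
lemma cyclic_nd (hP : LBType.Pres B N) {e : ℕ} {κ : Type} [Fintype κ] (w : κ → V) (hw : ∀ k, (N ^ e) (w k) = 0)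
    (hM : ∀ c : κ → F, (∀ k, ∑ l, B (w k) ((N ^ (e - 1)) (w l)) * c l = 0) → c = 0) :
    ∃ Z : Submodule F V, Inv N Z ∧ (altForm hA hB).ND Z ∧ finrank F Z = Fintype.card κ * e ∧
      ∀ U : Submodule F V, Inv N U → (∀ k, w k ∈ U) → Z ≤ U := by
  classical
  have hrel := fun k l => LBType.rel hP (hw k) (hw l)
  let v : κ × Fin e → V := fun a => (N ^ (a.2 : ℕ)) (w a.1)
  have key : ∀ c : κ × Fin e → F, (∀ k, ∀ i < e, B ((N ^ i) (w k)) (∑ a, c a • v a) = 0) → c = 0 := by
    intro c hc
    suffices ∀ j, ∀ hj : j < e, ∀ l, c (l, ⟨j, hj⟩) = 0 from funext fun a => this a.2 a.2.2 a.1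
    intro j
    induction j using Nat.strong_induction_on with
    | _ j ih =>
      intro hj
      have h0 := hM (fun l => c (l, ⟨j, hj⟩)) fun k => by
        have h1 := hc k (e - 1 - j) (by omega)
        simp only [map_sum, map_smul, smul_eq_mul, Fintype.sum_prod_type, v] at h1
        rw [Finset.sum_congr rfl fun l _ => Finset.sum_eq_single (⟨j, hj⟩ : Fin e) (fun b _ hb => by
          rcases Nat.lt_or_ge (b : ℕ) j with hbj | hbj
          · rw [show c (l, b) = 0 from ih b hbj b.2 l, zero_mul]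
          · have : (b : ℕ) ≠ j := fun h => hb (Fin.ext h)
            rw [(hrel k l).van (i := e - 1 - j) (j := b) (by omega), mul_zero]) (by simp)] at h1
        have h2 : ∀ l, B ((N ^ (e - 1 - j)) (w k)) ((N ^ j) (w l)) =
            (-1) ^ (e - 1 - j) * B (w k) ((N ^ (e - 1)) (w l)) := fun l => by
          have := anti_gen (hrel k l) (e - 1 - j) (by omega)
          rw [show e - 1 - (e - 1 - j) = j by omega] at this
          simpa using this
        simp only [h2] at h1
        refine (mul_eq_zero.1 (Eq.trans ?_ h1)).resolve_left (pow_ne_zero (e - 1 - j) (neg_ne_zero.2 one_ne_zero) : (-1 : F) ^ (e - 1 - j) ≠ 0)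
        rw [Finset.mul_sum]
        exact Finset.sum_congr rfl fun l _ => by ring
      exact fun l => congrFun h0 l
  refine ⟨Submodule.span F (Set.range v), ?_, ?_, ?_, fun U hU hwU => Submodule.span_le.2 ?_⟩
  · intro z hz
    refine (Submodule.span_le.2 ?_ : Submodule.span F (Set.range v) ≤ (Submodule.span F (Set.range v)).comap N) hz
    rintro _ ⟨a, rfl⟩
    rw [SetLike.mem_coe, Submodule.mem_comap]
    show N ((N ^ (a.2 : ℕ)) (w a.1)) ∈ _
    rw [← Module.End.mul_apply, ← pow_succ']
    rcases Nat.lt_or_ge ((a.2 : ℕ) + 1) e with h | h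
    · exact Submodule.subset_span ⟨(a.1, ⟨_, h⟩), rfl⟩
    · rw [show (a.2 : ℕ) + 1 = e from le_antisymm a.2.2 h, hw]
      exact Submodule.zero_mem _
  · intro z hz hzero
    obtain ⟨c, rfl⟩ := (Submodule.mem_span_range_iff_exists_fun F).1 hz
    rw [key c fun k i hi => (altForm hA hB).refl _ _ (hzero _ (Submodule.subset_span ⟨(k, ⟨i, hi⟩), rfl⟩))]
    simp
  · rw [finrank_span_eq_card (Fintype.linearIndependent_iff.2 fun c hc => congrFun (key c fun k i _ => by rw [hc, map_zero])),
      Fintype.card_prod, Fintype.card_fin]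
  · rintro _ ⟨a, rfl⟩
    exact hU.pow _ _ (hwU a.1)
where
  anti_gen {a : ℕ} {g : ℕ → ℕ → F} (h : LBJordanForms.Rel a a g) :
      ∀ i, i < a → g i (a - 1 - i) = (-1) ^ i * g 0 (a - 1) := LBJordanForms.Rel.anti h

/-- The piece of largest size. -/
lemma exists_piece (h2 : (2 : F) ≠ 0) (hP : LBType.Pres B N) {p : ℕ} (hN : N ^ p = 0) {U : Submodule F V}
    (hUi : Inv N U) (hU : (altForm hA hB).ND U) (hne : U ≠ ⊥) :
    ∃ (e k : ℕ) (Z : Submodule F V), 0 < e ∧ e ≤ p ∧ (Odd e → k = 2) ∧ (Even e → k = 1) ∧ Inv N Z ∧ Z ≤ U ∧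
      (altForm hA hB).ND Z ∧ finrank F Z = k * e := by
  classical
  have hex : ∃ e, ∀ u ∈ U, (N ^ e) u = 0 := ⟨p, fun u _ => by rw [hN]; rfl⟩
  obtain ⟨e, he, hmin⟩ : ∃ e, (∀ u ∈ U, (N ^ e) u = 0) ∧ ∀ e' < e, ¬ ∀ u ∈ U, (N ^ e') u = 0 :=
    ⟨Nat.find hex, Nat.find_spec hex, fun e' h => Nat.find_min hex h⟩
  have hep : e ≤ p := by
    by_contra h
    exact hmin p (by omega) fun u _ => by rw [hN]; rfl
  have he0 : 0 < e := Nat.pos_of_ne_zero fun h => hne (eq_bot_iff.2 fun u hu => by
    have := he u hu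
    rw [h, pow_zero] at this
    exact (Submodule.mem_bot F).2 this)
  obtain ⟨u, hu, hu0⟩ : ∃ u ∈ U, (N ^ (e - 1)) u ≠ 0 := by
    by_contra h
    push Not at h
    exact hmin (e - 1) (by omega) h
  have hsw : ∀ {x y : V}, x ∈ U → y ∈ U →
      B y ((N ^ (e - 1)) x) = -((-1) ^ (e - 1) * B x ((N ^ (e - 1)) y)) := by
    intro x y hx hy
    have h1 := (LBType.rel hP (he x hx) (he y hy)).anti (e - 1) (by omega)
    simp only [Nat.sub_self, pow_zero, Module.End.one_apply] at h1
    rw [← LinearMap.BilinForm.IsAlt.neg_eq hA ((N ^ (e - 1)) x) y, h1]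
  have hpart : ∃ v ∈ U, B u ((N ^ (e - 1)) v) ≠ 0 := by
    by_contra h
    push Not at h
    refine hu0 (hU _ (hUi.pow _ _ hu) fun v hv => ?_)
    have := hsw hu hv
    rw [h v hv, mul_zero, neg_zero] at this
    exact (altForm hA hB).refl _ _ this
  rcases Nat.even_or_odd e with hev | hodd
  · obtain ⟨w, hw, hw0⟩ : ∃ w ∈ U, B w ((N ^ (e - 1)) w) ≠ 0 := by
      by_contra h
      push Not at h
      obtain ⟨v, hv, hv0⟩ := hpart
      refine hv0 ((mul_eq_zero.1 (show (2 : F) * B u ((N ^ (e - 1)) v) = 0 from ?_)).resolve_left h2)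
      have h1 := h _ (U.add_mem hu hv)
      simp only [map_add, LinearMap.add_apply, h u hu, h v hv, zero_add, add_zero] at h1
      have h3 := hsw hu hv
      rw [Odd.neg_one_pow (Nat.Even.sub_odd he0 hev odd_one)] at h3
      linear_combination h1 - h3
    obtain ⟨Z, hZi, hZ, hZd, hZU⟩ := cyclic_nd (hA := hA) (hB := hB) hP (e := e) (fun _ : Unit => w) (fun _ => he w hw)
      fun c hc => funext fun _ => by
        have := hc ()
        rw [Fintype.sum_unique] at this
        exact (mul_eq_zero.1 this).resolve_left hw0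
    exact ⟨e, 1, Z, he0, hep, fun h => absurd h (Nat.not_odd_iff_even.2 hev), fun _ => rfl, hZi,
      hZU U hUi fun _ => hw, hZ, by rw [hZd]; simp⟩
  · have hdiag : ∀ {x : V}, x ∈ U → B x ((N ^ (e - 1)) x) = 0 := fun {x} hx => by
      have h3 := hsw hx hx
      rw [Even.neg_one_pow (Nat.Odd.sub_odd hodd odd_one), one_mul] at h3
      exact (mul_eq_zero.1 (show (2 : F) * B x ((N ^ (e - 1)) x) = 0 by linear_combination h3)).resolve_left h2
    obtain ⟨v, hv, hv0⟩ := hpart
    have hv1 : B v ((N ^ (e - 1)) u) ≠ 0 := fun h => hv0 (by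
      have := hsw hv hu
      rwa [h, mul_zero, neg_zero] at this)
    obtain ⟨Z, hZi, hZ, hZd, hZU⟩ := cyclic_nd (hA := hA) (hB := hB) hP (e := e) (fun b : Bool => if b then u else v)
      (fun b => by cases b <;> simp [he u hu, he v hv])
      fun c hc => funext fun b => by
        have ht := hc true
        have hf := hc false
        simp only [Fintype.sum_bool, ↓reduceIte, Bool.false_eq_true, hdiag hu, hdiag hv, zero_mul, zero_add, add_zero] at ht hf
        cases b
        · exact (mul_eq_zero.1 ht).resolve_left hv0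
        · exact (mul_eq_zero.1 hf).resolve_left hv1
    exact ⟨e, 2, Z, he0, hep, fun _ => rfl, fun h => absurd h (Nat.not_even_iff_odd.2 hodd), hZi,
      hZU U hUi (fun b => by cases b <;> simp [hu, hv]), hZ, by rw [hZd]; simp⟩

/-- The partition of a unipotent isometry and its invariant non-degenerate subspaces. -/
theorem exists_partition (h2 : (2 : F) ≠ 0) (hP : LBType.Pres B N) {p : ℕ} (hN : N ^ p = 0) :
    ∀ (n : ℕ) (U : Submodule F V), finrank F U = n → Inv N U → (altForm hA hB).ND U →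
      ∃ μ : Multiset ℕ, (∀ a ∈ μ, 0 < a ∧ a ≤ p) ∧ (∀ a : ℕ, Odd a → Even (μ.count a)) ∧ μ.sum = n ∧
        ∀ ν : Multiset ℕ, ν ≤ μ → (∀ a : ℕ, Odd a → Even (ν.count a)) →
          ∃ W, Inv N W ∧ W ≤ U ∧ (altForm hA hB).ND W ∧ finrank F W = ν.sum := by
  intro n
  induction n using Nat.strong_induction_on with
  | _ n ih =>
  intro U hUd hUi hU
  by_cases hne : U = ⊥
  · subst hne
    rw [finrank_bot] at hUd
    refine ⟨0, by simp, by simp, by simp [← hUd], fun ν hν _ => ⟨⊥, SForm.inv_bot', le_rfl, SForm.nd_bot, ?_⟩⟩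
    rw [Multiset.le_zero.1 hν]; simp
  obtain ⟨e, k, Z, he0, hep, hodd, heven, hZi, hZU, hZ, hZd⟩ := exists_piece h2 hP hN hUi hU hne
  have hk : 0 < k := by
    rcases Nat.even_or_odd e with h | h
    · rw [heven h]; omega
    · rw [hodd h]; omega
  obtain ⟨hY, -, -, hYd⟩ := SForm.nd_compl hU hZ hZU
  have hYi : Inv N ((altForm hA hB).perp Z ⊓ U) := (inv_of_one_add rfl).1
    (SForm.inv_compl_perp (isom_one_add hP) ((inv_of_one_add rfl).2 hUi) ((inv_of_one_add rfl).2 hZi))
  have hpos : 0 < k * e := Nat.mul_pos hk he0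
  obtain ⟨μ, hμ, hev, hsum, hget⟩ := ih (finrank F ((altForm hA hB).perp Z ⊓ U : Submodule F V)) (by omega) _ rfl hYi hY
  refine ⟨Multiset.replicate k e + μ, fun a ha => ?_, fun a ha => ?_, ?_, fun ν hν hνe => ?_⟩
  · rcases Multiset.mem_add.1 ha with h | h
    · rw [Multiset.eq_of_mem_replicate h]; exact ⟨he0, hep⟩
    · exact hμ a h
  · rw [Multiset.count_add, Multiset.count_replicate]
    split_ifs with h
    · subst h
      rw [hodd ha]
      exact (by decide : Even 2).add (hev _ ha)
    · rw [zero_add]; exact hev a ha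
  · rw [Multiset.sum_add, Multiset.sum_replicate, smul_eq_mul, hsum]
    omega
  · by_cases hc : k ≤ ν.count e
    · obtain ⟨W, hWi, hWY, hW, hWd⟩ := hget (ν - Multiset.replicate k e) (by
          rw [tsub_le_iff_left]; exact hν) (fun a ha => by
          rw [Multiset.count_sub, Multiset.count_replicate]
          split_ifs with h
          · subst h
            rw [hodd ha] at hc ⊢
            exact (Nat.even_sub hc).2 (iff_of_true (hνe _ ha) (by decide))
          · exact hνe a ha)
      obtain ⟨h1, -, h3⟩ := SForm.nd_sup hZ hW fun x hx y hy => (hWY hy).1 x hx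
      refine ⟨Z ⊔ W, SForm.inv_join hZi hWi, sup_le hZU (hWY.trans inf_le_right), h1, ?_⟩
      have : Multiset.replicate k e + (ν - Multiset.replicate k e) = ν :=
        add_tsub_cancel_of_le (Multiset.le_iff_count.2 fun a => by
          rw [Multiset.count_replicate]; split_ifs with h <;> [subst h; skip] <;> omega)
      rw [h3, hZd, hWd, ← congrArg Multiset.sum this, Multiset.sum_add, Multiset.sum_replicate, smul_eq_mul]
    · have h0 : ν.count e = 0 := by
        rcases Nat.even_or_odd e with h | h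
        · rw [heven h] at hc; omega
        · obtain ⟨j, hj⟩ := hνe e h
          rw [hodd h] at hc; omega
      obtain ⟨W, hWi, hWY, hW, hWd⟩ := hget ν (Multiset.le_iff_count.2 fun a => by
        have := Multiset.le_iff_count.1 hν a
        rw [Multiset.count_add, Multiset.count_replicate] at this
        split_ifs at this with h
        · subst h; omega
        · omega) hνe
      exact ⟨W, hWi, hWY.trans inf_le_right, hW, hWd⟩

/-- Odd block sizes come in pairs. -/
theorem odd_lay_sub (hA : B.IsAlt) (hP : LBType.Pres B N) (hB : B.Nondegenerate) (h2 : (2 : F) ≠ 0) {m : ℕ}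
    (hN : N ^ m = 0) {e : ℕ} (he : Odd e) : Even (LBType.lay N (e - 1) - LBType.lay N e) := by
  have he0 : 1 ≤ e := he.pos
  have hsw : ∀ a b, B a b = -B b a := fun a b => (LinearMap.BilinForm.IsAlt.neg_eq hA b a).symm
  have hperp : LinearMap.range (N ^ e) = (altForm hA hB).perp (LinearMap.ker (N ^ e)) := by
    refine Submodule.eq_of_le_of_finrank_le ?_ ?_
    · rintro _ ⟨u, rfl⟩ v hv
      exact (altForm hA hB).refl _ _ (LBType.image_perp_ker hP hN u v hv)
    · have h1 := (altForm hA hB).finrank_perp (LinearMap.ker (N ^ e))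
      have := LinearMap.finrank_range_add_finrank_ker (N ^ e)
      omega
  have hker : ∀ v : LinearMap.ker (N ^ e), (N ^ (e - 1)) (v : V) ∈ LBType.soc N (e - 1) := fun v => by
    refine ⟨LinearMap.mem_ker.2 ?_, v, rfl⟩
    rw [← Module.End.mul_apply, ← pow_succ', Nat.sub_add_cancel he0]
    exact v.2
  let π : LinearMap.ker (N ^ e) →ₗ[F] LBType.soc N (e - 1) :=
    ((N ^ (e - 1)).domRestrict (LinearMap.ker (N ^ e))).codRestrict _ hker
  let ψ : LBType.soc N (e - 1) →ₗ[F] Module.Dual F (LinearMap.ker (N ^ e)) :=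
    (LinearMap.ker (N ^ e)).subtype.dualMap.comp (LinearMap.comp B (LBType.soc N (e - 1)).subtype)
  have hψ : ∀ y x, ψ y x = B (y : V) (x : V) := fun y x => rfl
  have hπ : LinearMap.range π = ⊤ := by
    refine eq_top_iff.2 fun y _ => ?_
    obtain ⟨h1, u, hu⟩ := y.2
    refine ⟨⟨u, LinearMap.mem_ker.2 ?_⟩, Subtype.ext hu⟩
    conv_lhs => rw [← Nat.sub_add_cancel he0, pow_succ', Module.End.mul_apply, hu]
    exact h1
  let β : LinearMap.ker (N ^ e) →ₗ[F] LinearMap.ker (N ^ e) →ₗ[F] F := ψ.comp π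
  have halt : ∀ x, β x x = 0 := fun x => by
    have hx := x.2
    have hanti := (LBType.rel hP (LinearMap.mem_ker.1 hx) (LinearMap.mem_ker.1 hx)).anti (e - 1) (by omega)
    rw [Nat.sub_self, Even.neg_one_pow (Nat.Odd.sub_odd he odd_one), one_mul] at hanti
    simp only [pow_zero, Module.End.one_apply] at hanti
    rw [hsw (x : V)] at hanti
    refine (mul_eq_zero.1 (show (2 : F) * β x x = 0 from ?_)).resolve_left h2
    show (2 : F) * B ((N ^ (e - 1)) (x : V)) (x : V) = 0
    linear_combination hanti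
  have hev := Transvec.Orth.even_finrank_range_alt β halt
  have hr : LinearMap.range β = LinearMap.range ψ := LinearMap.range_comp_of_range_eq_top ψ hπ
  rw [hr] at hev
  have hk : (LinearMap.ker ψ).map (LBType.soc N (e - 1)).subtype = LBType.soc N e := by
    ext y
    rw [Submodule.mem_map]
    constructor
    · rintro ⟨y, hy, rfl⟩
      refine ⟨y.2.1, ?_⟩
      rw [hperp]
      intro x hx
      exact (altForm hA hB).refl _ _ (LinearMap.congr_fun (LinearMap.mem_ker.1 hy) ⟨x, hx⟩)
    · intro hy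
      refine ⟨⟨y, LBType.soc_le N (Nat.sub_le e 1) hy⟩, LinearMap.mem_ker.2 (LinearMap.ext fun x => ?_), rfl⟩
      obtain ⟨u, hu⟩ := hy.2
      rw [hψ]
      show B y (x : V) = 0
      rw [← hu]
      exact LBType.image_perp_ker hP hN u x x.2
  have hk' : finrank F (LinearMap.ker ψ) = LBType.lay N e := by
    rw [LBType.lay, ← hk]
    exact LinearEquiv.finrank_eq (Submodule.equivMapOfInjective _ (Submodule.injective_subtype _) _)
  have h := LinearMap.finrank_range_add_finrank_ker ψ
  rw [hk'] at h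
  rw [show LBType.lay N (e - 1) - LBType.lay N e = finrank F (LinearMap.range ψ) from by unfold LBType.lay at *; omega]
  exact hev

end gen

section std

variable {F : Type*} [Field F] {d m : ℕ} (p : ℕ) [Fact p.Prime] [CharP F p]

lemma nilp_of_pow {V : Type*} [AddCommGroup V] [Module F V] [Nontrivial V] {T : Module.End F V} (hT : T ^ p = 1) :
    (T - 1) ^ p = 0 := by
  haveI : CharP (Module.End F V) p := charP_of_injective_algebraMap (algebraMap F (Module.End F V)).injective p
  rw [sub_pow_char_of_commute (p := p) (Commute.one_right T), hT, one_pow, sub_self]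

/-- An element with a given partition. -/
lemma exists_symp_type (hd : 0 < d) {t : ℕ} (dd : Fin t → ℕ) (hd1 : ∀ k, 1 ≤ dd k) (hdp : ∀ k, dd k ≤ p)
    (hsum : ∑ k, dd k = 2 * d) (hev : ∀ j, Odd j → Even (Finset.univ.filter (fun k : Fin t => dd k = j)).card) :
    ∃ x : ↥(Matrix.symplecticGroup (Fin d) F), Matrix.toLin' x.1 ^ p = 1 ∧
      ∀ i, LBType.lay (Matrix.toLin' x.1 - 1) i = (Finset.univ.filter fun k : Fin t => i < dd k).card := by
  classical
  obtain ⟨G, hG, hG0, hGd, hGi⟩ := (LBJordanForms.alt_iff (F := F) hd1).2 hev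
  obtain ⟨B, hB⟩ : ∃ B : BilinForm F (((k : Fin t) × Fin (dd k)) → F), B = Matrix.toLinearMap₂' F G := ⟨_, rfl⟩
  have hBv : ∀ u v, B u v = dotProduct u (Matrix.mulVec G v) := fun u v => by rw [hB, Matrix.toLinearMap₂'_apply']
  have hBA : B.IsAlt := fun v => (hBv v v).trans (LBJordanForms.quad_zero hG hG0 v)
  have hBn : B.Nondegenerate := by
    have h1 : ∀ v, (∀ u, B u v = 0) → v = 0 := fun v hv => by
      refine Matrix.eq_zero_of_mulVec_eq_zero hGd (funext fun j => ?_)
      have := hv (Pi.single j 1)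
      rwa [hBv, single_dotProduct, one_mul] at this
    exact ⟨fun v hv => h1 v fun u => by rw [← LinearMap.BilinForm.IsAlt.neg_eq hBA, hv u, neg_zero], h1⟩
  obtain ⟨b, hb⟩ := SympSpectra.exists_std_basis (n := d) hBA hBn (by simp [hsum])
  let e := b.equivFun
  obtain ⟨f, hf⟩ : ∃ f : Module.End F (Fin d ⊕ Fin d → F), f = e.conj (Matrix.toLin' (Cfsg.jordanTypeMatrix dd F)) :=
    ⟨_, rfl⟩
  have hfe : ∀ v, f (e v) = e (Matrix.toLin' (Cfsg.jordanTypeMatrix dd F) v) := fun v => by
    rw [hf, LinearEquiv.conj_apply_apply, LinearEquiv.symm_apply_apply]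
  have hJ : ∀ u v, B (Matrix.toLin' (Cfsg.jordanTypeMatrix dd F) u) (Matrix.toLin' (Cfsg.jordanTypeMatrix dd F) v) = B u v := by
    intro u v
    rw [hBv, hBv, Matrix.toLin'_apply, Matrix.toLin'_apply]
    conv_rhs => rw [← hGi]
    rw [← Matrix.mulVec_mulVec, ← Matrix.mulVec_mulVec, Matrix.dotProduct_mulVec u (Cfsg.jordanTypeMatrix dd F).transpose,
      Matrix.vecMul_transpose]
  have hmem : LinearMap.toMatrix' f ∈ Matrix.symplecticGroup (Fin d) F := (ClassicalSp.mem_iff_preserves _).2 fun u v => by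
    obtain ⟨u, rfl⟩ := e.surjective u
    obtain ⟨v, rfl⟩ := e.surjective v
    rw [LinearMap.toMatrix'_mulVec, LinearMap.toMatrix'_mulVec, hfe, hfe, ← ClassicalSp.spBilin_apply,
      ← ClassicalSp.spBilin_apply, ← hb, ← hb, hJ]
  have hN : ∀ v, e (LBType.jn dd F v) = (f - 1) (e v) := fun v => by
    rw [LBType.jn, LinearMap.sub_apply, LinearMap.sub_apply, map_sub, Module.End.one_apply, Module.End.one_apply, hfe]
  have hnil : (f - 1) ^ p = 0 := by
    refine LinearMap.ext fun w => ?_
    obtain ⟨v, rfl⟩ := e.surjective w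
    have : ∀ i, e ((LBType.jn dd F ^ i) v) = ((f - 1) ^ i) (e v) := by
      intro i
      induction i with
      | zero => simp
      | succ i ih => rw [pow_succ', pow_succ', Module.End.mul_apply, Module.End.mul_apply, hN, ih]
    rw [← this, LBType.jn_nilp hdp]
    simp
  have hfp : f ^ p = 1 := by
    haveI : Nonempty (Fin d) := ⟨⟨0, hd⟩⟩
    haveI : CharP (Module.End F (Fin d ⊕ Fin d → F)) p :=
      charP_of_injective_algebraMap (algebraMap F (Module.End F (Fin d ⊕ Fin d → F))).injective p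
    rwa [sub_pow_char_of_commute (p := p) (Commute.one_right f), one_pow, sub_eq_zero] at hnil
  refine ⟨⟨_, hmem⟩, ?_, fun i => ?_⟩
  · show Matrix.toLin' (LinearMap.toMatrix' f) ^ p = 1
    rw [Matrix.toLin'_toMatrix', hfp]
  · show LBType.lay (Matrix.toLin' (LinearMap.toMatrix' f) - 1) i = _
    rw [Matrix.toLin'_toMatrix', LBType.lay_conj (LBType.jn dd F) (f - 1) e hN, LBType.lay_jn]

/-- The characteristic, odd. -/
theorem spNdFix_unip_iff [Fintype F] (hp : p ≠ 2) (hd : 0 < d) (hm : Even m) (hmn : m ≤ 2 * d) :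
    SpNdFix F d m p ↔ ∀ μ : Multiset ℕ, (∀ a ∈ μ, 0 < a ∧ a ≤ p) → (∀ a : ℕ, Odd a → Even (μ.count a)) →
      μ.sum = 2 * d → ∃ ν : Multiset ℕ, ν ≤ μ ∧ ν.sum = m ∧ ∀ a : ℕ, Odd a → Even (ν.count a) := by
  classical
  haveI : Nonempty (Fin d) := ⟨⟨0, hd⟩⟩
  have h2 : (2 : F) ≠ 0 := Ring.two_ne_zero (fun e => hp ((ringChar.eq F p) ▸ e))
  constructor
  · intro hall μ hμ hev hsum
    by_cases hbig : ∀ a ∈ μ, a = 1
    · have hrep : μ = Multiset.replicate (Multiset.card μ) 1 := Multiset.eq_replicate.2 ⟨rfl, hbig⟩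
      have hcard : Multiset.card μ = 2 * d := by
        rw [hrep, Multiset.sum_replicate, smul_eq_mul, mul_one] at hsum; exact hsum
      refine ⟨Multiset.replicate m 1, by rw [hrep, hcard]; exact Multiset.replicate_le_replicate 1 |>.2 hmn, by simp, fun a _ => ?_⟩
      rw [Multiset.count_replicate]; split_ifs <;> [exact hm; exact Even.zero]
    obtain ⟨t, dd, hmap⟩ : ∃ (t : ℕ) (dd : Fin t → ℕ), (Finset.univ : Finset (Fin t)).val.map dd = μ :=
      ⟨μ.toList.length, μ.toList.get, by rw [Fin.univ_def, Multiset.map_coe, List.map_get_finRange, Multiset.coe_toList]⟩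
    have hmem : ∀ k, dd k ∈ μ := fun k => hmap ▸ Multiset.mem_map_of_mem _ (Finset.mem_univ k)
    have hcnt : ∀ j, (Finset.univ.filter fun k : Fin t => dd k = j).card = μ.count j := fun j => by
      rw [← hmap, Multiset.count_map, Finset.card_def, Finset.filter_val]
      congr 1
      exact Multiset.filter_congr fun k _ => eq_comm
    obtain ⟨x, hxp, hlay⟩ := exists_symp_type (F := F) p hd dd (fun k => (hμ _ (hmem k)).1) (fun k => (hμ _ (hmem k)).2)
      (by rw [← hsum, ← hmap]; rfl) (fun j hj => by rw [hcnt]; exact hev j hj)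
    obtain ⟨N, hN⟩ : ∃ N : Module.End F (Fin d ⊕ Fin d → F), N = Matrix.toLin' x.1 - 1 := ⟨_, rfl⟩
    rw [← hN] at hlay
    have hNp : N ^ p = 0 := hN ▸ nilp_of_pow p hxp
    have hT : Matrix.toLin' x.1 = 1 + N := by rw [hN]; abel
    obtain ⟨W, hWd, hW, hWi⟩ := hall x ⟨1, Matrix.toLin'.injective (by
        rw [toLin_pow_eq, hxp, one_smul, Matrix.toLin'_one]; rfl)⟩ fun z hz => hbig fun a ha => by
      have hz' : Matrix.toLin' x.1 = z • (1 : Module.End F (Fin d ⊕ Fin d → F)) := by
        rw [hz, map_smul, Matrix.toLin'_one]; rfl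
      have hzp : z = 1 := by
        have h1 := hxp
        rw [hz', _root_.smul_pow, one_pow] at h1
        have h3 : z ^ p = 1 := by
          have := congrFun (LinearMap.congr_fun h1 (fun _ => 1)) (Sum.inl ⟨0, hd⟩)
          simpa using this
        have h4 : (z - 1) ^ p = 0 := by rw [sub_pow_char, h3, one_pow, sub_self]
        exact sub_eq_zero.1 ((pow_eq_zero_iff (Fact.out : p.Prime).ne_zero).1 h4)
      obtain ⟨k, rfl⟩ : ∃ k, dd k = a := by
        rw [← hmap, Multiset.mem_map] at ha
        exact ha.imp fun k hk => hk.2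
      have h0 : N = 0 := by rw [hN, hz', hzp, one_smul, sub_self]
      have h3 := hlay 1
      rw [LBType.lay_of_nilp N (m := 1) (by rw [pow_one, h0])] at h3
      by_contra hk
      have := (hμ _ (hmem k)).1
      exact Finset.notMem_empty k (Finset.card_eq_zero.1 h3.symm ▸ Finset.mem_filter.2 ⟨Finset.mem_univ k, by omega⟩)
    have hWi' : ∀ v ∈ W, N v ∈ W := (inv_of_one_add hT).1 (inv_map_iff.1 hWi)
    have hWnd : (altForm (B := ClassicalSp.spBilin d F) ClassicalSp.spBilin_isAlt ClassicalSp.spBilin_nondeg).ND W :=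
      nd_iff_exists.1 fun u hu hu0 => by
        obtain ⟨v, hv, hv0⟩ := hW u hu hu0
        exact ⟨v, hv, by rwa [ClassicalSp.spBilin_apply]⟩
    have hP : LBType.Pres (ClassicalSp.spBilin d F) N := fun u v => by
      have h1 : ∀ w, w + N w = Matrix.toLin' x.1 w := fun w => by rw [hT]; simp
      rw [h1, h1, toLin_isometry]
    have hW'i : ∀ v ∈ (stdForm d F).perp W, N v ∈ (stdForm d F).perp W :=
      (inv_of_one_add rfl).1 ((isom_one_add hP).inv_perp ((inv_of_one_add rfl).2 hWi'))
    obtain ⟨NW, hNW⟩ : ∃ NW, NW = N.restrict hWi' := ⟨_, rfl⟩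
    have hNWp : NW ^ p = 0 := LinearMap.ext fun w => Subtype.ext (by
      rw [hNW, LBType.pow_restrict_apply, hNp]; rfl)
    refine ⟨LBType.parts NW p, Multiset.le_iff_count.2 fun e => ?_, ?_, fun e he => ?_⟩
    · rw [LBType.count_parts]
      split_ifs with h
      · have hc := (stdForm d F).isCompl_perp hWnd
        have h1 := LBType.lay_split N hc hWi' hW'i (e - 1)
        have h2' := LBType.lay_split N hc hWi' hW'i e
        have h3 := LBType.lay_le (N.restrict hW'i) (Nat.sub_le e 1)
        rw [← hNW, hlay] at h1 h2'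
        have h4 : (Finset.univ.filter fun k : Fin t => e - 1 < dd k).card
            = (Finset.univ.filter fun k : Fin t => e < dd k).card + (Finset.univ.filter fun k : Fin t => dd k = e).card := by
          rw [← Finset.card_union_of_disjoint (Finset.disjoint_filter.2 fun k _ hk1 hk2 => by omega), ← Finset.filter_or]
          exact congrArg Finset.card (Finset.filter_congr fun k _ => by omega)
        rw [hcnt] at h4
        omega
      · exact Nat.zero_le _
    · rw [LBType.sum_parts_eq NW hNWp, hWd]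
    · rw [LBType.count_parts]
      split_ifs with h
      · refine odd_lay_sub (B := (ClassicalSp.spBilin d F).restrict W) (AltForm.restrict_isAlt ClassicalSp.spBilin_isAlt W)
          (fun u v => by rw [hNW]; exact hP u v) ?_ h2 hNWp he
        exact ⟨fun u hu => Subtype.ext (hWnd u.1 u.2 fun v hv => hu ⟨v, hv⟩),
          fun u hu => Subtype.ext (hWnd u.1 u.2 fun v hv => (stdForm d F).refl _ _ (hu ⟨v, hv⟩))⟩
      · exact Even.zero
  · intro h x hx1 _
    obtain ⟨T, hT, hTB, hTW⟩ := exists_normalised hd hp hx1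
    have hP : LBType.Pres (ClassicalSp.spBilin d F) (T - 1) := fun u v => by simpa using hTB u v
    obtain ⟨μ, hμ, hev, hsum, hget⟩ := exists_partition (hA := ClassicalSp.spBilin_isAlt) (hB := ClassicalSp.spBilin_nondeg)
      h2 hP (nilp_of_pow p hT) (2 * d) ⊤ (by rw [finrank_top, ClassicalSp.finrank_space]) (fun _ _ => trivial) (SForm.nd_top _)
    obtain ⟨ν, hν, hνs, hνe⟩ := h μ hμ hev hsum
    obtain ⟨W, hWi, -, hW, hWd⟩ := hget ν hν hνe
    refine ⟨W, hWd.trans hνs, fun u hu hu0 => ?_, inv_map_iff.2 (hTW W ((inv_of_one_add (add_sub_cancel 1 T).symm).2 hWi))⟩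
    obtain ⟨v, hv, hv0⟩ := nd_iff_exists.2 hW u hu hu0
    exact ⟨v, hv, by rwa [← ClassicalSp.spBilin_apply]⟩

end std

end Cfsg.Agent.Elusive
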